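import Mathlib

/-!
# Helper16 — BiCx1: complexes in abelian categories — acyclicity, degreewise split sequences, cylinder

General (abelian-category) versions of the lemmas of `KF3`/`KF4`.
-/

set_option autoImplicit false
open CategoryTheory CategoryTheory.Limits

namespace Groth.Agent.Lib.Helper16.BiCx

section Abelian

variable {A : Type*} [Category A] [Abelian A]

/-- acyclic complexes (every homology object vanishes). -/
def Acyc (L : CochainComplex A ℤ) : Prop := ∀ i : ℤ, IsZero (L.homology i)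

lemma acyc_iff_acyclic (L : CochainComplex A ℤ) : Acyc L ↔ L.Acyclic := by
  simp only [Acyc, HomologicalComplex.Acyclic, HomologicalComplex.exactAt_iff_isZero_homology]

lemma Acyc.of_iso {L L' : CochainComplex A ℤ} (h : Acyc L) (e : L ≅ L') : Acyc L' := fun i =>
  IsZero.of_iso (h i) ((HomologicalComplex.homologyFunctor _ _ i).mapIso e.symm)

lemma Acyc.of_quasiIso {L L' : CochainComplex A ℤ} (f : L ⟶ L') [QuasiIso f] (h : Acyc L) :
    Acyc L' := fun i =>
  IsZero.of_iso (h i) (asIso (HomologicalComplex.homologyMap f i)).symm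

lemma Acyc.of_quasiIso' {L L' : CochainComplex A ℤ} (f : L ⟶ L') [QuasiIso f] (h : Acyc L') :
    Acyc L := fun i =>
  IsZero.of_iso (h i) (asIso (HomologicalComplex.homologyMap f i))

lemma Acyc.of_homotopyEquiv {L L' : CochainComplex A ℤ} (h : Acyc L) (e : HomotopyEquiv L L') :
    Acyc L' :=
  h.of_quasiIso e.hom

lemma acyc_of_isZero {L : CochainComplex A ℤ} (h : IsZero L) : Acyc L := fun i =>
  (HomologicalComplex.homologyFunctor _ _ i).map_isZero h

/-- a complex whose identity is null-homotopic is acyclic. -/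
lemma acyc_of_homotopy_id_zero {L : CochainComplex A ℤ} (h : Homotopy (𝟙 L) 0) : Acyc L :=
  fun i => by
    rw [IsZero.iff_id_eq_zero, ← HomologicalComplex.homologyMap_id, h.homologyMap_eq i,
      HomologicalComplex.homologyMap_zero]

lemma quasiIso_of_acyc {L L' : CochainComplex A ℤ} (f : L ⟶ L') (h : Acyc L) (h' : Acyc L') :
    QuasiIso f := ⟨fun n => by
  rw [quasiIsoAt_iff_isIso_homologyMap]
  exact ⟨0, (h n).eq_of_src _ _, (h' n).eq_of_src _ _⟩⟩

lemma acyc_shift_iff (L : CochainComplex A ℤ) (n : ℤ) : Acyc (L⟦n⟧) ↔ Acyc L := by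
  constructor
  · intro h i
    have e := (CochainComplex.ShiftSequence.shiftIso A n (i - n) i (by omega)).app L
    exact IsZero.of_iso (h (i - n)) e.symm
  · intro h i
    have e := (CochainComplex.ShiftSequence.shiftIso A n i (n + i) rfl).app L
    exact IsZero.of_iso (h (n + i)) e

variable {S : ShortComplex (CochainComplex A ℤ)}

/-- in a short exact sequence of complexes with acyclic cokernel, the first map is a
quasi-isomorphism. -/
lemma quasiIso_f_of_acyc_X₃ (hS : S.ShortExact) (h3 : Acyc S.X₃) : QuasiIso S.f := by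
  refine ⟨fun n => ?_⟩
  rw [quasiIsoAt_iff_isIso_homologyMap]
  have he : Epi (HomologicalComplex.homologyMap S.f n) :=
    (hS.homology_exact₂ n).epi_f ((h3 n).eq_of_tgt _ _)
  have hm : Mono (HomologicalComplex.homologyMap S.f n) :=
    (hS.homology_exact₁ (n - 1) n (by simp)).mono_g ((h3 (n - 1)).eq_of_src _ _)
  exact isIso_of_mono_of_epi _

/-- in a short exact sequence of complexes with acyclic kernel, the second map is a
quasi-isomorphism. -/
lemma quasiIso_g_of_acyc_X₁ (hS : S.ShortExact) (h1 : Acyc S.X₁) : QuasiIso S.g := by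
  refine ⟨fun n => ?_⟩
  rw [quasiIsoAt_iff_isIso_homologyMap]
  have hm : Mono (HomologicalComplex.homologyMap S.g n) :=
    (hS.homology_exact₂ n).mono_g ((h1 n).eq_of_src _ _)
  have he : Epi (HomologicalComplex.homologyMap S.g n) :=
    (hS.homology_exact₃ n (n + 1) (by simp)).epi_f ((h1 (n + 1)).eq_of_tgt _ _)
  exact isIso_of_mono_of_epi _

lemma acyc_X₃_of_quasiIso_f (hS : S.ShortExact) [QuasiIso S.f] : Acyc S.X₃ :=
  (acyc_iff_acyclic _).2 (hS.acyclic_X₃ inferInstance)

lemma acyc_X₁_of_quasiIso_g (hS : S.ShortExact) [QuasiIso S.g] : Acyc S.X₁ :=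
  (acyc_iff_acyclic _).2 (hS.acyclic_X₁ inferInstance)

lemma acyc_X₂ (hS : S.ShortExact) (h1 : Acyc S.X₁) (h3 : Acyc S.X₃) : Acyc S.X₂ :=
  (acyc_iff_acyclic _).2 (hS.acyclic_X₂ ((acyc_iff_acyclic _).1 h1) ((acyc_iff_acyclic _).1 h3))

lemma acyc_X₁ (hS : S.ShortExact) (h2 : Acyc S.X₂) (h3 : Acyc S.X₃) : Acyc S.X₁ := by
  haveI : QuasiIso S.g := quasiIso_of_acyc _ h2 h3
  exact acyc_X₁_of_quasiIso_g hS

lemma acyc_X₃ (hS : S.ShortExact) (h1 : Acyc S.X₁) (h2 : Acyc S.X₂) : Acyc S.X₃ := by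
  haveI : QuasiIso S.f := quasiIso_of_acyc _ h1 h2
  exact acyc_X₃_of_quasiIso_f hS

variable (S) in
/-- a short complex of complexes is degreewise split. -/
def DSplit : Prop :=
  ∀ p : ℤ, Nonempty ((S.map (HomologicalComplex.eval _ _ p)).Splitting)

lemma DSplit.shortExact (hS : DSplit S) : S.ShortExact :=
  HomologicalComplex.shortExact_of_degreewise_shortExact S (fun p => (hS p).some.shortExact)

/-- a map of complexes with degreewise retractions, with its cokernel, is a degreewise split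
short exact sequence. -/
lemma dSplit_of_retractions {K L : CochainComplex A ℤ} (i : K ⟶ L) (r : ∀ n, L.X n ⟶ K.X n)
    (hr : ∀ n, i.f n ≫ r n = 𝟙 _) :
    DSplit (ShortComplex.mk i (cokernel.π i) (cokernel.condition i)) := by
  haveI : ∀ n, Mono (i.f n) := fun n => mono_of_mono_fac (hr n)
  haveI : Mono i := HomologicalComplex.mono_of_mono_f i inferInstance
  have hS : (ShortComplex.mk i (cokernel.π i) (cokernel.condition i)).ShortExact :=
    { exact := ShortComplex.exact_cokernel i }
  rw [HomologicalComplex.shortExact_iff_degreewise_shortExact] at hS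
  intro p
  haveI := (hS p).epi_g
  exact ⟨ShortComplex.Splitting.ofExactOfRetraction _ (hS p).exact (r p) (hr p) (hS p).epi_g⟩

section Cylinder

open CochainComplex

variable {L₁ L₂ : CochainComplex A ℤ} (f : L₁ ⟶ L₂)

/-- the factorisation of `f` through `mappingCone (𝟙 L₁) ⊞ L₂`: first map. -/
noncomputable def cylI : L₁ ⟶ mappingCone (𝟙 L₁) ⊞ L₂ :=
  biprod.lift (mappingCone.inr (𝟙 L₁)) f

/-- the factorisation of `f` through `mappingCone (𝟙 L₁) ⊞ L₂`: second map. -/
noncomputable abbrev cylP : mappingCone (𝟙 L₁) ⊞ L₂ ⟶ L₂ := biprod.snd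

@[reassoc (attr := simp)]
lemma cylI_cylP : cylI f ≫ cylP (L₁ := L₁) (L₂ := L₂) = f := by simp [cylI]

lemma cylI_f_comp (n : ℤ) : (cylI f).f n ≫
    (biprod.fst : mappingCone (𝟙 L₁) ⊞ L₂ ⟶ _).f n ≫
      (mappingCone.snd (𝟙 L₁)).v n n (add_zero n) = 𝟙 _ := by
  rw [← Category.assoc, ← HomologicalComplex.comp_f]
  simp [cylI]

/-- the second projection is a homotopy equivalence. -/
noncomputable def cylHomotopyEquiv : HomotopyEquiv (mappingCone (𝟙 L₁) ⊞ L₂) L₂ where
  hom := cylP
  inv := biprod.inr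
  homotopyHomInvId :=
    let h₀ : Homotopy (𝟙 (mappingCone (𝟙 L₁))) 0 := mappingCone.homotopyToZeroOfId L₁
    let h₁ := (h₀.compRight
      (biprod.inl : _ ⟶ mappingCone (𝟙 L₁) ⊞ L₂)).compLeft
        (biprod.fst : mappingCone (𝟙 L₁) ⊞ L₂ ⟶ _)
    let h₂ := Homotopy.add h₁ (Homotopy.refl (biprod.snd ≫ biprod.inr))
    (Homotopy.ofEq (by simp)).trans (h₂.symm.trans (Homotopy.ofEq (by simp)))
  homotopyInvHomId := Homotopy.ofEq (by simp)

end Cylinder

end Abelian

section Functor

variable {A B : Type*} [Category A] [Abelian A] [Category B] [Abelian B]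
  (G : CochainComplex A ℤ ⥤ CochainComplex B ℤ) [G.Additive]

/-- **An additive functor on complexes which sends homotopy equivalences to quasi-isomorphisms,
degreewise split short exact sequences to short exact sequences, and acyclic complexes to acyclic
complexes, preserves quasi-isomorphisms.** -/
theorem quasiIso_map_of_preservesAcyc
    (hh : ∀ {K L : CochainComplex A ℤ} (e : HomotopyEquiv K L), QuasiIso (G.map e.hom))
    (hs : ∀ S : ShortComplex (CochainComplex A ℤ), DSplit S → (S.map G).ShortExact)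
    (ha : ∀ L : CochainComplex A ℤ, Acyc L → Acyc (G.obj L))
    {L₁ L₂ : CochainComplex A ℤ} (f : L₁ ⟶ L₂) [QuasiIso f] : QuasiIso (G.map f) := by
  haveI : QuasiIso (cylP (L₁ := L₁) (L₂ := L₂)) :=
    (cylHomotopyEquiv (L₁ := L₁) (L₂ := L₂)).quasiIso_hom
  haveI : QuasiIso (cylI f ≫ cylP (L₁ := L₁) (L₂ := L₂)) := by rw [cylI_cylP]; infer_instance
  haveI : QuasiIso (cylI f) := quasiIso_of_comp_right (cylI f) (cylP (L₁ := L₁) (L₂ := L₂))
  let S := ShortComplex.mk (cylI f) (cokernel.π (cylI f)) (cokernel.condition _)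
  have hS : DSplit S := dSplit_of_retractions (cylI f) _ (cylI_f_comp f)
  haveI : QuasiIso S.f := inferInstanceAs (QuasiIso (cylI f))
  have h3 : Acyc S.X₃ := acyc_X₃_of_quasiIso_f hS.shortExact
  have h3' : Acyc (G.obj S.X₃) := ha _ h3
  have hS' := hs S hS
  have h4 : QuasiIso (G.map (cylI f)) := quasiIso_f_of_acyc_X₃ hS' h3'
  haveI : QuasiIso (G.map (cylP (L₁ := L₁) (L₂ := L₂))) :=
    hh (cylHomotopyEquiv (L₁ := L₁) (L₂ := L₂))
  have : G.map f = G.map (cylI f) ≫ G.map (cylP (L₁ := L₁) (L₂ := L₂)) := by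
    rw [← G.map_comp, cylI_cylP]
  rw [this]
  infer_instance

open CochainComplex in
/-- two-out-of-three for the mapping cone, for a functor sending degreewise split short exact
sequences to short exact sequences and compatible with the shift up to acyclicity. -/
theorem acyc_mappingCone_two_out_of_three
    (hs : ∀ S : ShortComplex (CochainComplex A ℤ), DSplit S → (S.map G).ShortExact)
    (hsh : ∀ K : CochainComplex A ℤ, Acyc (G.obj (K⟦(1 : ℤ)⟧)) ↔ Acyc (G.obj K))
    {K₁ K₂ : CochainComplex A ℤ} (φ : K₁ ⟶ K₂) :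
    (Acyc (G.obj K₁) → Acyc (G.obj K₂) → Acyc (G.obj (mappingCone φ))) ∧
    (Acyc (G.obj K₁) → Acyc (G.obj (mappingCone φ)) → Acyc (G.obj K₂)) ∧
    (Acyc (G.obj K₂) → Acyc (G.obj (mappingCone φ)) → Acyc (G.obj K₁)) := by
  have hS := hs _ (fun n => ⟨mappingCone.triangleRotateShortComplexSplitting φ n⟩ :
    DSplit (mappingCone.triangleRotateShortComplex φ))
  refine ⟨fun h1 h2 => ?_, fun h1 h3 => ?_, fun h2 h3 => ?_⟩
  · exact acyc_X₂ hS h2 ((hsh K₁).2 h1)
  · exact acyc_X₁ hS h3 ((hsh K₁).2 h1)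
  · exact (hsh K₁).1 (acyc_X₃ hS h2 h3)

end Functor

end Groth.Agent.Lib.Helper16.BiCx
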