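import Mathlib
import Groth.Prelude.Def_KFlatSite

/-!
# Helper16 — KF1: the tensor product of complexes of modules, degreewise

* `cofanT L K n`, `isColimitCofanT`: `(L ⊗ K).X n` is the coproduct of the `L.X p ⊗ K.X q`, `p + q = n`;
* exactness of coproducts: `cofan_mono`, `cofan_epi`, `cofan_exact`;
* `shortExact_whiskerRight`, `shortExact_whiskerLeft`: `- ⊗ K` and `L ⊗ -` send a short complex of complexes
  which is short exact after each `- ⊗ K.X q` (resp. `L.X p ⊗ -`) to a short exact sequence.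
-/

set_option autoImplicit false
universe w v u
open CategoryTheory CategoryTheory.Limits MonoidalCategory

namespace Groth.Agent.Lib.Helper16.KF

section Abstract

variable {C : Type u} [Category.{v} C] [Abelian C]

lemma functor_exact_of_app {J : Type*} [Category J] (S : ShortComplex (J ⥤ C))
    (h : ∀ j, (S.map ((evaluation J C).obj j)).Exact) : S.Exact := by
  simp only [ShortComplex.exact_iff_isZero_homology] at h ⊢
  rw [Functor.isZero_iff]
  intro j
  exact IsZero.of_iso (h j) (S.mapHomologyIso ((evaluation J C).obj j)).symm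

variable {ι : Type w} [HasColimitsOfShape (Discrete ι) C] [HasExactColimitsOfShape (Discrete ι) C]
  {X₁ X₂ X₃ : ι → C} {c₁ : Cofan X₁} {c₂ : Cofan X₂} {c₃ : Cofan X₃}

/-- the natural transformation of discrete functors given by a family of maps. -/
abbrev dnt (f : ∀ i, X₁ i ⟶ X₂ i) : Discrete.functor X₁ ⟶ Discrete.functor X₂ :=
  Discrete.natTrans (fun i => f i.as)

lemma cofan_mono (h₁ : IsColimit c₁) (h₂ : IsColimit c₂) (f : ∀ i, X₁ i ⟶ X₂ i) [∀ i, Mono (f i)]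
    (F : c₁.pt ⟶ c₂.pt) (hF : ∀ i, c₁.inj i ≫ F = f i ≫ c₂.inj i) : Mono F := by
  haveI : ∀ j, Mono ((dnt f).app j) := fun ⟨i⟩ => by
    dsimp; infer_instance
  haveI := NatTrans.mono_of_mono_app (dnt f)
  exact colim.map_mono' (dnt f) h₁ h₂ F (fun ⟨i⟩ => hF i)

omit [HasColimitsOfShape (Discrete ι) C] [HasExactColimitsOfShape (Discrete ι) C] in
lemma cofan_epi (h₂ : IsColimit c₂) (f : ∀ i, X₁ i ⟶ X₂ i) [∀ i, Epi (f i)]
    (F : c₁.pt ⟶ c₂.pt) (hF : ∀ i, c₁.inj i ≫ F = f i ≫ c₂.inj i) : Epi F := by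
  haveI : ∀ j, Epi ((dnt f).app j) := fun ⟨i⟩ => by
    dsimp; infer_instance
  exact colim.map_epi' (dnt f) c₁ h₂ F (fun ⟨i⟩ => hF i)

lemma cofan_exact (h₁ : IsColimit c₁) (h₂ : IsColimit c₂) (h₃ : IsColimit c₃)
    (f : ∀ i, X₁ i ⟶ X₂ i) (g : ∀ i, X₂ i ⟶ X₃ i) (w : ∀ i, f i ≫ g i = 0)
    (hfg : ∀ i, (ShortComplex.mk (f i) (g i) (w i)).Exact)
    (F : c₁.pt ⟶ c₂.pt) (G : c₂.pt ⟶ c₃.pt)
    (hF : ∀ i, c₁.inj i ≫ F = f i ≫ c₂.inj i) (hG : ∀ i, c₂.inj i ≫ G = g i ≫ c₃.inj i)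
    (wFG : F ≫ G = 0) : (ShortComplex.mk F G wFG).Exact := by
  let S : ShortComplex (Discrete ι ⥤ C) :=
    ShortComplex.mk (dnt f) (dnt g) (by ext ⟨i⟩; exact w i)
  have hS : S.Exact := functor_exact_of_app S (fun ⟨i⟩ => hfg i)
  exact colim.exact_mapShortComplex (S := S) hS h₁ h₂ h₃ F G (fun ⟨i⟩ => hF i) (fun ⟨i⟩ => hG i)

end Abstract

section Tensor

variable {R : Type u} [CommRing R]

/-- cochain complexes of `R`-modules. -/
abbrev Cx (R : Type u) [CommRing R] : Type (u + 1) := CochainComplex (ModuleCat.{u} R) ℤ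

/-- the index set of the summands of `(L ⊗ K).X n`. -/
abbrev Idx (n : ℤ) : Type :=
  (ComplexShape.π (ComplexShape.up ℤ) (ComplexShape.up ℤ) (ComplexShape.up ℤ)) ⁻¹' {n}

lemma Idx.add {n : ℤ} (i : Idx n) : i.1.1 + i.1.2 = n := i.2

/-- the summands of `(L ⊗ K).X n`. -/
abbrev summand (L K : Cx R) (n : ℤ) (i : Idx n) : ModuleCat.{u} R := L.X i.1.1 ⊗ K.X i.1.2

/-- `(L ⊗ K).X n` as a cofan over its summands. -/
noncomputable abbrev cofanT (L K : Cx R) (n : ℤ) : Cofan (summand L K n) :=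
  Cofan.mk ((L ⊗ K).X n) (fun i => HomologicalComplex.ιTensorObj L K i.1.1 i.1.2 n i.2)

/-- `(L ⊗ K).X n` is the coproduct of its summands. -/
noncomputable def isColimitCofanT (L K : Cx R) (n : ℤ) : IsColimit (cofanT L K n) :=
  GradedObject.isColimitCofanMapObj _ _ n

instance (n : ℤ) : HasExactColimitsOfShape (Discrete (Idx n)) (ModuleCat.{u} R) := inferInstance

@[reassoc]
lemma ι_whiskerRight {L₁ L₂ : Cx R} (f : L₁ ⟶ L₂) (K : Cx R) (p q n : ℤ) (h : p + q = n) :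
    HomologicalComplex.ιTensorObj L₁ K p q n h ≫ (f ▷ K).f n =
      (f.f p ▷ K.X q) ≫ HomologicalComplex.ιTensorObj L₂ K p q n h := by
  refine (HomologicalComplex.ι_mapBifunctorMap f (𝟙 K) (curriedTensor (ModuleCat.{u} R))
    (ComplexShape.up ℤ) p q n h).trans ?_
  simp

@[reassoc]
lemma ι_whiskerLeft (L : Cx R) {K₁ K₂ : Cx R} (g : K₁ ⟶ K₂) (p q n : ℤ) (h : p + q = n) :
    HomologicalComplex.ιTensorObj L K₁ p q n h ≫ (L ◁ g).f n =
      (L.X p ◁ g.f q) ≫ HomologicalComplex.ιTensorObj L K₂ p q n h := by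
  refine (HomologicalComplex.ι_mapBifunctorMap (𝟙 L) g (curriedTensor (ModuleCat.{u} R))
    (ComplexShape.up ℤ) p q n h).trans ?_
  simp

lemma tensor_hom_ext {L K : Cx R} {n : ℤ} {Y : ModuleCat.{u} R} {f g : (L ⊗ K).X n ⟶ Y}
    (h : ∀ (p q : ℤ) (hpq : p + q = n), HomologicalComplex.ιTensorObj L K p q n hpq ≫ f =
      HomologicalComplex.ιTensorObj L K p q n hpq ≫ g) : f = g :=
  HomologicalComplex.mapBifunctor.hom_ext h

instance additive_tensorRight (K : Cx R) : (tensorRight K).Additive where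
  map_add {L₁ L₂ f g} := by
    ext n : 1
    apply tensor_hom_ext
    intro p q hpq
    dsimp
    rw [ι_whiskerRight, Preadditive.comp_add, ι_whiskerRight, ι_whiskerRight,
      HomologicalComplex.add_f_apply, MonoidalPreadditive.add_whiskerRight, Preadditive.add_comp]

instance additive_tensorLeft (L : Cx R) : (tensorLeft L).Additive where
  map_add {K₁ K₂ f g} := by
    ext n : 1
    apply tensor_hom_ext
    intro p q hpq
    dsimp
    rw [ι_whiskerLeft, Preadditive.comp_add, ι_whiskerLeft, ι_whiskerLeft,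
      HomologicalComplex.add_f_apply, MonoidalPreadditive.whiskerLeft_add, Preadditive.add_comp]

/-- `- ⊗ K` sends a short complex of complexes which becomes short exact after each
`(-).X p ⊗ K.X q` to a short exact sequence of complexes. -/
lemma shortExact_whiskerRight (S : ShortComplex (Cx R)) (K : Cx R)
    (h : ∀ p q : ℤ, ((S.map (HomologicalComplex.eval _ _ p)).map
      (tensorRight (K.X q))).ShortExact) :
    (S.map (tensorRight K)).ShortExact := by
  apply HomologicalComplex.shortExact_of_degreewise_shortExact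
  intro n
  have hF : ∀ i : Idx n, (cofanT S.X₁ K n).inj i ≫ (S.f ▷ K).f n =
      (S.f.f i.1.1 ▷ K.X i.1.2) ≫ (cofanT S.X₂ K n).inj i :=
    fun i => ι_whiskerRight S.f K i.1.1 i.1.2 n i.2
  have hG : ∀ i : Idx n, (cofanT S.X₂ K n).inj i ≫ (S.g ▷ K).f n =
      (S.g.f i.1.1 ▷ K.X i.1.2) ≫ (cofanT S.X₃ K n).inj i :=
    fun i => ι_whiskerRight S.g K i.1.1 i.1.2 n i.2
  haveI : ∀ i : Idx n, Mono (S.f.f i.1.1 ▷ K.X i.1.2) := fun i => (h i.1.1 i.1.2).mono_f
  haveI : ∀ i : Idx n, Epi (S.g.f i.1.1 ▷ K.X i.1.2) := fun i => (h i.1.1 i.1.2).epi_g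
  have hm : Mono ((S.f ▷ K).f n) :=
    cofan_mono (isColimitCofanT S.X₁ K n) (isColimitCofanT S.X₂ K n) _ _ hF
  have he : Epi ((S.g ▷ K).f n) :=
    cofan_epi (c₁ := cofanT S.X₂ K n) (isColimitCofanT S.X₃ K n) _ _ hG
  have hx := cofan_exact (isColimitCofanT S.X₁ K n) (isColimitCofanT S.X₂ K n)
    (isColimitCofanT S.X₃ K n) (fun i => S.f.f i.1.1 ▷ K.X i.1.2)
    (fun i => S.g.f i.1.1 ▷ K.X i.1.2) (fun i => ((S.map (HomologicalComplex.eval _ _ i.1.1)).map (tensorRight (K.X i.1.2))).zero)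
    (fun i => (h i.1.1 i.1.2).exact) ((S.f ▷ K).f n) ((S.g ▷ K).f n) hF hG
    (congr_arg (fun φ => φ.f n) (S.map (tensorRight K)).zero)
  exact { exact := hx, mono_f := hm, epi_g := he }

/-- `L ⊗ -` sends a short complex of complexes which becomes short exact after each
`L.X p ⊗ (-).X q` to a short exact sequence of complexes. -/
lemma shortExact_whiskerLeft (L : Cx R) (S : ShortComplex (Cx R))
    (h : ∀ p q : ℤ, ((S.map (HomologicalComplex.eval _ _ q)).map
      (tensorLeft (L.X p))).ShortExact) :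
    (S.map (tensorLeft L)).ShortExact := by
  apply HomologicalComplex.shortExact_of_degreewise_shortExact
  intro n
  have hF : ∀ i : Idx n, (cofanT L S.X₁ n).inj i ≫ (L ◁ S.f).f n =
      (L.X i.1.1 ◁ S.f.f i.1.2) ≫ (cofanT L S.X₂ n).inj i :=
    fun i => ι_whiskerLeft L S.f i.1.1 i.1.2 n i.2
  have hG : ∀ i : Idx n, (cofanT L S.X₂ n).inj i ≫ (L ◁ S.g).f n =
      (L.X i.1.1 ◁ S.g.f i.1.2) ≫ (cofanT L S.X₃ n).inj i :=
    fun i => ι_whiskerLeft L S.g i.1.1 i.1.2 n i.2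
  haveI : ∀ i : Idx n, Mono (L.X i.1.1 ◁ S.f.f i.1.2) := fun i => (h i.1.1 i.1.2).mono_f
  haveI : ∀ i : Idx n, Epi (L.X i.1.1 ◁ S.g.f i.1.2) := fun i => (h i.1.1 i.1.2).epi_g
  have hm : Mono ((L ◁ S.f).f n) :=
    cofan_mono (isColimitCofanT L S.X₁ n) (isColimitCofanT L S.X₂ n) _ _ hF
  have he : Epi ((L ◁ S.g).f n) :=
    cofan_epi (c₁ := cofanT L S.X₂ n) (isColimitCofanT L S.X₃ n) _ _ hG
  have hx := cofan_exact (isColimitCofanT L S.X₁ n) (isColimitCofanT L S.X₂ n)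
    (isColimitCofanT L S.X₃ n) (fun i => L.X i.1.1 ◁ S.f.f i.1.2)
    (fun i => L.X i.1.1 ◁ S.g.f i.1.2) (fun i => ((S.map (HomologicalComplex.eval _ _ i.1.2)).map (tensorLeft (L.X i.1.1))).zero)
    (fun i => (h i.1.1 i.1.2).exact) ((L ◁ S.f).f n) ((L ◁ S.g).f n) hF hG
    (congr_arg (fun φ => φ.f n) (S.map (tensorLeft L)).zero)
  exact { exact := hx, mono_f := hm, epi_g := he }

end Tensor

end Groth.Agent.Lib.Helper16.KF
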