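import Mathlib
import Groth.Agent.Lib.Helper16.BiCx1
import Groth.Agent.Lib.Helper16.KF1

/-!
# Helper16 — BiCx2: total complexes `Tot F(L, K)` of a bifunctor additive in each variable

General (bifunctor) versions of `KF1`–`KF4`, `KF9`: exactness, homotopy invariance, K-flatness.
-/

set_option autoImplicit false
open CategoryTheory CategoryTheory.Limits HomologicalComplex

namespace Groth.Agent.Lib.Helper16.BiCx

open Groth.Agent.Lib.Helper16.KF (Idx cofan_mono cofan_epi cofan_exact)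

variable {C₁ C₂ D : Type*} [Category C₁] [Category C₂] [Category D]
  [Abelian C₁] [Abelian C₂] [Abelian D]
  (F : C₁ ⥤ C₂ ⥤ D) [F.Additive] [∀ X, (F.obj X).Additive]
  [∀ (K₁ : CochainComplex C₁ ℤ) (K₂ : CochainComplex C₂ ℤ),
    HasMapBifunctor K₁ K₂ F (ComplexShape.up ℤ)]

/-- `Tot F(L, K)`. -/
noncomputable abbrev T (L : CochainComplex C₁ ℤ) (K : CochainComplex C₂ ℤ) : CochainComplex D ℤ :=
  mapBifunctor L K F (ComplexShape.up ℤ)

/-- the inclusion of a summand. -/
noncomputable abbrev ιT (L : CochainComplex C₁ ℤ) (K : CochainComplex C₂ ℤ) (p q n : ℤ)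
    (h : p + q = n) : (F.obj (L.X p)).obj (K.X q) ⟶ (T F L K).X n :=
  ιMapBifunctor L K F (ComplexShape.up ℤ) p q n h

/-- `Tot F(f, K)`. -/
noncomputable abbrev mapL {L₁ L₂ : CochainComplex C₁ ℤ} (f : L₁ ⟶ L₂) (K : CochainComplex C₂ ℤ) :
    T F L₁ K ⟶ T F L₂ K := mapBifunctorMap f (𝟙 K) F (ComplexShape.up ℤ)

/-- `Tot F(L, g)`. -/
noncomputable abbrev mapR (L : CochainComplex C₁ ℤ) {K₁ K₂ : CochainComplex C₂ ℤ} (g : K₁ ⟶ K₂) :
    T F L K₁ ⟶ T F L K₂ := mapBifunctorMap (𝟙 L) g F (ComplexShape.up ℤ)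

/-- `- ⊗ K`. -/
noncomputable abbrev funL (K : CochainComplex C₂ ℤ) : CochainComplex C₁ ℤ ⥤ CochainComplex D ℤ :=
  (F.map₂CochainComplex).flip.obj K

/-- `L ⊗ -`. -/
noncomputable abbrev funR (L : CochainComplex C₁ ℤ) : CochainComplex C₂ ℤ ⥤ CochainComplex D ℤ :=
  (F.map₂CochainComplex).obj L

@[reassoc]
lemma ι_mapL {L₁ L₂ : CochainComplex C₁ ℤ} (f : L₁ ⟶ L₂) (K : CochainComplex C₂ ℤ) (p q n : ℤ)
    (h : p + q = n) :
    ιT F L₁ K p q n h ≫ (mapL F f K).f n = (F.map (f.f p)).app (K.X q) ≫ ιT F L₂ K p q n h := by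
  refine (ι_mapBifunctorMap f (𝟙 K) F (ComplexShape.up ℤ) p q n h).trans ?_
  simp

@[reassoc]
lemma ι_mapR (L : CochainComplex C₁ ℤ) {K₁ K₂ : CochainComplex C₂ ℤ} (g : K₁ ⟶ K₂) (p q n : ℤ)
    (h : p + q = n) :
    ιT F L K₁ p q n h ≫ (mapR F L g).f n = (F.obj (L.X p)).map (g.f q) ≫ ιT F L K₂ p q n h := by
  refine (ι_mapBifunctorMap (𝟙 L) g F (ComplexShape.up ℤ) p q n h).trans ?_
  simp

lemma T_hom_ext {L : CochainComplex C₁ ℤ} {K : CochainComplex C₂ ℤ} {n : ℤ} {Y : D}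
    {f g : (T F L K).X n ⟶ Y}
    (h : ∀ (p q : ℤ) (hpq : p + q = n), ιT F L K p q n hpq ≫ f = ιT F L K p q n hpq ≫ g) :
    f = g :=
  mapBifunctor.hom_ext h

instance additive_GL (K : CochainComplex C₂ ℤ) : (funL F K).Additive where
  map_add {L₁ L₂ f g} := by
    ext n : 1
    apply T_hom_ext
    intro p q hpq
    change ιT F L₁ K p q n hpq ≫ (mapL F (f + g) K).f n =
      ιT F L₁ K p q n hpq ≫ ((mapL F f K).f n + (mapL F g K).f n)
    rw [ι_mapL, Preadditive.comp_add, ι_mapL, ι_mapL, HomologicalComplex.add_f_apply,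
      Functor.map_add, NatTrans.app_add, Preadditive.add_comp]

instance additive_GR (L : CochainComplex C₁ ℤ) : (funR F L).Additive where
  map_add {K₁ K₂ f g} := by
    ext n : 1
    apply T_hom_ext
    intro p q hpq
    change ιT F L K₁ p q n hpq ≫ (mapR F L (f + g)).f n =
      ιT F L K₁ p q n hpq ≫ ((mapR F L f).f n + (mapR F L g).f n)
    rw [ι_mapR, Preadditive.comp_add, ι_mapR, ι_mapR, HomologicalComplex.add_f_apply,
      Functor.map_add, Preadditive.add_comp]

/-- the summands of `(Tot F(L, K)).X n`. -/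
abbrev summand (L : CochainComplex C₁ ℤ) (K : CochainComplex C₂ ℤ) (n : ℤ) (i : Idx n) : D :=
  (F.obj (L.X i.1.1)).obj (K.X i.1.2)

/-- `(Tot F(L, K)).X n` as a cofan over its summands. -/
noncomputable abbrev cofanT (L : CochainComplex C₁ ℤ) (K : CochainComplex C₂ ℤ) (n : ℤ) :
    Cofan (summand F L K n) :=
  Cofan.mk ((T F L K).X n) (fun i => ιT F L K i.1.1 i.1.2 n i.2)

/-- `(Tot F(L, K)).X n` is the coproduct of its summands. -/
noncomputable def isColimitCofanT (L : CochainComplex C₁ ℤ) (K : CochainComplex C₂ ℤ) (n : ℤ) :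
    IsColimit (cofanT F L K n) :=
  GradedObject.isColimitCofanMapObj _ _ n

instance additive_flip_obj (Y : C₂) : (F.flip.obj Y).Additive where
  map_add {X₁ X₂ f g} := by
    change (F.map (f + g)).app Y = (F.map f).app Y + (F.map g).app Y
    rw [Functor.map_add, NatTrans.app_add]

section Exact

variable [∀ n : ℤ, HasColimitsOfShape (Discrete (Idx n)) D]
  [∀ n : ℤ, HasExactColimitsOfShape (Discrete (Idx n)) D]

/-- `- ⊗ K` sends a short complex of complexes which becomes short exact after each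
`F(-, K.X q)` (degreewise) to a short exact sequence of complexes. -/
lemma shortExact_funL (S : ShortComplex (CochainComplex C₁ ℤ)) (K : CochainComplex C₂ ℤ)
    (h : ∀ p q : ℤ, ((S.map (HomologicalComplex.eval _ _ p)).map
      (F.flip.obj (K.X q))).ShortExact) :
    (S.map (funL F K)).ShortExact := by
  apply HomologicalComplex.shortExact_of_degreewise_shortExact
  intro n
  have hF : ∀ i : Idx n, (cofanT F S.X₁ K n).inj i ≫ (mapL F S.f K).f n =
      (F.map (S.f.f i.1.1)).app (K.X i.1.2) ≫ (cofanT F S.X₂ K n).inj i :=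
    fun i => ι_mapL F S.f K i.1.1 i.1.2 n i.2
  have hG : ∀ i : Idx n, (cofanT F S.X₂ K n).inj i ≫ (mapL F S.g K).f n =
      (F.map (S.g.f i.1.1)).app (K.X i.1.2) ≫ (cofanT F S.X₃ K n).inj i :=
    fun i => ι_mapL F S.g K i.1.1 i.1.2 n i.2
  haveI : ∀ i : Idx n, Mono ((F.map (S.f.f i.1.1)).app (K.X i.1.2)) :=
    fun i => (h i.1.1 i.1.2).mono_f
  haveI : ∀ i : Idx n, Epi ((F.map (S.g.f i.1.1)).app (K.X i.1.2)) :=
    fun i => (h i.1.1 i.1.2).epi_g
  have hm : Mono ((mapL F S.f K).f n) :=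
    cofan_mono (isColimitCofanT F S.X₁ K n) (isColimitCofanT F S.X₂ K n) _ _ hF
  have he : Epi ((mapL F S.g K).f n) :=
    cofan_epi (c₁ := cofanT F S.X₂ K n) (isColimitCofanT F S.X₃ K n) _ _ hG
  have hx := cofan_exact (isColimitCofanT F S.X₁ K n) (isColimitCofanT F S.X₂ K n)
    (isColimitCofanT F S.X₃ K n) (fun i => (F.map (S.f.f i.1.1)).app (K.X i.1.2))
    (fun i => (F.map (S.g.f i.1.1)).app (K.X i.1.2))
    (fun i => ((S.map (HomologicalComplex.eval _ _ i.1.1)).map (F.flip.obj (K.X i.1.2))).zero)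
    (fun i => (h i.1.1 i.1.2).exact) ((mapL F S.f K).f n) ((mapL F S.g K).f n) hF hG
    (congr_arg (fun φ => φ.f n) (S.map (funL F K)).zero)
  exact { exact := hx, mono_f := hm, epi_g := he }

/-- `L ⊗ -` sends a short complex of complexes which becomes short exact after each
`F(L.X p, -)` (degreewise) to a short exact sequence of complexes. -/
lemma shortExact_funR (L : CochainComplex C₁ ℤ) (S : ShortComplex (CochainComplex C₂ ℤ))
    (h : ∀ p q : ℤ, ((S.map (HomologicalComplex.eval _ _ q)).map (F.obj (L.X p))).ShortExact) :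
    (S.map (funR F L)).ShortExact := by
  apply HomologicalComplex.shortExact_of_degreewise_shortExact
  intro n
  have hF : ∀ i : Idx n, (cofanT F L S.X₁ n).inj i ≫ (mapR F L S.f).f n =
      (F.obj (L.X i.1.1)).map (S.f.f i.1.2) ≫ (cofanT F L S.X₂ n).inj i :=
    fun i => ι_mapR F L S.f i.1.1 i.1.2 n i.2
  have hG : ∀ i : Idx n, (cofanT F L S.X₂ n).inj i ≫ (mapR F L S.g).f n =
      (F.obj (L.X i.1.1)).map (S.g.f i.1.2) ≫ (cofanT F L S.X₃ n).inj i :=
    fun i => ι_mapR F L S.g i.1.1 i.1.2 n i.2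
  haveI : ∀ i : Idx n, Mono ((F.obj (L.X i.1.1)).map (S.f.f i.1.2)) :=
    fun i => (h i.1.1 i.1.2).mono_f
  haveI : ∀ i : Idx n, Epi ((F.obj (L.X i.1.1)).map (S.g.f i.1.2)) :=
    fun i => (h i.1.1 i.1.2).epi_g
  have hm : Mono ((mapR F L S.f).f n) :=
    cofan_mono (isColimitCofanT F L S.X₁ n) (isColimitCofanT F L S.X₂ n) _ _ hF
  have he : Epi ((mapR F L S.g).f n) :=
    cofan_epi (c₁ := cofanT F L S.X₂ n) (isColimitCofanT F L S.X₃ n) _ _ hG
  have hx := cofan_exact (isColimitCofanT F L S.X₁ n) (isColimitCofanT F L S.X₂ n)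
    (isColimitCofanT F L S.X₃ n) (fun i => (F.obj (L.X i.1.1)).map (S.f.f i.1.2))
    (fun i => (F.obj (L.X i.1.1)).map (S.g.f i.1.2))
    (fun i => ((S.map (HomologicalComplex.eval _ _ i.1.2)).map (F.obj (L.X i.1.1))).zero)
    (fun i => (h i.1.1 i.1.2).exact) ((mapR F L S.f).f n) ((mapR F L S.g).f n) hF hG
    (congr_arg (fun φ => φ.f n) (S.map (funR F L)).zero)
  exact { exact := hx, mono_f := hm, epi_g := he }

lemma shortExact_funL_of_dSplit {S : ShortComplex (CochainComplex C₁ ℤ)} (hS : DSplit S)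
    (K : CochainComplex C₂ ℤ) : (S.map (funL F K)).ShortExact :=
  shortExact_funL F S K (fun p q => ((hS p).some.map (F.flip.obj (K.X q))).shortExact)

lemma shortExact_funR_of_dSplit (L : CochainComplex C₁ ℤ)
    {S : ShortComplex (CochainComplex C₂ ℤ)} (hS : DSplit S) : (S.map (funR F L)).ShortExact :=
  shortExact_funR F L S (fun p q => ((hS q).some.map (F.obj (L.X p))).shortExact)

end Exact

section Homotopy

/-- homotopies are preserved by `- ⊗ K`. -/
noncomputable def mapLHomotopy {L₁ L₂ : CochainComplex C₁ ℤ} {f g : L₁ ⟶ L₂} (h : Homotopy f g)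
    (K : CochainComplex C₂ ℤ) : Homotopy (mapL F f K) (mapL F g K) :=
  mapBifunctorMapHomotopy₁ h (𝟙 K) _ _

/-- homotopies are preserved by `L ⊗ -`. -/
noncomputable def mapRHomotopy (L : CochainComplex C₁ ℤ) {K₁ K₂ : CochainComplex C₂ ℤ}
    {f g : K₁ ⟶ K₂} (h : Homotopy f g) : Homotopy (mapR F L f) (mapR F L g) :=
  mapBifunctorMapHomotopy₂ (𝟙 L) h _ _

/-- `- ⊗ K` preserves homotopy equivalences. -/
noncomputable def funLHomotopyEquiv {L₁ L₂ : CochainComplex C₁ ℤ} (e : HomotopyEquiv L₁ L₂)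
    (K : CochainComplex C₂ ℤ) : HomotopyEquiv (T F L₁ K) (T F L₂ K) where
  hom := (funL F K).map e.hom
  inv := (funL F K).map e.inv
  homotopyHomInvId := (Homotopy.ofEq ((funL F K).map_comp _ _).symm).trans
    ((mapLHomotopy F e.homotopyHomInvId K).trans (Homotopy.ofEq ((funL F K).map_id _)))
  homotopyInvHomId := (Homotopy.ofEq ((funL F K).map_comp _ _).symm).trans
    ((mapLHomotopy F e.homotopyInvHomId K).trans (Homotopy.ofEq ((funL F K).map_id _)))

/-- `L ⊗ -` preserves homotopy equivalences. -/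
noncomputable def funRHomotopyEquiv (L : CochainComplex C₁ ℤ) {K₁ K₂ : CochainComplex C₂ ℤ}
    (e : HomotopyEquiv K₁ K₂) : HomotopyEquiv (T F L K₁) (T F L K₂) where
  hom := (funR F L).map e.hom
  inv := (funR F L).map e.inv
  homotopyHomInvId := (Homotopy.ofEq ((funR F L).map_comp _ _).symm).trans
    ((mapRHomotopy F L e.homotopyHomInvId).trans (Homotopy.ofEq ((funR F L).map_id _)))
  homotopyInvHomId := (Homotopy.ofEq ((funR F L).map_comp _ _).symm).trans
    ((mapRHomotopy F L e.homotopyInvHomId).trans (Homotopy.ofEq ((funR F L).map_id _)))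

end Homotopy

/-- K-flatness with respect to the bifunctor `F` (in the second variable). -/
def IsKFlatR (K : CochainComplex C₂ ℤ) : Prop :=
  ∀ L : CochainComplex C₁ ℤ, Acyc L → Acyc (T F L K)

/-- K-flatness with respect to the bifunctor `F` (in the first variable). -/
def IsKFlatL (L : CochainComplex C₁ ℤ) : Prop :=
  ∀ K : CochainComplex C₂ ℤ, Acyc K → Acyc (T F L K)

section KFlat

variable [∀ n : ℤ, HasColimitsOfShape (Discrete (Idx n)) D]
  [∀ n : ℤ, HasExactColimitsOfShape (Discrete (Idx n)) D]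

/-- **Tensoring with a K-flat complex (on the right) preserves quasi-isomorphisms.** -/
theorem quasiIso_mapL_of_isKFlatR {K : CochainComplex C₂ ℤ} (hK : IsKFlatR F K)
    {L₁ L₂ : CochainComplex C₁ ℤ} (f : L₁ ⟶ L₂) [QuasiIso f] : QuasiIso (mapL F f K) :=
  quasiIso_map_of_preservesAcyc (funL F K)
    (fun e => (funLHomotopyEquiv F e K).quasiIso_hom)
    (fun _ hS => shortExact_funL_of_dSplit F hS K) hK f

/-- **Tensoring with a K-flat complex (on the left) preserves quasi-isomorphisms.** -/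
theorem quasiIso_mapR_of_isKFlatL {L : CochainComplex C₁ ℤ} (hL : IsKFlatL F L)
    {K₁ K₂ : CochainComplex C₂ ℤ} (f : K₁ ⟶ K₂) [QuasiIso f] : QuasiIso (mapR F L f) :=
  quasiIso_map_of_preservesAcyc (funR F L)
    (fun e => (funRHomotopyEquiv F L e).quasiIso_hom)
    (fun _ hS => shortExact_funR_of_dSplit F L hS) hL f

omit [∀ n : ℤ, HasExactColimitsOfShape (Discrete (Idx n)) D] in
lemma acyc_T_shiftR_iff (L : CochainComplex C₁ ℤ) (K : CochainComplex C₂ ℤ) (n : ℤ) :
    Acyc (T F L (K⟦n⟧)) ↔ Acyc (T F L K) := by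
  rw [← acyc_shift_iff (T F L K) n]
  exact ⟨fun h => h.of_iso (CochainComplex.mapBifunctorShift₂Iso L K F n),
    fun h => h.of_iso (CochainComplex.mapBifunctorShift₂Iso L K F n).symm⟩

omit [∀ n : ℤ, HasExactColimitsOfShape (Discrete (Idx n)) D] in
lemma acyc_T_shiftL_iff (L : CochainComplex C₁ ℤ) (K : CochainComplex C₂ ℤ) (n : ℤ) :
    Acyc (T F (L⟦n⟧) K) ↔ Acyc (T F L K) := by
  rw [← acyc_shift_iff (T F L K) n]
  exact ⟨fun h => h.of_iso (CochainComplex.mapBifunctorShift₁Iso L K F n),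
    fun h => h.of_iso (CochainComplex.mapBifunctorShift₁Iso L K F n).symm⟩

open CochainComplex in
/-- two-out-of-three for K-flatness and mapping cones. -/
theorem isKFlatR_mappingCone_two_out_of_three {K₁ K₂ : CochainComplex C₂ ℤ} (φ : K₁ ⟶ K₂) :
    (IsKFlatR F K₁ → IsKFlatR F K₂ → IsKFlatR F (mappingCone φ)) ∧
    (IsKFlatR F K₁ → IsKFlatR F (mappingCone φ) → IsKFlatR F K₂) ∧
    (IsKFlatR F K₂ → IsKFlatR F (mappingCone φ) → IsKFlatR F K₁) := by
  have key := fun L : CochainComplex C₁ ℤ => acyc_mappingCone_two_out_of_three (funR F L)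
    (fun _ hS => shortExact_funR_of_dSplit F L hS) (fun K => acyc_T_shiftR_iff F L K 1) φ
  exact ⟨fun h1 h2 L hL => (key L).1 (h1 L hL) (h2 L hL),
    fun h1 h3 L hL => (key L).2.1 (h1 L hL) (h3 L hL),
    fun h2 h3 L hL => (key L).2.2 (h2 L hL) (h3 L hL)⟩

end KFlat

end Groth.Agent.Lib.Helper16.BiCx
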