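import Mathlib
import Groth.Agent.Lib.Helper16.BiCx2
import Groth.Agent.Lib.Helper8.HColim2

/-!
# Helper16 — BiCx5: `Tot F(L, -)` commutes with colimits; colimits of K-flat complexes
-/

set_option autoImplicit false
universe w' w
open CategoryTheory CategoryTheory.Limits HomologicalComplex

namespace Groth.Agent.Lib.Helper16.BiCx

open Groth.Agent.Lib.Helper16.KF (Idx)

variable {C₁ C₂ D : Type*} [Category C₁] [Category C₂] [Category D]
  [Abelian C₁] [Abelian C₂] [Abelian D]
  (F : C₁ ⥤ C₂ ⥤ D) [F.Additive] [∀ X, (F.obj X).Additive]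
  [∀ (K₁ : CochainComplex C₁ ℤ) (K₂ : CochainComplex C₂ ℤ),
    HasMapBifunctor K₁ K₂ F (ComplexShape.up ℤ)]

/-- constructor for morphisms out of `(Tot F(L, K)).X n`. -/
noncomputable abbrev TDesc {L : CochainComplex C₁ ℤ} {K : CochainComplex C₂ ℤ} {n : ℤ} {A : D}
    (f : ∀ (p q : ℤ) (_ : p + q = n), (F.obj (L.X p)).obj (K.X q) ⟶ A) : (T F L K).X n ⟶ A :=
  mapBifunctorDesc (K₁ := L) (K₂ := K) (F := F) (c := ComplexShape.up ℤ) f

@[reassoc (attr := simp)]
lemma ι_TDesc {L : CochainComplex C₁ ℤ} {K : CochainComplex C₂ ℤ} {n : ℤ} {A : D}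
    (f : ∀ (p q : ℤ) (_ : p + q = n), (F.obj (L.X p)).obj (K.X q) ⟶ A) (p q : ℤ)
    (h : p + q = n) : ιT F L K p q n h ≫ TDesc F f = f p q h :=
  ι_mapBifunctorDesc _ _ _ _

section Colimits

variable {J : Type w} [Category.{w'} J] [HasColimitsOfShape J C₂] [HasColimitsOfShape J D]
  [∀ X : C₁, PreservesColimitsOfShape J (F.obj X)]

/-- the legs of a cocone over `G ⋙ funR F L ⋙ eval n`, with a convenient type. -/
abbrev legR (L : CochainComplex C₁ ℤ) {G : J ⥤ CochainComplex C₂ ℤ} (n : ℤ)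
    (s : Cocone (G ⋙ funR F L ⋙ HomologicalComplex.eval _ (ComplexShape.up ℤ) n)) (j : J) :
    (T F L (G.obj j)).X n ⟶ s.pt := s.ι.app j

lemma legR_w (L : CochainComplex C₁ ℤ) {G : J ⥤ CochainComplex C₂ ℤ} (n : ℤ)
    (s : Cocone (G ⋙ funR F L ⋙ HomologicalComplex.eval _ (ComplexShape.up ℤ) n))
    {j j' : J} (φ : j ⟶ j') : (mapR F L (G.map φ)).f n ≫ legR F L n s j' = legR F L n s j :=
  s.w φ

/-- the cocones in each bidegree induced by a cocone over `G ⋙ funR F L ⋙ eval n`. -/
noncomputable def coconeR (L : CochainComplex C₁ ℤ) {G : J ⥤ CochainComplex C₂ ℤ} (n : ℤ)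
    (s : Cocone (G ⋙ funR F L ⋙ HomologicalComplex.eval _ (ComplexShape.up ℤ) n))
    (p q : ℤ) (h : p + q = n) :
    Cocone ((G ⋙ HomologicalComplex.eval _ (ComplexShape.up ℤ) q) ⋙ F.obj (L.X p)) where
  pt := s.pt
  ι :=
    { app := fun j => ιT F L (G.obj j) p q n h ≫ legR F L n s j
      naturality := fun j j' φ => by
        change (F.obj (L.X p)).map ((G.map φ).f q) ≫ ιT F L (G.obj j') p q n h ≫
          legR F L n s j' = (ιT F L (G.obj j) p q n h ≫ legR F L n s j) ≫ 𝟙 _
        rw [Category.comp_id, ← legR_w F L n s φ, ι_mapR_assoc] }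

/-- the legs of a cocone, with a convenient type. -/
abbrev cleg {G : J ⥤ CochainComplex C₂ ℤ} (c : Cocone G) (j : J) : G.obj j ⟶ c.pt := c.ι.app j

/-- `Tot F(L, -)` preserves colimits (degreewise). -/
noncomputable def isColimitFunREval (L : CochainComplex C₁ ℤ) {G : J ⥤ CochainComplex C₂ ℤ}
    {c : Cocone G} (hc : IsColimit c) (n : ℤ) :
    IsColimit ((funR F L ⋙ HomologicalComplex.eval _ _ n).mapCocone c) := by
  let hpq : ∀ p q : ℤ, IsColimit ((F.obj (L.X p)).mapCocone
      ((HomologicalComplex.eval _ (ComplexShape.up ℤ) q).mapCocone c)) := fun p q =>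
    isColimitOfPreserves (F.obj (L.X p))
      (isColimitOfPreserves (HomologicalComplex.eval _ _ q) hc)
  let dpq : ∀ (s : Cocone (G ⋙ funR F L ⋙ HomologicalComplex.eval _ (ComplexShape.up ℤ) n))
      (p q : ℤ) (_ : p + q = n), (F.obj (L.X p)).obj (c.pt.X q) ⟶ s.pt :=
    fun s p q h => (hpq p q).desc (coconeR F L n s p q h)
  have hfac : ∀ (s : Cocone (G ⋙ funR F L ⋙ HomologicalComplex.eval _ (ComplexShape.up ℤ) n))
      (p q : ℤ) (h : p + q = n) (j : J),
      (F.obj (L.X p)).map ((cleg c j).f q) ≫ dpq s p q h =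
        ιT F L (G.obj j) p q n h ≫ legR F L n s j :=
    fun s p q h j => (hpq p q).fac (coconeR F L n s p q h) j
  have huniq : ∀ (s : Cocone (G ⋙ funR F L ⋙ HomologicalComplex.eval _ (ComplexShape.up ℤ) n))
      (p q : ℤ) (h : p + q = n) (m : (F.obj (L.X p)).obj (c.pt.X q) ⟶ s.pt),
      (∀ j, (F.obj (L.X p)).map ((cleg c j).f q) ≫ m =
        ιT F L (G.obj j) p q n h ≫ legR F L n s j) → m = dpq s p q h :=
    fun s p q h m hm => (hpq p q).uniq (coconeR F L n s p q h) m hm
  exact
    { desc := fun s => TDesc F (dpq s)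
      fac := fun s j => by
        change (mapR F L (cleg c j)).f n ≫ TDesc F (dpq s) = legR F L n s j
        apply T_hom_ext
        intro p q h
        rw [ι_mapR_assoc, ι_TDesc, hfac]
      uniq := fun s m hm => by
        have key : ∀ (m : (T F L c.pt).X n ⟶ s.pt),
            (∀ j, (mapR F L (cleg c j)).f n ≫ m = legR F L n s j) → m = TDesc F (dpq s) := by
          intro m hm'
          apply T_hom_ext
          intro p q h
          rw [ι_TDesc]
          apply huniq
          intro j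
          rw [← hm' j, ι_mapR_assoc]
        exact key m hm }

/-- `Tot F(L, -)` preserves colimits. -/
noncomputable def isColimitFunR (L : CochainComplex C₁ ℤ) {G : J ⥤ CochainComplex C₂ ℤ}
    {c : Cocone G} (hc : IsColimit c) : IsColimit ((funR F L).mapCocone c) :=
  HomologicalComplex.isColimitOfEval _ _ (fun n => isColimitFunREval F L hc n)

omit [HasColimitsOfShape J C₂] in
/-- a colimit (of an exact shape) of acyclic complexes is acyclic. -/
lemma acyc_of_isColimit [HasExactColimitsOfShape J D] {G : J ⥤ CochainComplex D ℤ}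
    {c : Cocone G} (hc : IsColimit c) (h : ∀ j, Acyc (G.obj j)) : Acyc c.pt := by
  intro i
  let H := HomologicalComplex.homologyFunctor D (ComplexShape.up ℤ) i
  have hc' : IsColimit (H.mapCocone c) := isColimitOfPreserves H hc
  rw [IsZero.iff_id_eq_zero]
  apply hc'.hom_ext
  intro j
  exact (h j i).eq_of_src _ _

/-- a colimit (of an exact shape) of K-flat complexes is K-flat. -/
theorem isKFlatR_of_isColimit [HasExactColimitsOfShape J D] {G : J ⥤ CochainComplex C₂ ℤ}
    {c : Cocone G} (hc : IsColimit c) (h : ∀ j, IsKFlatR F (G.obj j)) :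
    IsKFlatR F c.pt := fun L hL =>
  acyc_of_isColimit (isColimitFunR F L hc) (fun j => h j L hL)

end Colimits

end Groth.Agent.Lib.Helper16.BiCx
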