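import Mathlib
import Groth.Agent.Lib.Helper16.BiCx5

/-!
# Helper16 — BiCx7: functors commuting with bifunctors commute with total complexes
-/

set_option autoImplicit false
open CategoryTheory CategoryTheory.Limits HomologicalComplex

namespace Groth.Agent.Lib.Helper16.BiCx

open Groth.Agent.Lib.Helper16.KF (Idx)

section

variable {C₁ C₂ D : Type*} [Category C₁] [Category C₂] [Category D]
  [Abelian C₁] [Abelian C₂] [Abelian D]
  (F : C₁ ⥤ C₂ ⥤ D) [F.Additive] [∀ X, (F.obj X).Additive]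
  [∀ (K₁ : CochainComplex C₁ ℤ) (K₂ : CochainComplex C₂ ℤ),
    HasMapBifunctor K₁ K₂ F (ComplexShape.up ℤ)]

@[reassoc]
lemma ιT_d (L : CochainComplex C₁ ℤ) (K : CochainComplex C₂ ℤ) (p q n : ℤ) (h : p + q = n) :
    ιT F L K p q n h ≫ (T F L K).d n (n + 1) =
      (F.map (L.d p (p + 1))).app (K.X q) ≫ ιT F L K (p + 1) q (n + 1) (by omega) +
      p.negOnePow • ((F.obj (L.X p)).map (K.d q (q + 1)) ≫
        ιT F L K p (q + 1) (n + 1) (by omega)) := by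
  rw [mapBifunctor.d_eq, Preadditive.comp_add, mapBifunctor.ι_D₁, mapBifunctor.ι_D₂,
    mapBifunctor.d₁_eq _ _ _ _ (show (ComplexShape.up ℤ).Rel p (p + 1) by simp) q (n + 1)
      (by dsimp; omega),
    mapBifunctor.d₂_eq _ _ _ _ p (show (ComplexShape.up ℤ).Rel q (q + 1) by simp) (n + 1)
      (by dsimp; omega)]
  simp

end

section Compare

variable {C₁ C₂ D : Type*} [Category C₁] [Category C₂] [Category D]
  [Abelian C₁] [Abelian C₂] [Abelian D]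
  (F : C₁ ⥤ C₂ ⥤ D) [F.Additive] [∀ X, (F.obj X).Additive]
  [∀ (K₁ : CochainComplex C₁ ℤ) (K₂ : CochainComplex C₂ ℤ),
    HasMapBifunctor K₁ K₂ F (ComplexShape.up ℤ)]
  {C₁' C₂' D' : Type*} [Category C₁'] [Category C₂'] [Category D']
  [Abelian C₁'] [Abelian C₂'] [Abelian D']
  (F' : C₁' ⥤ C₂' ⥤ D') [F'.Additive] [∀ X, (F'.obj X).Additive]
  [∀ (K₁ : CochainComplex C₁' ℤ) (K₂ : CochainComplex C₂' ℤ),
    HasMapBifunctor K₁ K₂ F' (ComplexShape.up ℤ)]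
  (S₁ : C₁ ⥤ C₁') (S₂ : C₂ ⥤ C₂') (S : D ⥤ D') [S₁.Additive] [S₂.Additive] [S.Additive]
  [∀ n : ℤ, PreservesColimitsOfShape (Discrete (Idx n)) S]
  (μ : ∀ (X : C₁) (Y : C₂), (F'.obj (S₁.obj X)).obj (S₂.obj Y) ≅ S.obj ((F.obj X).obj Y))
  (hL : ∀ {X X' : C₁} (f : X ⟶ X') (Y : C₂),
    (F'.map (S₁.map f)).app (S₂.obj Y) ≫ (μ X' Y).hom = (μ X Y).hom ≫ S.map ((F.map f).app Y))
  (hR : ∀ (X : C₁) {Y Y' : C₂} (g : Y ⟶ Y'),
    (F'.obj (S₁.obj X)).map (S₂.map g) ≫ (μ X Y').hom = (μ X Y).hom ≫ S.map ((F.obj X).map g))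
  (L : CochainComplex C₁ ℤ) (K : CochainComplex C₂ ℤ)

/-- the image of `L` under `S₁`. -/
noncomputable abbrev mL : CochainComplex C₁' ℤ :=
  (S₁.mapHomologicalComplex (ComplexShape.up ℤ)).obj L

/-- the image of `K` under `S₂`. -/
noncomputable abbrev mK : CochainComplex C₂' ℤ :=
  (S₂.mapHomologicalComplex (ComplexShape.up ℤ)).obj K

/-- `μ`, typed on the terms of the image complexes. -/
noncomputable def μ' (p q : ℤ) :
    (F'.obj ((mL S₁ L).X p)).obj ((mK S₂ K).X q) ≅ S.obj ((F.obj (L.X p)).obj (K.X q)) :=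
  μ (L.X p) (K.X q)

include hL in
@[reassoc]
lemma μ'_natL (p p' q : ℤ) :
    (F'.map ((mL S₁ L).d p p')).app ((mK S₂ K).X q) ≫ (μ' F F' S₁ S₂ S μ L K p' q).hom =
      (μ' F F' S₁ S₂ S μ L K p q).hom ≫ S.map ((F.map (L.d p p')).app (K.X q)) :=
  hL (L.d p p') (K.X q)

include hR in
@[reassoc]
lemma μ'_natR (p q q' : ℤ) :
    (F'.obj ((mL S₁ L).X p)).map ((mK S₂ K).d q q') ≫ (μ' F F' S₁ S₂ S μ L K p q').hom =
      (μ' F F' S₁ S₂ S μ L K p q).hom ≫ S.map ((F.obj (L.X p)).map (K.d q q')) :=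
  hR (L.X p) (K.d q q')

/-- the comparison map in degree `n`. -/
noncomputable def cmpHom (n : ℤ) :
    (T F' (mL S₁ L) (mK S₂ K)).X n ⟶ S.obj ((T F L K).X n) :=
  TDesc F' (fun p q h => (μ' F F' S₁ S₂ S μ L K p q).hom ≫ S.map (ιT F L K p q n h))

@[reassoc]
lemma ι_cmpHom (p q n : ℤ) (h : p + q = n) :
    ιT F' (mL S₁ L) (mK S₂ K) p q n h ≫ cmpHom F F' S₁ S₂ S μ L K n =
      (μ' F F' S₁ S₂ S μ L K p q).hom ≫ S.map (ιT F L K p q n h) :=
  ι_TDesc F' _ p q h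

/-- `S` applied to the coproduct decomposition of `(Tot F(L, K)).X n`. -/
noncomputable def isColimitMapCofanT (n : ℤ) :
    IsColimit (Cofan.mk (S.obj ((T F L K).X n))
      (fun i : Idx n => S.map (ιT F L K i.1.1 i.1.2 n i.2))) :=
  isColimitCofanMkObjOfIsColimit S _ _ (isColimitCofanT F L K n)

/-- the inverse comparison map in degree `n`. -/
noncomputable def cmpInv (n : ℤ) :
    S.obj ((T F L K).X n) ⟶ (T F' (mL S₁ L) (mK S₂ K)).X n :=
  Cofan.IsColimit.desc (isColimitMapCofanT F S L K n)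
    (fun i => (μ' F F' S₁ S₂ S μ L K i.1.1 i.1.2).inv ≫
      ιT F' (mL S₁ L) (mK S₂ K) i.1.1 i.1.2 n i.2)

@[reassoc]
lemma map_ι_cmpInv (p q n : ℤ) (h : p + q = n) :
    S.map (ιT F L K p q n h) ≫ cmpInv F F' S₁ S₂ S μ L K n =
      (μ' F F' S₁ S₂ S μ L K p q).inv ≫ ιT F' (mL S₁ L) (mK S₂ K) p q n h :=
  Cofan.IsColimit.fac (isColimitMapCofanT F S L K n) _ (⟨(p, q), h⟩ : Idx n)

/-- the comparison isomorphism in degree `n`. -/
noncomputable def cmpIsoX (n : ℤ) :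
    (T F' (mL S₁ L) (mK S₂ K)).X n ≅ S.obj ((T F L K).X n) where
  hom := cmpHom F F' S₁ S₂ S μ L K n
  inv := cmpInv F F' S₁ S₂ S μ L K n
  hom_inv_id := by
    apply T_hom_ext
    intro p q h
    rw [ι_cmpHom_assoc, map_ι_cmpInv, Iso.hom_inv_id_assoc, Category.comp_id]
  inv_hom_id := by
    apply Cofan.IsColimit.hom_ext (isColimitMapCofanT F S L K n)
    intro i
    obtain ⟨⟨p, q⟩, h⟩ := i
    replace h : p + q = n := h
    change S.map (ιT F L K p q n h) ≫ _ = S.map (ιT F L K p q n h) ≫ _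
    rw [map_ι_cmpInv_assoc, ι_cmpHom, Iso.inv_hom_id_assoc, Category.comp_id]

include hL hR in
lemma cmpHom_d (n : ℤ) :
    cmpHom F F' S₁ S₂ S μ L K n ≫ S.map ((T F L K).d n (n + 1)) =
      (T F' (mL S₁ L) (mK S₂ K)).d n (n + 1) ≫ cmpHom F F' S₁ S₂ S μ L K (n + 1) := by
  apply T_hom_ext
  intro p q h
  rw [ι_cmpHom_assoc, ← S.map_comp, ιT_d, ιT_d_assoc, S.map_add, Preadditive.comp_add,
    Preadditive.add_comp, Category.assoc, ι_cmpHom, S.map_comp,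
    μ'_natL_assoc F F' S₁ S₂ S μ hL]
  congr 1
  rw [Units.smul_def, Units.smul_def, S.map_zsmul, Preadditive.zsmul_comp,
    Preadditive.comp_zsmul, Category.assoc, ι_cmpHom, S.map_comp,
    μ'_natR_assoc F F' S₁ S₂ S μ hR]

include hL hR in
/-- **`S(Tot F(L, K)) ≅ Tot F'(S₁ L, S₂ K)`.** -/
noncomputable def cmpIso :
    T F' (mL S₁ L) (mK S₂ K) ≅ (S.mapHomologicalComplex (ComplexShape.up ℤ)).obj (T F L K) :=
  HomologicalComplex.Hom.isoOfComponents (fun n => cmpIsoX F F' S₁ S₂ S μ L K n) (by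
    rintro i j (rfl : i + 1 = j)
    exact cmpHom_d F F' S₁ S₂ S μ hL hR L K i)

end Compare

end Groth.Agent.Lib.Helper16.BiCx
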