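import Mathlib
import Groth.Agent.Lib.Helper16.BiCx2

/-!
# Helper16 — BiCx8: quasi-isomorphisms between K-flat complexes (general bifunctor version)

* a relative version of `quasiIso_map_of_preservesAcyc`;
* K-flatness (w.r.t. a bifunctor) is closed under degreewise split extensions, biproducts;
* if `F(L, C)` is acyclic for every acyclic K-flat `C`, then `F(L, -)` sends quasi-isomorphisms
  between K-flat complexes to quasi-isomorphisms.
-/

set_option autoImplicit false
open CategoryTheory CategoryTheory.Limits HomologicalComplex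

namespace Groth.Agent.Lib.Helper16.BiCx

open Groth.Agent.Lib.Helper16.KF (Idx)

section Cyl

variable {A : Type*} [Category A] [Abelian A] {L₁ L₂ : CochainComplex A ℤ} (f : L₁ ⟶ L₂)

open CochainComplex

/-- the cylinder short complex `L₁ → cone(id) ⊞ L₂ → coker`. -/
noncomputable def cylSC : ShortComplex (CochainComplex A ℤ) :=
  ShortComplex.mk (cylI f) (cokernel.π (cylI f)) (cokernel.condition _)

lemma dSplit_cylSC : DSplit (cylSC f) := dSplit_of_retractions (cylI f) _ (cylI_f_comp f)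

lemma quasiIso_cylI [QuasiIso f] : QuasiIso (cylI f) := by
  haveI : QuasiIso (cylP (L₁ := L₁) (L₂ := L₂)) :=
    (cylHomotopyEquiv (L₁ := L₁) (L₂ := L₂)).quasiIso_hom
  haveI : QuasiIso (cylI f ≫ cylP (L₁ := L₁) (L₂ := L₂)) := by rw [cylI_cylP]; infer_instance
  exact quasiIso_of_comp_right (cylI f) (cylP (L₁ := L₁) (L₂ := L₂))

lemma acyc_cylSC_X₃ [QuasiIso f] : Acyc (cylSC f).X₃ := by
  haveI : QuasiIso (cylSC f).f := quasiIso_cylI f
  exact acyc_X₃_of_quasiIso_f (dSplit_cylSC f).shortExact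

end Cyl

section Functor

variable {A B : Type*} [Category A] [Abelian A] [Category B] [Abelian B]
  (G : CochainComplex A ℤ ⥤ CochainComplex B ℤ) [G.Additive]

/-- relative version of `quasiIso_map_of_preservesAcyc`: it suffices that `G` sends the cokernel
of the cylinder inclusion to an acyclic complex. -/
theorem quasiIso_map_of_acyc_cylSC
    (hh : ∀ {K L : CochainComplex A ℤ} (e : HomotopyEquiv K L), QuasiIso (G.map e.hom))
    (hs : ∀ S : ShortComplex (CochainComplex A ℤ), DSplit S → (S.map G).ShortExact)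
    {L₁ L₂ : CochainComplex A ℤ} (f : L₁ ⟶ L₂) (ha : Acyc (G.obj (cylSC f).X₃)) :
    QuasiIso (G.map f) := by
  have hS' := hs (cylSC f) (dSplit_cylSC f)
  have h4 : QuasiIso (G.map (cylI f)) := quasiIso_f_of_acyc_X₃ hS' ha
  haveI : QuasiIso (G.map (cylP (L₁ := L₁) (L₂ := L₂))) :=
    hh (cylHomotopyEquiv (L₁ := L₁) (L₂ := L₂))
  have : G.map f = G.map (cylI f) ≫ G.map (cylP (L₁ := L₁) (L₂ := L₂)) := by
    rw [← G.map_comp, cylI_cylP]
  rw [this]
  infer_instance

end Functor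

section Bi

variable {C₁ C₂ D : Type*} [Category C₁] [Category C₂] [Category D]
  [Abelian C₁] [Abelian C₂] [Abelian D]
  (F : C₁ ⥤ C₂ ⥤ D) [F.Additive] [∀ X, (F.obj X).Additive]
  [∀ (K₁ : CochainComplex C₁ ℤ) (K₂ : CochainComplex C₂ ℤ),
    HasMapBifunctor K₁ K₂ F (ComplexShape.up ℤ)]
  [∀ n : ℤ, HasColimitsOfShape (Discrete (Idx n)) D]
  [∀ n : ℤ, HasExactColimitsOfShape (Discrete (Idx n)) D]

/-- K-flatness is closed under degreewise split extensions (two-out-of-three). -/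
theorem isKFlatR_dSplit_two_out_of_three {S : ShortComplex (CochainComplex C₂ ℤ)}
    (hS : DSplit S) :
    (IsKFlatR F S.X₁ → IsKFlatR F S.X₂ → IsKFlatR F S.X₃) ∧
    (IsKFlatR F S.X₁ → IsKFlatR F S.X₃ → IsKFlatR F S.X₂) ∧
    (IsKFlatR F S.X₂ → IsKFlatR F S.X₃ → IsKFlatR F S.X₁) :=
  ⟨fun h1 h2 L hL => acyc_X₃ (shortExact_funR_of_dSplit F L hS) (h1 L hL) (h2 L hL),
   fun h1 h3 L hL => acyc_X₂ (shortExact_funR_of_dSplit F L hS) (h1 L hL) (h3 L hL),
   fun h2 h3 L hL => acyc_X₁ (shortExact_funR_of_dSplit F L hS) (h2 L hL) (h3 L hL)⟩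

/-- the split short complex `K → K ⊞ M → M`. -/
noncomputable def biprodSC {A : Type*} [Category A] [Abelian A] (K M : CochainComplex A ℤ) :
    ShortComplex (CochainComplex A ℤ) :=
  ShortComplex.mk (biprod.inl : K ⟶ K ⊞ M) biprod.snd (by simp)

lemma dSplit_biprodSC {A : Type*} [Category A] [Abelian A] (K M : CochainComplex A ℤ) :
    DSplit (biprodSC K M) := fun p =>
  ⟨(ShortComplex.Splitting.ofHasBinaryBiproduct K M).map (HomologicalComplex.eval _ _ p)⟩

lemma isKFlatR_biprod {K M : CochainComplex C₂ ℤ} (hK : IsKFlatR F K) (hM : IsKFlatR F M) :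
    IsKFlatR F (K ⊞ M) :=
  (isKFlatR_dSplit_two_out_of_three F (dSplit_biprodSC K M)).2.1 hK hM

open CochainComplex in
lemma isKFlatR_cylSC_X₃ {K₁ K₂ : CochainComplex C₂ ℤ} (f : K₁ ⟶ K₂) (h1 : IsKFlatR F K₁)
    (h2 : IsKFlatR F K₂) : IsKFlatR F (cylSC f).X₃ :=
  (isKFlatR_dSplit_two_out_of_three F (dSplit_cylSC f)).1 h1
    (isKFlatR_biprod F ((isKFlatR_mappingCone_two_out_of_three F (𝟙 K₁)).1 h1 h1) h2)

/-- **If `Tot F(L, C)` is acyclic for every acyclic K-flat complex `C`, then `Tot F(L, -)` sends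
quasi-isomorphisms between K-flat complexes to quasi-isomorphisms.** -/
theorem quasiIso_mapR_of_isKFlatR_of_isKFlatR (L : CochainComplex C₁ ℤ)
    (hL : ∀ C : CochainComplex C₂ ℤ, Acyc C → IsKFlatR F C → Acyc (T F L C))
    {K₁ K₂ : CochainComplex C₂ ℤ} (f : K₁ ⟶ K₂) [QuasiIso f] (h1 : IsKFlatR F K₁)
    (h2 : IsKFlatR F K₂) : QuasiIso (mapR F L f) :=
  quasiIso_map_of_acyc_cylSC (funR F L)
    (fun e => (funRHomotopyEquiv F L e).quasiIso_hom)
    (fun _ hS => shortExact_funR_of_dSplit F L hS) f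
    (hL _ (acyc_cylSC_X₃ f) (isKFlatR_cylSC_X₃ F f h1 h2))

end Bi

end Groth.Agent.Lib.Helper16.BiCx
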