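import Mathlib
import Groth.Agent.Lib.Helper8.Perf2
import Groth.Agent.Lib.Helper8.Stupid1

/-!
# Helper16 — PC1: `m`-pseudo-coherence relative to a class of projective objects.

`Good m α`: `α` induces isomorphisms on `H^i` for `i > m` and an epimorphism on `H^m`;
equivalently the cone of `α` lies in `D^{≤ m-1}`.
-/

open CategoryTheory CategoryTheory.Limits DerivedCategory CategoryTheory.Pretriangulated

namespace Groth.Agent.Lib.Helper16.PC

open Groth.Agent.Lib.Helper8.PAmp Groth.Agent.Lib.Helper8.DRing2 Groth.Agent.Lib.Helper8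

universe w v u

variable {A : Type u} [Category.{v} A] [Abelian A] [HasDerivedCategory.{w} A]

/-- `α` induces isomorphisms on `H^i` for `i > m` and an epimorphism on `H^m`. -/
def Good (m : ℤ) {X Y : DerivedCategory A} (α : X ⟶ Y) : Prop :=
  (∀ i : ℤ, m < i → IsIso ((homologyFunctor A i).map α)) ∧ Epi ((homologyFunctor A m).map α)

lemma Good.comp {m : ℤ} {X Y Z : DerivedCategory A} {α : X ⟶ Y} {β : Y ⟶ Z}
    (hα : Good m α) (hβ : Good m β) : Good m (α ≫ β) := by
  refine ⟨fun i hi => ?_, ?_⟩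
  · rw [Functor.map_comp]
    have := hα.1 i hi
    have := hβ.1 i hi
    infer_instance
  · rw [Functor.map_comp]
    have := hα.2
    have := hβ.2
    exact epi_comp _ _

lemma Good.of_le {m m' : ℤ} (h : m ≤ m') {X Y : DerivedCategory A} {α : X ⟶ Y}
    (hα : Good m α) : Good m' α := by
  refine ⟨fun i hi => hα.1 i (by omega), ?_⟩
  rcases h.eq_or_lt with rfl | h
  · exact hα.2
  · have := hα.1 m' h
    infer_instance

lemma good_of_isIso (m : ℤ) {X Y : DerivedCategory A} (α : X ⟶ Y) [IsIso α] : Good m α :=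
  ⟨fun _ _ => inferInstance, inferInstance⟩

lemma good_iff_isLE (T : Triangle (DerivedCategory A)) (hT : T ∈ distTriang _) (m m' : ℤ)
    (hm : m' + 1 = m) : Good m T.mor₁ ↔ T.obj₃.IsLE m' := by
  rw [isLE_iff]
  constructor
  · rintro ⟨hiso, hepi⟩ i hi
    refine (HomologySequence.exact₃ T hT i (i + 1) rfl).isZero_of_both_zeros ?_ ?_
    · rw [← HomologySequence.epi_homologyMap_mor₁_iff T hT]
      by_cases h : i = m
      · subst h; exact hepi
      · have := hiso i (by omega)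
        infer_instance
    · rw [← HomologySequence.mono_homologyMap_mor₁_iff T hT i (i + 1) rfl]
      have := hiso (i + 1) (by omega)
      infer_instance
  · intro h
    have hepi : ∀ i : ℤ, m ≤ i → Epi ((homologyFunctor A i).map T.mor₁) := fun i hi => by
      rw [HomologySequence.epi_homologyMap_mor₁_iff T hT]
      exact (h i (by omega)).eq_of_tgt _ _
    refine ⟨fun i hi => ?_, hepi m le_rfl⟩
    have := hepi i hi.le
    have : Mono ((homologyFunctor A i).map T.mor₁) := by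
      rw [HomologySequence.mono_homologyMap_mor₁_iff T hT (i - 1) i (by omega)]
      exact (h (i - 1) (by omega)).eq_of_src _ _
    exact isIso_of_mono_of_epi _

lemma Good.shift {m : ℤ} {X Y : DerivedCategory A} {α : X ⟶ Y} (hα : Good m α) (n m' : ℤ)
    (hm : m' + n = m) : Good m' (α⟦n⟧') := by
  have key : ∀ i i' : ℤ, i + n = i' →
      (Arrow.mk ((homologyFunctor A i).map (α⟦n⟧')) ≅ Arrow.mk ((homologyFunctor A i').map α)) :=
    fun i i' hi => Arrow.isoOfNatIso
      ((homologyFunctor A 0).shiftIso n i i' (by omega)) (Arrow.mk α)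
  refine ⟨fun i hi => ?_, ?_⟩
  · have := hα.1 (i + n) (by omega)
    exact ((MorphismProperty.isomorphisms _).arrow_mk_iso_iff (key i (i + n) rfl)).2
      (hα.1 (i + n) (by omega))
  · exact ((MorphismProperty.epimorphisms _).arrow_mk_iso_iff (key m' m hm)).2 hα.2


/-- `K` is `m`-pseudo-coherent relative to the class `Pc`: there is a bounded complex `E` with terms
in `Pc` and a morphism `Q E ⟶ K` which is `Good m`. -/
def IsPC (Pc : A → Prop) (m : ℤ) (K : DerivedCategory A) : Prop :=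
  ∃ (E : CochainComplex A ℤ) (a b : ℤ) (α : Q.obj E ⟶ K),
    (∀ i : ℤ, i < a ∨ b < i → IsZero (E.X i)) ∧ (∀ i : ℤ, Pc (E.X i)) ∧ Good m α

variable {Pc : A → Prop}

lemma IsPC.of_iso {m : ℤ} {K K' : DerivedCategory A} (h : IsPC Pc m K) (e : K ≅ K') :
    IsPC Pc m K' := by
  obtain ⟨E, a, b, α, h1, h2, h3⟩ := h
  exact ⟨E, a, b, α ≫ e.hom, h1, h2, h3.comp (good_of_isIso m e.hom)⟩

lemma IsPC.of_le {m m' : ℤ} (hm : m ≤ m') {K : DerivedCategory A} (h : IsPC Pc m K) :
    IsPC Pc m' K := by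
  obtain ⟨E, a, b, α, h1, h2, h3⟩ := h
  exact ⟨E, a, b, α, h1, h2, h3.of_le hm⟩

lemma IsPC.shift {m : ℤ} {K : DerivedCategory A} (h : IsPC Pc m K) (n m' : ℤ) (hm : m' + n = m) :
    IsPC Pc m' (K⟦n⟧) := by
  obtain ⟨E, a, b, α, h1, h2, h3⟩ := h
  refine ⟨E⟦n⟧, a - n, b - n, ((Q.commShiftIso n).app E).hom ≫ α⟦n⟧', ?_, ?_,
    (good_of_isIso m' _).comp (h3.shift n m' hm)⟩
  · intro i hi
    change IsZero (E.X (i + n))
    exact h1 _ (by omega)
  · intro i
    change Pc (E.X (i + n))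
    exact h2 _

/-- the witness can be taken to vanish in degrees `< m`. -/
lemma exists_trunc (hPc_zero : ∀ X, IsZero X → Pc X) (hPc_iso : ∀ X Y, (X ≅ Y) → Pc X → Pc Y)
    (m : ℤ) : ∀ (n : ℕ) (E : CochainComplex A ℤ) (a b : ℤ), m - a ≤ n →
      (∀ i : ℤ, i < a ∨ b < i → IsZero (E.X i)) → (∀ i : ℤ, Pc (E.X i)) →
      ∃ (E' : CochainComplex A ℤ) (φ : E' ⟶ E), (∀ i : ℤ, i < m ∨ b < i → IsZero (E'.X i)) ∧
        (∀ i : ℤ, Pc (E'.X i)) ∧ Good m (Q.map φ) := by
  intro n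
  induction n with
  | zero =>
    intro E a b hn h1 h2
    refine ⟨E, 𝟙 E, fun i hi => h1 i ?_, h2, ?_⟩
    · rcases hi with hi | hi
      · exact Or.inl (by simp at hn; omega)
      · exact Or.inr hi
    · rw [Q.map_id]
      exact good_of_isIso m _
  | succ n ih =>
    intro E a b hn h1 h2
    by_cases ha : m ≤ a
    · refine ⟨E, 𝟙 E, fun i hi => h1 i ?_, h2, ?_⟩
      · rcases hi with hi | hi
        · exact Or.inl (by omega)
        · exact Or.inr hi
      · rw [Q.map_id]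
        exact good_of_isIso m _
    · have hK' : ∀ i : ℤ, i < a → IsZero (E.X i) := fun i hi => h1 i (Or.inl hi)
      obtain ⟨E', φ, h1', h2', h3'⟩ := ih (Stupid.σ E a hK') (a + 1) b (by push_cast at hn; omega)
        (fun i hi => by
          by_cases h : i = a
          · subst h; exact Stupid.isZero_σ_X E i hK'
          · exact (h1 i (by omega)).of_iso (Stupid.σXIso E a hK' i h))
        (fun i => by
          by_cases h : i = a
          · subst h; exact hPc_zero _ (Stupid.isZero_σ_X E i hK')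
          · exact hPc_iso _ _ (Stupid.σXIso E a hK' i h).symm (h2 i))
      let ι : Stupid.σ E a hK' ⟶ E := (Stupid.sc E a hK').f
      refine ⟨E', φ ≫ ι, h1', h2', ?_⟩
      have hc : Q.map (φ ≫ ι) = Q.map φ ≫ Q.map ι := Q.map_comp _ _
      rw [hc]
      refine h3'.comp (Good.of_le (m := a + 1) (by omega) ?_)
      have hT := triangleOfSES_distinguished (Stupid.sc_shortExact E a hK')
      refine (good_iff_isLE _ hT (a + 1) a rfl).2 ?_
      change (Q.obj ((HomologicalComplex.single A (ComplexShape.up ℤ) a).obj (E.X a))).IsLE a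
      rw [isLE_Q_obj_iff]
      infer_instance

lemma IsPC.exists_trunc {m : ℤ} {K : DerivedCategory A} (h : IsPC Pc m K)
    (hPc_zero : ∀ X, IsZero X → Pc X) (hPc_iso : ∀ X Y, (X ≅ Y) → Pc X → Pc Y) :
    ∃ (E : CochainComplex A ℤ) (b : ℤ) (α : Q.obj E ⟶ K),
      (∀ i : ℤ, i < m ∨ b < i → IsZero (E.X i)) ∧ (∀ i : ℤ, Pc (E.X i)) ∧ Good m α := by
  obtain ⟨E, a, b, α, h1, h2, h3⟩ := h
  obtain ⟨E', φ, h1', h2', h3'⟩ := PC.exists_trunc hPc_zero hPc_iso m (m - a).toNat E a b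
    (by omega) h1 h2
  exact ⟨E', b, Q.map φ ≫ α, h1', h2', h3'.comp h3⟩


/-- Key step: in a distinguished triangle `K → L → M`, if `K` is `(m+1)`-pc and `L` is `m`-pc then
`M` is `m`-pc. -/
theorem IsPC.of_triangle₃ (hPc_proj : ∀ X, Pc X → Projective X)
    (hPc_biprod : ∀ X Y, Pc X → Pc Y → Pc (X ⊞ Y)) (hPc_iso : ∀ X Y, (X ≅ Y) → Pc X → Pc Y)
    (hPc_zero : ∀ X, IsZero X → Pc X)
    (T : Triangle (DerivedCategory A)) (hT : T ∈ distTriang _) (m : ℤ)
    (h₁ : IsPC Pc (m + 1) T.obj₁) (h₂ : IsPC Pc m T.obj₂) : IsPC Pc m T.obj₃ := by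
  obtain ⟨P, b, α, hP0, hP1, hα⟩ := h₁.exists_trunc hPc_zero hPc_iso
  obtain ⟨P', a', b', β, hP'0, hP'1, hβ⟩ := h₂
  obtain ⟨Cα, gα, hα', hTα⟩ := distinguished_cocone_triangle α
  have hCα : Cα.IsLE m := (good_iff_isLE _ hTα (m + 1) m rfl).1 hα
  obtain ⟨Cβ, gβ, hβ', hTβ⟩ := distinguished_cocone_triangle β
  have hCβ : Cβ.IsLE (m - 1) := (good_iff_isLE _ hTβ m (m - 1) (by omega)).1 hβ
  have hzero : (α ≫ T.mor₁) ≫ gβ = 0 :=
    HasProjAmp.hom_eq_zero (a := m + 1) (b := b) ⟨P, hP0, fun i => hPc_proj _ (hP1 i), ⟨Iso.refl _⟩⟩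
      Cβ (m - 1) (by omega) _
  obtain ⟨γ', hγ'⟩ := Triangle.coyoneda_exact₂ _ hTβ (α ≫ T.mor₁) hzero
  have : P.IsKProjective := isKProjective_of_hasProjAmp_data P b (fun i hi => hP0 i (Or.inr hi))
    (fun i => hPc_proj _ (hP1 i))
  obtain ⟨γ, rfl⟩ := exists_Q_map_of_isKProjective P P' γ'
  obtain ⟨Cg, gg, hg', hTg⟩ := distinguished_cocone_triangle (α ≫ T.mor₁)
  have hT' : Triangle.mk T.mor₁ T.mor₂ T.mor₃ ∈ distTriang _ := hT
  have o1 := Triangulated.someOctahedron rfl hTα hT' hTg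
  have hTγ := DerivedCategory.mappingCone_triangle_distinguished γ
  have o2 := Triangulated.someOctahedron hγ'.symm hTγ hTβ hTg
  have g1 : Good m o2.m₁ := (good_iff_isLE _ o2.mem m (m - 1) (by omega)).2 hCβ
  have g2 : Good m o1.m₃ := by
    refine (good_iff_isLE _ (rot_of_distTriang _ o1.mem) m (m - 1) (by omega)).2 ?_
    exact (TStructure.t).isLE_shift Cα m 1 (m - 1) (by omega)
  refine ⟨CochainComplex.mappingCone γ, min m a', max b b', o2.m₁ ≫ o1.m₃, ?_, ?_, g1.comp g2⟩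
  · intro i hi
    have hi' : (i < m ∧ i < a') ∨ (b < i ∧ b' < i) := by
      rcases hi with hi | hi
      · exact Or.inl (lt_min_iff.1 hi)
      · exact Or.inr (max_lt_iff.1 hi)
    exact isZero_mappingCone_X γ _ (hP0 _ (by omega)) (hP'0 _ (by omega))
  · intro i
    exact hPc_iso _ _ (HomologicalComplex.homotopyCofiber.XIsoBiprod γ i (i + 1)
      (by simp)).symm (hPc_biprod _ _ (hP1 _) (hP'1 _))

/-- two out of three for `m`-pseudo-coherence. -/
theorem IsPC.two_of_three (hPc_proj : ∀ X, Pc X → Projective X)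
    (hPc_biprod : ∀ X Y, Pc X → Pc Y → Pc (X ⊞ Y)) (hPc_iso : ∀ X Y, (X ≅ Y) → Pc X → Pc Y)
    (hPc_zero : ∀ X, IsZero X → Pc X)
    (T : Triangle (DerivedCategory A)) (hT : T ∈ distTriang _) (m : ℤ) :
    (IsPC Pc (m + 1) T.obj₁ → IsPC Pc m T.obj₂ → IsPC Pc m T.obj₃) ∧
      (IsPC Pc m T.obj₁ → IsPC Pc m T.obj₃ → IsPC Pc m T.obj₂) ∧
      (IsPC Pc (m + 1) T.obj₂ → IsPC Pc m T.obj₃ → IsPC Pc (m + 1) T.obj₁) := by
  refine ⟨IsPC.of_triangle₃ hPc_proj hPc_biprod hPc_iso hPc_zero T hT m, fun h1 h3 => ?_,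
    fun h2 h3 => ?_⟩
  · exact IsPC.of_triangle₃ hPc_proj hPc_biprod hPc_iso hPc_zero _ (inv_rot_of_distTriang _ hT) m
      (h3.shift (-1) (m + 1) (by omega)) h1
  · have := IsPC.of_triangle₃ hPc_proj hPc_biprod hPc_iso hPc_zero _ (rot_of_distTriang _ hT) m
      h2 h3
    exact (this.shift (-1) (m + 1) (by omega)).of_iso
      ((shiftFunctorCompIsoId (DerivedCategory A) (1 : ℤ) (-1) (by norm_num)).app T.obj₁)

end Groth.Agent.Lib.Helper16.PC
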