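import Mathlib
import Groth.Prelude.Def_CxOX

/-!
# Helper16 — RS2: restriction of complexes of `O_X`-modules along open immersions
-/

set_option autoImplicit false
universe u
open CategoryTheory CategoryTheory.Limits AlgebraicGeometry

attribute [local instance] HasDerivedCategory.standard

namespace Groth.Agent.Lib.Helper16.RS

variable {X U U' : Scheme.{u}}

/-- restriction of complexes along an open immersion. -/
noncomputable abbrev RCx (j : U ⟶ X) [IsOpenImmersion j] :
    CochainComplex X.Modules ℤ ⥤ CochainComplex U.Modules ℤ :=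
  (Scheme.Modules.restrictFunctor j).mapHomologicalComplex (ComplexShape.up ℤ)

lemma restrictCx_eq (V : X.Opens) : DCoh.restrictCx V = RCx V.ι := rfl

section

variable (j : U ⟶ X) [IsOpenImmersion j]

instance preservesHomology_restrictFunctor :
    (Scheme.Modules.restrictFunctor j).PreservesHomology := inferInstance

instance quasiIso_RCx_map {K L : CochainComplex X.Modules ℤ} (φ : K ⟶ L) [QuasiIso φ] :
    QuasiIso ((RCx j).map φ) := inferInstance

/-- homology commutes with restriction. -/
noncomputable def homologyRCxIso (K : CochainComplex X.Modules ℤ) (i : ℤ) :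
    ((RCx j).obj K).homology i ≅ (Scheme.Modules.restrictFunctor j).obj (K.homology i) :=
  (K.sc i).mapHomologyIso (Scheme.Modules.restrictFunctor j)

lemma isZero_homology_RCx (K : CochainComplex X.Modules ℤ) (i : ℤ) (h : IsZero (K.homology i)) :
    IsZero (((RCx j).obj K).homology i) :=
  IsZero.of_iso ((Scheme.Modules.restrictFunctor j).map_isZero h) (homologyRCxIso j K i)

/-- restriction on derived categories. -/
noncomputable abbrev RD : DCoh.D X ⥤ DCoh.D U :=
  (Scheme.Modules.restrictFunctor j).mapDerivedCategory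

/-- `RD j (Q K) ≅ Q (RCx j K)` -/
noncomputable def RDQIso (K : CochainComplex X.Modules ℤ) :
    (RD j).obj (DerivedCategory.Q.obj K) ≅ DerivedCategory.Q.obj ((RCx j).obj K) :=
  (Scheme.Modules.restrictFunctor j).mapDerivedCategoryFactors.app K

lemma RDQIso_hom_naturality {K L : CochainComplex X.Modules ℤ} (φ : K ⟶ L) :
    (RD j).map (DerivedCategory.Q.map φ) ≫ (RDQIso j L).hom =
      (RDQIso j K).hom ≫ DerivedCategory.Q.map ((RCx j).map φ) :=
  (Scheme.Modules.restrictFunctor j).mapDerivedCategoryFactors.hom.naturality φ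

/-- `Q (F|_U)` only depends on `Q F`. -/
theorem nonempty_iso_Q_RCx {F F' : CochainComplex X.Modules ℤ}
    (e : DerivedCategory.Q.obj F ≅ DerivedCategory.Q.obj F') :
    Nonempty (DerivedCategory.Q.obj ((RCx j).obj F) ≅ DerivedCategory.Q.obj ((RCx j).obj F')) :=
  ⟨(RDQIso j F).symm ≪≫ (RD j).mapIso e ≪≫ RDQIso j F'⟩

end

section Comp

variable (j : U ⟶ X) [IsOpenImmersion j] (k : U' ⟶ U) [IsOpenImmersion k]

/-- transitivity of restriction of complexes. -/
noncomputable def RCxComp : RCx j ⋙ RCx k ≅ RCx (k ≫ j) :=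
  Functor.mapHomologicalComplexCompIso (Scheme.Modules.restrictFunctorComp k j).symm _

lemma RCx_comp_map {E F : CochainComplex X.Modules ℤ} (α : E ⟶ F) :
    (RCx (k ≫ j)).map α =
      (RCxComp j k).inv.app E ≫ (RCx k).map ((RCx j).map α) ≫ (RCxComp j k).hom.app F := by
  have := (RCxComp j k).hom.naturality α
  rw [Functor.comp_map] at this
  rw [this, Iso.inv_hom_id_app_assoc]

theorem nonempty_homotopy_comp {E F : CochainComplex X.Modules ℤ} (α β : E ⟶ F)
    (H : Homotopy ((RCx k).map ((RCx j).map α)) ((RCx k).map ((RCx j).map β))) :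
    Nonempty (Homotopy ((RCx (k ≫ j)).map α) ((RCx (k ≫ j)).map β)) := by
  rw [RCx_comp_map, RCx_comp_map j k β]
  exact ⟨(H.compRight _).compLeft _⟩

theorem nonempty_homotopy_of_fac {j' : U' ⟶ X} [IsOpenImmersion j'] (h : k ≫ j = j')
    {E F : CochainComplex X.Modules ℤ} (α β : E ⟶ F)
    (H : Homotopy ((RCx j).map α) ((RCx j).map β)) :
    Nonempty (Homotopy ((RCx j').map α) ((RCx j').map β)) := by
  subst h
  exact nonempty_homotopy_comp j k α β ((Scheme.Modules.restrictFunctor k).mapHomotopy H)

/-- `Q((F|_U)|_{U'}) ≅ Q(F|_{U'})` -/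
noncomputable def QRCxCompIso (F : CochainComplex X.Modules ℤ) :
    DerivedCategory.Q.obj ((RCx k).obj ((RCx j).obj F)) ≅
      DerivedCategory.Q.obj ((RCx (k ≫ j)).obj F) :=
  DerivedCategory.Q.mapIso ((RCxComp j k).app F)

end Comp

/-- passing from an open of an open to an open of `X`: homotopies. -/
theorem nonempty_homotopy_image (V : X.Opens) (W : (V : Scheme.{u}).Opens)
    {E F : CochainComplex X.Modules ℤ} (α β : E ⟶ F)
    (H : Homotopy ((RCx W.ι).map ((RCx V.ι).map α)) ((RCx W.ι).map ((RCx V.ι).map β))) :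
    Nonempty (Homotopy ((RCx (V.ι ''ᵁ W).ι).map α) ((RCx (V.ι ''ᵁ W).ι).map β)) := by
  obtain ⟨H'⟩ := nonempty_homotopy_comp V.ι W.ι α β H
  exact nonempty_homotopy_of_fac (W.ι ≫ V.ι) (V.ι.isoImage W).inv
    (by simp) α β H'

end Groth.Agent.Lib.Helper16.RS
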