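import Mathlib
import Groth.Prelude.Def_CxOX
import Groth.Agent.Lib.Helper16.RS2

/-!
# Helper16 — RS3: finite locally free modules and strictly perfect complexes restrict
-/

set_option autoImplicit false
universe u
open CategoryTheory CategoryTheory.Limits AlgebraicGeometry

namespace Groth.Agent.Lib.Helper16.RS

variable {X U U' : Scheme.{u}}

/-- the restriction of a free module is free. -/
noncomputable def restrictFreeModIso (k : U' ⟶ U) [IsOpenImmersion k] (n : ℕ) :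
    (Scheme.Modules.restrictFunctor k).obj (FlatMod.freeMod U n) ≅ FlatMod.freeMod U' n :=
  PreservesCoproduct.iso (Scheme.Modules.restrictFunctor k) _ ≪≫
    Sigma.mapIso (fun _ => Scheme.Modules.restrictUnitIso k)

theorem isFinLocFree_of_iso {M N : X.Modules} (e : M ≅ N) (hM : FlatMod.IsFinLocFree M) :
    FlatMod.IsFinLocFree N := by
  intro x
  obtain ⟨V, n, hx, ⟨i⟩⟩ := hM x
  exact ⟨V, n, hx, ⟨(Scheme.Modules.restrictFunctor V.ι).mapIso e.symm ≪≫ i⟩⟩

theorem isFinLocFree_restrict (j : U ⟶ X) [IsOpenImmersion j] (M : X.Modules)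
    (hM : FlatMod.IsFinLocFree M) : FlatMod.IsFinLocFree ((Scheme.Modules.restrictFunctor j).obj M) := by
  intro x
  obtain ⟨V₀, n, hx, ⟨e⟩⟩ := hM (j x)
  refine ⟨j ⁻¹ᵁ V₀, n, hx, ⟨?_⟩⟩
  exact (Scheme.Modules.restrictFunctorComp (j ⁻¹ᵁ V₀).ι j).symm.app M ≪≫
    (Scheme.Modules.restrictFunctorCongr (morphismRestrict_ι j V₀).symm).app M ≪≫
    (Scheme.Modules.restrictFunctorComp (j ∣_ V₀) V₀.ι).app M ≪≫
    (Scheme.Modules.restrictFunctor (j ∣_ V₀)).mapIso e ≪≫ restrictFreeModIso (j ∣_ V₀) n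

theorem isFinLocFree_freeMod (n : ℕ) : FlatMod.IsFinLocFree (FlatMod.freeMod X n) :=
  fun x => ⟨⊤, n, trivial, ⟨restrictFreeModIso _ n⟩⟩

theorem isStrictlyPerfect_RCx (j : U ⟶ X) [IsOpenImmersion j] (E : CochainComplex X.Modules ℤ)
    (hE : DCoh.IsStrictlyPerfect E) : DCoh.IsStrictlyPerfect ((RCx j).obj E) := by
  obtain ⟨⟨a, b, hab⟩, hfree⟩ := hE
  refine ⟨⟨a, b, fun i hi => ?_⟩, fun i => isFinLocFree_restrict j _ (hfree i)⟩
  exact (Scheme.Modules.restrictFunctor j).map_isZero (hab i hi)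

theorem isStrictlyPerfect_of_iso {E E' : CochainComplex X.Modules ℤ} (e : E ≅ E')
    (hE : DCoh.IsStrictlyPerfect E) : DCoh.IsStrictlyPerfect E' := by
  obtain ⟨⟨a, b, hab⟩, hfree⟩ := hE
  refine ⟨⟨a, b, fun i hi => ?_⟩, fun i => ?_⟩
  · exact IsZero.of_iso (hab i hi) ((HomologicalComplex.eval _ _ i).mapIso e.symm)
  · exact isFinLocFree_of_iso ((HomologicalComplex.eval _ _ i).mapIso e) (hfree i)

end Groth.Agent.Lib.Helper16.RS
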