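import Mathlib
import Groth.Prelude.Def_CxOX
import Groth.Agent.Lib.Helper16.RS3

/-!
# Helper16 — RS10: "`F|_U` is represented by a complex with property `Pr`", and perfect objects
-/

set_option autoImplicit false
universe u
open CategoryTheory CategoryTheory.Limits AlgebraicGeometry

attribute [local instance] HasDerivedCategory.standard

namespace Groth.Agent.Lib.Helper16.RS

/-- a property of complexes of modules on all schemes which is stable under restriction to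
open subschemes. -/
structure RProp where
  P : ∀ (U : Scheme.{u}), CochainComplex U.Modules ℤ → Prop
  restrict : ∀ {U U' : Scheme.{u}} (k : U' ⟶ U) [IsOpenImmersion k] (E : CochainComplex U.Modules ℤ),
    P U E → P U' ((RCx k).obj E)

/-- strictly perfect complexes. -/
def spProp : RProp.{u} where
  P _ E := DCoh.IsStrictlyPerfect E
  restrict k _ E hE := isStrictlyPerfect_RCx k E hE

variable {X U U' : Scheme.{u}}

/-- bounded complexes of finite free modules. -/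
def IsBoundedFree (E : CochainComplex X.Modules ℤ) : Prop :=
  ∃ a b : ℤ, DCoh.VanishesOutside E a b ∧ ∀ i : ℤ, ∃ n : ℕ, Nonempty (E.X i ≅ FlatMod.freeMod X n)

def bfProp : RProp.{u} where
  P _ E := IsBoundedFree E
  restrict k _ E hE := by
    obtain ⟨a, b, hab, hfree⟩ := hE
    refine ⟨a, b, fun i hi => (Scheme.Modules.restrictFunctor k).map_isZero (hab i hi), fun i => ?_⟩
    obtain ⟨n, ⟨e⟩⟩ := hfree i
    exact ⟨n, ⟨(Scheme.Modules.restrictFunctor k).mapIso e ≪≫ restrictFreeModIso k n⟩⟩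

variable (Pr : RProp.{u})

/-- `F|_U` is isomorphic in `D(O_U)` to a complex with property `Pr`. -/
def IsOn (j : U ⟶ X) [IsOpenImmersion j] (F : CochainComplex X.Modules ℤ) : Prop :=
  ∃ E : CochainComplex U.Modules ℤ, Pr.P U E ∧
    Nonempty (DerivedCategory.Q.obj ((RCx j).obj F) ≅ DerivedCategory.Q.obj E)

variable {Pr}

lemma IsOn.comp {j : U ⟶ X} [IsOpenImmersion j] {F : CochainComplex X.Modules ℤ}
    (h : IsOn Pr j F) (k : U' ⟶ U) [IsOpenImmersion k] : IsOn Pr (k ≫ j) F := by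
  obtain ⟨E, hE, ⟨e⟩⟩ := h
  obtain ⟨e'⟩ := nonempty_iso_Q_RCx k e
  exact ⟨(RCx k).obj E, Pr.restrict k E hE, ⟨(QRCxCompIso j k F).symm ≪≫ e'⟩⟩

lemma IsOn.of_fac {j : U ⟶ X} [IsOpenImmersion j] {F : CochainComplex X.Modules ℤ}
    (h : IsOn Pr j F) (k : U' ⟶ U) [IsOpenImmersion k] (j' : U' ⟶ X) [IsOpenImmersion j']
    (hk : k ≫ j = j') : IsOn Pr j' F := by
  subst hk
  exact h.comp k

lemma IsOn.of_le {F : CochainComplex X.Modules ℤ} {V W : X.Opens} (hWV : W ≤ V)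
    (h : IsOn Pr V.ι F) : IsOn Pr W.ι F :=
  h.of_fac (X.homOfLE hWV) W.ι (X.homOfLE_ι hWV)

lemma IsOn.of_iso_Q {j : U ⟶ X} [IsOpenImmersion j] {F F' : CochainComplex X.Modules ℤ}
    (e : DerivedCategory.Q.obj F ≅ DerivedCategory.Q.obj F') (h : IsOn Pr j F) : IsOn Pr j F' := by
  obtain ⟨E, hE, ⟨e₁⟩⟩ := h
  obtain ⟨e₂⟩ := nonempty_iso_Q_RCx j e
  exact ⟨E, hE, ⟨e₂.symm ≪≫ e₁⟩⟩

lemma IsOn.image {F : CochainComplex X.Modules ℤ} (V : X.Opens) (W : (V : Scheme.{u}).Opens)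
    (h : IsOn Pr W.ι ((RCx V.ι).obj F)) : IsOn Pr (V.ι ''ᵁ W).ι F := by
  obtain ⟨E, hE, ⟨e⟩⟩ := h
  have h1 : IsOn Pr (W.ι ≫ V.ι) F := ⟨E, hE, ⟨(QRCxCompIso V.ι W.ι F).symm ≪≫ e⟩⟩
  exact h1.of_fac (V.ι.isoImage W).inv _ (by simp)

/-- a change of the property, after restricting to a smaller open. -/
lemma IsOn.refine {Pr' : RProp.{u}} {F : CochainComplex X.Modules ℤ} (V : X.Opens) (x : X)
    (hx : x ∈ V) (h : IsOn Pr V.ι F)
    (href : ∀ E : CochainComplex (V : Scheme.{u}).Modules ℤ, Pr.P V E →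
      ∃ W : (V : Scheme.{u}).Opens, (⟨x, hx⟩ : V) ∈ W ∧ Pr'.P W ((RCx W.ι).obj E)) :
    ∃ V' : X.Opens, x ∈ V' ∧ V' ≤ V ∧ IsOn Pr' V'.ι F := by
  obtain ⟨E, hE, ⟨e⟩⟩ := h
  obtain ⟨W, hxW, hW⟩ := href E hE
  obtain ⟨e'⟩ := nonempty_iso_Q_RCx W.ι e
  refine ⟨V.ι ''ᵁ W, ⟨⟨x, hx⟩, hxW, rfl⟩, V.ι_image_le W, ?_⟩
  exact IsOn.image V W ⟨_, hW, ⟨e'⟩⟩

theorem isPerfect_iff_isOn (K : DCoh.D X) (F₀ : CochainComplex X.Modules ℤ)
    (e₀ : DerivedCategory.Q.obj F₀ ≅ K) :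
    DCoh.IsPerfect K ↔ ∀ x : X, ∃ V : X.Opens, x ∈ V ∧ IsOn spProp V.ι F₀ := by
  constructor
  · intro h x
    obtain ⟨V, hx, hV⟩ := h x
    exact ⟨V, hx, hV F₀ ⟨e₀⟩⟩
  · intro h x
    obtain ⟨V, hx, hV⟩ := h x
    refine ⟨V, hx, ?_⟩
    rintro F ⟨eF⟩
    exact hV.of_iso_Q (e₀ ≪≫ eF.symm)

lemma exists_rep (K : DCoh.D X) :
    ∃ F₀ : CochainComplex X.Modules ℤ, Nonempty (DerivedCategory.Q.obj F₀ ≅ K) :=
  ⟨DerivedCategory.Q.objPreimage K, ⟨DerivedCategory.Q.objObjPreimageIso K⟩⟩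

end Groth.Agent.Lib.Helper16.RS
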