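import Mathlib
import Groth.Prelude.Def_CxOX
import Groth.Agent.Lib.Helper16.RS10

/-!
# Helper16 — RS11: perfect objects are locally bounded complexes of finite free modules
-/

set_option autoImplicit false
universe u
open CategoryTheory CategoryTheory.Limits AlgebraicGeometry

attribute [local instance] HasDerivedCategory.standard

namespace Groth.Agent.Lib.Helper16.RS

variable {X : Scheme.{u}}

lemma mem_finset_inf {α : Type*} [TopologicalSpace α] {ι : Type*} (s : Finset ι)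
    (f : ι → TopologicalSpace.Opens α) (y : α) (h : ∀ i ∈ s, y ∈ f i) : y ∈ s.inf f := by
  classical
  induction s using Finset.induction_on with
  | empty => simp
  | insert i s hi ih =>
    rw [Finset.inf_insert]
    exact ⟨h i (Finset.mem_insert_self i s), ih (fun j hj => h j (Finset.mem_insert_of_mem hj))⟩

lemma restrict_free_of_le (M : X.Modules) {A B : X.Opens} (h : B ≤ A) (n : ℕ)
    (e : M.restrict A.ι ≅ FlatMod.freeMod (A : Scheme.{u}) n) :
    Nonempty (M.restrict B.ι ≅ FlatMod.freeMod (B : Scheme.{u}) n) :=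
  ⟨(Scheme.Modules.restrictFunctorCongr (X.homOfLE_ι h).symm).app M ≪≫
    (Scheme.Modules.restrictFunctorComp (X.homOfLE h) A.ι).app M ≪≫
    (Scheme.Modules.restrictFunctor (X.homOfLE h)).mapIso e ≪≫ restrictFreeModIso _ n⟩

lemma isZero_freeMod_zero : IsZero (FlatMod.freeMod X 0) :=
  IsInitial.isZero ((isColimitEquivIsInitialOfIsEmpty _ _) (colimit.isColimit _))

/-- a strictly perfect complex is, near a given point, a bounded complex of finite free
modules. -/
theorem exists_isBoundedFree_restrict (E : CochainComplex X.Modules ℤ)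
    (hE : DCoh.IsStrictlyPerfect E) (y : X) :
    ∃ W : X.Opens, y ∈ W ∧ IsBoundedFree ((RCx W.ι).obj E) := by
  obtain ⟨⟨a, b, hab⟩, hfree⟩ := hE
  choose Wf nf hy ef using fun i => hfree i y
  refine ⟨(Finset.Icc a b).inf Wf, mem_finset_inf _ _ _ (fun i _ => hy i), a, b,
    fun i hi => (Scheme.Modules.restrictFunctor _).map_isZero (hab i hi), fun i => ?_⟩
  by_cases hi : i ∈ Finset.Icc a b
  · obtain ⟨e⟩ := restrict_free_of_le (E.X i) (Finset.inf_le hi : (Finset.Icc a b).inf Wf ≤ Wf i)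
      (nf i) (ef i).some
    exact ⟨nf i, ⟨e⟩⟩
  · refine ⟨0, ⟨IsZero.iso ((Scheme.Modules.restrictFunctor _).map_isZero (hab i ?_))
      isZero_freeMod_zero⟩⟩
    rw [Finset.mem_Icc] at hi
    omega

lemma isStrictlyPerfect_of_isBoundedFree (P : CochainComplex X.Modules ℤ) (h : IsBoundedFree P) :
    DCoh.IsStrictlyPerfect P := by
  obtain ⟨a, b, hab, hfree⟩ := h
  refine ⟨⟨a, b, hab⟩, fun i => ?_⟩
  obtain ⟨n, ⟨e⟩⟩ := hfree i
  exact isFinLocFree_of_iso e.symm (isFinLocFree_freeMod n)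

/-- **perfect objects are locally bounded complexes of finite free modules.** -/
theorem isPerfect_iff_locally_bounded_free (E : DCoh.D X) :
    DCoh.IsPerfect E ↔ ∀ x : X, ∃ V : X.Opens, x ∈ V ∧
      ∀ F : CochainComplex X.Modules ℤ, Nonempty (DCoh.toD X F ≅ E) →
        ∃ (P : CochainComplex (V : Scheme.{u}).Modules ℤ) (a b : ℤ), DCoh.VanishesOutside P a b ∧
          (∀ i : ℤ, ∃ n : ℕ, Nonempty (P.X i ≅ FlatMod.freeMod (V : Scheme.{u}) n)) ∧
          Nonempty (DerivedCategory.Q.obj ((DCoh.restrictCx V).obj F) ≅ DerivedCategory.Q.obj P) := by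
  constructor
  · intro h x
    obtain ⟨F₀, ⟨e₀⟩⟩ := exists_rep E
    obtain ⟨V, hx, hV⟩ := (isPerfect_iff_isOn E F₀ e₀).1 h x
    obtain ⟨V', hx', -, hV'⟩ := IsOn.refine (Pr' := bfProp) V x hx hV
      (fun E₁ hE₁ => exists_isBoundedFree_restrict E₁ hE₁ ⟨x, hx⟩)
    refine ⟨V', hx', ?_⟩
    rintro F ⟨eF⟩
    obtain ⟨P, ⟨a, b, hab, hfree⟩, hP⟩ := hV'.of_iso_Q (e₀ ≪≫ eF.symm)
    exact ⟨P, a, b, hab, hfree, hP⟩
  · intro h x
    obtain ⟨V, hx, hV⟩ := h x
    refine ⟨V, hx, ?_⟩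
    intro F hF
    obtain ⟨P, a, b, hab, hfree, hP⟩ := hV F hF
    exact ⟨P, isStrictlyPerfect_of_isBoundedFree P ⟨a, b, hab, hfree⟩, hP⟩

end Groth.Agent.Lib.Helper16.RS
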