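import Mathlib
import Groth.Prelude.Def_CxOX
import Groth.Agent.Lib.Helper16.RS3
import Groth.Agent.S0934

/-!
# Helper16 — RS4: a map from a strictly perfect complex to a complex acyclic in the relevant
degrees is locally null-homotopic
-/

set_option autoImplicit false
universe u
open CategoryTheory CategoryTheory.Limits AlgebraicGeometry

namespace Groth.Agent.Lib.Helper16.RS

section OneHom

variable {C : Type*} [Category C] [Preadditive C] (K L : CochainComplex C ℤ) (c c' : ℤ)
  (ψ : K.X c ⟶ L.X c')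

/-- a single map `K^c ⟶ L^{c'}` seen as a family of maps. -/
noncomputable def oneHom (i j : ℤ) : K.X i ⟶ L.X j :=
  if h : i = c ∧ j = c' then eqToHom (by rw [h.1]) ≫ ψ ≫ eqToHom (by rw [h.2]) else 0

lemma oneHom_self : oneHom K L c c' ψ c c' = ψ := by simp [oneHom]

lemma oneHom_of_ne (i j : ℤ) (h : ¬ (i = c ∧ j = c')) : oneHom K L c c' ψ i j = 0 := dif_neg h

/-- the null-homotopic map with homotopy `ψ`. -/
noncomputable def oneMap : K ⟶ L := Homotopy.nullHomotopicMap (oneHom K L c c' ψ)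

/-- the null-homotopy. -/
noncomputable def oneHomotopy (hc : c' + 1 = c) : Homotopy (oneMap K L c c' ψ) 0 :=
  Homotopy.nullHomotopy _ (fun i j hij => oneHom_of_ne K L c c' ψ i j (fun h => hij (by
    change j + 1 = i
    rw [h.1, h.2, hc])))

lemma oneMap_f_self (hc : c' + 1 = c) : (oneMap K L c c' ψ).f c = ψ ≫ L.d c' c := by
  unfold oneMap
  rw [Homotopy.nullHomotopicMap_f (c := ComplexShape.up ℤ) (k₂ := c') (k₁ := c) (k₀ := c + 1)
    (by change c' + 1 = c; exact hc) (by change c + 1 = c + 1; rfl),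
    oneHom_self, oneHom_of_ne K L c c' ψ (c + 1) c (fun h => by omega), comp_zero, zero_add]

lemma oneMap_f_of_gt (i : ℤ) (hi : c < i) : (oneMap K L c c' ψ).f i = 0 := by
  unfold oneMap
  rw [Homotopy.nullHomotopicMap_f (c := ComplexShape.up ℤ) (k₂ := i - 1) (k₁ := i) (k₀ := i + 1)
    (by change i - 1 + 1 = i; omega) (by change i + 1 = i + 1; rfl),
    oneHom_of_ne K L c c' ψ (i + 1) i (fun h => by omega),
    oneHom_of_ne K L c c' ψ i (i - 1) (fun h => by omega), comp_zero, zero_comp, zero_add]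

end OneHom

lemma eq_zero_of_lt {X : Scheme.{u}} {E F : CochainComplex X.Modules ℤ} (α : E ⟶ F) (a c : ℤ)
    (hca : c < a) (hEa : ∀ i : ℤ, i < a → IsZero (E.X i)) (hα : ∀ i : ℤ, c < i → α.f i = 0) :
    α = 0 := by
  apply HomologicalComplex.hom_ext
  intro i
  by_cases hi : c < i
  · rw [hα i hi]; rfl
  · exact (hEa i (by omega)).eq_of_src _ _

theorem locally_nullhomotopic_aux (n : ℕ) : ∀ {X : Scheme.{u}} {E F : CochainComplex X.Modules ℤ}
    (α : E ⟶ F) (a c : ℤ), c < a + n → (∀ i : ℤ, FlatMod.IsFinLocFree (E.X i)) →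
    (∀ i : ℤ, i < a → IsZero (E.X i)) → (∀ i : ℤ, a ≤ i → IsZero (F.homology i)) →
    (∀ i : ℤ, c < i → α.f i = 0) → ∀ x : X,
      ∃ V : X.Opens, x ∈ V ∧ Nonempty (Homotopy ((RCx V.ι).map α) 0) := by
  induction n with
  | zero =>
    intro X E F α a c hc hfree hEa hF hα x
    have h0 : α = 0 := eq_zero_of_lt α a c (by simpa using hc) hEa hα
    exact ⟨⊤, trivial, ⟨Homotopy.ofEq (by rw [h0, Functor.map_zero])⟩⟩
  | succ n ih =>
    intro X E F α a c hc hfree hEa hF hα x
    by_cases hca : c < a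
    · have h0 : α = 0 := eq_zero_of_lt α a c hca hEa hα
      exact ⟨⊤, trivial, ⟨Homotopy.ofEq (by rw [h0, Functor.map_zero])⟩⟩
    · have hac : a ≤ c := not_lt.1 hca
      have hd : α.f c ≫ F.d c (c + 1) = 0 := by
        rw [α.comm, hα (c + 1) (by omega), comp_zero]
      -- exactness of `F` at `c`
      have hex : (F.sc' (c - 1) c (c + 1)).Exact :=
        (F.exactAt_iff' (c - 1) c (c + 1) (by simp) (by simp)).1
          ((F.exactAt_iff_isZero_homology c).2 (hF c hac))
      haveI hepi : Epi (kernel.lift (F.d c (c + 1)) (F.d (c - 1) c) (F.d_comp_d _ _ _)) :=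
        (ShortComplex.exact_iff_epi_kernel_lift _).1 hex
      obtain ⟨V, ψ, hxV, hψ⟩ := Groth.Agent.S0934.result
        (kernel.lift (F.d c (c + 1)) (F.d (c - 1) c) (F.d_comp_d _ _ _))
        (kernel.lift (F.d c (c + 1)) (α.f c) hd) (hfree c) x
      have hψ' : ψ ≫ (Scheme.Modules.restrictFunctor V.ι).map (F.d (c - 1) c) =
          (Scheme.Modules.restrictFunctor V.ι).map (α.f c) := by
        have h1 := congrArg (fun t => t ≫ (Scheme.Modules.restrictFunctor V.ι).map
          (kernel.ι (F.d c (c + 1)))) hψ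
        simp only [Category.assoc, ← Functor.map_comp, kernel.lift_ι] at h1
        exact h1
      -- the corrected map on `V`
      let E' := (RCx V.ι).obj E
      let F' := (RCx V.ι).obj F
      let ν : E' ⟶ F' := oneMap E' F' c (c - 1) ψ
      let α₁ : E' ⟶ F' := (RCx V.ι).map α - ν
      have hα₁ : ∀ i : ℤ, c - 1 < i → α₁.f i = 0 := by
        intro i hi
        change ((RCx V.ι).map α).f i - ν.f i = 0
        by_cases hic : i = c
        · subst hic
          rw [oneMap_f_self E' F' i (i - 1) ψ (by omega)]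
          change (Scheme.Modules.restrictFunctor V.ι).map (α.f i) -
            ψ ≫ (Scheme.Modules.restrictFunctor V.ι).map (F.d (i - 1) i) = 0
          rw [hψ', sub_self]
        · rw [oneMap_f_of_gt E' F' c (c - 1) ψ i (by omega)]
          change (Scheme.Modules.restrictFunctor V.ι).map (α.f i) - 0 = 0
          rw [hα i (by omega), Functor.map_zero, sub_zero]
      obtain ⟨W, hxW, ⟨H₁⟩⟩ := ih (X := (V : Scheme.{u})) α₁ a (c - 1) (by omega)
        (fun i => isFinLocFree_restrict V.ι _ (hfree i))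
        (fun i hi => (Scheme.Modules.restrictFunctor V.ι).map_isZero (hEa i hi))
        (fun i hi => isZero_homology_RCx V.ι F i (hF i hi)) hα₁ ⟨x, hxV⟩
      have H₂ : Homotopy ((RCx W.ι).map ((RCx V.ι).map α)) ((RCx W.ι).map ((RCx V.ι).map 0)) := by
        have e1 : (RCx V.ι).map α = α₁ + ν := by simp [α₁]
        refine (Homotopy.ofEq ?_).trans ((H₁.add ((Scheme.Modules.restrictFunctor W.ι).mapHomotopy
          (oneHomotopy E' F' c (c - 1) ψ (by omega)))).trans (Homotopy.ofEq ?_))
        · rw [e1, Functor.map_add]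
        · simp
      obtain ⟨H₃⟩ := nonempty_homotopy_image V W α 0 H₂
      refine ⟨V.ι ''ᵁ W, ⟨⟨x, hxV⟩, hxW, rfl⟩, ⟨H₃.trans (Homotopy.ofEq ?_)⟩⟩
      rw [Functor.map_zero]

end Groth.Agent.Lib.Helper16.RS
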