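import Mathlib
import Groth.Prelude.Def_CxOX
import Groth.Agent.Lib.Helper16.RS4

/-!
# Helper16 — RS5: lifting maps from strictly perfect complexes through "quasi-isomorphisms in
degrees `> a`", locally
-/

set_option autoImplicit false
universe u
open CategoryTheory CategoryTheory.Limits AlgebraicGeometry CategoryTheory.Pretriangulated

namespace Groth.Agent.Lib.Helper16.RS

open CochainComplex

section Generic

variable {C : Type*} [Category C] [Preadditive C] [HasBinaryBiproducts C] [HasZeroObject C]

/-- if `α ≫ inr f` is null-homotopic, then `α` factors through `f` up to homotopy. -/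
theorem exists_lift_of_homotopy_inr {E G F : CochainComplex C ℤ} (α : E ⟶ F) (f : G ⟶ F)
    (H : Homotopy (α ≫ mappingCone.inr f) 0) :
    ∃ β : E ⟶ G, Nonempty (Homotopy (β ≫ f) α) := by
  let q := HomotopyCategory.quotient C (ComplexShape.up ℤ)
  have h0 : q.map α ≫ (mappingCone.triangleh f).mor₂ = 0 := by
    change q.map α ≫ q.map (mappingCone.inr f) = 0
    rw [← q.map_comp, HomotopyCategory.eq_of_homotopy _ _ H, q.map_zero]
  obtain ⟨β', hβ'⟩ := Triangle.coyoneda_exact₂ _
    (HomotopyCategory.mappingCone_triangleh_distinguished f) (q.map α) h0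
  obtain ⟨β, hβ⟩ : ∃ β : E ⟶ G, q.map β = β' := q.map_surjective β'
  refine ⟨β, ⟨HomotopyCategory.homotopyOfEq _ _ ?_⟩⟩
  change q.map (β ≫ f) = q.map α
  rw [q.map_comp, hβ]
  exact hβ'.symm

end Generic

section Abelian

variable {A : Type*} [Category A] [Abelian A]

lemma epi_map_iff_of_natIso {B : Type*} [Category B] {F₁ F₂ : B ⥤ A} (e : F₁ ≅ F₂) {K L : B}
    (f : K ⟶ L) : Epi (F₁.map f) ↔ Epi (F₂.map f) := by
  constructor
  · intro h
    have : F₂.map f = e.inv.app K ≫ F₁.map f ≫ e.hom.app L := by simp
    rw [this]; infer_instance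
  · intro h
    have : F₁.map f = e.hom.app K ≫ F₂.map f ≫ e.inv.app L := by simp
    rw [this]; infer_instance

variable [HasDerivedCategory A]

/-- if `f` induces isomorphisms on `H^j` for `j > a` and an epimorphism on `H^a`, the mapping
cone of `f` is acyclic in degrees `≥ a`. -/
theorem isZero_homology_mappingCone_of_ge {G F : CochainComplex A ℤ} (f : G ⟶ F) (a : ℤ)
    (hf : ∀ j : ℤ, a < j → IsIso (HomologicalComplex.homologyMap f j))
    (hfa : Epi (HomologicalComplex.homologyMap f a)) (i : ℤ) (hi : a ≤ i) :
    IsZero ((mappingCone f).homology i) := by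
  let T := DerivedCategory.Q.mapTriangle.obj (mappingCone.triangle f)
  have hT : T ∈ distTriang (DerivedCategory A) :=
    DerivedCategory.mappingCone_triangle_distinguished f
  have hepi : ∀ j : ℤ, a ≤ j →
      Epi ((DerivedCategory.homologyFunctor A j).map (DerivedCategory.Q.map f)) := by
    intro j hj
    have h1 : Epi (HomologicalComplex.homologyMap f j) := by
      rcases hj.lt_or_eq with h | h
      · haveI := hf j h; infer_instance
      · subst h; exact hfa
    exact (epi_map_iff_of_natIso (DerivedCategory.homologyFunctorFactors A j) f).2 h1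
  have hiso : ∀ j : ℤ, a < j →
      IsIso ((DerivedCategory.homologyFunctor A j).map (DerivedCategory.Q.map f)) := by
    intro j hj
    exact (NatIso.isIso_map_iff (DerivedCategory.homologyFunctorFactors A j) f).2 (hf j hj)
  have e := DerivedCategory.HomologySequence.exact₃ T hT i (i + 1) rfl
  refine IsZero.of_iso (e.isZero_X₂ ?_ ?_) ((DerivedCategory.homologyFunctorFactors A i).app _).symm
  · haveI : Epi ((DerivedCategory.homologyFunctor A i).map T.mor₁) := hepi i hi
    have hz : (DerivedCategory.homologyFunctor A i).map T.mor₁ ≫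
        (DerivedCategory.homologyFunctor A i).map T.mor₂ = 0 := by
      rw [← Functor.map_comp, comp_distTriang_mor_zero₁₂ _ hT, Functor.map_zero]
    exact (cancel_epi ((DerivedCategory.homologyFunctor A i).map T.mor₁)).1
      (by rw [hz, comp_zero])
  · haveI : IsIso ((DerivedCategory.homologyFunctor A (i + 1)).map T.mor₁) :=
      hiso (i + 1) (by omega)
    have hz := DerivedCategory.HomologySequence.δ_comp T hT i (i + 1) rfl
    exact (cancel_mono ((DerivedCategory.homologyFunctor A (i + 1)).map T.mor₁)).1
      (by rw [hz, zero_comp])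

end Abelian

attribute [local instance] HasDerivedCategory.standard

/-- **local lifting through a map which is an isomorphism on `H^j`, `j > a`, and an epimorphism
on `H^a`.** -/
theorem locally_lift {X : Scheme.{u}} {E F G : CochainComplex X.Modules ℤ}
    (α : E ⟶ F) (f : G ⟶ F) (hE : DCoh.IsStrictlyPerfect E) (a : ℤ)
    (hEa : ∀ j : ℤ, j < a → IsZero (E.X j))
    (hf : ∀ j : ℤ, a < j → IsIso (HomologicalComplex.homologyMap f j))
    (hfa : Epi (HomologicalComplex.homologyMap f a)) (x : X) :
    ∃ (V : X.Opens) (β : (RCx V.ι).obj E ⟶ (RCx V.ι).obj G), x ∈ V ∧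
      Nonempty (Homotopy (β ≫ (RCx V.ι).map f) ((RCx V.ι).map α)) := by
  obtain ⟨⟨a', b, hab⟩, hfree⟩ := hE
  obtain ⟨V, hxV, ⟨H⟩⟩ := locally_nullhomotopic_aux (b - a + 1).toNat (α ≫ mappingCone.inr f) a b
    (by have := Int.self_le_toNat (b - a + 1); omega) hfree hEa
    (isZero_homology_mappingCone_of_ge f a hf hfa)
    (fun i hi => (hab i (Or.inr hi)).eq_of_src _ _) x
  have H' : Homotopy ((RCx V.ι).map α ≫ mappingCone.inr ((RCx V.ι).map f)) 0 := by
    refine (Homotopy.ofEq ?_).trans ((H.compRight
      (mappingCone.mapHomologicalComplexIso f (Scheme.Modules.restrictFunctor V.ι)).hom).trans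
      (Homotopy.ofEq zero_comp))
    rw [Functor.map_comp, Category.assoc, mappingCone.map_inr]
  obtain ⟨β, hβ⟩ := exists_lift_of_homotopy_inr _ _ H'
  exact ⟨V, β, hxV, hβ⟩

end Groth.Agent.Lib.Helper16.RS
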