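import Mathlib
import Groth.Prelude.Def_CxOX
import Groth.Agent.Lib.Helper16.RS11
import Groth.Agent.Lib.Helper16.RS5
import Groth.Agent.S0944

/-!
# Helper16 — RS12: mapping cones and shifts of strictly perfect complexes
-/

set_option autoImplicit false
universe u
open CategoryTheory CategoryTheory.Limits AlgebraicGeometry

attribute [local instance] HasDerivedCategory.standard

namespace Groth.Agent.Lib.Helper16.RS

variable {X : Scheme.{u}}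

section Free

variable (X) (n₁ n₂ : ℕ)

/-- `O^{n₁} ⊕ O^{n₂} ⟶ O^{n₁ + n₂}`. -/
noncomputable def freeModBiprodHom :
    FlatMod.freeMod X n₁ ⊞ FlatMod.freeMod X n₂ ⟶ FlatMod.freeMod X (n₁ + n₂) :=
  biprod.desc
    (Sigma.desc fun a => Sigma.ι (fun _ : Fin (n₁ + n₂) => Coh.structureModule X) (Fin.castAdd n₂ a))
    (Sigma.desc fun b => Sigma.ι (fun _ : Fin (n₁ + n₂) => Coh.structureModule X) (Fin.natAdd n₁ b))

/-- `O^{n₁ + n₂} ⟶ O^{n₁} ⊕ O^{n₂}`. -/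
noncomputable def freeModBiprodInv :
    FlatMod.freeMod X (n₁ + n₂) ⟶ FlatMod.freeMod X n₁ ⊞ FlatMod.freeMod X n₂ :=
  Sigma.desc (Fin.addCases
    (fun a => Sigma.ι (fun _ : Fin n₁ => Coh.structureModule X) a ≫ biprod.inl)
    (fun b => Sigma.ι (fun _ : Fin n₂ => Coh.structureModule X) b ≫ biprod.inr))

/-- `O^{n₁} ⊕ O^{n₂} ≅ O^{n₁ + n₂}`. -/
noncomputable def freeModBiprodIso :
    FlatMod.freeMod X n₁ ⊞ FlatMod.freeMod X n₂ ≅ FlatMod.freeMod X (n₁ + n₂) where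
  hom := freeModBiprodHom X n₁ n₂
  inv := freeModBiprodInv X n₁ n₂
  hom_inv_id := by
    apply biprod.hom_ext'
    · apply Sigma.hom_ext
      intro a
      simp [freeModBiprodHom, freeModBiprodInv]
    · apply Sigma.hom_ext
      intro b
      simp [freeModBiprodHom, freeModBiprodInv]
  inv_hom_id := by
    apply Sigma.hom_ext
    intro i
    refine Fin.addCases (fun a => ?_) (fun b => ?_) i
    · simp [freeModBiprodHom, freeModBiprodInv]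
    · simp [freeModBiprodHom, freeModBiprodInv]

end Free

attribute [local instance] preservesBinaryBiproducts_of_preservesBinaryCoproducts in
theorem isFinLocFree_biprod (M N : X.Modules) (hM : FlatMod.IsFinLocFree M)
    (hN : FlatMod.IsFinLocFree N) : FlatMod.IsFinLocFree (M ⊞ N) := by
  intro x
  obtain ⟨V₁, n₁, hx₁, ⟨e₁⟩⟩ := hM x
  obtain ⟨V₂, n₂, hx₂, ⟨e₂⟩⟩ := hN x
  obtain ⟨e₁'⟩ := restrict_free_of_le M (inf_le_left : V₁ ⊓ V₂ ≤ V₁) n₁ e₁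
  obtain ⟨e₂'⟩ := restrict_free_of_le N (inf_le_right : V₁ ⊓ V₂ ≤ V₂) n₂ e₂
  refine ⟨V₁ ⊓ V₂, n₁ + n₂, ⟨hx₁, hx₂⟩, ⟨?_⟩⟩
  exact (Scheme.Modules.restrictFunctor (V₁ ⊓ V₂).ι).mapBiprod M N ≪≫ biprod.mapIso e₁' e₂' ≪≫
    freeModBiprodIso _ n₁ n₂

theorem isStrictlyPerfect_mappingCone {E₁ E₂ : CochainComplex X.Modules ℤ} (β : E₁ ⟶ E₂)
    (h₁ : DCoh.IsStrictlyPerfect E₁) (h₂ : DCoh.IsStrictlyPerfect E₂) :
    DCoh.IsStrictlyPerfect (CochainComplex.mappingCone β) := by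
  obtain ⟨⟨a₁, b₁, hab₁⟩, hfree₁⟩ := h₁
  obtain ⟨⟨a₂, b₂, hab₂⟩, hfree₂⟩ := h₂
  have e : ∀ i : ℤ, (CochainComplex.mappingCone β).X i ≅ E₁.X (i + 1) ⊞ E₂.X i := fun i =>
    HomologicalComplex.homotopyCofiber.XIsoBiprod β i (i + 1) rfl
  refine ⟨⟨min (a₁ - 1) a₂, max b₁ b₂, fun i hi => ?_⟩, fun i => ?_⟩
  · refine IsZero.of_iso ?_ (e i)
    have z₁ : IsZero (E₁.X (i + 1)) := hab₁ _ (by omega)
    have z₂ : IsZero (E₂.X i) := hab₂ _ (by omega)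
    rw [IsZero.iff_id_eq_zero]
    apply biprod.hom_ext
    · exact z₁.eq_of_tgt _ _
    · exact z₂.eq_of_tgt _ _
  · exact isFinLocFree_of_iso (e i).symm (isFinLocFree_biprod _ _ (hfree₁ _) (hfree₂ _))


theorem isStrictlyPerfect_shift (E : CochainComplex X.Modules ℤ) (n : ℤ)
    (hE : DCoh.IsStrictlyPerfect E) : DCoh.IsStrictlyPerfect (E⟦n⟧) := by
  obtain ⟨⟨a, b, hab⟩, hfree⟩ := hE
  refine ⟨⟨a - n, b - n, fun i hi => ?_⟩, fun i => ?_⟩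
  · exact hab (i + n) (by omega)
  · exact hfree (i + n)

/-- S0944 as a library lemma. -/
theorem locally_chain_map {Z : Scheme.{u}} {E F : CochainComplex Z.Modules ℤ}
    (hE : DCoh.IsStrictlyPerfect E) (α : DerivedCategory.Q.obj E ⟶ DerivedCategory.Q.obj F) (x : Z) :
    ∃ (V : Z.Opens) (_ : x ∈ V) (β : (RCx V.ι).obj E ⟶ (RCx V.ι).obj F),
      (RD V.ι).map α = (RDQIso V.ι E).hom ≫ DerivedCategory.Q.map β ≫ (RDQIso V.ι F).inv := by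
  obtain ⟨V, hx, h⟩ := Groth.Agent.S0944.result hE α x
  obtain ⟨β, hβ⟩ := h
  exact ⟨V, hx, β, hβ⟩

theorem isPerfect_of_iso {K K' : DCoh.D X} (e : K ≅ K') (h : DCoh.IsPerfect K) :
    DCoh.IsPerfect K' := by
  intro x
  obtain ⟨V, hx, hV⟩ := h x
  refine ⟨V, hx, ?_⟩
  rintro F ⟨eF⟩
  exact hV F ⟨eF ≪≫ e.symm⟩

theorem isPerfect_shift (K : DCoh.D X) (n : ℤ) (h : DCoh.IsPerfect K) :
    DCoh.IsPerfect (K⟦n⟧) := by
  obtain ⟨F₀, ⟨e₀⟩⟩ := exists_rep K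
  have e₀' : DerivedCategory.Q.obj (F₀⟦n⟧) ≅ K⟦n⟧ :=
    (DerivedCategory.Q.commShiftIso n).app F₀ ≪≫ (shiftFunctor _ n).mapIso e₀
  rw [isPerfect_iff_isOn _ (F₀⟦n⟧) e₀']
  intro x
  obtain ⟨V, hx, E, hE, ⟨e⟩⟩ := (isPerfect_iff_isOn K F₀ e₀).1 h x
  refine ⟨V, hx, E⟦n⟧, isStrictlyPerfect_shift E n hE, ⟨?_⟩⟩
  exact DerivedCategory.Q.mapIso (((RCx V.ι).commShiftIso n).app F₀) ≪≫
    (DerivedCategory.Q.commShiftIso n).app _ ≪≫ (shiftFunctor _ n).mapIso e ≪≫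
    ((DerivedCategory.Q.commShiftIso n).app E).symm

open CategoryTheory.Pretriangulated CochainComplex in
/-- the mapping cone of a map between complexes representing perfect objects is perfect. -/
theorem isPerfect_mappingCone {K L : CochainComplex X.Modules ℤ} (φ : K ⟶ L)
    (hK : DCoh.IsPerfect (DerivedCategory.Q.obj K)) (hL : DCoh.IsPerfect (DerivedCategory.Q.obj L)) :
    DCoh.IsPerfect (DerivedCategory.Q.obj (mappingCone φ)) := by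
  rw [isPerfect_iff_isOn _ (mappingCone φ) (Iso.refl _)]
  intro x
  obtain ⟨V₁, hx₁, h₁⟩ := (isPerfect_iff_isOn _ K (Iso.refl _)).1 hK x
  obtain ⟨V₂, hx₂, h₂⟩ := (isPerfect_iff_isOn _ L (Iso.refl _)).1 hL x
  obtain ⟨E₁, hE₁, ⟨e₁⟩⟩ := h₁.of_le (inf_le_left : V₁ ⊓ V₂ ≤ V₁)
  obtain ⟨E₂, hE₂, ⟨e₂⟩⟩ := h₂.of_le (inf_le_right : V₁ ⊓ V₂ ≤ V₂)
  have hx : x ∈ V₁ ⊓ V₂ := ⟨hx₁, hx₂⟩
  let V := V₁ ⊓ V₂
  let γ : DerivedCategory.Q.obj E₁ ⟶ DerivedCategory.Q.obj E₂ :=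
    e₁.inv ≫ DerivedCategory.Q.map ((RCx V.ι).map φ) ≫ e₂.hom
  obtain ⟨W, hxW, β, hβ⟩ := locally_chain_map hE₁ γ (⟨x, hx⟩ : (V : Scheme.{u}))
  refine ⟨V.ι ''ᵁ W, ⟨⟨x, hx⟩, hxW, rfl⟩, IsOn.image V W ⟨mappingCone β,
    isStrictlyPerfect_mappingCone β (isStrictlyPerfect_RCx W.ι E₁ hE₁)
      (isStrictlyPerfect_RCx W.ι E₂ hE₂), ⟨?_⟩⟩⟩
  let φ'' := (RCx W.ι).map ((RCx V.ι).map φ)
  let i₁ : (RCx W.ι).obj ((RCx V.ι).obj (mappingCone φ)) ≅ mappingCone φ'' :=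
    (RCx W.ι).mapIso (mappingCone.mapHomologicalComplexIso φ (Scheme.Modules.restrictFunctor V.ι)) ≪≫
      mappingCone.mapHomologicalComplexIso ((RCx V.ι).map φ) (Scheme.Modules.restrictFunctor W.ι)
  let a : DerivedCategory.Q.obj ((RCx W.ι).obj ((RCx V.ι).obj K)) ≅
      DerivedCategory.Q.obj ((RCx W.ι).obj E₁) :=
    (RDQIso W.ι _).symm ≪≫ (RD W.ι).mapIso e₁ ≪≫ RDQIso W.ι E₁
  let b : DerivedCategory.Q.obj ((RCx W.ι).obj ((RCx V.ι).obj L)) ≅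
      DerivedCategory.Q.obj ((RCx W.ι).obj E₂) :=
    (RDQIso W.ι _).symm ≪≫ (RD W.ι).mapIso e₂ ≪≫ RDQIso W.ι E₂
  have comm : DerivedCategory.Q.map φ'' ≫ b.hom = a.hom ≫ DerivedCategory.Q.map β := by
    have n1 := RDQIso_hom_naturality W.ι ((RCx V.ι).map φ)
    have hγ : DerivedCategory.Q.map ((RCx V.ι).map φ) ≫ e₂.hom = e₁.hom ≫ γ := by
      simp [γ]
    have n2 : DerivedCategory.Q.map φ'' ≫ (RDQIso W.ι ((RCx V.ι).obj L)).inv =
        (RDQIso W.ι ((RCx V.ι).obj K)).inv ≫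
          (RD W.ι).map (DerivedCategory.Q.map ((RCx V.ι).map φ)) := by
      rw [Iso.comp_inv_eq, Category.assoc, n1, Iso.inv_hom_id_assoc]
    simp only [a, b, Iso.trans_hom, Iso.symm_hom, Functor.mapIso_hom]
    rw [reassoc_of% n2, ← Functor.map_comp_assoc, hγ, Functor.map_comp_assoc, hβ]
    simp
  let T₁ := DerivedCategory.Q.mapTriangle.obj (mappingCone.triangle φ'')
  let T₂ := DerivedCategory.Q.mapTriangle.obj (mappingCone.triangle β)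
  have hT₁ : T₁ ∈ distTriang _ := DerivedCategory.mappingCone_triangle_distinguished φ''
  have hT₂ : T₂ ∈ distTriang _ := DerivedCategory.mappingCone_triangle_distinguished β
  exact DerivedCategory.Q.mapIso i₁ ≪≫
    Triangle.π₃.mapIso (isoTriangleOfIso₁₂ T₁ T₂ hT₁ hT₂ a b comm)

end Groth.Agent.Lib.Helper16.RS
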