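import Mathlib
import Groth.Prelude.Def_CxOX
import Groth.Agent.Lib.Helper16.RS12

/-!
# Helper16 — RS13: two out of three for perfect objects
-/

set_option autoImplicit false
universe u
open CategoryTheory CategoryTheory.Limits AlgebraicGeometry CategoryTheory.Pretriangulated

attribute [local instance] HasDerivedCategory.standard

namespace Groth.Agent.Lib.Helper16.RS

variable {X : Scheme.{u}}

theorem isPerfect_obj₃ (T : Triangle (DCoh.D X)) (hT : T ∈ distTriang (DCoh.D X))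
    (h₁ : DCoh.IsPerfect T.obj₁) (h₂ : DCoh.IsPerfect T.obj₂) : DCoh.IsPerfect T.obj₃ := by
  obtain ⟨K, L, φ, ⟨e⟩⟩ := (DerivedCategory.mem_distTriang_iff T).1 hT
  let e₁ : T.obj₁ ≅ DerivedCategory.Q.obj K := (Triangle.π₁).mapIso e
  let e₂ : T.obj₂ ≅ DerivedCategory.Q.obj L := (Triangle.π₂).mapIso e
  let e₃ : T.obj₃ ≅ DerivedCategory.Q.obj (CochainComplex.mappingCone φ) := (Triangle.π₃).mapIso e
  exact isPerfect_of_iso e₃.symm
    (isPerfect_mappingCone φ (isPerfect_of_iso e₁ h₁) (isPerfect_of_iso e₂ h₂))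

theorem isPerfect_two_out_of_three (T : Triangle (DCoh.D X)) (hT : T ∈ distTriang (DCoh.D X)) :
    (DCoh.IsPerfect T.obj₁ → DCoh.IsPerfect T.obj₂ → DCoh.IsPerfect T.obj₃) ∧
    (DCoh.IsPerfect T.obj₁ → DCoh.IsPerfect T.obj₃ → DCoh.IsPerfect T.obj₂) ∧
    (DCoh.IsPerfect T.obj₂ → DCoh.IsPerfect T.obj₃ → DCoh.IsPerfect T.obj₁) := by
  refine ⟨isPerfect_obj₃ T hT, ?_, ?_⟩
  · intro h₁ h₃
    exact isPerfect_obj₃ T.invRotate (inv_rot_of_distTriang T hT) (isPerfect_shift _ (-1) h₃) h₁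
  · intro h₂ h₃
    have h := isPerfect_obj₃ T.rotate (rot_of_distTriang T hT) h₂ h₃
    exact isPerfect_of_iso (shiftShiftNeg T.obj₁ (1 : ℤ)) (isPerfect_shift _ (-1) h)

end Groth.Agent.Lib.Helper16.RS
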