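import Mathlib

/-!
# Helper16 — CycProp: cycles of a bounded-above complex which is exact in high degrees inherit
any property stable under kernels of epimorphisms.
-/

open CategoryTheory CategoryTheory.Limits

namespace Groth.Agent.Lib.Helper16.CycProp

universe v u

variable {C : Type u} [Category.{v} C] [Abelian C]

lemma epi_toCycles_of_exactAt (K : CochainComplex C ℤ) (i j : ℤ) (hij : i + 1 = j)
    (h : K.ExactAt j) : Epi (K.toCycles i j) := by
  have h' := (K.exactAt_iff' i j (j + 1) (by simp [← hij]) (by simp)).1 h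
  have h2 : Epi (K.sc' i j (j + 1)).toCycles := (ShortComplex.exact_iff_epi_toCycles _).1 h'
  rw [← K.toCycles_cyclesIsoSc'_hom i j (j + 1) (by simp [← hij]) (by simp)] at h2
  have h3 : K.toCycles i j = (K.toCycles i j ≫ (K.cyclesIsoSc' i j (j + 1) (by simp [← hij])
      (by simp)).hom) ≫ (K.cyclesIsoSc' i j (j + 1) (by simp [← hij]) (by simp)).inv := by
    rw [Category.assoc, Iso.hom_inv_id, Category.comp_id]
  rw [h3]
  exact @epi_comp _ _ _ _ _ _ h2 _ inferInstance

/-- the kernel of `K.X i ⟶ K.cycles (i+1)` is `K.cycles i`. -/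
noncomputable def kernelToCyclesIso (K : CochainComplex C ℤ) (i j : ℤ) (hij : i + 1 = j) :
    kernel (K.toCycles i j) ≅ K.cycles i :=
  IsLimit.conePointUniqueUpToIso
    (isKernelCompMono (kernelIsKernel (K.toCycles i j)) (K.iCycles j) (K.toCycles_i i j).symm)
    (K.cyclesIsKernel i j (by simp [← hij]))

theorem prop_cycles (P : ObjectProperty C) [P.IsClosedUnderIsomorphisms]
    (hzero : ∀ X : C, IsZero X → P X)
    (hst : ∀ (E F : C) (u : E ⟶ F), Epi u → P E → P F → P (kernel u))
    (K : CochainComplex C ℤ) (a n : ℤ) (hK : ∀ i : ℤ, n < i → IsZero (K.X i))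
    (hex : ∀ i : ℤ, a < i → K.ExactAt i) (hP : ∀ i : ℤ, a ≤ i → P (K.X i)) :
    ∀ i : ℤ, a ≤ i → P (K.cycles i) := by
  have key : ∀ (k : ℕ) (i : ℤ), a ≤ i → n + 1 - i ≤ k → P (K.cycles i) := by
    intro k
    induction k with
    | zero =>
      intro i _ hi
      exact hzero _ (IsZero.of_mono (K.iCycles i) (hK i (by simp at hi; omega)))
    | succ k ih =>
      intro i hai hi
      have h1 := ih (i + 1) (by omega) (by push_cast at hi; omega)
      have h2 := epi_toCycles_of_exactAt K i (i + 1) rfl (hex _ (by omega))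
      exact P.prop_of_iso (kernelToCyclesIso K i (i + 1) rfl)
        (hst _ _ (K.toCycles i (i + 1)) h2 (hP i hai) h1)
  intro i hi
  exact key (n + 1 - i).toNat i hi (Int.self_le_toNat _)

end Groth.Agent.Lib.Helper16.CycProp
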