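import Mathlib
import Groth.Agent.Lib.Helper16.CycProp

/-!
# Helper16 — CycProp2: in an exact bounded complex `0 → K^{a-1} → K^a → K^{a+1} → ⋯ → K^n → 0` with
all terms but `K^a` in a liftable class stable under kernels of epimorphisms, `K^a` is in the class.
-/

open CategoryTheory CategoryTheory.Limits

namespace Groth.Agent.Lib.Helper16.CycProp

universe v u

variable {C : Type u} [Category.{v} C] [Abelian C]

theorem prop_middle (P : ObjectProperty C) [P.IsClosedUnderIsomorphisms]
    (hzero : ∀ X : C, IsZero X → P X)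
    (hbiprod : ∀ X Y : C, P X → P Y → P (X ⊞ Y))
    (hlift : ∀ (E F : C) (u : E ⟶ F), Epi u → P F → IsSplitEpi u)
    (hst : ∀ (E F : C) (u : E ⟶ F), Epi u → P E → P F → P (kernel u))
    (K : CochainComplex C ℤ) (a n : ℤ) (hK : ∀ i : ℤ, n < i → IsZero (K.X i))
    (hK' : ∀ i : ℤ, i < a - 1 → IsZero (K.X i))
    (hex : ∀ i : ℤ, K.ExactAt i) (hP : ∀ i : ℤ, a < i → P (K.X i)) (hP' : P (K.X (a - 1))) :
    P (K.X a) := by
  -- `Z^{a+1} ∈ P`
  have hZ1 : P (K.cycles (a + 1)) := prop_cycles P hzero hst K (a + 1) n hK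
    (fun i _ => hex i) (fun i hi => hP i (by omega)) (a + 1) le_rfl
  -- `Z^{a-1} = 0`
  have hZm : IsZero (K.cycles (a - 1)) := by
    have := epi_toCycles_of_exactAt K (a - 2) (a - 1) (by omega) (hex _)
    exact IsZero.of_epi (K.toCycles (a - 2) (a - 1)) (hK' _ (by omega))
  -- `Z^a ≅ K^{a-1}`
  have hZ0 : P (K.cycles a) := by
    have h1 := epi_toCycles_of_exactAt K (a - 1) a (by omega) (hex _)
    have h2 : Mono (K.toCycles (a - 1) a) :=
      Preadditive.mono_of_kernel_zero (by
        exact (hZm.of_iso (kernelToCyclesIso K (a - 1) a (by omega))).eq_of_src _ _)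
    have := isIso_of_mono_of_epi (K.toCycles (a - 1) a)
    exact P.prop_of_iso (asIso (K.toCycles (a - 1) a)) hP'
  -- splitting
  have h3 := epi_toCycles_of_exactAt K a (a + 1) rfl (hex _)
  obtain ⟨⟨s, hs⟩⟩ := hlift _ _ (K.toCycles a (a + 1)) h3 hZ1
  let S : ShortComplex C := ShortComplex.mk (kernel.ι (K.toCycles a (a + 1))) (K.toCycles a (a + 1))
    (kernel.condition _)
  have hS : S.Exact := ShortComplex.exact_of_f_is_kernel _ (kernelIsKernel _)
  have hsp : S.Splitting := ShortComplex.Splitting.ofExactOfSection S hS s hs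
    (inferInstance : Mono (kernel.ι _))
  have e : K.X a ≅ kernel (K.toCycles a (a + 1)) ⊞ K.cycles (a + 1) := hsp.isoBinaryBiproduct
  refine P.prop_of_iso e.symm (hbiprod _ _ ?_ hZ1)
  exact P.prop_of_iso (kernelToCyclesIso K a (a + 1) rfl).symm hZ0

end Groth.Agent.Lib.Helper16.CycProp
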