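import Mathlib
import Groth.Agent.Lib.Helper16.CycProp2

/-!
# Helper16 — FlatKer: the kernel of a surjection between flat modules is flat.
-/

open CategoryTheory CategoryTheory.Limits TensorProduct

namespace Groth.Agent.Lib.Helper16.FlatKer

universe u

lemma flat_of_exact {R : Type u} [CommRing R] {M N P : Type*} [AddCommGroup M] [AddCommGroup N]
    [AddCommGroup P] [Module R M] [Module R N] [Module R P] (g : M →ₗ[R] N) (f : N →ₗ[R] P)
    (hg : Function.Injective g) (hf : Function.Surjective f) (H : Function.Exact g f)
    [Module.Flat R N] [Module.Flat R P] : Module.Flat R M := by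
  rw [Module.Flat.iff_rTensor_injective']
  intro A'
  have h1 : Function.Injective (g.lTensor A') :=
    LinearMap.lTensor_injective_of_exact_of_flat f hf g hg H A'
  have h2 : Function.Injective (A'.subtype.rTensor N) :=
    Module.Flat.rTensor_preserves_injective_linearMap _ Subtype.val_injective
  have h3 : (g.lTensor R).comp (A'.subtype.rTensor M) =
      (A'.subtype.rTensor N).comp (g.lTensor A') := by
    rw [LinearMap.lTensor_comp_rTensor, LinearMap.rTensor_comp_lTensor]
  have h4 : Function.Injective ((g.lTensor R).comp (A'.subtype.rTensor M)) := by
    rw [h3]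
    exact h2.comp h1
  exact Function.Injective.of_comp h4

/-- flat modules as an object property. -/
def flatProp (R : Type u) [CommRing R] : ObjectProperty (ModuleCat.{u} R) :=
  fun M => Module.Flat R M

instance (R : Type u) [CommRing R] : (flatProp R).IsClosedUnderIsomorphisms where
  of_iso e h := by
    have : Module.Flat R _ := h
    exact Module.Flat.of_linearEquiv e.toLinearEquiv.symm

lemma flatProp_kernel {R : Type u} [CommRing R] (E F : ModuleCat.{u} R) (u : E ⟶ F) (hu : Epi u)
    (hE : flatProp R E) (hF : flatProp R F) : flatProp R (kernel u) := by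
  have : Module.Flat R E := hE
  have : Module.Flat R F := hF
  have hS : (ShortComplex.mk (kernel.ι u) u (kernel.condition u)).Exact :=
    ShortComplex.exact_of_f_is_kernel _ (kernelIsKernel u)
  rw [ShortComplex.ShortExact.moduleCat_exact_iff_function_exact] at hS
  exact flat_of_exact (kernel.ι u).hom u.hom ((ModuleCat.mono_iff_injective _).1 inferInstance)
    ((ModuleCat.epi_iff_surjective _).1 hu) hS

lemma flatProp_zero {R : Type u} [CommRing R] (X : ModuleCat.{u} R) (hX : IsZero X) :
    flatProp R X := by
  have := ModuleCat.subsingleton_of_isZero hX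
  exact (inferInstance : Module.Flat R X)

end Groth.Agent.Lib.Helper16.FlatKer
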