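import Mathlib

/-!
# Exactness and projective cokernel from exactness modulo the maximal ideal (local rings)
-/

open TensorProduct

namespace Groth.Agent.Lib.Helper16.LocSplit
universe u

variable {R : Type u} [CommRing R]

section General
variable (k : Type u) [AddCommGroup k] [Module R k]
  {A B C : Type u} [AddCommGroup A] [Module R A] [AddCommGroup B] [Module R B]
  [AddCommGroup C] [Module R C] (f : A →ₗ[R] B) (g : B →ₗ[R] C)

/-- the map induced by `g` on the cokernel of `f`. -/
noncomputable def gbar (hgf : g ∘ₗ f = 0) : (B ⧸ LinearMap.range f) →ₗ[R] C :=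
  (LinearMap.range f).liftQ g (by
    rintro _ ⟨a, rfl⟩
    exact LinearMap.congr_fun hgf a)

lemma gbar_mkQ (hgf : g ∘ₗ f = 0) (b : B) : gbar f g hgf ((LinearMap.range f).mkQ b) = g b := rfl

lemma gbar_lTensor_injective (hgf : g ∘ₗ f = 0)
    (h : Function.Exact (f.lTensor k) (g.lTensor k)) :
    Function.Injective ((gbar f g hgf).lTensor k) := by
  rw [injective_iff_map_eq_zero]
  intro x hx
  obtain ⟨y, rfl⟩ := LinearMap.lTensor_surjective k (LinearMap.range f).mkQ_surjective x
  have h1 : (g.lTensor k) y = 0 := by
    rw [← hx, ← LinearMap.comp_apply, ← LinearMap.lTensor_comp]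
    rfl
  obtain ⟨z, rfl⟩ := (h y).1 h1
  rw [← LinearMap.comp_apply, ← LinearMap.lTensor_comp]
  have : (LinearMap.range f).mkQ ∘ₗ f = 0 := by
    ext a
    exact (Submodule.Quotient.mk_eq_zero _).2 ⟨a, rfl⟩
  rw [this, LinearMap.lTensor_zero, LinearMap.zero_apply]

end General

section Local
variable [IsLocalRing R]
  {A B C : Type u} [AddCommGroup A] [Module R A] [AddCommGroup B] [Module R B]
  [AddCommGroup C] [Module R C] [Module.Finite R B] [Module.Finite R C] [Module.Free R C]
  (f : A →ₗ[R] B) (g : B →ₗ[R] C)

theorem exact_and_projective_of_exact_residue (hgf : g ∘ₗ f = 0)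
    (h : Function.Exact (f.lTensor (IsLocalRing.ResidueField R))
      (g.lTensor (IsLocalRing.ResidueField R))) :
    Function.Exact f g ∧ Module.Projective R (C ⧸ LinearMap.range g) := by
  have hinj := gbar_lTensor_injective (IsLocalRing.ResidueField R) f g hgf h
  obtain ⟨l', hl'⟩ :=
    (IsLocalRing.split_injective_iff_lTensor_residueField_injective (gbar f g hgf)).2 hinj
  have hbinj : Function.Injective (gbar f g hgf) :=
    Function.HasLeftInverse.injective ⟨l', LinearMap.congr_fun hl'⟩
  constructor
  · intro b
    constructor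
    · intro hb
      have : (LinearMap.range f).mkQ b = 0 := by
        apply hbinj
        rw [gbar_mkQ, hb, map_zero]
      exact (Submodule.Quotient.mk_eq_zero _).1 this
    · rintro ⟨a, rfl⟩
      exact LinearMap.congr_fun hgf a
  · -- the cokernel of `g` is a retract of `C`
    let s : (C ⧸ LinearMap.range g) →ₗ[R] C :=
      (LinearMap.range g).liftQ (LinearMap.id - (gbar f g hgf) ∘ₗ l') (by
        rintro _ ⟨b, rfl⟩
        rw [LinearMap.mem_ker, LinearMap.sub_apply, LinearMap.id_apply, LinearMap.comp_apply,
          ← gbar_mkQ f g hgf b]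
        have := LinearMap.congr_fun hl' ((LinearMap.range f).mkQ b)
        rw [LinearMap.comp_apply, LinearMap.id_apply] at this
        rw [this, sub_self])
    have hs : (LinearMap.range g).mkQ ∘ₗ s = LinearMap.id := by
      apply Submodule.linearMap_qext
      ext c
      change (LinearMap.range g).mkQ (c - gbar f g hgf (l' c)) = (LinearMap.range g).mkQ c
      rw [map_sub, sub_eq_self]
      obtain ⟨b, hb⟩ := (LinearMap.range f).mkQ_surjective (l' c)
      rw [← hb, gbar_mkQ]
      exact (Submodule.Quotient.mk_eq_zero _).2 ⟨b, rfl⟩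
    exact Module.Projective.of_split s (LinearMap.range g).mkQ hs

end Local

end Groth.Agent.Lib.Helper16.LocSplit
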