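import Mathlib
import Groth.Agent.Lib.Helper16.LocSplit

/-!
# Injectivity and flat cokernel from injectivity modulo all maximal ideals
-/

open TensorProduct

namespace Groth.Agent.Lib.Helper16.GlobSplit
universe u

variable {R : Type u} [CommRing R]
variable {M N : Type u} [AddCommGroup M] [Module R M] [AddCommGroup N] [Module R N]

section Step
variable (l : M →ₗ[R] N) (m : Ideal R) [m.IsMaximal]

/-- `R ⧸ m ≃ κ(m)` as `R`-modules. -/
noncomputable def quotEquivResidue : (R ⧸ m) ≃ₗ[R] m.ResidueField :=
  LinearEquiv.ofBijective ((Algebra.linearMap (R ⧸ m) m.ResidueField).restrictScalars R)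
    (Ideal.bijective_algebraMap_quotient_residueField m)

lemma lTensor_residue_injective (h : Function.Injective (l.lTensor (R ⧸ m))) :
    Function.Injective (l.lTensor m.ResidueField) := by
  have hc : (l.lTensor m.ResidueField) ∘ₗ
      (TensorProduct.congr (quotEquivResidue m) (LinearEquiv.refl R M)).toLinearMap =
      (TensorProduct.congr (quotEquivResidue m) (LinearEquiv.refl R N)).toLinearMap ∘ₗ
        (l.lTensor (R ⧸ m)) := by
    apply TensorProduct.ext'
    intro x y
    simp
  intro x y hxy
  obtain ⟨x', rfl⟩ := (TensorProduct.congr (quotEquivResidue m) (LinearEquiv.refl R M)).surjective x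
  obtain ⟨y', rfl⟩ := (TensorProduct.congr (quotEquivResidue m) (LinearEquiv.refl R M)).surjective y
  have h1 := LinearMap.congr_fun hc x'
  have h2 := LinearMap.congr_fun hc y'
  simp only [LinearMap.comp_apply, LinearEquiv.coe_coe] at h1 h2
  rw [h1, h2] at hxy
  rw [h ((TensorProduct.congr (quotEquivResidue m) (LinearEquiv.refl R N)).injective hxy)]

end Step

section Step2
variable (l : M →ₗ[R] N) (m : Ideal R) [m.IsMaximal]

lemma lTensor_baseChange_injective (h : Function.Injective (l.lTensor m.ResidueField)) :
    Function.Injective ((l.baseChange (Localization.AtPrime m)).lTensor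
      (IsLocalRing.ResidueField (Localization.AtPrime m))) := by
  let cM := AlgebraTensorModule.cancelBaseChange R (Localization.AtPrime m) m.ResidueField
    m.ResidueField M
  let cN := AlgebraTensorModule.cancelBaseChange R (Localization.AtPrime m) m.ResidueField
    m.ResidueField N
  have hc : ∀ x, cN (((l.baseChange (Localization.AtPrime m)).lTensor m.ResidueField) x) =
      (l.lTensor m.ResidueField) (cM x) := by
    intro x
    induction x using TensorProduct.induction_on with
    | zero => simp
    | tmul a y =>
      induction y using TensorProduct.induction_on with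
      | zero => simp
      | tmul b z => simp [cM, cN]
      | add y y' hy hy' =>
        rw [TensorProduct.tmul_add, map_add, map_add, map_add, map_add, hy, hy']
    | add x y hx hy => rw [map_add, map_add, map_add, map_add, hx, hy]
  intro x y hxy
  apply cM.injective
  apply h
  rw [← hc, ← hc]
  exact congrArg cN hxy

end Step2

section Global
variable (l : M →ₗ[R] N) [Module.Finite R M] [Module.Finite R N] [Module.Free R N]

theorem exists_retraction_baseChange (m : Ideal R) [m.IsMaximal]
    (h : Function.Injective (l.lTensor (R ⧸ m))) :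
    ∃ l' : (Localization.AtPrime m ⊗[R] N) →ₗ[Localization.AtPrime m]
        (Localization.AtPrime m ⊗[R] M),
      l' ∘ₗ (l.baseChange (Localization.AtPrime m)) = LinearMap.id := by
  have h2 := lTensor_baseChange_injective l m (lTensor_residue_injective l m h)
  haveI : Module.Finite (Localization.AtPrime m) (Localization.AtPrime m ⊗[R] M) := inferInstance
  haveI : Module.Finite (Localization.AtPrime m) (Localization.AtPrime m ⊗[R] N) := inferInstance
  haveI : Module.Free (Localization.AtPrime m) (Localization.AtPrime m ⊗[R] N) := inferInstance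
  exact (IsLocalRing.split_injective_iff_lTensor_residueField_injective
    (R := Localization.AtPrime m) (M := Localization.AtPrime m ⊗[R] M)
    (N := Localization.AtPrime m ⊗[R] N) (l.baseChange (Localization.AtPrime m))).2 h2

instance isLocalizedModule_mk (P : Ideal R) [P.IsPrime] (X : Type u) [AddCommGroup X] [Module R X] :
    IsLocalizedModule P.primeCompl (TensorProduct.mk R (Localization.AtPrime P) X 1) :=
  (isLocalizedModule_iff_isBaseChange P.primeCompl (Localization.AtPrime P) _).2
    (TensorProduct.isBaseChange R X _)

theorem injective_of_forall_maximal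
    (h : ∀ (m : Ideal R) [m.IsMaximal], Function.Injective (l.lTensor (R ⧸ m))) :
    Function.Injective l := by
  rw [injective_iff_map_eq_zero]
  intro x hx
  refine Module.eq_zero_of_localization_maximal (fun P _ => Localization.AtPrime P ⊗[R] M)
    (fun P _ => TensorProduct.mk R (Localization.AtPrime P) M 1) x (fun P _ => ?_)
  obtain ⟨l', hl'⟩ := exists_retraction_baseChange l P (h P)
  have h1 : (l.baseChange (Localization.AtPrime P)) ((1 : Localization.AtPrime P) ⊗ₜ[R] x) = 0 := by
    rw [LinearMap.baseChange_tmul, hx, TensorProduct.tmul_zero]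
  have h2 := congrArg l' h1
  rw [← LinearMap.comp_apply, hl', map_zero] at h2
  exact h2

end Global

section Flat
variable (l : M →ₗ[R] N) [Module.Finite R M] [Module.Finite R N] [Module.Free R N]

theorem flat_quotient_of_forall_maximal
    (h : ∀ (m : Ideal R) [m.IsMaximal], Function.Injective (l.lTensor (R ⧸ m))) :
    Module.Flat R (N ⧸ LinearMap.range l) := by
  refine Module.flat_of_isLocalized_maximal R (N ⧸ LinearMap.range l)
    (fun P _ => Localization.AtPrime P ⊗[R] (N ⧸ LinearMap.range l))
    (fun P _ => TensorProduct.mk R (Localization.AtPrime P) (N ⧸ LinearMap.range l) 1)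
    (fun P _ => ?_)
  obtain ⟨l', hl'⟩ := exists_retraction_baseChange l P (h P)
  let lp : Localization.AtPrime P ⊗[R] M →ₗ[R] Localization.AtPrime P ⊗[R] N :=
    l.lTensor (Localization.AtPrime P)
  let l'' : Localization.AtPrime P ⊗[R] N →ₗ[R] Localization.AtPrime P ⊗[R] M :=
    l'.restrictScalars R
  have hl'' : ∀ x, l'' (lp x) = x := fun x => LinearMap.congr_fun hl' x
  let q : Localization.AtPrime P ⊗[R] N →ₗ[R]
      Localization.AtPrime P ⊗[R] (N ⧸ LinearMap.range l) :=
    (LinearMap.range l).mkQ.lTensor (Localization.AtPrime P)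
  have hq : Function.Surjective q :=
    LinearMap.lTensor_surjective _ (Submodule.mkQ_surjective _)
  have hex : Function.Exact lp q :=
    lTensor_exact (Localization.AtPrime P) (LinearMap.exact_map_mkQ_range l)
      (Submodule.mkQ_surjective _)
  let p : Localization.AtPrime P ⊗[R] N →ₗ[R] Localization.AtPrime P ⊗[R] N :=
    LinearMap.id - lp ∘ₗ l''
  have hker : LinearMap.ker q ≤ LinearMap.ker p := by
    intro n hn
    obtain ⟨y, rfl⟩ := (hex n).1 hn
    rw [LinearMap.mem_ker, LinearMap.sub_apply, LinearMap.id_apply, LinearMap.comp_apply, hl'',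
      sub_self]
  let s : Localization.AtPrime P ⊗[R] (N ⧸ LinearMap.range l) →ₗ[R]
      Localization.AtPrime P ⊗[R] N :=
    ((LinearMap.ker q).liftQ p hker) ∘ₗ (LinearMap.quotKerEquivOfSurjective q hq).symm.toLinearMap
  have hs : q ∘ₗ s = LinearMap.id := by
    apply LinearMap.ext
    intro d
    obtain ⟨n, rfl⟩ := hq d
    have h1 : (LinearMap.quotKerEquivOfSurjective q hq).symm (q n) =
        (LinearMap.ker q).mkQ n := by
      rw [LinearEquiv.symm_apply_eq]
      rfl
    change q (((LinearMap.ker q).liftQ p hker)
      ((LinearMap.quotKerEquivOfSurjective q hq).symm (q n))) = q n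
    rw [h1]
    change q (p n) = q n
    rw [LinearMap.sub_apply, LinearMap.id_apply, map_sub, sub_eq_self, LinearMap.comp_apply]
    exact (hex _).2 ⟨_, rfl⟩
  exact Module.Flat.of_retract s q hs

end Flat

section Complex
variable {A B C : Type u} [AddCommGroup A] [Module R A] [AddCommGroup B] [Module R B]
  [AddCommGroup C] [Module R C] [Module.Finite R B] [Module.Finite R C] [Module.Free R C]
  (f : A →ₗ[R] B) (g : B →ₗ[R] C)

open Groth.Agent.Lib.Helper16.LocSplit in
theorem exact_and_flat_of_exact_quotients (hgf : g ∘ₗ f = 0)
    (h : ∀ (m : Ideal R) [m.IsMaximal],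
      Function.Exact (f.lTensor (R ⧸ m)) (g.lTensor (R ⧸ m))) :
    Function.Exact f g ∧ Module.Flat R (C ⧸ LinearMap.range g) := by
  have hinj : ∀ (m : Ideal R) [m.IsMaximal],
      Function.Injective ((gbar f g hgf).lTensor (R ⧸ m)) := fun m _ =>
    gbar_lTensor_injective (R ⧸ m) f g hgf (h m)
  have hbinj := injective_of_forall_maximal (gbar f g hgf) hinj
  have hfl := flat_quotient_of_forall_maximal (gbar f g hgf) hinj
  have hr : LinearMap.range (gbar f g hgf) = LinearMap.range g := Submodule.range_liftQ _ _ _
  constructor
  · intro b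
    constructor
    · intro hb
      have : (LinearMap.range f).mkQ b = 0 := by
        apply hbinj
        rw [gbar_mkQ, hb, map_zero]
      exact (Submodule.Quotient.mk_eq_zero _).1 this
    · rintro ⟨a, rfl⟩
      exact LinearMap.congr_fun hgf a
  · rw [← hr]
    exact hfl

end Complex

end Groth.Agent.Lib.Helper16.GlobSplit
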