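import Groth.Agent.Lib.Helper16.DerTrunc

namespace Groth.Agent.Lib.Helper16.DerT

open CategoryTheory Limits DerivedCategory Pretriangulated

universe w v u
variable {C : Type u} [Category.{v} C] [Abelian C] [HasDerivedCategory.{w} C]

set_option backward.defeqAttrib.useBackward true in
/-- `H^j` of the truncation inclusion `τ_{<c} X ⟶ X` is an isomorphism for `j < c`. -/
lemma isIso_homologyMap_truncLTι (X : DerivedCategory C) (c j : ℤ) (h : j < c) :
    IsIso ((homologyFunctor C j).map (((TStructure.t (C := C)).truncLTι c).app X)) := by
  have hT := (TStructure.t (C := C)).triangleLTGE_distinguished c X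
  have := mono_homologyMap_truncLTι X c j
  have : Epi ((homologyFunctor C j).map (((TStructure.t (C := C)).truncLTι c).app X)) :=
    (HomologySequence.epi_homologyMap_mor₁_iff _ hT j).2 (by
      have : IsZero ((homologyFunctor C j).obj (((TStructure.t (C := C)).triangleLTGE c).obj X).obj₃) := by
        dsimp
        exact isZero_of_isGE _ c j h
      exact this.eq_of_tgt _ _)
  exact isIso_of_mono_of_epi _

set_option backward.defeqAttrib.useBackward true in
/-- `H^j` of the truncation projection `X ⟶ τ_{≥c} X` is an isomorphism for `c ≤ j`. -/
lemma isIso_homologyMap_truncGEπ (X : DerivedCategory C) (c j : ℤ) (h : c ≤ j) :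
    IsIso ((homologyFunctor C j).map (((TStructure.t (C := C)).truncGEπ c).app X)) := by
  have hT := (TStructure.t (C := C)).triangleLTGE_distinguished c X
  have := epi_homologyMap_truncGEπ X c j
  have : Mono ((homologyFunctor C j).map (((TStructure.t (C := C)).truncGEπ c).app X)) :=
    (HomologySequence.mono_homologyMap_mor₂_iff _ hT j).2 (by
      have : IsZero ((homologyFunctor C j).obj (((TStructure.t (C := C)).triangleLTGE c).obj X).obj₁) := by
        dsimp
        exact isZero_of_isLE _ (c-1) j (by omega)
      exact this.eq_of_src _ _)
  exact isIso_of_mono_of_epi _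

/-- an object concentrated in degree `a` is the single complex on its `H^a` -/
lemma nonempty_iso_single_homology (Y : DerivedCategory C) (a : ℤ) [Y.IsGE a] [Y.IsLE a] :
    Nonempty (Y ≅ (singleFunctor C a).obj ((homologyFunctor C a).obj Y)) := by
  obtain ⟨M, ⟨e⟩⟩ := exists_iso_singleFunctor_obj_of_isGE_of_isLE Y a
  have e2 : (homologyFunctor C a).obj Y ≅ M :=
    (homologyFunctor C a).mapIso e ≪≫ (singleFunctorCompHomologyFunctorIso C a).app M
  exact ⟨e ≪≫ ((singleFunctor C a).mapIso e2).symm⟩

/-- **Dévissage of bounded objects**: a property of objects of the derived category which is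
stable under isomorphisms and extensions and holds for zero objects holds for a bounded object
as soon as it holds for the single complexes on its cohomology objects. -/
theorem bounded_induction (S : DerivedCategory C → Prop)
    (hiso : ∀ X Y : DerivedCategory C, (X ≅ Y) → S X → S Y)
    (hzero : ∀ X : DerivedCategory C, IsZero X → S X)
    (hext : ∀ T ∈ distTriang (DerivedCategory C), S T.obj₁ → S T.obj₃ → S T.obj₂)
    (n : ℕ) : ∀ (a b : ℤ) (_ : b + 1 = a + n) (Y : DerivedCategory C) [Y.IsGE a] [Y.IsLE b],
      (∀ j, a ≤ j → j ≤ b →
        S ((singleFunctor C j).obj ((homologyFunctor C j).obj Y))) → S Y := by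
  induction n with
  | zero =>
    intro a b hab Y _ _ _
    exact hzero _ ((TStructure.t (C := C)).isZero Y b a (by omega))
  | succ n ih =>
    intro a b hab Y _ _ hY
    have hT := (TStructure.t (C := C)).triangleLTGE_distinguished b Y
    refine hext _ hT ?_ ?_
    · -- τ_{<b} Y ∈ [a, b-1]
      show S (((TStructure.t (C := C)).truncLT b).obj Y)
      have : (((TStructure.t (C := C)).truncLT b).obj Y).IsGE a := by
        show (TStructure.t (C := C)).IsGE _ a
        infer_instance
      have : (((TStructure.t (C := C)).truncLT b).obj Y).IsLE (b - 1) := by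
        show (TStructure.t (C := C)).IsLE _ (b - 1)
        infer_instance
      refine ih a (b - 1) (by push_cast at hab; omega) _ ?_
      intro j hj1 hj2
      have := isIso_homologyMap_truncLTι Y b j (by omega)
      refine hiso _ _ ((singleFunctor C j).mapIso (asIso ((homologyFunctor C j).map
        (((TStructure.t (C := C)).truncLTι b).app Y)))).symm (hY j hj1 (by omega))
    · show S (((TStructure.t (C := C)).truncGE b).obj Y)
      have : (((TStructure.t (C := C)).truncGE b).obj Y).IsGE b := by
        show (TStructure.t (C := C)).IsGE _ b
        infer_instance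
      have : (((TStructure.t (C := C)).truncGE b).obj Y).IsLE b := by
        show (TStructure.t (C := C)).IsLE _ b
        infer_instance
      obtain ⟨e⟩ := nonempty_iso_single_homology (((TStructure.t (C := C)).truncGE b).obj Y) b
      have := isIso_homologyMap_truncGEπ Y b b le_rfl
      refine hiso _ _ ?_ (hY b (by push_cast at hab; omega) le_rfl)
      exact (singleFunctor C b).mapIso (asIso ((homologyFunctor C b).map
        (((TStructure.t (C := C)).truncGEπ b).app Y))) ≪≫ e.symm

end Groth.Agent.Lib.Helper16.DerT
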