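import Mathlib
import Groth.Agent.Lib.Helper8.DCoprod1
import Groth.Agent.Lib.Helper16.DCoprodW

/-!
# K-projective resolutions of unbounded complexes, part 1

* coproducts and mapping cones of K-projective complexes (with projective terms) are K-projective
  (with projective terms);
* `Q` preserves coproducts of shape `J` as soon as `J`-indexed coproducts are exact in `A`.
-/

universe w w' v u

open CategoryTheory CategoryTheory.Limits

namespace Groth.Agent.Lib.Helper16.KPR

open DerivedCategory Groth.Agent.Lib.Helper8.DCoprod Groth.Agent.Lib.Helper16.DCoprodW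

variable {A : Type u} [Category.{v} A] [Abelian A]

section Complexes

variable {J : Type w'} [HasColimitsOfShape (Discrete J) A] (K : J → CochainComplex A ℤ)

lemma isKProjective_sigma [∀ j, (K j).IsKProjective] : (∐ K).IsKProjective :=
  ⟨fun f hL => ⟨homotopySigma K f (fun j =>
    CochainComplex.IsKProjective.homotopyZero (Sigma.ι K j ≫ f) hL)⟩⟩

lemma projective_sigma_X (hK : ∀ j i, Projective ((K j).X i)) (i : ℤ) :
    Projective ((∐ K).X i) :=
  ⟨fun {E X} f e _ => by
    have := fun j => (hK j i).factors ((Sigma.ι K j).f i ≫ f) e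
    choose g hg using this
    let d : (∐ K).X i ⟶ E :=
      (isColimitEval K i).desc (Cocone.mk E (Discrete.natTrans fun ⟨j⟩ => g j))
    have h1 : ∀ j, (Sigma.ι K j).f i ≫ d = g j := fun j => (isColimitEval K i).fac _ ⟨j⟩
    refine ⟨d, ?_⟩
    apply hom_ext_eval
    intro j
    calc (Sigma.ι K j).f i ≫ d ≫ e = ((Sigma.ι K j).f i ≫ d) ≫ e := (Category.assoc _ _ _).symm
      _ = g j ≫ e := by rw [h1]
      _ = _ := hg j⟩

lemma isKProjective_mappingCone {K L : CochainComplex A ℤ} (φ : K ⟶ L) [K.IsKProjective]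
    [L.IsKProjective] : (CochainComplex.mappingCone φ).IsKProjective := by
  rw [CochainComplex.isKProjective_iff_leftOrthogonal]
  have hT := HomotopyCategory.mappingCone_triangleh_distinguished φ
  exact (HomotopyCategory.subcategoryAcyclic A).leftOrthogonal.ext_of_isTriangulatedClosed₃ _ hT
    (CochainComplex.IsKProjective.leftOrthogonal K) (CochainComplex.IsKProjective.leftOrthogonal L)

lemma projective_mappingCone_X {K L : CochainComplex A ℤ} (φ : K ⟶ L)
    (hK : ∀ i, Projective (K.X i)) (hL : ∀ i, Projective (L.X i)) (i : ℤ) :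
    Projective ((CochainComplex.mappingCone φ).X i) := by
  have e : (CochainComplex.mappingCone φ).X i ≅ K.X (i + 1) ⊞ L.X i :=
    HomologicalComplex.homotopyCofiber.XIsoBiprod φ i (i + 1) rfl
  haveI := hK (i + 1)
  haveI := hL i
  exact Projective.of_iso e.symm inferInstance

end Complexes

section Lift

variable [HasDerivedCategory.{w} A]

lemma exists_map_of_isKProjective (K L : CochainComplex A ℤ) [K.IsKProjective]
    (α : Q.obj K ⟶ Q.obj L) : ∃ φ : K ⟶ L, Q.map φ = α := by
  obtain ⟨g, hg⟩ := (CochainComplex.IsKProjective.Qh_map_bijective K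
    ((HomotopyCategory.quotient A (.up ℤ)).obj L)).surjective
    ((quotientCompQhIso A).hom.app K ≫ α ≫ (quotientCompQhIso A).inv.app L)
  obtain ⟨φ, rfl⟩ := (HomotopyCategory.quotient A (.up ℤ)).map_surjective g
  refine ⟨φ, ?_⟩
  have := (quotientCompQhIso A).hom.naturality φ
  simp only [Functor.comp_map] at this
  rw [hg] at this
  rw [← cancel_epi ((quotientCompQhIso A).hom.app K), ← this]
  simp

end Lift

section DCoprod

variable [HasDerivedCategory.{w} A] {J : Type w'} [HasColimitsOfShape (Discrete J) A]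
  [HasExactColimitsOfShape (Discrete J) A] (K : J → CochainComplex A ℤ)

lemma exists_desc_gen (L : CochainComplex A ℤ) (ψ : ∀ j, Q.obj (K j) ⟶ Q.obj L) :
    ∃ φ : Q.obj (∐ K) ⟶ Q.obj L, ∀ j, Q.map (Sigma.ι K j) ≫ φ = ψ j := by
  choose K' s hs g hg using fun j => right_fac (ψ j)
  have : ∀ j, QuasiIso (s j) := fun j => (isIso_Q_map_iff_quasiIso A (s j)).1 (hs j)
  have : IsIso (Q.map (Limits.Sigma.map s)) :=
    (isIso_Q_map_iff_quasiIso A _).2 (quasiIso_sigmaMap s)
  refine ⟨inv (Q.map (Limits.Sigma.map s)) ≫ Q.map (Sigma.desc g), fun j => ?_⟩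
  have h1 : Q.map (Sigma.ι K j) ≫ inv (Q.map (Limits.Sigma.map s)) =
      inv (Q.map (s j)) ≫ Q.map (Sigma.ι K' j) := by
    rw [← cancel_mono (Q.map (Limits.Sigma.map s)), Category.assoc, IsIso.inv_hom_id,
      Category.comp_id, Category.assoc, ← Q.map_comp, Sigma.ι_map, Q.map_comp,
      IsIso.inv_hom_id_assoc]
  rw [← Category.assoc, h1, Category.assoc, ← Q.map_comp, Sigma.ι_desc, hg]

lemma eq_zero_of_comp_gen (L : CochainComplex A ℤ) (δ : Q.obj (∐ K) ⟶ Q.obj L)
    (h : ∀ j, Q.map (Sigma.ι K j) ≫ δ = 0) : δ = 0 := by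
  obtain ⟨L', g, t, ht, rfl⟩ := left_fac δ
  have h0 : ∀ j, Q.map (Sigma.ι K j ≫ g) = 0 := fun j => by
    have := h j
    rw [← Category.assoc, ← Q.map_comp] at this
    rw [← cancel_mono (inv (Q.map t)), this, zero_comp]
  choose K' u hu hh using fun j => exists_quasiIso_homotopy_of_Q_map_eq_zero _ (h0 j)
  have : ∀ j, QuasiIso (u j) := hu
  have hσ : IsIso (Q.map (Limits.Sigma.map u)) :=
    (isIso_Q_map_iff_quasiIso A _).2 (quasiIso_sigmaMap u)
  have H : Homotopy (Limits.Sigma.map u ≫ g) 0 :=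
    homotopySigma K' (Limits.Sigma.map u ≫ g) (fun j =>
      (Homotopy.ofEq (by
        rw [← Category.assoc, Sigma.ι_map, Category.assoc])).trans (hh j).some)
  have h2 := Q_map_eq_of_homotopy A H
  rw [Q.map_comp, Functor.map_zero] at h2
  have h3 : Q.map g = 0 := by
    rw [← cancel_epi (Q.map (Limits.Sigma.map u)), h2, comp_zero]
  rw [h3, zero_comp]

/-- the image under `Q` of the coproduct cofan of complexes. -/
noncomputable def qCofan : Cofan (fun j => Q.obj (K j)) :=
  Cofan.mk (Q.obj (∐ K)) (fun j => Q.map (Sigma.ι K j))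

lemma exists_desc_gen' (Y : DerivedCategory A) (ψ : ∀ j, Q.obj (K j) ⟶ Y) :
    ∃ φ : Q.obj (∐ K) ⟶ Y, ∀ j, Q.map (Sigma.ι K j) ≫ φ = ψ j := by
  let e : Q.obj (Q.objPreimage Y) ≅ Y := Q.objObjPreimageIso Y
  obtain ⟨φ, hφ⟩ := exists_desc_gen K (Q.objPreimage Y) (fun j => ψ j ≫ e.inv)
  refine ⟨φ ≫ e.hom, fun j => ?_⟩
  rw [← Category.assoc, hφ]
  simp

lemma hom_ext_gen (Y : DerivedCategory A) (m m' : Q.obj (∐ K) ⟶ Y)
    (h : ∀ j, Q.map (Sigma.ι K j) ≫ m = Q.map (Sigma.ι K j) ≫ m') : m = m' := by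
  let e : Q.obj (Q.objPreimage Y) ≅ Y := Q.objObjPreimageIso Y
  have : (m - m') ≫ e.inv = 0 := by
    apply eq_zero_of_comp_gen K
    intro j
    rw [← Category.assoc, Preadditive.comp_sub, h j, sub_self, zero_comp]
  rw [← cancel_mono e.inv, ← sub_eq_zero, ← Preadditive.sub_comp, this]

/-- `Q` preserves coproducts of shape `J`. -/
noncomputable def isColimitQCofan : IsColimit (qCofan K) :=
  Cofan.IsColimit.mk _ (fun t => (exists_desc_gen' K t.pt t.inj).choose)
    (fun t j => (exists_desc_gen' K t.pt t.inj).choose_spec j)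
    (fun t _ hm => hom_ext_gen K t.pt _ _ (fun j =>
      (hm j).trans ((exists_desc_gen' K t.pt t.inj).choose_spec j).symm))

variable (A J) in
theorem hasColimitsOfShape_discrete : HasColimitsOfShape (Discrete J) (DerivedCategory A) :=
  ⟨fun F => by
    let X : J → DerivedCategory A := F.obj ∘ Discrete.mk
    let R : J → CochainComplex A ℤ := fun j => Q.objPreimage (X j)
    have h1 : HasColimit (Discrete.functor (fun j => Q.obj (R j))) :=
      ⟨⟨⟨_, isColimitQCofan R⟩⟩⟩
    have e : Discrete.functor (fun j => Q.obj (R j)) ≅ F :=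
      Discrete.natIso (fun ⟨j⟩ => Q.objObjPreimageIso (X j))
    exact hasColimit_of_iso e.symm⟩

end DCoprod

end Groth.Agent.Lib.Helper16.KPR
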