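import Mathlib
import Groth.Agent.Lib.Helper16.KPR1
import Groth.Agent.Lib.Helper8.SeqColim
import Groth.Prelude.Def_DerLim

/-!
# K-projective resolutions of unbounded complexes, part 2: the telescope
-/

universe w w' v u

open CategoryTheory CategoryTheory.Limits CategoryTheory.Pretriangulated

namespace Groth.Agent.Lib.Helper16.KPR

open DerivedCategory Groth.Agent.Lib.Helper8.DCoprod Groth.Agent.Lib.Helper8.SeqColim

variable {A : Type u} [Category.{v} A] [Abelian A]
  [HasColimitsOfShape (Discrete ℕ) A]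
  (P : ℕ → CochainComplex A ℤ) (φ : ∀ n, P n ⟶ P (n + 1))

/-- `1 - shift` on the coproduct of the complexes. -/
noncomputable abbrev telD : ∐ P ⟶ ∐ P := 𝟙 (∐ P) - DerLim.shiftMap P φ

/-- the telescope of a sequence of complexes. -/
noncomputable abbrev tel : CochainComplex A ℤ := CochainComplex.mappingCone (telD P φ)

lemma tel_isKProjective [∀ n, (P n).IsKProjective] : (tel P φ).IsKProjective := by
  haveI := isKProjective_sigma P
  exact isKProjective_mappingCone _

lemma tel_projective (hP : ∀ n i, Projective ((P n).X i)) (i : ℤ) :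
    Projective ((tel P φ).X i) :=
  projective_mappingCone_X _ (projective_sigma_X P hP) (projective_sigma_X P hP) i

/-- the canonical maps to the telescope. -/
noncomputable abbrev telι (n : ℕ) : P n ⟶ tel P φ :=
  Sigma.ι P n ≫ CochainComplex.mappingCone.inr (telD P φ)

section

variable [HasDerivedCategory.{w} A] [HasExactColimitsOfShape (Discrete ℕ) A]

instance : HasCoproduct (fun n => Q.obj (P n)) := ⟨⟨⟨_, isColimitQCofan P⟩⟩⟩

/-- the comparison `∐ Q(P n) ≅ Q(∐ P n)`. -/
noncomputable def sigmaQIso : (∐ fun n => Q.obj (P n)) ≅ Q.obj (∐ P) :=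
  IsColimit.coconePointUniqueUpToIso (coproductIsCoproduct _) (isColimitQCofan P)

@[reassoc]
lemma ι_sigmaQIso_hom (n : ℕ) :
    Sigma.ι (fun n => Q.obj (P n)) n ≫ (sigmaQIso P).hom = Q.map (Sigma.ι P n) :=
  IsColimit.comp_coconePointUniqueUpToIso_hom (coproductIsCoproduct _) (isColimitQCofan P) ⟨n⟩

omit [HasColimitsOfShape (Discrete ℕ) A] [HasExactColimitsOfShape (Discrete ℕ) A] in
lemma tri_aux (T : Triangle (DerivedCategory A)) {X : DerivedCategory A} (σ : X ≅ T.obj₁) :
    (T.mor₃ ≫ (shiftFunctor (DerivedCategory A) (1 : ℤ)).map σ.inv) ≫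
      (shiftFunctor (DerivedCategory A) (1 : ℤ)).map σ.hom = 𝟙 _ ≫ T.mor₃ := by
  rw [Category.id_comp, Category.assoc, ← Functor.map_comp, Iso.inv_hom_id, CategoryTheory.Functor.map_id,
    Category.comp_id]

theorem isHocolim_tel :
    DerLim.IsHocolim (fun n => Q.obj (P n)) (fun n => Q.map (φ n)) (Q.obj (tel P φ))
      (fun n => Q.map (telι P φ n)) := by
  have hT := mappingCone_triangle_distinguished (telD P φ)
  refine ⟨(Q.mapTriangle.obj (CochainComplex.mappingCone.triangle (telD P φ))).mor₃ ≫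
    (shiftFunctor (DerivedCategory A) (1 : ℤ)).map (sigmaQIso P).inv, ?_⟩
  refine isomorphic_distinguished _ hT _ ?_
  refine Triangle.isoMk _ _ (sigmaQIso P) (sigmaQIso P) (Iso.refl _) ?_ ?_ ?_
  · -- first square
    change (𝟙 _ - DerLim.shiftMap (fun n => Q.obj (P n)) (fun n => Q.map (φ n))) ≫
      (sigmaQIso P).hom = (sigmaQIso P).hom ≫ Q.map (telD P φ)
    apply Sigma.hom_ext
    intro n
    rw [Preadditive.sub_comp, Preadditive.comp_sub, Category.id_comp,
      reassoc_of% (ι_shiftMap (fun n => Q.obj (P n)) (fun n => Q.map (φ n)) n),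
      ι_sigmaQIso_hom, ι_sigmaQIso_hom, ι_sigmaQIso_hom_assoc, ← Q.map_comp, ← Q.map_comp,
      ← Q.map_sub]
    congr 1
    rw [Preadditive.comp_sub, Category.comp_id, ι_shiftMap]
  · change Sigma.desc (fun n => Q.map (telι P φ n)) ≫ 𝟙 _ =
      (sigmaQIso P).hom ≫ Q.map (CochainComplex.mappingCone.inr (telD P φ))
    apply Sigma.hom_ext
    intro n
    rw [Category.comp_id, Sigma.ι_desc, ι_sigmaQIso_hom_assoc, ← Q.map_comp]
  · exact tri_aux (Q.mapTriangle.obj (CochainComplex.mappingCone.triangle (telD P φ)))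
      (X := ∐ fun n => Q.obj (P n)) (sigmaQIso P)

end

end Groth.Agent.Lib.Helper16.KPR
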