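import Mathlib
import Groth.Prelude.Def_DRing2
import Groth.Agent.Lib.Helper16.PC1

/-!
# Helper16 — PC2: `DRing.IsPseudoCoherent` in terms of `PC.IsPC`, two out of three.
-/

open CategoryTheory CategoryTheory.Limits DerivedCategory CategoryTheory.Pretriangulated

namespace Groth.Agent.Lib.Helper16.PC

universe u

attribute [local instance] HasDerivedCategory.standard

variable {R : Type u} [CommRing R]

/-- finite free modules -/
def FinFree (M : ModuleCat.{u} R) : Prop := Module.Finite R M ∧ Module.Free R M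

lemma isPseudoCoherent_iff (m : ℤ) (K : Dual.D R) :
    DRing.IsPseudoCoherent R m K ↔ IsPC (FinFree (R := R)) m K := by
  constructor
  · rintro ⟨E, a, b, α, h1, h2, h3, h4⟩
    exact ⟨E, a, b, α, h1, h2, h3, h4⟩
  · rintro ⟨E, a, b, α, h1, h2, h3, h4⟩
    exact ⟨E, a, b, α, h1, h2, h3, h4⟩

lemma finFree_iso (X Y : ModuleCat.{u} R) (e : X ≅ Y) (h : FinFree X) : FinFree Y := by
  obtain ⟨h1, h2⟩ := h
  exact ⟨Module.Finite.equiv e.toLinearEquiv, Module.Free.of_equiv e.toLinearEquiv⟩

lemma finFree_biprod (X Y : ModuleCat.{u} R) (hX : FinFree X) (hY : FinFree Y) :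
    FinFree (X ⊞ Y) := by
  obtain ⟨h1, h2⟩ := hX
  obtain ⟨h3, h4⟩ := hY
  refine finFree_iso _ _ (ModuleCat.biprodIsoProd X Y).symm ?_
  exact ⟨(inferInstance : Module.Finite R (X × Y)), (inferInstance : Module.Free R (X × Y))⟩

lemma finFree_zero (X : ModuleCat.{u} R) (h : IsZero X) : FinFree X := by
  have := ModuleCat.subsingleton_of_isZero h
  exact ⟨inferInstance, inferInstance⟩

lemma finFree_proj (X : ModuleCat.{u} R) (h : FinFree X) : Projective X := by
  obtain ⟨h1, h2⟩ := h
  exact (IsProjective.iff_projective _).1 Module.Projective.of_free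

/-- S2067 -/
theorem isPseudoCoherent_two_of_three (T : Triangle (Dual.D R)) (hT : T ∈ distinguishedTriangles)
    (m : ℤ) :
    (DRing.IsPseudoCoherent R (m + 1) T.obj₁ → DRing.IsPseudoCoherent R m T.obj₂ →
        DRing.IsPseudoCoherent R m T.obj₃) ∧
      (DRing.IsPseudoCoherent R m T.obj₁ → DRing.IsPseudoCoherent R m T.obj₃ →
        DRing.IsPseudoCoherent R m T.obj₂) ∧
      (DRing.IsPseudoCoherent R (m + 1) T.obj₂ → DRing.IsPseudoCoherent R m T.obj₃ →
        DRing.IsPseudoCoherent R (m + 1) T.obj₁) := by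
  simp only [isPseudoCoherent_iff]
  exact IsPC.two_of_three finFree_proj finFree_biprod finFree_iso finFree_zero T hT m

end Groth.Agent.Lib.Helper16.PC
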