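import Mathlib
import Groth.Agent.Lib.Helper16.PC2

/-!
# Helper16 — PC3: direct summands of `m`-pseudo-coherent objects are `m`-pseudo-coherent.
-/

open CategoryTheory CategoryTheory.Limits CategoryTheory.Pretriangulated DerivedCategory
open ZeroObject

namespace Groth.Agent.Lib.Helper16.PC

universe v u

section triangulated

variable {C : Type*} [Category C] [Preadditive C] [HasZeroObject C] [HasShift C ℤ]
  [∀ n : ℤ, (shiftFunctor C n).Additive] [Pretriangulated C] [IsTriangulated C]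

/-- the split triangle with the summands swapped. -/
lemma binaryBiproductTriangle'_distinguished (X₁ X₂ : C) :
    Triangle.mk (biprod.inr : X₂ ⟶ X₁ ⊞ X₂) (biprod.fst : X₁ ⊞ X₂ ⟶ X₁) (0 : X₁ ⟶ X₂⟦(1 : ℤ)⟧) ∈
      distTriang C := by
  refine isomorphic_distinguished _ (binaryBiproductTriangle_distinguished X₂ X₁) _ ?_
  refine Triangle.isoMk _ _ (Iso.refl _) (biprod.braiding X₁ X₂) (Iso.refl _) ?_ ?_ ?_
  · change (biprod.inr : X₂ ⟶ X₁ ⊞ X₂) ≫ (biprod.braiding X₁ X₂).hom =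
      𝟙 X₂ ≫ (biprod.inl : X₂ ⟶ X₂ ⊞ X₁)
    rw [Category.id_comp]
    ext <;> simp
  · change (biprod.fst : X₁ ⊞ X₂ ⟶ X₁) ≫ 𝟙 X₁ =
      (biprod.braiding X₁ X₂).hom ≫ (biprod.snd : X₂ ⊞ X₁ ⟶ X₁)
    simp
  · change (0 : X₁ ⟶ X₂⟦(1 : ℤ)⟧) ≫ (𝟙 X₂)⟦(1 : ℤ)⟧' = 𝟙 X₁ ≫ 0
    simp

/-- For the idempotent `e = snd ≫ inr` on `L ⊞ K`, the cone `Z` of `e` sits in a distinguished triangle
`L⟦1⟧ ⟶ Z ⟶ L ⟶ L⟦1⟧⟦1⟧`. -/
lemma exists_cone_idempotent (L K : C) :
    ∃ (Z : C) (g : L ⊞ K ⟶ Z) (h : Z ⟶ (L ⊞ K)⟦(1 : ℤ)⟧) (m₁ : L⟦(1 : ℤ)⟧ ⟶ Z) (m₃ : Z ⟶ L)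
      (δ : L ⟶ (L⟦(1 : ℤ)⟧)⟦(1 : ℤ)⟧),
      Triangle.mk ((biprod.snd : L ⊞ K ⟶ K) ≫ (biprod.inr : K ⟶ L ⊞ K)) g h ∈ distTriang C ∧
        Triangle.mk m₁ m₃ δ ∈ distTriang C := by
  obtain ⟨Z, g, h, hT⟩ := distinguished_cocone_triangle
    ((biprod.snd : L ⊞ K ⟶ K) ≫ (biprod.inr : K ⟶ L ⊞ K))
  have h12 := rot_of_distTriang _ (binaryBiproductTriangle_distinguished L K)
  have h23 := binaryBiproductTriangle'_distinguished L K
  have o := Triangulated.someOctahedron rfl h12 h23 hT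
  exact ⟨Z, g, h, o.m₁, o.m₃, _, hT, o.mem⟩

end triangulated

section summand

variable {A : Type u} [Category.{v} A] [Abelian A] [HasDerivedCategory A] {Pc : A → Prop}

lemma IsPC.of_isLE (hPc_zero : ∀ X, IsZero X → Pc X) (K : DerivedCategory A) (m m' : ℤ)
    (hK : K.IsLE m') (hm : m' < m) : IsPC Pc m K := by
  have h0 : IsZero (0 : CochainComplex A ℤ) := isZero_zero _
  have hQ : IsZero (Q.obj (0 : CochainComplex A ℤ)) := Functor.map_isZero Q h0
  refine ⟨0, 0, 0, 0, fun i _ => ?_, fun i => hPc_zero _ ?_, ⟨fun i hi => ?_, ?_⟩⟩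
  · exact Functor.map_isZero (HomologicalComplex.eval A (ComplexShape.up ℤ) i) h0
  · exact Functor.map_isZero (HomologicalComplex.eval A (ComplexShape.up ℤ) i) h0
  · have h1 : IsZero ((homologyFunctor A i).obj (Q.obj (0 : CochainComplex A ℤ))) :=
      Functor.map_isZero _ hQ
    have h2 : IsZero ((homologyFunctor A i).obj K) := (isLE_iff K m').1 hK i (by omega)
    exact ⟨⟨0, h1.eq_of_src _ _, h2.eq_of_src _ _⟩⟩
  · have h2 : IsZero ((homologyFunctor A m).obj K) := (isLE_iff K m').1 hK m hm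
    exact ⟨fun _ _ _ => h2.eq_of_src _ _⟩

lemma IsPC.exists_isLE {m : ℤ} {K : DerivedCategory A} (h : IsPC Pc m K) : ∃ b : ℤ, K.IsLE b := by
  obtain ⟨E, a, b, α, h1, h2, h3⟩ := h
  refine ⟨max m b, (isLE_iff K _).2 (fun i hi => ?_)⟩
  have hi1 : m < i := lt_of_le_of_lt (le_max_left _ _) hi
  have hi2 : b < i := lt_of_le_of_lt (le_max_right _ _) hi
  have := h3.1 i hi1
  have hz : IsZero ((homologyFunctor A i).obj (Q.obj E)) := by
    refine IsZero.of_iso ?_ ((homologyFunctorFactors A i).app E)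
    exact (HomologicalComplex.ExactAt.of_isZero (h1 i (Or.inr hi2))).isZero_homology
  exact hz.of_iso (asIso ((homologyFunctor A i).map α)).symm

variable (hPc_proj : ∀ X, Pc X → Projective X)
  (hPc_biprod : ∀ X Y, Pc X → Pc Y → Pc (X ⊞ Y)) (hPc_iso : ∀ X Y, (X ≅ Y) → Pc X → Pc Y)
  (hPc_zero : ∀ X, IsZero X → Pc X)

include hPc_proj hPc_biprod hPc_iso hPc_zero

/-- a direct summand of an `m`-pseudo-coherent object is `m`-pseudo-coherent. -/
theorem IsPC.of_biprod_left {m : ℤ} (L K : DerivedCategory A) (hS : IsPC Pc m (L ⊞ K)) :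
    IsPC Pc m L := by
  obtain ⟨b, hb⟩ := hS.exists_isLE
  have hLb : L.IsLE b := by
    rw [isLE_iff] at hb ⊢
    intro i hi
    rw [IsZero.iff_id_eq_zero, ← CategoryTheory.Functor.map_id, ← biprod.inl_fst (X := L) (Y := K),
      Functor.map_comp]
    rw [(hb i hi).eq_of_tgt ((homologyFunctor A i).map (biprod.inl : L ⟶ L ⊞ K)) 0, zero_comp]
  obtain ⟨Z, g, h', m₁, m₃, δ, hT1, hT2⟩ := exists_cone_idempotent L K
  have h3 := IsPC.two_of_three hPc_proj hPc_biprod hPc_iso hPc_zero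
  have hZ : IsPC Pc m Z :=
    (h3 _ (rot_of_distTriang _ hT1) m).2.1 hS ((hS.shift 1 (m - 1) (by omega)).of_le (by omega))
  have key : ∀ (n : ℕ) (m' : ℤ), m ≤ m' → b + 1 - m' ≤ n → IsPC Pc m' L := by
    intro n
    induction n with
    | zero =>
      intro m' _ hn
      exact IsPC.of_isLE hPc_zero L m' b hLb (by omega)
    | succ n ih =>
      intro m' hm hn
      by_cases hb' : b < m'
      · exact IsPC.of_isLE hPc_zero L m' b hLb hb'
      · have h2 : IsPC Pc (m' + 2) L := ih (m' + 2) (by omega) (by push_cast at hn; omega)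
        exact (h3 _ hT2 m').1 (h2.shift 1 (m' + 1) (by omega)) (hZ.of_le hm)
  exact key (b + 1 - m).toNat m le_rfl (Int.self_le_toNat _)

theorem IsPC.of_biprod_right {m : ℤ} (L K : DerivedCategory A) (hS : IsPC Pc m (L ⊞ K)) :
    IsPC Pc m K :=
  IsPC.of_biprod_left hPc_proj hPc_biprod hPc_iso hPc_zero K L (hS.of_iso (biprod.braiding L K))

/-- a retract of an `m`-pseudo-coherent object is `m`-pseudo-coherent. -/
theorem IsPC.of_retract {m : ℤ} {L S : DerivedCategory A} (r : L ⟶ S) (s : S ⟶ L)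
    (hrs : r ≫ s = 𝟙 L) (hS : IsPC Pc m S) : IsPC Pc m L := by
  obtain ⟨K', g, w, hT⟩ := distinguished_cocone_triangle r
  have hw : w = 0 := by
    have h1 : w ≫ r⟦(1 : ℤ)⟧' = 0 := comp_distTriang_mor_zero₃₁ _ hT
    have h2 : r⟦(1 : ℤ)⟧' ≫ s⟦(1 : ℤ)⟧' = 𝟙 _ := by
      rw [← Functor.map_comp, hrs, CategoryTheory.Functor.map_id]
    calc w = w ≫ r⟦(1 : ℤ)⟧' ≫ s⟦(1 : ℤ)⟧' := by rw [h2, Category.comp_id]
      _ = 0 := by rw [reassoc_of% h1, zero_comp]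
  obtain ⟨e, -⟩ := exists_iso_binaryBiproduct_of_distTriang _ hT hw
  exact IsPC.of_biprod_left hPc_proj hPc_biprod hPc_iso hPc_zero L K' (hS.of_iso e)

end summand

end Groth.Agent.Lib.Helper16.PC
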