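import Mathlib
import Groth.Agent.Lib.Helper16.PC3

/-!
# Helper16 — PC4: peeling the top term of a bounded above complex
(`0 ⟶ K^b[-b] ⟶ K ⟶ τ_{<b} K ⟶ 0`), and: a bounded above complex whose terms (placed in their
degrees) are `m`-pseudo-coherent is `m`-pseudo-coherent.
-/

open CategoryTheory CategoryTheory.Limits CategoryTheory.Pretriangulated DerivedCategory
open ZeroObject

namespace Groth.Agent.Lib.Helper16.PC

universe w v u

variable {A : Type u} [Category.{v} A] [Abelian A]

namespace Top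

/-- the inclusion `K^b[-b] ⟶ K` for a complex vanishing above `b`. -/
noncomputable def ιTop (K : CochainComplex A ℤ) (b : ℤ) (hK : ∀ i : ℤ, b < i → IsZero (K.X i)) :
    (HomologicalComplex.single A (ComplexShape.up ℤ) b).obj (K.X b) ⟶ K :=
  HomologicalComplex.mkHomFromSingle (𝟙 (K.X b)) (fun j hj => by
    have : b + 1 = j := hj
    exact (hK j (by omega)).eq_of_tgt _ _)

/-- the short complex `0 ⟶ K^b[-b] ⟶ K ⟶ τ_{<b} K ⟶ 0` -/
noncomputable def sc (K : CochainComplex A ℤ) (b : ℤ) (hK : ∀ i : ℤ, b < i → IsZero (K.X i)) :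
    ShortComplex (CochainComplex A ℤ) :=
  ShortComplex.mk (ιTop K b hK) (cokernel.π (ιTop K b hK)) (cokernel.condition _)

lemma mono_ιTop (K : CochainComplex A ℤ) (b : ℤ) (hK : ∀ i : ℤ, b < i → IsZero (K.X i)) :
    Mono (ιTop K b hK) := by
  apply HomologicalComplex.mono_of_mono_f
  intro i
  by_cases h : i = b
  · subst h
    have : (ιTop K i hK).f i =
        (HomologicalComplex.singleObjXSelf (ComplexShape.up ℤ) i (K.X i)).hom ≫ 𝟙 _ :=
      HomologicalComplex.mkHomFromSingle_f _ _
    rw [this]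
    infer_instance
  · exact ⟨fun _ _ _ =>
      (HomologicalComplex.isZero_single_obj_X (ComplexShape.up ℤ) b _ i h).eq_of_tgt _ _⟩

lemma sc_shortExact (K : CochainComplex A ℤ) (b : ℤ) (hK : ∀ i : ℤ, b < i → IsZero (K.X i)) :
    (sc K b hK).ShortExact :=
  { exact := ShortComplex.exact_cokernel _
    mono_f := mono_ιTop K b hK
    epi_g := (inferInstance : Epi (cokernel.π (ιTop K b hK))) }

/-- the brutal truncation `τ_{<b} K`. -/
noncomputable abbrev τ (K : CochainComplex A ℤ) (b : ℤ) (hK : ∀ i : ℤ, b < i → IsZero (K.X i)) :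
    CochainComplex A ℤ := (sc K b hK).X₃

lemma isIso_τπ_f (K : CochainComplex A ℤ) (b : ℤ) (hK : ∀ i : ℤ, b < i → IsZero (K.X i)) (i : ℤ)
    (hi : i ≠ b) : IsIso ((sc K b hK).g.f i) := by
  have h1 := (HomologicalComplex.shortExact_iff_degreewise_shortExact _).1 (sc_shortExact K b hK) i
  have h2 : ((sc K b hK).map (HomologicalComplex.eval A (ComplexShape.up ℤ) i)).f = 0 :=
    (HomologicalComplex.isZero_single_obj_X (ComplexShape.up ℤ) b _ i hi).eq_of_src _ _
  have h3 : Mono ((sc K b hK).g.f i) := h1.exact.mono_g h2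
  have h4 : Epi ((sc K b hK).g.f i) := h1.epi_g
  exact isIso_of_mono_of_epi ((sc K b hK).g.f i)

/-- `τ_{<b} K` agrees with `K` away from degree `b`. -/
noncomputable def τXIso (K : CochainComplex A ℤ) (b : ℤ) (hK : ∀ i : ℤ, b < i → IsZero (K.X i))
    (i : ℤ) (hi : i ≠ b) : K.X i ≅ (τ K b hK).X i :=
  haveI := isIso_τπ_f K b hK i hi
  (asIso ((sc K b hK).g.f i) : (sc K b hK).X₂.X i ≅ (sc K b hK).X₃.X i)

lemma isZero_τ_X (K : CochainComplex A ℤ) (b : ℤ) (hK : ∀ i : ℤ, b < i → IsZero (K.X i)) :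
    IsZero ((τ K b hK).X b) := by
  have h1 := (HomologicalComplex.shortExact_iff_degreewise_shortExact _).1 (sc_shortExact K b hK) b
  have h2 : Epi ((sc K b hK).map (HomologicalComplex.eval A (ComplexShape.up ℤ) b)).f := by
    change Epi ((ιTop K b hK).f b)
    have : (ιTop K b hK).f b =
        (HomologicalComplex.singleObjXSelf (ComplexShape.up ℤ) b (K.X b)).hom ≫ 𝟙 _ :=
      HomologicalComplex.mkHomFromSingle_f _ _
    rw [this]
    infer_instance
  have h3 := h1.exact.epi_f_iff.1 h2
  have h4 : Epi ((sc K b hK).g.f b) := h1.epi_g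
  have h5 : (sc K b hK).g.f b = 0 := h3
  exact IsZero.of_epi_eq_zero _ h5

end Top

variable [HasDerivedCategory.{w} A] {Pc : A → Prop}

lemma isPC_of_isZero (hPc_zero : ∀ X, IsZero X → Pc X) (K : DerivedCategory A) (hK : IsZero K)
    (m : ℤ) : IsPC Pc m K :=
  IsPC.of_isLE hPc_zero K m (m - 1)
    ((isLE_iff _ _).2 fun i _ => Functor.map_isZero _ hK) (by omega)

lemma isPC_single (hPc_zero : ∀ X, IsZero X → Pc X) (hPc_iso : ∀ X Y, (X ≅ Y) → Pc X → Pc Y)
    (X : A) (hX : Pc X) (i m : ℤ) :
    IsPC Pc m (Q.obj ((HomologicalComplex.single A (ComplexShape.up ℤ) i).obj X)) := by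
  refine ⟨_, i, i, 𝟙 _, fun j hj => ?_, fun j => ?_, good_of_isIso m _⟩
  · exact HomologicalComplex.isZero_single_obj_X _ i X j (by omega)
  · by_cases h : j = i
    · subst h
      exact hPc_iso _ _ (HomologicalComplex.singleObjXSelf _ j X).symm hX
    · exact hPc_zero _ (HomologicalComplex.isZero_single_obj_X _ i X j h)

/-- a bounded above complex whose terms (placed in their degrees) are `m`-pseudo-coherent is
`m`-pseudo-coherent. -/
theorem isPC_of_boundedAbove (hPc_proj : ∀ X, Pc X → Projective X)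
    (hPc_biprod : ∀ X Y, Pc X → Pc Y → Pc (X ⊞ Y)) (hPc_iso : ∀ X Y, (X ≅ Y) → Pc X → Pc Y)
    (hPc_zero : ∀ X, IsZero X → Pc X) (m : ℤ) :
    ∀ (n : ℕ) (E : CochainComplex A ℤ) (b : ℤ), b + 1 - m ≤ n →
      (∀ i : ℤ, b < i → IsZero (E.X i)) →
      (∀ i : ℤ, IsPC Pc m
        (Q.obj ((HomologicalComplex.single A (ComplexShape.up ℤ) i).obj (E.X i)))) →
      IsPC Pc m (Q.obj E) := by
  have base : ∀ (E : CochainComplex A ℤ) (b : ℤ), b < m → (∀ i : ℤ, b < i → IsZero (E.X i)) →
      IsPC Pc m (Q.obj E) := by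
    intro E b hb hE
    have : E.IsStrictlyLE b := (CochainComplex.isStrictlyLE_iff _ _).2 hE
    exact IsPC.of_isLE hPc_zero _ m b inferInstance hb
  intro n
  induction n with
  | zero =>
    intro E b hn hE _
    exact base E b (by omega) hE
  | succ n ih =>
    intro E b hn hE hterm
    by_cases hb : b < m
    · exact base E b hb hE
    · have hT := triangleOfSES_distinguished (Top.sc_shortExact E b hE)
      have h3 := IsPC.two_of_three hPc_proj hPc_biprod hPc_iso hPc_zero _ hT m
      refine h3.2.1 (hterm b) ?_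
      refine ih (Top.τ E b hE) (b - 1) (by push_cast at hn; omega) ?_ ?_
      · intro i hi
        by_cases h : i = b
        · subst h
          exact Top.isZero_τ_X E i hE
        · exact (hE i (by omega)).of_iso (Top.τXIso E b hE i h).symm
      · intro i
        by_cases h : i = b
        · subst h
          refine isPC_of_isZero hPc_zero _ (Functor.map_isZero _ (Functor.map_isZero _ ?_)) m
          exact Top.isZero_τ_X E i hE
        · exact (hterm i).of_iso (Q.mapIso
            ((HomologicalComplex.single A (ComplexShape.up ℤ) i).mapIso (Top.τXIso E b hE i h)))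

end Groth.Agent.Lib.Helper16.PC
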