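import Mathlib
import Groth.Agent.Lib.Helper16.PC4

/-!
# Helper16 — PC5: bounded above complexes of finite free / finite projective modules are
`m`-pseudo-coherent for every `m`; summands of pseudo-coherent objects.
-/

open CategoryTheory CategoryTheory.Limits CategoryTheory.Pretriangulated DerivedCategory

namespace Groth.Agent.Lib.Helper16.PC

universe u

attribute [local instance] HasDerivedCategory.standard

variable {R : Type u} [CommRing R]

lemma pc_of_iso {m : ℤ} {K K' : Dual.D R} (h : DRing.IsPseudoCoherent R m K) (e : K ≅ K') :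
    DRing.IsPseudoCoherent R m K' :=
  (isPseudoCoherent_iff m K').2 (((isPseudoCoherent_iff m K).1 h).of_iso e)

lemma pc_of_le {m m' : ℤ} (hm : m ≤ m') {K : Dual.D R} (h : DRing.IsPseudoCoherent R m K) :
    DRing.IsPseudoCoherent R m' K :=
  (isPseudoCoherent_iff m' K).2 (((isPseudoCoherent_iff m K).1 h).of_le hm)

lemma pc_shift {m : ℤ} {K : Dual.D R} (h : DRing.IsPseudoCoherent R m K) (n m' : ℤ)
    (hm : m' + n = m) : DRing.IsPseudoCoherent R m' (K⟦n⟧) :=
  (isPseudoCoherent_iff m' _).2 (((isPseudoCoherent_iff m K).1 h).shift n m' hm)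

lemma pc_of_isLE (K : Dual.D R) (m m' : ℤ) (hK : K.IsLE m') (hm : m' < m) :
    DRing.IsPseudoCoherent R m K :=
  (isPseudoCoherent_iff m K).2 (IsPC.of_isLE finFree_zero K m m' hK hm)

/-- S6937, first half. -/
theorem pc_of_biprod {m : ℤ} (K L : Dual.D R) (h : DRing.IsPseudoCoherent R m (K ⊞ L)) :
    DRing.IsPseudoCoherent R m K ∧ DRing.IsPseudoCoherent R m L := by
  rw [isPseudoCoherent_iff] at h
  exact ⟨(isPseudoCoherent_iff m K).2
      (IsPC.of_biprod_left finFree_proj finFree_biprod finFree_iso finFree_zero K L h),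
    (isPseudoCoherent_iff m L).2
      (IsPC.of_biprod_right finFree_proj finFree_biprod finFree_iso finFree_zero K L h)⟩

theorem pc_of_retract {m : ℤ} {L S : Dual.D R} (r : L ⟶ S) (s : S ⟶ L) (hrs : r ≫ s = 𝟙 L)
    (h : DRing.IsPseudoCoherent R m S) : DRing.IsPseudoCoherent R m L := by
  rw [isPseudoCoherent_iff] at h ⊢
  exact IsPC.of_retract finFree_proj finFree_biprod finFree_iso finFree_zero r s hrs h

/-- a finite projective module placed in degree `i` is `m`-pseudo-coherent for all `m`. -/
lemma isPC_single_finProj (P : ModuleCat.{u} R) (hP : Module.Finite R P ∧ Module.Projective R P)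
    (i m : ℤ) :
    IsPC (FinFree (R := R)) m
      (Q.obj ((HomologicalComplex.single (ModuleCat.{u} R) (ComplexShape.up ℤ) i).obj P)) := by
  obtain ⟨h1, h2⟩ := hP
  obtain ⟨n, f, hf⟩ := Module.Finite.exists_fin' R P
  obtain ⟨s, hs⟩ := Module.projective_lifting_property f LinearMap.id hf
  let F : ModuleCat.{u} R := ModuleCat.of R (Fin n → R)
  have hF : FinFree F := ⟨(inferInstance : Module.Finite R (Fin n → R)),
    (inferInstance : Module.Free R (Fin n → R))⟩
  let r : P ⟶ F := ModuleCat.ofHom s
  let p : F ⟶ P := ModuleCat.ofHom f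
  have hrp : r ≫ p = 𝟙 P := by
    ext x
    exact LinearMap.congr_fun hs x
  refine IsPC.of_retract finFree_proj finFree_biprod finFree_iso finFree_zero
    (Q.map ((HomologicalComplex.single (ModuleCat.{u} R) (ComplexShape.up ℤ) i).map r))
    (Q.map ((HomologicalComplex.single (ModuleCat.{u} R) (ComplexShape.up ℤ) i).map p)) ?_
    (isPC_single finFree_zero finFree_iso F hF i m)
  rw [← Functor.map_comp, ← Functor.map_comp, hrp, CategoryTheory.Functor.map_id,
    CategoryTheory.Functor.map_id]

/-- bounded above complexes of finite projective modules are `m`-pseudo-coherent for all `m`. -/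
theorem pc_of_boundedAbove_finProj (E : DRing.Cx R) (b : ℤ) (hb : DRing.VanishesAbove E b)
    (hE : DRing.TermwiseFiniteProjective E) (m : ℤ) :
    DRing.IsPseudoCoherent R m (DRing.toD E) := by
  rw [isPseudoCoherent_iff]
  exact isPC_of_boundedAbove finFree_proj finFree_biprod finFree_iso finFree_zero m
    (b + 1 - m).toNat E b (Int.self_le_toNat _) hb (fun i => isPC_single_finProj _ (hE i) i m)

theorem pc_of_pc' {K : Dual.D R} (h : DRing.IsPseudoCoherent' R K) (m : ℤ) :
    DRing.IsPseudoCoherent R m K := by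
  obtain ⟨E, b, hb, hE, ⟨e⟩⟩ := h
  refine pc_of_iso (pc_of_boundedAbove_finProj E b hb (fun i => ?_) m) e
  have := (hE i).2
  exact ⟨(hE i).1, Module.Projective.of_free⟩

end Groth.Agent.Lib.Helper16.PC
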