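import Mathlib
import Groth.Agent.Lib.Helper16.PC5

/-!
# Helper16 — PC6: criteria for `m`-pseudo-coherence from finiteness of top cohomology.
-/

open CategoryTheory CategoryTheory.Limits CategoryTheory.Pretriangulated DerivedCategory

namespace Groth.Agent.Lib.Helper16.PC

universe w v u

section general

variable {A : Type u} [Category.{v} A] [Abelian A] [HasDerivedCategory.{w} A] {Pc : A → Prop}

open Groth.Agent.Lib.Helper8

/-- Lemma A: `K ∈ D^{≤ m}` with `H^m(K)` a quotient of an object of the class is `m`-pseudo-coherent. -/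
lemma IsPC.of_isLE_of_epi (hPc_zero : ∀ X, IsZero X → Pc X) (hPc_iso : ∀ X Y, (X ≅ Y) → Pc X → Pc Y)
    (X : A) (hX : Pc X) [Projective X] (K : DerivedCategory A) (m : ℤ) [K.IsLE m]
    (ψ : X ⟶ (homologyFunctor A m).obj K) [Epi ψ] : IsPC Pc m K := by
  obtain ⟨β, hβ⟩ := PAmp.exists_lift_of_projective m X K ψ
  let e : Q.obj ((HomologicalComplex.single A (ComplexShape.up ℤ) m).obj X) ≅
      (singleFunctor A m).obj X := Iso.refl _
  have hg : Good m β := by
    refine ⟨fun i hi => ?_, ?_⟩
    · have h1 : IsZero ((homologyFunctor A i).obj ((singleFunctor A m).obj X)) :=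
        (isLE_iff _ m).1 inferInstance i hi
      have h2 : IsZero ((homologyFunctor A i).obj K) := (isLE_iff K m).1 inferInstance i hi
      exact ⟨⟨0, h1.eq_of_src _ _, h2.eq_of_src _ _⟩⟩
    · rw [hβ]
      infer_instance
  refine ⟨(HomologicalComplex.single A (ComplexShape.up ℤ) m).obj X, m, m, e.hom ≫ β,
    fun j hj => ?_, fun j => ?_, (good_of_isIso m e.hom).comp hg⟩
  · exact HomologicalComplex.isZero_single_obj_X _ m X j (by omega)
  · by_cases h : j = m
    · subst h
      exact hPc_iso _ _ (HomologicalComplex.singleObjXSelf _ j X).symm hX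
    · exact hPc_zero _ (HomologicalComplex.isZero_single_obj_X _ m X j h)

end general

section modules

attribute [local instance] HasDerivedCategory.standard

variable {R : Type u} [CommRing R]

open Groth.Agent.Lib.Helper8

/-- Lemma A for modules. -/
lemma pc_of_isLE_of_finite (K : Dual.D R) (m : ℤ) (hK : K.IsLE m)
    (hfin : Module.Finite R ((homologyFunctor (ModuleCat.{u} R) m).obj K)) :
    DRing.IsPseudoCoherent R m K := by
  obtain ⟨n, f, hf⟩ := Module.Finite.exists_fin' R ((homologyFunctor (ModuleCat.{u} R) m).obj K)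
  let F : ModuleCat.{u} R := ModuleCat.of R (Fin n → R)
  have hF : FinFree F := ⟨(inferInstance : Module.Finite R (Fin n → R)),
    (inferInstance : Module.Free R (Fin n → R))⟩
  have : Projective F := finFree_proj F hF
  let ψ : F ⟶ (homologyFunctor (ModuleCat.{u} R) m).obj K := ModuleCat.ofHom f
  have : Epi ψ := (ModuleCat.epi_iff_surjective _).2 hf
  rw [isPseudoCoherent_iff]
  exact IsPC.of_isLE_of_epi finFree_zero finFree_iso F hF K m ψ

/-- S6936 -/
theorem pc_of_homology (m : ℤ) (K : Dual.D R)
    (hvan : ∀ i : ℤ, m + 1 < i → IsZero ((homologyFunctor (ModuleCat.{u} R) i).obj K))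
    (hfp : Module.FinitePresentation R ((homologyFunctor (ModuleCat.{u} R) (m + 1)).obj K))
    (hfin : Module.Finite R ((homologyFunctor (ModuleCat.{u} R) m).obj K)) :
    DRing.IsPseudoCoherent R m K := by
  have hK : K.IsLE (m + 1) := (isLE_iff _ _).2 hvan
  obtain ⟨n, f, hf⟩ :=
    Module.Finite.exists_fin' R ((homologyFunctor (ModuleCat.{u} R) (m + 1)).obj K)
  let F : ModuleCat.{u} R := ModuleCat.of R (Fin n → R)
  have hF : FinFree F := ⟨(inferInstance : Module.Finite R (Fin n → R)),
    (inferInstance : Module.Free R (Fin n → R))⟩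
  have hFp : Projective F := finFree_proj F hF
  let ψ : F ⟶ (homologyFunctor (ModuleCat.{u} R) (m + 1)).obj K := ModuleCat.ofHom f
  have hψ : Epi ψ := (ModuleCat.epi_iff_surjective _).2 hf
  obtain ⟨β, hβ⟩ := PAmp.exists_lift_of_projective (m + 1) F K ψ
  obtain ⟨C, g, h, hT⟩ := distinguished_cocone_triangle β
  have hSle : ∀ i : ℤ, m + 1 < i → IsZero ((homologyFunctor (ModuleCat.{u} R) i).obj
      ((singleFunctor (ModuleCat.{u} R) (m + 1)).obj F)) :=
    (isLE_iff _ (m + 1)).1 inferInstance
  have hepi : Epi ((homologyFunctor (ModuleCat.{u} R) (m + 1)).map β) := by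
    rw [hβ]; infer_instance
  have hg0 : (homologyFunctor (ModuleCat.{u} R) (m + 1)).map g = 0 :=
    (HomologySequence.epi_homologyMap_mor₁_iff _ hT (m + 1)).1 hepi
  have hgepi : ∀ i : ℤ, m + 1 ≤ i → Epi ((homologyFunctor (ModuleCat.{u} R) i).map g) :=
    fun i hi => (HomologySequence.epi_homologyMap_mor₂_iff _ hT i (i + 1) rfl).2
      ((hSle (i + 1) (by omega)).eq_of_tgt _ _)
  have hC : C.IsLE m := by
    rw [isLE_iff]
    intro i hi
    have := hgepi i (by omega)
    by_cases h1 : i = m + 1
    · subst h1
      exact IsZero.of_epi_eq_zero _ hg0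
    · exact IsZero.of_epi ((homologyFunctor (ModuleCat.{u} R) i).map g) (hvan i (by omega))
  have hCfin : Module.Finite R ((homologyFunctor (ModuleCat.{u} R) m).obj C) := by
    have e3 := HomologySequence.exact₃ _ hT m (m + 1) rfl
    have e1 := HomologySequence.exact₁ _ hT m (m + 1) rfl
    have z3 := HomologySequence.comp_δ _ hT m (m + 1) rfl
    have z1 := HomologySequence.δ_comp _ hT m (m + 1) rfl
    rw [ShortComplex.moduleCat_exact_iff] at e3 e1
    let a : ((homologyFunctor (ModuleCat.{u} R) m).obj K) →ₗ[R]
        ((homologyFunctor (ModuleCat.{u} R) m).obj C) :=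
      ((homologyFunctor (ModuleCat.{u} R) m).map g).hom
    let d : ((homologyFunctor (ModuleCat.{u} R) m).obj C) →ₗ[R]
        ((homologyFunctor (ModuleCat.{u} R) (m + 1)).obj
          ((singleFunctor (ModuleCat.{u} R) (m + 1)).obj F)) :=
      (HomologySequence.δ (Triangle.mk β g h) m (m + 1) rfl).hom
    let b : ((homologyFunctor (ModuleCat.{u} R) (m + 1)).obj
          ((singleFunctor (ModuleCat.{u} R) (m + 1)).obj F)) →ₗ[R]
        ((homologyFunctor (ModuleCat.{u} R) (m + 1)).obj K) :=
      ((homologyFunctor (ModuleCat.{u} R) (m + 1)).map β).hom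
    have hkb : (LinearMap.ker b).FG := by
      let ι := ((singleFunctorCompHomologyFunctorIso (ModuleCat.{u} R) (m + 1)).app F).toLinearEquiv
      have hb : b = f ∘ₗ ι.toLinearMap := by
        ext x
        exact congr($(hβ).hom x)
      have hkf : (LinearMap.ker f).FG := Module.FinitePresentation.fg_ker f hf
      rw [hb, LinearMap.ker_comp, Submodule.comap_equiv_eq_map_symm]
      exact hkf.map _
    rw [Module.finite_def]
    refine Submodule.fg_of_fg_map_of_fg_inf_ker d ?_ ?_
    · rw [Submodule.map_top]
      have : LinearMap.range d = LinearMap.ker b := by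
        ext x
        constructor
        · rintro ⟨y, rfl⟩
          exact congr($(z1).hom y)
        · intro hx
          exact e1 x hx
      rw [this]
      exact hkb
    · rw [top_inf_eq]
      have : LinearMap.ker d = LinearMap.range a := by
        ext x
        constructor
        · intro hx
          exact e3 x hx
        · rintro ⟨y, rfl⟩
          exact congr($(z3).hom y)
      rw [this, LinearMap.range_eq_map]
      exact Submodule.FG.map _ (Module.finite_def.1 hfin)
  have hCpc := pc_of_isLE_of_finite C m hC hCfin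
  have hSpc : DRing.IsPseudoCoherent R m ((singleFunctor (ModuleCat.{u} R) (m + 1)).obj F) := by
    rw [isPseudoCoherent_iff]
    exact isPC_single finFree_zero finFree_iso F hF (m + 1) m
  exact (isPseudoCoherent_two_of_three _ hT m).2.1 hSpc hCpc

end modules

end Groth.Agent.Lib.Helper16.PC
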