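import Mathlib
import Groth.Agent.Lib.Helper16.PC6

open CategoryTheory CategoryTheory.Limits DerivedCategory CategoryTheory.Pretriangulated

namespace Groth.Agent.Lib.Helper16.PC

open Groth.Agent.Lib.Helper8.PAmp Groth.Agent.Lib.Helper8.DRing2 Groth.Agent.Lib.Helper8

universe w v u

variable {A : Type u} [Category.{v} A] [Abelian A] [HasDerivedCategory.{w} A]

lemma exists_homotopy_of_Q_map_eq (S L : CochainComplex A ℤ) [S.IsKProjective] (f g : S ⟶ L)
    (h : Q.map f = Q.map g) : Nonempty (Homotopy f g) := by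
  have key : ∀ φ : S ⟶ L, Qh.map ((HomotopyCategory.quotient A (.up ℤ)).map φ) =
      (quotientCompQhIso A).hom.app S ≫ Q.map φ ≫ (quotientCompQhIso A).inv.app L := by
    intro φ
    have := (quotientCompQhIso A).hom.naturality φ
    simp only [Functor.comp_map] at this
    rw [← Category.assoc, ← this, Category.assoc, Iso.hom_inv_id_app]
    exact (Category.comp_id _).symm
  have h2 : (HomotopyCategory.quotient A (.up ℤ)).map f =
      (HomotopyCategory.quotient A (.up ℤ)).map g := by
    apply (CochainComplex.IsKProjective.Qh_map_bijective S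
      ((HomotopyCategory.quotient A (.up ℤ)).obj L)).injective
    rw [key, key, h]
  exact ⟨HomotopyCategory.homotopyOfEq f g h2⟩

/-- `inr φ` is an isomorphism in degree `i` when the source vanishes in degree `i + 1`. -/
lemma isIso_inr_f {S E : CochainComplex A ℤ} (φ : S ⟶ E) (i : ℤ) (h : IsZero (S.X (i + 1))) :
    IsIso ((CochainComplex.mappingCone.inr φ).f i) := by
  refine ⟨(CochainComplex.mappingCone.snd φ).v i i (add_zero i), ?_, ?_⟩
  · simp
  · have := CochainComplex.mappingCone.id_X φ i (i + 1) rfl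
    rw [h.eq_of_tgt ((CochainComplex.mappingCone.fst φ).1.v i (i + 1) rfl) 0, zero_comp,
      zero_add] at this
    exact this

variable (Pc : A → Prop)

/-- a stage of the inductive construction of a resolution of `L`. -/
structure Stage (L : CochainComplex A ℤ) (b : ℤ) where
  E : CochainComplex A ℤ
  n : ℤ
  a : E ⟶ L
  hn : n ≤ b + 1
  bdd : ∀ i : ℤ, i < n ∨ b < i → IsZero (E.X i)
  pc : ∀ i : ℤ, Pc (E.X i)
  good : Good n (Q.map a)

variable {Pc}

/-- one step of the construction. -/
structure Step {L : CochainComplex A ℤ} {b : ℤ} (s : Stage Pc L b) where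
  s' : Stage Pc L b
  hn : s'.n = s.n - 1
  ι : s.E ⟶ s'.E
  fac : ι ≫ s'.a = s.a
  iso : ∀ i : ℤ, i ≠ s.n - 1 → IsIso (ι.f i)

end Groth.Agent.Lib.Helper16.PC
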