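import Mathlib
import Groth.Agent.Lib.Helper16.PC7c

open CategoryTheory CategoryTheory.Limits DerivedCategory CategoryTheory.Pretriangulated

namespace Groth.Agent.Lib.Helper16.PC

open Groth.Agent.Lib.Helper8.PAmp Groth.Agent.Lib.Helper8.DRing2 Groth.Agent.Lib.Helper8

universe w v u

variable {A : Type u} [Category.{v} A] [Abelian A]

section colim

variable {X : ℕ → CochainComplex A ℤ} (f : ∀ k, X k ⟶ X (k + 1))

lemma isIso_ofSequence_map_f (i : ℤ) (k₀ : ℕ)
    (h : ∀ k, k₀ ≤ k → IsIso ((f k).f i)) (k k' : ℕ) (hk : k₀ ≤ k) (g : k ⟶ k') :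
    IsIso (((Functor.ofSequence f).map g).f i) := by
  obtain ⟨d, rfl⟩ := Nat.exists_eq_add_of_le (leOfHom g)
  obtain rfl := Subsingleton.elim g (homOfLE (by omega))
  induction d with
  | zero =>
    have : (homOfLE (show k ≤ k + 0 by omega)) = 𝟙 k := Subsingleton.elim _ _
    rw [this, CategoryTheory.Functor.map_id]
    exact (inferInstance : IsIso (𝟙 ((X k).X i)))
  | succ d ih =>
    have e : homOfLE (show k ≤ k + (d + 1) by omega) =
        homOfLE (show k ≤ k + d by omega) ≫ homOfLE (show k + d ≤ k + d + 1 by omega) :=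
      Subsingleton.elim _ _
    rw [e, Functor.map_comp, HomologicalComplex.comp_f]
    have h1 := ih
    have h2 := h (k + d) (by omega)
    rw [Functor.ofSequence_map_homOfLE_succ]
    exact @IsIso.comp_isIso _ _ _ _ _ _ _ h1 h2

variable [HasColimitsOfShape ℕ A] {c : Cocone (Functor.ofSequence f)} (hc : IsColimit c)

include hc

lemma isIso_ι_f (i : ℤ) (k₀ : ℕ) (h : ∀ k, k₀ ≤ k → IsIso ((f k).f i)) (k : ℕ) (hk : k₀ ≤ k) :
    IsIso ((c.ι.app k).f i) := by
  have hq : ((Functor.ofSequence f) ⋙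
      HomologicalComplex.eval A (ComplexShape.up ℤ) i).IsEventuallyConstantFrom k := by
    intro k' g
    exact isIso_ofSequence_map_f f i k₀ h k k' hk g
  exact hq.isIso_ι_of_isColimit
    (isColimitOfPreserves (HomologicalComplex.eval A (ComplexShape.up ℤ) i) hc)

lemma quasiIsoAt_ι (i : ℤ) (k : ℕ)
    (h : ∀ j : ℤ, (j = i - 1 ∨ j = i ∨ j = i + 1) → ∀ k', k ≤ k' → IsIso ((f k').f j)) :
    QuasiIsoAt (c.ι.app k) i := by
  rw [quasiIsoAt_iff' _ (i - 1) i (i + 1) (by simp) (by simp)]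
  let φ := (HomologicalComplex.shortComplexFunctor' A (ComplexShape.up ℤ) (i - 1) i (i + 1)).map
    (c.ι.app k)
  have : IsIso φ.τ₁ := isIso_ι_f f hc (i - 1) k (h _ (Or.inl rfl)) k le_rfl
  have : IsIso φ.τ₂ := isIso_ι_f f hc i k (h _ (Or.inr (Or.inl rfl))) k le_rfl
  have : IsIso φ.τ₃ := isIso_ι_f f hc (i + 1) k (h _ (Or.inr (Or.inr rfl))) k le_rfl
  apply ShortComplex.quasiIso_of_epi_of_isIso_of_mono

end colim

section seq

variable [HasDerivedCategory.{w} A] {Pc : A → Prop} {L : CochainComplex A ℤ} {b : ℤ}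
  (h : ∀ s : Stage Pc L b, Nonempty (Step s)) (s₀ : Stage Pc L b)

/-- the sequence of stages. -/
noncomputable def seq : ℕ → Stage Pc L b
  | 0 => s₀
  | k + 1 => (h (seq k)).some.s'

/-- the steps between consecutive stages. -/
noncomputable def stp (k : ℕ) : Step (seq h s₀ k) := (h (seq h s₀ k)).some

/-- the transition maps. -/
noncomputable def seqι (k : ℕ) : (seq h s₀ k).E ⟶ (seq h s₀ (k + 1)).E := (stp h s₀ k).ι

lemma seq_n (k : ℕ) : (seq h s₀ k).n = s₀.n - k := by
  induction k with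
  | zero => simp [seq]
  | succ k ih =>
    have h1 : (seq h s₀ (k + 1)).n = (seq h s₀ k).n - 1 := (stp h s₀ k).hn
    rw [h1, ih]
    push_cast
    ring

lemma seqι_fac (k : ℕ) : seqι h s₀ k ≫ (seq h s₀ (k + 1)).a = (seq h s₀ k).a := (stp h s₀ k).fac

lemma seqι_iso (k : ℕ) (i : ℤ) (hi : i ≠ s₀.n - k - 1) : IsIso ((seqι h s₀ k).f i) :=
  (stp h s₀ k).iso i (by rw [seq_n]; exact hi)

end seq

open ZeroObject in
/-- an object of `D(A)` which is `m`-pseudo-coherent for all `m` (relative to `Pc`) is represented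
by a bounded above complex with terms in `Pc`. -/
theorem exists_resolution [HasDerivedCategory.{w} A] [HasColimitsOfShape ℕ A] {Pc : A → Prop}
    (hPc_proj : ∀ X, Pc X → Projective X)
    (hPc_biprod : ∀ X Y, Pc X → Pc Y → Pc (X ⊞ Y)) (hPc_iso : ∀ X Y, (X ≅ Y) → Pc X → Pc Y)
    (hPc_zero : ∀ X, IsZero X → Pc X)
    (hPc_cover : ∀ (n : ℤ) (W : DerivedCategory A), W.IsLE n → IsPC Pc n W →
      ∃ (F : A) (_ : Pc F) (π : F ⟶ (homologyFunctor A n).obj W), Epi π)
    (L : CochainComplex A ℤ) (b : ℤ) (hb : (Q.obj L).IsLE b)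
    (hL : ∀ m : ℤ, IsPC Pc m (Q.obj L)) :
    ∃ (E : CochainComplex A ℤ) (a : E ⟶ L), (∀ i : ℤ, b < i → IsZero (E.X i)) ∧
      (∀ i : ℤ, Pc (E.X i)) ∧ QuasiIso a := by
  have hstep : ∀ s : Stage Pc L b, Nonempty (Step s) := fun s =>
    nonempty_step hPc_proj hPc_biprod hPc_iso hPc_zero hPc_cover s (hL _)
  have h0 : IsZero (0 : CochainComplex A ℤ) := isZero_zero _
  have h0X : ∀ i : ℤ, IsZero ((0 : CochainComplex A ℤ).X i) := fun i =>
    Functor.map_isZero (HomologicalComplex.eval A (ComplexShape.up ℤ) i) h0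
  have hQ0 : IsZero (Q.obj (0 : CochainComplex A ℤ)) := Functor.map_isZero Q h0
  let s₀ : Stage Pc L b :=
    { E := 0, n := b + 1, a := 0, hn := le_rfl, bdd := fun i _ => h0X i,
      pc := fun i => hPc_zero _ (h0X i)
      good := by
        refine ⟨fun i hi => ?_, ?_⟩
        · have h1 : IsZero ((homologyFunctor A i).obj (Q.obj (0 : CochainComplex A ℤ))) :=
            Functor.map_isZero _ hQ0
          have h2 : IsZero ((homologyFunctor A i).obj (Q.obj L)) :=
            (isLE_iff _ b).1 hb i (by omega)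
          exact ⟨⟨0, h1.eq_of_src _ _, h2.eq_of_src _ _⟩⟩
        · have h2 : IsZero ((homologyFunctor A (b + 1)).obj (Q.obj L)) :=
            (isLE_iff _ b).1 hb (b + 1) (by omega)
          exact ⟨fun _ _ _ => h2.eq_of_src _ _⟩ }
  let f := seqι hstep s₀
  let F := Functor.ofSequence f
  let c := colimit.cocone F
  have hc : IsColimit c := colimit.isColimit F
  have hiso : ∀ (i : ℤ) (k : ℕ), b - i < k → IsIso ((f k).f i) := fun i k hk =>
    seqι_iso hstep s₀ k i (by simp only [s₀]; omega)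
  have hιiso : ∀ i : ℤ, IsIso ((c.ι.app (b - i + 1).toNat).f i) := fun i =>
    isIso_ι_f f hc i _ (fun k hk => hiso i k (by omega)) _ le_rfl
  let a : c.pt ⟶ L := hc.desc ⟨L, NatTrans.ofSequence (F := F) (G := (Functor.const ℕ).obj L)
    (fun k => (seq hstep s₀ k).a) (fun k => by
      simp only [F, Functor.ofSequence_map_homOfLE_succ, Functor.const_obj_obj,
        Functor.const_obj_map]
      exact (seqι_fac hstep s₀ k).trans (Category.comp_id _).symm)⟩
  have ha : ∀ k, c.ι.app k ≫ a = (seq hstep s₀ k).a := fun k => hc.fac _ k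
  refine ⟨c.pt, a, ?_, ?_, ?_⟩
  · intro i hi
    have := hιiso i
    exact ((seq hstep s₀ _).bdd i (Or.inr hi)).of_iso
      (asIso ((c.ι.app (b - i + 1).toNat).f i)).symm
  · intro i
    have := hιiso i
    exact hPc_iso _ _ (asIso ((c.ι.app (b - i + 1).toNat).f i)) ((seq hstep s₀ _).pc i)
  · rw [quasiIso_iff]
    intro i
    let k := (b - i + 3).toNat
    have h1 : QuasiIsoAt (c.ι.app k) i := quasiIsoAt_ι f hc i k (fun j hj k' hk' =>
      hiso j k' (by rcases hj with rfl | rfl | rfl <;> omega))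
    have h2 : QuasiIsoAt ((seq hstep s₀ k).a) i := by
      have hn : (seq hstep s₀ k).n < i := by
        rw [seq_n]
        simp only [s₀]
        omega
      have h3 := (seq hstep s₀ k).good.1 i hn
      rw [quasiIsoAt_iff_isIso_homologyMap]
      exact (NatIso.isIso_map_iff (homologyFunctorFactors A i) (seq hstep s₀ k).a).1 h3
    rw [← ha k] at h2
    exact @quasiIsoAt_of_comp_left _ _ _ _ _ _ _ _ (c.ι.app k) a i _ _ _ h1 h2

end Groth.Agent.Lib.Helper16.PC
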