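import Mathlib
import Groth.Agent.Lib.Helper16.PC7d

/-!
# Helper16 — PC12: resolutions of bounded above objects of `D(A)` by bounded above complexes
with terms in a class `Pc` of projective objects which covers everything
(variant of PC7c/PC7d without pseudo-coherence hypotheses).
-/

open CategoryTheory CategoryTheory.Limits DerivedCategory CategoryTheory.Pretriangulated

namespace Groth.Agent.Lib.Helper16.PC

open Groth.Agent.Lib.Helper8.PAmp Groth.Agent.Lib.Helper8.DRing2 Groth.Agent.Lib.Helper8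

universe w v u

variable {A : Type u} [Category.{v} A] [Abelian A]

section

variable [HasDerivedCategory.{w} A] {Pc : A → Prop}

theorem nonempty_step' (hPc_proj : ∀ X, Pc X → Projective X)
    (hPc_biprod : ∀ X Y, Pc X → Pc Y → Pc (X ⊞ Y)) (hPc_iso : ∀ X Y, (X ≅ Y) → Pc X → Pc Y)
    (hPc_zero : ∀ X, IsZero X → Pc X)
    (hPc_cover : ∀ (n : ℤ) (W : DerivedCategory A), W.IsLE n →
      ∃ (F : A) (_ : Pc F) (π : F ⟶ (homologyFunctor A n).obj W), Epi π)
    {L : CochainComplex A ℤ} {b : ℤ} (s : Stage Pc L b) :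
    Nonempty (Step s) := by
  obtain ⟨E, n, a, hn, bdd, pc, good⟩ := s
  -- the fiber
  obtain ⟨W, j, δ, hTW⟩ := distinguished_cocone_triangle₁ (Q.map a)
  have hW : W.IsLE n := by
    have h1 : (W⟦(1 : ℤ)⟧).IsLE (n - 1) :=
      (good_iff_isLE _ (rot_of_distTriang _ hTW) n (n - 1) (by omega)).1 good
    have h2 : ((W⟦(1 : ℤ)⟧)⟦(-1 : ℤ)⟧).IsLE n :=
      (TStructure.t).isLE_shift _ (n - 1) (-1) n (by omega)
    have h3 : TStructure.t.IsLE ((shiftFunctor (DerivedCategory A) (1 : ℤ) ⋙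
        shiftFunctor (DerivedCategory A) (-1 : ℤ)).obj W) n := h2
    exact (TStructure.t).isLE_of_iso
      ((shiftFunctorCompIsoId (DerivedCategory A) (1 : ℤ) (-1) (by norm_num)).app W) n
  obtain ⟨F, hF, π, hπ⟩ := hPc_cover n W hW
  haveI : Projective F := hPc_proj F hF
  let S₀ : CochainComplex A ℤ := (CochainComplex.singleFunctor A n).obj F
  obtain ⟨β, hβ⟩ : ∃ β : Q.obj S₀ ⟶ W, Epi ((homologyFunctor A n).map β) := by
    obtain ⟨β, hβ⟩ := exists_lift_of_projective n F W π
    have hβ' : Epi ((homologyFunctor A n).map β) := by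
      rw [hβ]
      infer_instance
    exact ⟨β, hβ'⟩
  have hS₀X : ∀ i : ℤ, i ≠ n → IsZero (S₀.X i) := fun i hi =>
    HomologicalComplex.isZero_single_obj_X (ComplexShape.up ℤ) n F i hi
  haveI : S₀.IsKProjective := isKProjective_single n F
  -- `β` is good
  have hβgood : Good n β := by
    refine ⟨fun i hi => ?_, ?_⟩
    · have h1 : IsZero ((homologyFunctor A i).obj ((singleFunctor A n).obj F)) :=
        isZero_homology_single n F i (by omega)
      have h2 : IsZero ((homologyFunctor A i).obj W) := (isLE_iff W n).1 hW i hi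
      exact ⟨⟨0, h1.eq_of_src _ _, h2.eq_of_src _ _⟩⟩
    · exact hβ
  obtain ⟨Cβ, gβ, hβ3, hTβ⟩ := distinguished_cocone_triangle β
  have hCβ : Cβ.IsLE (n - 1) := (good_iff_isLE _ hTβ n (n - 1) (by omega)).1 hβgood
  obtain ⟨φ₀, hφ₀⟩ := exists_Q_map_of_isKProjective S₀ E (β ≫ j)
  have hTφ := DerivedCategory.mappingCone_triangle_distinguished φ₀
  obtain ⟨m₃, hm₃, hcomm₃⟩ : ∃ m₃ : Q.obj (CochainComplex.mappingCone φ₀) ⟶ Q.obj L,
      Good (n - 1) m₃ ∧ Q.map (CochainComplex.mappingCone.inr φ₀) ≫ m₃ = Q.map a := by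
    have o := Triangulated.someOctahedron hφ₀ hTβ hTW hTφ
    refine ⟨o.m₃, ?_, o.comm₃⟩
    refine (good_iff_isLE _ (rot_of_distTriang _ o.mem) (n - 1) (n - 2) (by omega)).2 ?_
    exact (TStructure.t).isLE_shift Cβ (n - 1) 1 (n - 2) (by omega)
  -- strictification
  have hzero : Q.map (φ₀ ≫ a) = Q.map (0 : S₀ ⟶ L) := by
    rw [Q.map_comp, ← hφ₀, Category.assoc, Functor.map_zero]
    have := comp_distTriang_mor_zero₁₂ _ hTW
    rw [show j ≫ Q.map a = 0 from this, comp_zero]
  obtain ⟨H₀⟩ := exists_homotopy_of_Q_map_eq S₀ L _ _ hzero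
  let a'₀ : CochainComplex.mappingCone φ₀ ⟶ L :=
    CochainComplex.mappingCone.desc φ₀ (CochainComplex.HomComplex.Cochain.ofHomotopy H₀) a
      (by rw [CochainComplex.HomComplex.δ_ofHomotopy]; simp)
  have ha'₀ : CochainComplex.mappingCone.inr φ₀ ≫ a'₀ = a :=
    CochainComplex.mappingCone.inr_desc _ _ _ _
  have hdiff : Q.map (CochainComplex.mappingCone.inr φ₀) ≫ (m₃ - Q.map a'₀) = 0 := by
    rw [Preadditive.comp_sub, hcomm₃, ← Q.map_comp, ha'₀, sub_self]
  obtain ⟨t, ht⟩ := Triangle.yoneda_exact₃ _ hTφ (m₃ - Q.map a'₀) hdiff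
  haveI : (S₀⟦(1 : ℤ)⟧).IsKProjective := inferInstance
  obtain ⟨t₀, ht₀⟩ := exists_Q_map_of_isKProjective (S₀⟦(1 : ℤ)⟧) L
    ((Q.commShiftIso (1 : ℤ)).hom.app S₀ ≫ t)
  let d₀ : CochainComplex.mappingCone φ₀ ⟶ S₀⟦(1 : ℤ)⟧ :=
    (CochainComplex.mappingCone.triangle φ₀).mor₃
  have hd₀ : CochainComplex.mappingCone.inr φ₀ ≫ d₀ = 0 :=
    CochainComplex.mappingCone.inr_triangleδ φ₀
  let a' : CochainComplex.mappingCone φ₀ ⟶ L := a'₀ + d₀ ≫ t₀
  have ha' : CochainComplex.mappingCone.inr φ₀ ≫ a' = a := by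
    simp only [a', Preadditive.comp_add, ha'₀, reassoc_of% hd₀, zero_comp, add_zero]
  have hQa' : Q.map a' = m₃ := by
    have h3 : (Q.mapTriangle.obj (CochainComplex.mappingCone.triangle φ₀)).mor₃ =
        Q.map d₀ ≫ (Q.commShiftIso (1 : ℤ)).hom.app S₀ := rfl
    have h4 : Q.map a' = Q.map a'₀ + Q.map d₀ ≫ Q.map t₀ := by
      simp only [a', Functor.map_add, Q.map_comp]
    have h5 : m₃ - Q.map a'₀ = Q.map d₀ ≫ (Q.commShiftIso (1 : ℤ)).hom.app S₀ ≫ t := by
      rw [ht, h3]
      exact Category.assoc _ _ _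
    rw [h4, ← ht₀, ← h5]
    abel
  have hS₀pc : ∀ i : ℤ, Pc (S₀.X i) := fun i => by
    by_cases h : i = n
    · subst h
      exact hPc_iso _ _ (HomologicalComplex.singleObjXSelf (ComplexShape.up ℤ) i F).symm hF
    · exact hPc_zero _ (hS₀X i h)
  refine ⟨{ s' := { E := CochainComplex.mappingCone φ₀, n := n - 1, a := a', hn := by omega,
                    bdd := ?_, pc := ?_, good := hQa' ▸ hm₃ },
            hn := rfl, ι := CochainComplex.mappingCone.inr φ₀, fac := ha', iso := ?_ }⟩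
  · intro i hi
    exact isZero_mappingCone_X φ₀ i (hS₀X (i + 1) (by omega)) (bdd i (by omega))
  · intro i
    exact hPc_iso _ _ (HomologicalComplex.homotopyCofiber.XIsoBiprod φ₀ i (i + 1)
      (by simp)).symm (hPc_biprod _ _ (hS₀pc _) (pc _))
  · intro i hi
    exact isIso_inr_f φ₀ i (hS₀X (i + 1) (by simp only at hi; omega))


end

open ZeroObject in
/-- an object of `D(A)` which is `m`-pseudo-coherent for all `m` (relative to `Pc`) is represented
by a bounded above complex with terms in `Pc`. -/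
theorem exists_resolution' [HasDerivedCategory.{w} A] [HasColimitsOfShape ℕ A] {Pc : A → Prop}
    (hPc_proj : ∀ X, Pc X → Projective X)
    (hPc_biprod : ∀ X Y, Pc X → Pc Y → Pc (X ⊞ Y)) (hPc_iso : ∀ X Y, (X ≅ Y) → Pc X → Pc Y)
    (hPc_zero : ∀ X, IsZero X → Pc X)
    (hPc_cover : ∀ (n : ℤ) (W : DerivedCategory A), W.IsLE n →
      ∃ (F : A) (_ : Pc F) (π : F ⟶ (homologyFunctor A n).obj W), Epi π)
    (L : CochainComplex A ℤ) (b : ℤ) (hb : (Q.obj L).IsLE b) :
    ∃ (E : CochainComplex A ℤ) (a : E ⟶ L), (∀ i : ℤ, b < i → IsZero (E.X i)) ∧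
      (∀ i : ℤ, Pc (E.X i)) ∧ QuasiIso a := by
  have hstep : ∀ s : Stage Pc L b, Nonempty (Step s) := fun s =>
    nonempty_step' hPc_proj hPc_biprod hPc_iso hPc_zero hPc_cover s
  have h0 : IsZero (0 : CochainComplex A ℤ) := isZero_zero _
  have h0X : ∀ i : ℤ, IsZero ((0 : CochainComplex A ℤ).X i) := fun i =>
    Functor.map_isZero (HomologicalComplex.eval A (ComplexShape.up ℤ) i) h0
  have hQ0 : IsZero (Q.obj (0 : CochainComplex A ℤ)) := Functor.map_isZero Q h0
  let s₀ : Stage Pc L b :=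
    { E := 0, n := b + 1, a := 0, hn := le_rfl, bdd := fun i _ => h0X i,
      pc := fun i => hPc_zero _ (h0X i)
      good := by
        refine ⟨fun i hi => ?_, ?_⟩
        · have h1 : IsZero ((homologyFunctor A i).obj (Q.obj (0 : CochainComplex A ℤ))) :=
            Functor.map_isZero _ hQ0
          have h2 : IsZero ((homologyFunctor A i).obj (Q.obj L)) :=
            (isLE_iff _ b).1 hb i (by omega)
          exact ⟨⟨0, h1.eq_of_src _ _, h2.eq_of_src _ _⟩⟩
        · have h2 : IsZero ((homologyFunctor A (b + 1)).obj (Q.obj L)) :=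
            (isLE_iff _ b).1 hb (b + 1) (by omega)
          exact ⟨fun _ _ _ => h2.eq_of_src _ _⟩ }
  let f := seqι hstep s₀
  let F := Functor.ofSequence f
  let c := colimit.cocone F
  have hc : IsColimit c := colimit.isColimit F
  have hiso : ∀ (i : ℤ) (k : ℕ), b - i < k → IsIso ((f k).f i) := fun i k hk =>
    seqι_iso hstep s₀ k i (by simp only [s₀]; omega)
  have hιiso : ∀ i : ℤ, IsIso ((c.ι.app (b - i + 1).toNat).f i) := fun i =>
    isIso_ι_f f hc i _ (fun k hk => hiso i k (by omega)) _ le_rfl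
  let a : c.pt ⟶ L := hc.desc ⟨L, NatTrans.ofSequence (F := F) (G := (Functor.const ℕ).obj L)
    (fun k => (seq hstep s₀ k).a) (fun k => by
      simp only [F, Functor.ofSequence_map_homOfLE_succ, Functor.const_obj_obj,
        Functor.const_obj_map]
      exact (seqι_fac hstep s₀ k).trans (Category.comp_id _).symm)⟩
  have ha : ∀ k, c.ι.app k ≫ a = (seq hstep s₀ k).a := fun k => hc.fac _ k
  refine ⟨c.pt, a, ?_, ?_, ?_⟩
  · intro i hi
    have := hιiso i
    exact ((seq hstep s₀ _).bdd i (Or.inr hi)).of_iso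
      (asIso ((c.ι.app (b - i + 1).toNat).f i)).symm
  · intro i
    have := hιiso i
    exact hPc_iso _ _ (asIso ((c.ι.app (b - i + 1).toNat).f i)) ((seq hstep s₀ _).pc i)
  · rw [quasiIso_iff]
    intro i
    let k := (b - i + 3).toNat
    have h1 : QuasiIsoAt (c.ι.app k) i := quasiIsoAt_ι f hc i k (fun j hj k' hk' =>
      hiso j k' (by rcases hj with rfl | rfl | rfl <;> omega))
    have h2 : QuasiIsoAt ((seq hstep s₀ k).a) i := by
      have hn : (seq hstep s₀ k).n < i := by
        rw [seq_n]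
        simp only [s₀]
        omega
      have h3 := (seq hstep s₀ k).good.1 i hn
      rw [quasiIsoAt_iff_isIso_homologyMap]
      exact (NatIso.isIso_map_iff (homologyFunctorFactors A i) (seq hstep s₀ k).a).1 h3
    rw [← ha k] at h2
    exact @quasiIsoAt_of_comp_left _ _ _ _ _ _ _ _ (c.ι.app k) a i _ _ _ h1 h2


/-- projective resolutions of bounded above complexes. -/
theorem exists_projective_resolution [HasDerivedCategory.{w} A] [HasColimitsOfShape ℕ A]
    [EnoughProjectives A] (L : CochainComplex A ℤ) (b : ℤ) (hb : (Q.obj L).IsLE b) :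
    ∃ (E : CochainComplex A ℤ) (a : E ⟶ L), (∀ i : ℤ, b < i → IsZero (E.X i)) ∧
      (∀ i : ℤ, Projective (E.X i)) ∧ QuasiIso a := by
  refine exists_resolution' (Pc := fun X => Projective X) (fun X hX => hX)
    (fun X Y hX hY => ?_) (fun X Y e hX => Projective.of_iso e hX)
    (fun X hX => ?_) (fun n W _ => ?_) L b hb
  · haveI := hX
    haveI := hY
    infer_instance
  · exact hX.projective
  · exact ⟨Projective.over _, inferInstance, Projective.π _, inferInstance⟩

end Groth.Agent.Lib.Helper16.PC
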