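import Mathlib
import Groth.Agent.Lib.Helper16.KPR3
import Groth.Prelude.Def_DRing2

/-!
# K-projective resolutions of unbounded complexes of modules

`exists_kprojective_module`: every object of `D(R)` is represented by a K-projective complex
with projective terms.  `exists_kprojective_quasiIso`: every complex of `R`-modules receives a
quasi-isomorphism from such a complex.
-/

open CategoryTheory CategoryTheory.Limits DerivedCategory

namespace Groth.Agent.Lib.Helper16.KPR

universe u

attribute [local instance] HasDerivedCategory.standard

variable (R : Type u) [CommRing R]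

instance hasExactColimitsOfShape_nat_moduleCat :
    HasExactColimitsOfShape ℕ (ModuleCat.{u} R) := by
  haveI : AB5OfSize.{0, 0} (ModuleCat.{u} R) := AB5OfSize_of_univLE.{0, 0, u, u} _
  infer_instance

variable {R}

theorem exists_kprojective_module (K : Dual.D R) :
    ∃ P : DRing.Cx R, P.IsKProjective ∧ (∀ i, Module.Projective R (P.X i)) ∧
      Nonempty (DRing.toD P ≅ K) := by
  obtain ⟨P, h1, h2, h3⟩ := exists_kprojective K
  refine ⟨P, h1, fun i => ?_, h3⟩
  haveI := h2 i
  exact ModuleCat.projective_of_module_projective (P.X i)

theorem exists_kprojective_quasiIso (M : DRing.Cx R) :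
    ∃ (P : DRing.Cx R) (f : P ⟶ M), P.IsKProjective ∧ (∀ i, Module.Projective R (P.X i)) ∧
      QuasiIso f := by
  obtain ⟨P, h1, h2, ⟨e⟩⟩ := exists_kprojective_module (DRing.toD M)
  haveI := h1
  obtain ⟨f, hf⟩ := exists_map_of_isKProjective P M e.hom
  refine ⟨P, f, h1, h2, ?_⟩
  rw [← isIso_Q_map_iff_quasiIso, hf]
  infer_instance

lemma termwiseFlat_of_projective (P : DRing.Cx R) (h : ∀ i, Module.Projective R (P.X i)) :
    DRing.TermwiseFlat P := fun i => by
  have := h i
  infer_instance

end Groth.Agent.Lib.Helper16.KPR
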