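import Groth.Agent.Lib.Helper16.DerTrunc2

namespace Groth.Agent.Lib.Helper16.DerT

open CategoryTheory Limits DerivedCategory Pretriangulated

universe w v u
variable {C : Type u} [Category.{v} C] [Abelian C] [HasDerivedCategory.{w} C]

/-- **Dévissage of bounded objects**, truncation-triangle version: the extension step is only
required for the canonical truncation triangles `τ_{<c} Y ⟶ Y ⟶ τ_{≥c} Y`. -/
theorem bounded_induction_trunc (S : DerivedCategory C → Prop)
    (hiso : ∀ X Y : DerivedCategory C, (X ≅ Y) → S X → S Y)
    (hzero : ∀ X : DerivedCategory C, IsZero X → S X)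
    (htrunc : ∀ (Y : DerivedCategory C) (c : ℤ),
      S (((TStructure.t (C := C)).truncLT c).obj Y) →
      S (((TStructure.t (C := C)).truncGE c).obj Y) → S Y)
    (n : ℕ) : ∀ (a b : ℤ) (_ : b + 1 = a + n) (Y : DerivedCategory C) [Y.IsGE a] [Y.IsLE b],
      (∀ j, a ≤ j → j ≤ b →
        S ((singleFunctor C j).obj ((homologyFunctor C j).obj Y))) → S Y := by
  induction n with
  | zero =>
    intro a b hab Y _ _ _
    exact hzero _ ((TStructure.t (C := C)).isZero Y b a (by omega))
  | succ n ih =>
    intro a b hab Y _ _ hY
    refine htrunc Y b ?_ ?_
    · have : (((TStructure.t (C := C)).truncLT b).obj Y).IsGE a := by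
        show (TStructure.t (C := C)).IsGE _ a
        infer_instance
      have : (((TStructure.t (C := C)).truncLT b).obj Y).IsLE (b - 1) := by
        show (TStructure.t (C := C)).IsLE _ (b - 1)
        infer_instance
      refine ih a (b - 1) (by push_cast at hab; omega) _ ?_
      intro j hj1 hj2
      have := isIso_homologyMap_truncLTι Y b j (by omega)
      refine hiso _ _ ((singleFunctor C j).mapIso (asIso ((homologyFunctor C j).map
        (((TStructure.t (C := C)).truncLTι b).app Y)))).symm (hY j hj1 (by omega))
    · have : (((TStructure.t (C := C)).truncGE b).obj Y).IsGE b := by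
        show (TStructure.t (C := C)).IsGE _ b
        infer_instance
      have : (((TStructure.t (C := C)).truncGE b).obj Y).IsLE b := by
        show (TStructure.t (C := C)).IsLE _ b
        infer_instance
      obtain ⟨e⟩ := nonempty_iso_single_homology (((TStructure.t (C := C)).truncGE b).obj Y) b
      have := isIso_homologyMap_truncGEπ Y b b le_rfl
      refine hiso _ _ ?_ (hY b (by push_cast at hab; omega) le_rfl)
      exact (singleFunctor C b).mapIso (asIso ((homologyFunctor C b).map
        (((TStructure.t (C := C)).truncGEπ b).app Y))) ≪≫ e.symm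

end Groth.Agent.Lib.Helper16.DerT
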