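import Mathlib
import Groth.Agent.Lib.Helper16.PC7d
import Groth.Agent.S2068

open CategoryTheory CategoryTheory.Limits DerivedCategory CategoryTheory.Pretriangulated

namespace Groth.Agent.Lib.Helper16.PC

universe u

attribute [local instance] HasDerivedCategory.standard

variable {R : Type u} [CommRing R]

lemma finFree_cover (n : ℤ) (W : Dual.D R) (hW : W.IsLE n) (hWpc : IsPC (FinFree (R := R)) n W) :
    ∃ (F : ModuleCat.{u} R) (_ : FinFree F)
      (π : F ⟶ (homologyFunctor (ModuleCat.{u} R) n).obj W), Epi π := by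
  have hfin : Module.Finite R ((homologyFunctor (ModuleCat.{u} R) n).obj W) :=
    (Groth.Agent.S2068.result W n ((isPseudoCoherent_iff n W).2 hWpc)).1
      (fun i hi => (isLE_iff W n).1 hW i hi)
  obtain ⟨k, f, hf⟩ := Module.Finite.exists_fin' R ((homologyFunctor (ModuleCat.{u} R) n).obj W)
  refine ⟨ModuleCat.of R (Fin k → R), ⟨?_, ?_⟩, ModuleCat.ofHom f, ?_⟩
  · exact (inferInstance : Module.Finite R (Fin k → R))
  · exact (inferInstance : Module.Free R (Fin k → R))
  · exact (ModuleCat.epi_iff_surjective _).2 hf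

/-- S2066, direction (2) ⇒ (1). -/
theorem pc'_of_pc {K : Dual.D R} (hK : ∀ m : ℤ, DRing.IsPseudoCoherent R m K) :
    DRing.IsPseudoCoherent' R K := by
  let L := Q.objPreimage K
  have e : Q.obj L ≅ K := Q.objObjPreimageIso K
  have hL : ∀ m : ℤ, IsPC (FinFree (R := R)) m (Q.obj L) := fun m =>
    ((isPseudoCoherent_iff m K).1 (hK m)).of_iso e.symm
  obtain ⟨b, hb⟩ := (hL 0).exists_isLE
  obtain ⟨E, a, hE, hpc, hqi⟩ := exists_resolution finFree_proj finFree_biprod finFree_iso
    finFree_zero finFree_cover L b hb hL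
  have : IsIso (Q.map a) := by
    rw [isIso_Q_map_iff_quasiIso]
    exact hqi
  exact ⟨E, b, hE, hpc, ⟨asIso (Q.map a) ≪≫ e⟩⟩

end Groth.Agent.Lib.Helper16.PC
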