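import Mathlib
import Groth.Agent.Lib.Helper16.PC7e

/-!
# Helper16 — PC8: pseudo-coherence of complexes from terms / cohomology modules.
-/

open CategoryTheory CategoryTheory.Limits DerivedCategory CategoryTheory.Pretriangulated

namespace Groth.Agent.Lib.Helper16.PC

universe u

attribute [local instance] HasDerivedCategory.standard

variable {R : Type u} [CommRing R]

lemma isPC_single_of_module (X : ModuleCat.{u} R) (i m : ℤ)
    (h : DRing.IsPseudoCoherent R (m - i) ((singleFunctor (ModuleCat.{u} R) 0).obj X)) :
    IsPC (FinFree (R := R)) m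
      (Q.obj ((HomologicalComplex.single (ModuleCat.{u} R) (ComplexShape.up ℤ) i).obj X)) := by
  have h1 := ((isPseudoCoherent_iff _ _).1 h).shift (-i) m (by omega)
  exact h1.of_iso (((singleFunctors (ModuleCat.{u} R)).shiftIso (-i) i 0 (by omega)).app X)

/-- S6938, first half. -/
theorem pc_of_termwise (m : ℤ) (K : DRing.Cx R) (b : ℤ) (hb : DRing.VanishesAbove K b)
    (h : ∀ i : ℤ, DRing.IsPseudoCoherentModule R (m - i) (K.X i)) :
    DRing.IsPseudoCoherent R m (DRing.toD K) := by
  rw [isPseudoCoherent_iff]
  exact isPC_of_boundedAbove finFree_proj finFree_biprod finFree_iso finFree_zero m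
    (b + 1 - m).toNat K b (Int.self_le_toNat _) hb (fun i => isPC_single_of_module _ i m (h i))

/-- S6938, second half. -/
theorem pc'_of_termwise (K : DRing.Cx R) (b : ℤ) (hb : DRing.VanishesAbove K b)
    (h : ∀ i : ℤ, DRing.IsPseudoCoherentModule' R (K.X i)) :
    DRing.IsPseudoCoherent' R (DRing.toD K) :=
  pc'_of_pc fun m => pc_of_termwise m K b hb (fun i => pc_of_pc' (h i) (m - i))

end Groth.Agent.Lib.Helper16.PC
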