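import Mathlib
import Groth.Agent.Lib.Helper16.PC8
import Groth.Agent.Lib.Helper16.DerTrunc3

/-!
# Helper16 — PC9: pseudo-coherence from pseudo-coherence of cohomology modules.
-/

open CategoryTheory CategoryTheory.Limits DerivedCategory CategoryTheory.Pretriangulated

namespace Groth.Agent.Lib.Helper16.PC

universe u

attribute [local instance] HasDerivedCategory.standard

variable {R : Type u} [CommRing R]

open Groth.Agent.Lib.Helper16.DerT

/-- S6939, first half (in `IsLE` form). -/
theorem pc_of_homology_modules (m : ℤ) (K : Dual.D R) (b : ℤ) (hb : K.IsLE b)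
    (h : ∀ i : ℤ, DRing.IsPseudoCoherent R (m - i)
      ((singleFunctor (ModuleCat.{u} R) 0).obj ((homologyFunctor (ModuleCat.{u} R) i).obj K))) :
    DRing.IsPseudoCoherent R m K := by
  have hT := (TStructure.t (C := ModuleCat.{u} R)).triangleLTGE_distinguished m K
  have h3 := isPseudoCoherent_two_of_three _ hT m
  refine h3.2.1 ?_ ?_
  · have : (((TStructure.t (C := ModuleCat.{u} R)).truncLT m).obj K).IsLE (m - 1) := by
      show (TStructure.t (C := ModuleCat.{u} R)).IsLE _ (m - 1)
      infer_instance
    exact pc_of_isLE _ m (m - 1) this (by omega)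
  · show DRing.IsPseudoCoherent R m (((TStructure.t (C := ModuleCat.{u} R)).truncGE m).obj K)
    have hK' : K.IsLE (max b (m - 1)) :=
      (TStructure.t (C := ModuleCat.{u} R)).isLE_of_le K b _ (le_max_left _ _)
    have : (((TStructure.t (C := ModuleCat.{u} R)).truncGE m).obj K).IsGE m := by
      show (TStructure.t (C := ModuleCat.{u} R)).IsGE _ m
      infer_instance
    have : (((TStructure.t (C := ModuleCat.{u} R)).truncGE m).obj K).IsLE (max b (m - 1)) := by
      show (TStructure.t (C := ModuleCat.{u} R)).IsLE _ (max b (m - 1))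
      infer_instance
    refine bounded_induction (fun X => DRing.IsPseudoCoherent R m X)
      (fun X Y e h => pc_of_iso h e)
      (fun X hX => pc_of_isLE X m (m - 1)
        ((TStructure.t (C := ModuleCat.{u} R)).isLE_of_isZero hX _) (by omega))
      (fun T hT h1 h3 => (isPseudoCoherent_two_of_three T hT m).2.1 h1 h3)
      (max b (m - 1) + 1 - m).toNat m (max b (m - 1)) ?_ _ ?_
    · have : m - 1 ≤ max b (m - 1) := le_max_right _ _
      rw [Int.toNat_of_nonneg (by omega)]
      ring
    · intro j hj1 hj2
      have := isIso_homologyMap_truncGEπ K m j hj1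
      refine pc_of_iso ?_ ((singleFunctor _ j).mapIso (asIso ((homologyFunctor _ j).map
        (((TStructure.t (C := ModuleCat.{u} R)).truncGEπ m).app K))))
      exact (isPseudoCoherent_iff _ _).2 (isPC_single_of_module _ j m (h j))

end Groth.Agent.Lib.Helper16.PC
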