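import Mathlib
import Groth.Prelude.Def_DDual2
import Groth.Agent.Lib.Helper16.PC9

/-!
# Helper16 — RestrictD: restriction of scalars on derived categories of modules.
-/

open CategoryTheory CategoryTheory.Limits DerivedCategory CategoryTheory.Pretriangulated

namespace Groth.Agent.Lib.Helper16.RestrictD

open Groth.Agent.Lib.Helper16.PC

universe u

attribute [local instance] HasDerivedCategory.standard

variable {A B : Type u} [CommRing A] [CommRing B] (φ : A →+* B)

/-- `ρ (Q L) ≅ Q (restrict L)`. -/
noncomputable def restrictQIso (L : CochainComplex (ModuleCat.{u} B) ℤ) :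
    (DRing.restrictD φ).obj (Q.obj L) ≅
      Q.obj (((ModuleCat.restrictScalars.{u} φ).mapHomologicalComplex (ComplexShape.up ℤ)).obj L) :=
  (ModuleCat.restrictScalars.{u} φ).mapDerivedCategoryFactors.app L

lemma restrict_isLE (K : Dual.D B) (b : ℤ) (hK : K.IsLE b) : ((DRing.restrictD φ).obj K).IsLE b := by
  obtain ⟨L, hL, ⟨e⟩⟩ := K.exists_iso_Q_obj_of_isLE b
  have e' := (DRing.restrictD φ).mapIso e ≪≫ restrictQIso φ L
  have : CochainComplex.IsStrictlyLE (((ModuleCat.restrictScalars.{u} φ).mapHomologicalComplex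
      (ComplexShape.up ℤ)).obj L) b := by
    rw [CochainComplex.isStrictlyLE_iff]
    intro i hi
    exact Functor.map_isZero (ModuleCat.restrictScalars.{u} φ) (L.isZero_of_isStrictlyLE b i hi)
  have h2 : (Q.obj (((ModuleCat.restrictScalars.{u} φ).mapHomologicalComplex
      (ComplexShape.up ℤ)).obj L)).IsLE b := by
    rw [isLE_Q_obj_iff]
    infer_instance
  exact (TStructure.t).isLE_of_iso e'.symm b

lemma restrict_good {m : ℤ} {X Y : Dual.D B} (α : X ⟶ Y) (h : Good m α) :
    Good m ((DRing.restrictD φ).map α) := by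
  obtain ⟨C, g, w, hT⟩ := distinguished_cocone_triangle α
  have hC : C.IsLE (m - 1) := (good_iff_isLE _ hT m (m - 1) (by omega)).1 h
  have hT' := (DRing.restrictD φ).map_distinguished _ hT
  exact (good_iff_isLE _ hT' m (m - 1) (by omega)).2 (restrict_isLE φ C (m - 1) hC)

/-- homology of a restricted complex. -/
noncomputable def mapHomologyIso' (L : CochainComplex (ModuleCat.{u} B) ℤ) (i : ℤ) :
    (((ModuleCat.restrictScalars.{u} φ).mapHomologicalComplex (ComplexShape.up ℤ)).obj L).homology i ≅
      (ModuleCat.restrictScalars.{u} φ).obj (L.homology i) :=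
  (L.sc i).mapHomologyIso (ModuleCat.restrictScalars.{u} φ)

lemma nonempty_restrictHomologyIso (K : Dual.D B) (i : ℤ) :
    Nonempty ((homologyFunctor (ModuleCat.{u} A) i).obj ((DRing.restrictD φ).obj K) ≅
      (ModuleCat.restrictScalars.{u} φ).obj ((homologyFunctor (ModuleCat.{u} B) i).obj K)) := by
  have e : Q.obj (Q.objPreimage K) ≅ K := Q.objObjPreimageIso K
  set L := Q.objPreimage K
  exact ⟨(homologyFunctor (ModuleCat.{u} A) i).mapIso ((DRing.restrictD φ).mapIso e.symm ≪≫
      restrictQIso φ L) ≪≫ (homologyFunctorFactors (ModuleCat.{u} A) i).app _ ≪≫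
    mapHomologyIso' φ L i ≪≫ (ModuleCat.restrictScalars.{u} φ).mapIso
      (((homologyFunctorFactors (ModuleCat.{u} B) i).app L).symm ≪≫
        (homologyFunctor (ModuleCat.{u} B) i).mapIso e)⟩

lemma isLE_of_restrict_isLE (K : Dual.D B) (b : ℤ) (h : ((DRing.restrictD φ).obj K).IsLE b) :
    K.IsLE b := by
  rw [isLE_iff] at h ⊢
  intro i hi
  obtain ⟨e⟩ := nonempty_restrictHomologyIso φ K i
  have h1 : IsZero ((ModuleCat.restrictScalars.{u} φ).obj
      ((homologyFunctor (ModuleCat.{u} B) i).obj K)) := (h i hi).of_iso e.symm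
  have := ModuleCat.subsingleton_of_isZero h1
  have h2 : Subsingleton ((homologyFunctor (ModuleCat.{u} B) i).obj K) := this
  exact ModuleCat.isZero_of_subsingleton _

lemma finite_of_restrict_finite (M : ModuleCat.{u} B)
    (h : Module.Finite A ((ModuleCat.restrictScalars.{u} φ).obj M)) : Module.Finite B M := by
  letI : Algebra A B := φ.toAlgebra
  letI : Module A M := Module.compHom M φ
  haveI : IsScalarTower A B M := IsScalarTower.of_algebraMap_smul (fun r x => rfl)
  haveI : Module.Finite A M := h
  exact Module.Finite.of_restrictScalars_finite A B M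

lemma finite_homology_of_restrict (K : Dual.D B) (i : ℤ)
    (h : Module.Finite A ((homologyFunctor (ModuleCat.{u} A) i).obj ((DRing.restrictD φ).obj K))) :
    Module.Finite B ((homologyFunctor (ModuleCat.{u} B) i).obj K) := by
  obtain ⟨e⟩ := nonempty_restrictHomologyIso φ K i
  exact finite_of_restrict_finite φ _ (Module.Finite.equiv e.toLinearEquiv)

end Groth.Agent.Lib.Helper16.RestrictD
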