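import Mathlib

/-!
# Helper16 — LDer1: a right Kan extension is computed "correctly" at objects `P` such that
`Hom(L P, L -) = Hom(P, -)`, when the target has enough coproducts (copower argument).

Application: a total left derived functor is computed termwise on K-projective objects.
-/

open CategoryTheory CategoryTheory.Limits

namespace Groth.Agent.Lib.Helper16.LDer

universe w v₁ v₂ v₃ u₁ u₂ u₃

variable {C : Type u₁} {D : Type u₂} {H : Type u₃}
  [Category.{v₁} C] [Category.{v₂} D] [Category.{v₃} H]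

section Copower

variable (T : D) [∀ d : D, Small.{w} (T ⟶ d)] [HasCoproducts.{w} H] (Z : H)

/-- the constant family. -/
abbrev fam (d : D) : Shrink.{w} (T ⟶ d) → H := fun _ => Z

/-- the copower `∐_{Hom(T, d)} Z`. -/
noncomputable abbrev copowObj (d : D) : H := ∐ (fam.{w} T Z d)

/-- the inclusion of the component indexed by `φ`. -/
noncomputable def copowι' {d : D} (φ : T ⟶ d) : Z ⟶ copowObj.{w} T Z d :=
  Sigma.ι (fam.{w} T Z d) (equivShrink _ φ)

/-- morphisms out of the copower. -/
noncomputable def copowDesc' {d : D} {X : H} (k : (T ⟶ d) → (Z ⟶ X)) :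
    copowObj.{w} T Z d ⟶ X :=
  Sigma.desc (f := fam.{w} T Z d) (fun t => k ((equivShrink _).symm t))

lemma copowι'_desc' {d : D} {X : H} (k : (T ⟶ d) → (Z ⟶ X)) (φ : T ⟶ d) :
    copowι'.{w} T Z φ ≫ copowDesc'.{w} T Z k = k φ := by
  have := Sigma.ι_desc (f := fam.{w} T Z d) (fun t => k ((equivShrink _).symm t))
    (equivShrink _ φ)
  rw [Equiv.symm_apply_apply] at this
  exact this

lemma copow_hom_ext' {d : D} {X : H} (a b : copowObj.{w} T Z d ⟶ X)
    (h : ∀ φ : T ⟶ d, copowι'.{w} T Z φ ≫ a = copowι'.{w} T Z φ ≫ b) : a = b := by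
  apply Sigma.hom_ext (f := fam.{w} T Z d)
  intro t
  have := h ((equivShrink _).symm t)
  dsimp only [copowι'] at this
  rwa [Equiv.apply_symm_apply] at this

/-- the copower functor `d ↦ ∐_{Hom(T, d)} Z`. -/
noncomputable def copow : D ⥤ H where
  obj d := copowObj.{w} T Z d
  map {d d'} g := copowDesc'.{w} T Z (fun φ => copowι'.{w} T Z (φ ≫ g))
  map_id d := by
    apply copow_hom_ext'
    intro φ
    rw [copowι'_desc', Category.comp_id, Category.comp_id]
  map_comp g g' := by
    apply copow_hom_ext'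
    intro φ
    rw [copowι'_desc', ← Category.assoc (copowι' T Z φ), copowι'_desc', copowι'_desc', Category.assoc]

/-- the inclusion of the component indexed by `φ`. -/
noncomputable def copowι {d : D} (φ : T ⟶ d) : Z ⟶ (copow.{w} T Z).obj d :=
  copowι'.{w} T Z φ

/-- morphisms out of the copower. -/
noncomputable def copowDesc {d : D} {X : H} (k : (T ⟶ d) → (Z ⟶ X)) :
    (copow.{w} T Z).obj d ⟶ X :=
  copowDesc'.{w} T Z k

@[reassoc (attr := simp)]
lemma copowι_desc {d : D} {X : H} (k : (T ⟶ d) → (Z ⟶ X)) (φ : T ⟶ d) :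
    copowι.{w} T Z φ ≫ copowDesc.{w} T Z k = k φ :=
  copowι'_desc' T Z k φ

@[reassoc (attr := simp)]
lemma copowι_map {d d' : D} (φ : T ⟶ d) (g : d ⟶ d') :
    copowι.{w} T Z φ ≫ (copow.{w} T Z).map g = copowι.{w} T Z (φ ≫ g) :=
  copowι'_desc' T Z (fun φ => copowι'.{w} T Z (φ ≫ g)) φ

lemma copow_hom_ext {d : D} {X : H} (a b : (copow.{w} T Z).obj d ⟶ X)
    (h : ∀ φ : T ⟶ d, copowι.{w} T Z φ ≫ a = copowι.{w} T Z φ ≫ b) : a = b :=
  copow_hom_ext' T Z a b h

end Copower

variable {L : C ⥤ D} {F : C ⥤ H} {LF : D ⥤ H} (α : L ⋙ LF ⟶ F) (P : C)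

/-- If `LF` is a right Kan extension of `F` along `L` and `P` is an object such that
`Hom(P, Y) → Hom(L P, L Y)` is bijective for all `Y`, then `LF (L P) → F P` is an isomorphism
(provided the target category has enough coproducts). -/
theorem isIso_app_of_bijective [LF.IsRightKanExtension α] [HasCoproducts.{w} H]
    [∀ d : D, Small.{w} (L.obj P ⟶ d)]
    (hP : ∀ Y : C, Function.Bijective (fun f : P ⟶ Y => L.map f)) :
    IsIso (α.app P) := by
  classical
  -- preimages
  let pre : ∀ {Y : C}, (L.obj P ⟶ L.obj Y) → (P ⟶ Y) := fun {Y} φ => ((hP Y).2 φ).choose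
  have hpre : ∀ {Y : C} (φ : L.obj P ⟶ L.obj Y), L.map (pre φ) = φ :=
    fun {Y} φ => ((hP Y).2 φ).choose_spec
  have hpre' : ∀ {Y : C} (f : P ⟶ Y), pre (L.map f) = f := fun {Y} f =>
    (hP Y).1 (hpre (L.map f))
  have hpre_comp : ∀ {Y Y' : C} (φ : L.obj P ⟶ L.obj Y) (g : Y ⟶ Y'),
      pre (φ ≫ L.map g) = pre φ ≫ g := by
    intro Y Y' φ g
    apply (hP Y').1
    change L.map _ = L.map _
    rw [hpre, L.map_comp, hpre]
  -- the natural transformation associated to `z`
  let β : ∀ (Z : H) (z : Z ⟶ F.obj P), L ⋙ copow.{w} (L.obj P) Z ⟶ F := fun Z z =>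
    { app := fun Y => copowDesc _ _ (fun φ => z ≫ F.map (pre φ))
      naturality := by
        intro Y Y' g
        apply copow_hom_ext
        intro φ
        simp only [Functor.comp_obj, Functor.comp_map, copowι_map_assoc, copowι_desc,
          copowι_desc_assoc, Category.assoc, hpre_comp, Functor.map_comp] }
  -- the section
  let γ := LF.liftOfIsRightKanExtension α (copow.{w} (L.obj P) (F.obj P)) (β _ (𝟙 _))
  let s : F.obj P ⟶ LF.obj (L.obj P) := copowι _ _ (𝟙 (L.obj P)) ≫ γ.app (L.obj P)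
  have hs : s ≫ α.app P = 𝟙 _ := by
    have := LF.liftOfIsRightKanExtension_fac_app α (copow.{w} (L.obj P) (F.obj P)) (β _ (𝟙 _)) P
    simp only [s, Category.assoc]
    change _ ≫ γ.app (L.obj P) ≫ α.app P = _
    rw [this]
    simp only [β, copowι_desc, Category.id_comp]
    have h1 : pre (𝟙 (L.obj P)) = 𝟙 P := by
      have := hpre' (𝟙 P)
      rwa [L.map_id] at this
    rw [h1, F.map_id]
  -- uniqueness
  let γ₁ : copow.{w} (L.obj P) (LF.obj (L.obj P)) ⟶ LF :=
    { app := fun d => copowDesc _ _ (fun φ => LF.map φ)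
      naturality := by
        intro d d' g
        apply copow_hom_ext
        intro φ
        simp }
  let γ₂ : copow.{w} (L.obj P) (LF.obj (L.obj P)) ⟶ LF :=
    { app := fun d => copowDesc _ _ (fun φ => α.app P ≫ s ≫ LF.map φ)
      naturality := by
        intro d d' g
        apply copow_hom_ext
        intro φ
        simp }
  have hγ : γ₁ = γ₂ := by
    apply LF.hom_ext_of_isRightKanExtension α
    ext Y
    apply copow_hom_ext
    intro φ
    have hnat := α.naturality (pre φ)
    simp only [Functor.comp_obj, Functor.comp_map, hpre] at hnat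
    simp only [γ₁, γ₂, Functor.comp_obj, NatTrans.comp_app, Functor.whiskerLeft_app,
      copowι_desc_assoc, Category.assoc, hnat, reassoc_of% hs]
  have h2 : α.app P ≫ s = 𝟙 _ := by
    have := congr_arg (fun γ => copowι.{w} (L.obj P) (LF.obj (L.obj P)) (𝟙 _) ≫ γ.app (L.obj P)) hγ
    simp only [γ₁, γ₂, copowι_desc] at this
    rw [LF.map_id, Category.comp_id] at this
    exact this.symm
  exact ⟨s, h2, hs⟩

end Groth.Agent.Lib.Helper16.LDer
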