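import Mathlib
import Groth.Prelude.Def_DDual2
import Groth.Agent.Lib.Helper16.LDer1
import Groth.Agent.Lib.Helper16.DCoprodW

/-!
# Helper16 — LDer2: derived base change is computed termwise on K-projective complexes.
-/

open CategoryTheory CategoryTheory.Limits DerivedCategory

namespace Groth.Agent.Lib.Helper16.LDer

universe u

attribute [local instance] HasDerivedCategory.standard

section Small

variable {A : Type u} [CommRing A]

instance small_hom_homotopyCategory (X Y : HomotopyCategory (ModuleCat.{u} A) (ComplexShape.up ℤ)) :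
    Small.{u} (X ⟶ Y) := inferInstance

lemma small_Qh_hom (P₀ : CochainComplex (ModuleCat.{u} A) ℤ) [P₀.IsKProjective]
    (d : Dual.D A) :
    Small.{u} (Qh.obj ((HomotopyCategory.quotient _ _).obj P₀) ⟶ d) := by
  obtain ⟨Y, ⟨e⟩⟩ : ∃ Y : HomotopyCategory (ModuleCat.{u} A) (ComplexShape.up ℤ),
      Nonempty (Qh.obj Y ≅ d) := ⟨_, ⟨Qh.objObjPreimageIso d⟩⟩
  have hbij := CochainComplex.IsKProjective.Qh_map_bijective P₀ Y
  let f : ((HomotopyCategory.quotient _ _).obj P₀ ⟶ Y) →
      (Qh.obj ((HomotopyCategory.quotient _ _).obj P₀) ⟶ d) := fun g => Qh.map g ≫ e.hom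
  have hf : Function.Surjective f := by
    intro φ
    obtain ⟨g, hg⟩ := hbij.2 (φ ≫ e.inv)
    exact ⟨g, by simp [f, hg]⟩
  exact small_of_surjective hf

end Small

variable {A B : Type u} [CommRing A] [CommRing B] (φ : A →+* B) [DRing.HasLBaseChange φ]

instance : HasCoproducts.{u} (Dual.D B) := DCoprodW.hasCoproducts

/-- The counit `LBaseChange(Q P) ⟶ Q (P ⊗ B)` is an isomorphism for `P` K-projective. -/
theorem isIso_counit_of_isKProjective (P₀ : CochainComplex (ModuleCat.{u} A) ℤ)
    [P₀.IsKProjective] :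
    IsIso (((DRing.baseChangeKh φ).totalLeftDerivedCounit DerivedCategory.Qh
      (HomotopyCategory.quasiIso (ModuleCat.{u} A) (ComplexShape.up ℤ))).app
        ((HomotopyCategory.quotient _ _).obj P₀)) := by
  have : ∀ d : Dual.D A, Small.{u} (Qh.obj ((HomotopyCategory.quotient _ _).obj P₀) ⟶ d) :=
    small_Qh_hom P₀
  have := Functor.IsLeftDerivedFunctor.isRightKanExtension
    ((DRing.baseChangeKh φ).totalLeftDerived DerivedCategory.Qh
      (HomotopyCategory.quasiIso (ModuleCat.{u} A) (ComplexShape.up ℤ)))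
    ((DRing.baseChangeKh φ).totalLeftDerivedCounit DerivedCategory.Qh
      (HomotopyCategory.quasiIso (ModuleCat.{u} A) (ComplexShape.up ℤ)))
    (HomotopyCategory.quasiIso (ModuleCat.{u} A) (ComplexShape.up ℤ))
  exact isIso_app_of_bijective.{u} _ _
    (fun Y => CochainComplex.IsKProjective.Qh_map_bijective P₀ Y)

/-- `LBaseChange (Q P) ≅ Q (P ⊗ B)` for `P` K-projective. -/
noncomputable def lBaseChangeIso (P₀ : CochainComplex (ModuleCat.{u} A) ℤ) [P₀.IsKProjective] :
    (DRing.LBaseChange φ).obj (Q.obj P₀) ≅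
      Q.obj (((ModuleCat.extendScalars.{u, u, u} φ).mapHomologicalComplex
        (ComplexShape.up ℤ)).obj P₀) :=
  @asIso _ _ _ _ (((DRing.baseChangeKh φ).totalLeftDerivedCounit DerivedCategory.Qh
      (HomotopyCategory.quasiIso (ModuleCat.{u} A) (ComplexShape.up ℤ))).app
        ((HomotopyCategory.quotient _ _).obj P₀)) (isIso_counit_of_isKProjective φ P₀)

end Groth.Agent.Lib.Helper16.LDer
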