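import Mathlib
import Groth.Prelude.Def_DDual2
import Groth.Agent.Lib.Helper16.LDer2

/-!
# Helper16 — LDer4: the total left derived functor of a termwise functor is computed termwise on
K-projective complexes (generic version), and everywhere when the functor inverts quasi-isos.
-/

open CategoryTheory CategoryTheory.Limits DerivedCategory

namespace Groth.Agent.Lib.Helper16.LDer

universe u

attribute [local instance] HasDerivedCategory.standard

variable {A B : Type u} [CommRing A] [CommRing B]
  (G : ModuleCat.{u} A ⥤ ModuleCat.{u} B) [G.Additive]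

/-- The functor `K(A) ⥤ D(B)` induced termwise by `G`, followed by localization. -/
noncomputable abbrev GKh : HomotopyCategory (ModuleCat.{u} A) (ComplexShape.up ℤ) ⥤ Dual.D B :=
  G.mapHomotopyCategory (ComplexShape.up ℤ) ⋙ DerivedCategory.Qh

variable [(GKh G).HasLeftDerivedFunctor
  (HomotopyCategory.quasiIso (ModuleCat.{u} A) (ComplexShape.up ℤ))]

/-- The counit `LG(Q P) ⟶ Q (G P)` is an isomorphism for `P` K-projective. -/
theorem isIso_counit_of_isKProjective' (P₀ : CochainComplex (ModuleCat.{u} A) ℤ)
    [P₀.IsKProjective] :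
    IsIso (((GKh G).totalLeftDerivedCounit DerivedCategory.Qh
      (HomotopyCategory.quasiIso (ModuleCat.{u} A) (ComplexShape.up ℤ))).app
        ((HomotopyCategory.quotient _ _).obj P₀)) := by
  have : ∀ d : Dual.D A, Small.{u} (Qh.obj ((HomotopyCategory.quotient _ _).obj P₀) ⟶ d) :=
    small_Qh_hom P₀
  have := Functor.IsLeftDerivedFunctor.isRightKanExtension
    ((GKh G).totalLeftDerived DerivedCategory.Qh
      (HomotopyCategory.quasiIso (ModuleCat.{u} A) (ComplexShape.up ℤ)))
    ((GKh G).totalLeftDerivedCounit DerivedCategory.Qh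
      (HomotopyCategory.quasiIso (ModuleCat.{u} A) (ComplexShape.up ℤ)))
    (HomotopyCategory.quasiIso (ModuleCat.{u} A) (ComplexShape.up ℤ))
  exact isIso_app_of_bijective.{u} _ _
    (fun Y => CochainComplex.IsKProjective.Qh_map_bijective P₀ Y)

/-- `LG (Q P) ≅ Q (G P)` for `P` K-projective. -/
noncomputable def lDerIso (P₀ : CochainComplex (ModuleCat.{u} A) ℤ) [P₀.IsKProjective] :
    ((GKh G).totalLeftDerived DerivedCategory.Qh
      (HomotopyCategory.quasiIso (ModuleCat.{u} A) (ComplexShape.up ℤ))).obj (Q.obj P₀) ≅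
      Q.obj ((G.mapHomologicalComplex (ComplexShape.up ℤ)).obj P₀) :=
  @asIso _ _ _ _ (((GKh G).totalLeftDerivedCounit DerivedCategory.Qh
      (HomotopyCategory.quasiIso (ModuleCat.{u} A) (ComplexShape.up ℤ))).app
        ((HomotopyCategory.quotient _ _).obj P₀)) (isIso_counit_of_isKProjective' G P₀)

/-- `LG (Q X) ≅ Q (G X)` for all `X` when `G` (termwise) inverts quasi-isomorphisms. -/
noncomputable def lDerIsoOfInverts
    (hG : (HomotopyCategory.quasiIso (ModuleCat.{u} A) (ComplexShape.up ℤ)).IsInvertedBy (GKh G))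
    (X : CochainComplex (ModuleCat.{u} A) ℤ) :
    ((GKh G).totalLeftDerived DerivedCategory.Qh
      (HomotopyCategory.quasiIso (ModuleCat.{u} A) (ComplexShape.up ℤ))).obj (Q.obj X) ≅
      Q.obj ((G.mapHomologicalComplex (ComplexShape.up ℤ)).obj X) :=
  haveI : IsIso ((GKh G).totalLeftDerivedCounit DerivedCategory.Qh
      (HomotopyCategory.quasiIso (ModuleCat.{u} A) (ComplexShape.up ℤ))) :=
    Functor.isIso_of_isLeftDerivedFunctor_of_inverts
      ((GKh G).totalLeftDerived DerivedCategory.Qh
        (HomotopyCategory.quasiIso (ModuleCat.{u} A) (ComplexShape.up ℤ)))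
      ((GKh G).totalLeftDerivedCounit DerivedCategory.Qh
        (HomotopyCategory.quasiIso (ModuleCat.{u} A) (ComplexShape.up ℤ))) hG
  (asIso ((GKh G).totalLeftDerivedCounit DerivedCategory.Qh
      (HomotopyCategory.quasiIso (ModuleCat.{u} A) (ComplexShape.up ℤ)))).app
        ((HomotopyCategory.quotient _ _).obj X)

omit [(GKh G).HasLeftDerivedFunctor
  (HomotopyCategory.quasiIso (ModuleCat.{u} A) (ComplexShape.up ℤ))] in
/-- a termwise exact functor inverts quasi-isomorphisms. -/
lemma inverts_GKh_of_preservesHomology [G.PreservesHomology] :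
    (HomotopyCategory.quasiIso (ModuleCat.{u} A) (ComplexShape.up ℤ)).IsInvertedBy (GKh G) := by
  intro X Y f hf
  obtain ⟨X', rfl⟩ := HomotopyCategory.quotient_obj_surjective X
  obtain ⟨Y', rfl⟩ := HomotopyCategory.quotient_obj_surjective Y
  obtain ⟨f', rfl⟩ := (HomotopyCategory.quotient _ _).map_surjective f
  rw [HomotopyCategory.quotient_map_mem_quasiIso_iff, HomologicalComplex.mem_quasiIso_iff] at hf
  have h1 : QuasiIso ((G.mapHomologicalComplex (ComplexShape.up ℤ)).map f') := inferInstance
  have h2 : IsIso (Q.map ((G.mapHomologicalComplex (ComplexShape.up ℤ)).map f')) := by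
    rw [isIso_Q_map_iff_quasiIso]
    exact h1
  exact h2

end Groth.Agent.Lib.Helper16.LDer
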