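import Mathlib
import Groth.Agent.Lib.Helper16.CycProp

/-!
# Helper16 — FlatAcyc1: a right exact functor which preserves monomorphisms with cokernel in `P`
preserves the exactness of bounded above exact complexes with terms in `P`
(`P` closed under kernels of epimorphisms, e.g. flat modules).
-/

open CategoryTheory CategoryTheory.Limits

namespace Groth.Agent.Lib.Helper16.FlatAcyc

open Groth.Agent.Lib.Helper16.CycProp

universe v v' u u'

variable {C : Type u} [Category.{v} C] [Abelian C] {D : Type u'} [Category.{v'} D] [Abelian D]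

/-- the short complex `Z^i → K^i → Z^j`. -/
noncomputable def cyclesSC (K : CochainComplex C ℤ) (i j : ℤ) : ShortComplex C :=
  ShortComplex.mk (K.iCycles i) (K.toCycles i j) (by
    rw [← cancel_mono (K.iCycles j), Category.assoc, K.toCycles_i, K.iCycles_d, zero_comp])

/-- the short exact sequence `0 → Z^i → K^i → Z^{i+1} → 0` when `K` is exact at `i + 1`. -/
lemma shortExact_cyclesSC (K : CochainComplex C ℤ) (i j : ℤ) (hij : i + 1 = j) (h : K.ExactAt j) :
    (cyclesSC K i j).ShortExact := by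
  have hepi := epi_toCycles_of_exactAt K i j hij h
  have hmono : Mono (cyclesSC K i j).f := (inferInstance : Mono (K.iCycles i))
  refine ShortComplex.ShortExact.mk' ?_ hmono hepi
  apply ShortComplex.exact_of_f_is_kernel
  exact isKernelOfComp (K.iCycles j) (K.d i j)
    (K.cyclesIsKernel i j (by simp [← hij])) _ (K.toCycles_i i j)

variable (G : C ⥤ D) [G.Additive] [PreservesFiniteColimits G]
  (P : ObjectProperty C) [P.IsClosedUnderIsomorphisms]

include P in
theorem exactAt_map (hzero : ∀ X : C, IsZero X → P X)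
    (hst : ∀ (E F : C) (u : E ⟶ F), Epi u → P E → P F → P (kernel u))
    (hG : ∀ S : ShortComplex C, S.ShortExact → P S.X₃ → Mono (G.map S.f))
    (K : CochainComplex C ℤ) (a n : ℤ) (hK : ∀ i : ℤ, n < i → IsZero (K.X i))
    (hex : ∀ i : ℤ, a < i → K.ExactAt i) (hP : ∀ i : ℤ, a ≤ i → P (K.X i))
    (i : ℤ) (hi : a < i) :
    ((G.mapHomologicalComplex (ComplexShape.up ℤ)).obj K).ExactAt i := by
  have hZ := prop_cycles P hzero hst K a n hK hex hP
  have hS₁ := shortExact_cyclesSC K i (i + 1) rfl (hex _ (by omega))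
  have hS₂ := shortExact_cyclesSC K (i + 1) (i + 1 + 1) rfl (hex _ (by omega))
  have hm₂ : Mono (G.map (K.iCycles (i + 1))) := hG _ hS₂ (hZ _ (by omega))
  have hepi : Epi (G.map (K.toCycles (i - 1) i)) := by
    have := epi_toCycles_of_exactAt K (i - 1) i (by omega) (hex i hi)
    infer_instance
  -- `G Z^i → G K^i → G Z^{i+1}` is exact
  have hex₁ : ((cyclesSC K i (i + 1)).map G).Exact :=
    hS₁.1.map_of_epi_of_preservesCokernel G hS₁.epi_g inferInstance
  rw [HomologicalComplex.exactAt_iff' _ (i - 1) i (i + 1) (by simp) (by simp)]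
  have hzero' : G.map (K.d (i - 1) i) ≫ G.map (K.toCycles i (i + 1)) = 0 := by
    rw [← cancel_mono (G.map (K.iCycles (i + 1))), Category.assoc, ← G.map_comp, K.toCycles_i,
      ← G.map_comp, K.d_comp_d, G.map_zero, zero_comp]
  let Sc : ShortComplex D := ShortComplex.mk (G.map (K.d (i - 1) i)) (G.map (K.toCycles i (i + 1)))
    hzero'
  let φ₁ : Sc ⟶ (cyclesSC K i (i + 1)).map G :=
    { τ₁ := G.map (K.toCycles (i - 1) i)
      τ₂ := 𝟙 _
      τ₃ := 𝟙 _
      comm₁₂ := by
        change G.map (K.toCycles (i - 1) i) ≫ G.map (K.iCycles i) = G.map (K.d (i - 1) i) ≫ 𝟙 _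
        rw [← G.map_comp, K.toCycles_i, Category.comp_id]
      comm₂₃ := by
        change 𝟙 _ ≫ G.map (K.toCycles i (i + 1)) = G.map (K.toCycles i (i + 1)) ≫ 𝟙 _
        rw [Category.comp_id, Category.id_comp] }
  let φ₂ : Sc ⟶ ((G.mapHomologicalComplex (ComplexShape.up ℤ)).obj K).sc' (i - 1) i (i + 1) :=
    { τ₁ := 𝟙 _
      τ₂ := 𝟙 _
      τ₃ := G.map (K.iCycles (i + 1))
      comm₁₂ := by
        change 𝟙 _ ≫ G.map (K.d (i - 1) i) = G.map (K.d (i - 1) i) ≫ 𝟙 _
        rw [Category.comp_id, Category.id_comp]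
      comm₂₃ := by
        change 𝟙 _ ≫ G.map (K.d i (i + 1)) = G.map (K.toCycles i (i + 1)) ≫ G.map (K.iCycles (i + 1))
        rw [← G.map_comp, K.toCycles_i, Category.id_comp] }
  have : Epi φ₁.τ₁ := hepi
  have : IsIso φ₁.τ₂ := (inferInstance : IsIso (𝟙 _))
  have : Mono φ₁.τ₃ := (inferInstance : Mono (𝟙 _))
  have hSc : Sc.Exact := (ShortComplex.exact_iff_of_epi_of_isIso_of_mono φ₁).2 hex₁
  have : Epi φ₂.τ₁ := (inferInstance : Epi (𝟙 _))
  have : IsIso φ₂.τ₂ := (inferInstance : IsIso (𝟙 _))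
  have : Mono φ₂.τ₃ := hm₂
  exact (ShortComplex.exact_iff_of_epi_of_isIso_of_mono φ₂).1 hSc

end Groth.Agent.Lib.Helper16.FlatAcyc
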