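import Mathlib
import Groth.Prelude.Def_DRing2
import Groth.Agent.Lib.Helper16.LDer2
import Groth.Agent.Lib.Helper8.PAmp2

/-!
# Helper16 — LDer3: termwise extension of scalars: basic properties.
-/

open CategoryTheory CategoryTheory.Limits DerivedCategory

namespace Groth.Agent.Lib.Helper16.LDer

universe u

attribute [local instance] HasDerivedCategory.standard

variable {A B : Type u} [CommRing A] [CommRing B] (φ : A →+* B)

lemma ext_finite (M : ModuleCat.{u} A) [Module.Finite A M] :
    Module.Finite B ((ModuleCat.extendScalars.{u,u,u} φ).obj M) := by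
  letI := φ.toAlgebra
  exact inferInstanceAs (Module.Finite B (TensorProduct A B M))

lemma ext_projective (M : ModuleCat.{u} A) [Module.Projective A M] :
    Module.Projective B ((ModuleCat.extendScalars.{u,u,u} φ).obj M) := by
  letI := φ.toAlgebra
  exact inferInstanceAs (Module.Projective B (TensorProduct A B M))

lemma ext_free (M : ModuleCat.{u} A) [Module.Free A M] :
    Module.Free B ((ModuleCat.extendScalars.{u,u,u} φ).obj M) := by
  letI := φ.toAlgebra
  exact inferInstanceAs (Module.Free B (TensorProduct A B M))

lemma ext_flat (M : ModuleCat.{u} A) [Module.Flat A M] :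
    Module.Flat B ((ModuleCat.extendScalars.{u,u,u} φ).obj M) := by
  letI := φ.toAlgebra
  exact inferInstanceAs (Module.Flat B (TensorProduct A B M))

/-- termwise extension of scalars on complexes. -/
noncomputable abbrev extCx : DRing.Cx A ⥤ DRing.Cx B :=
  (ModuleCat.extendScalars.{u, u, u} φ).mapHomologicalComplex (ComplexShape.up ℤ)

lemma extCx_isZero (E : DRing.Cx A) (i : ℤ) (h : IsZero (E.X i)) :
    IsZero (((extCx φ).obj E).X i) :=
  Functor.map_isZero (ModuleCat.extendScalars.{u, u, u} φ) h

lemma isKProjective_of_bddAbove_projective (P : DRing.Cx A) (b : ℤ) (hb : DRing.VanishesAbove P b)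
    (hP : ∀ i, Module.Projective A (P.X i)) : P.IsKProjective :=
  Groth.Agent.Lib.Helper8.PAmp.isKProjective_of_hasProjAmp_data P b hb
    (fun i => by
      have := hP i
      exact ModuleCat.projective_of_categoryTheory_projective (P.X i))

/-- derived base change of a bounded above complex of projectives. -/
noncomputable def lBaseChangeIso' [DRing.HasLBaseChange φ] (P : DRing.Cx A) (b : ℤ)
    (hb : DRing.VanishesAbove P b) (hP : ∀ i, Module.Projective A (P.X i)) :
    (DRing.LBaseChange φ).obj (DRing.toD P) ≅ DRing.toD ((extCx φ).obj P) :=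
  haveI := isKProjective_of_bddAbove_projective P b hb hP
  lBaseChangeIso φ P

end Groth.Agent.Lib.Helper16.LDer
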