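import Mathlib
import Groth.Agent.Lib.Helper16.CycProp2

/-!
# Helper16 — CycProp3: in an exact bounded complex `0 → K^a → K^{a+1} → ⋯ → K^n → 0` with
`K^i` (`i > a`) in a class stable under kernels of epimorphisms, `K^a` is in the class.
-/

open CategoryTheory CategoryTheory.Limits

namespace Groth.Agent.Lib.Helper16.CycProp

universe v u

variable {C : Type u} [Category.{v} C] [Abelian C]

theorem prop_bottom (P : ObjectProperty C) [P.IsClosedUnderIsomorphisms]
    (hzero : ∀ X : C, IsZero X → P X)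
    (hst : ∀ (E F : C) (u : E ⟶ F), Epi u → P E → P F → P (kernel u))
    (K : CochainComplex C ℤ) (a n : ℤ) (hK : ∀ i : ℤ, n < i → IsZero (K.X i))
    (hK' : ∀ i : ℤ, i < a → IsZero (K.X i))
    (hex : ∀ i : ℤ, K.ExactAt i) (hP : ∀ i : ℤ, a < i → P (K.X i)) :
    P (K.X a) := by
  have hZ1 : P (K.cycles (a + 1)) := prop_cycles P hzero hst K (a + 1) n hK
    (fun i _ => hex i) (fun i hi => hP i (by omega)) (a + 1) le_rfl
  have hZ0 : IsZero (K.cycles a) := by
    have := epi_toCycles_of_exactAt K (a - 1) a (by omega) (hex _)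
    exact IsZero.of_epi (K.toCycles (a - 1) a) (hK' _ (by omega))
  have h1 := epi_toCycles_of_exactAt K a (a + 1) rfl (hex _)
  have h2 : Mono (K.toCycles a (a + 1)) :=
    Preadditive.mono_of_kernel_zero (by
      exact (hZ0.of_iso (kernelToCyclesIso K a (a + 1) rfl)).eq_of_src _ _)
  have := isIso_of_mono_of_epi (K.toCycles a (a + 1))
  exact P.prop_of_iso (asIso (K.toCycles a (a + 1))).symm hZ1

end Groth.Agent.Lib.Helper16.CycProp
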