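import Mathlib

open TensorProduct

namespace Groth.Agent.Lib.Helper16.FlatKer

universe u

lemma flat_prod {R : Type u} [CommRing R] (M N : Type*) [AddCommGroup M] [AddCommGroup N]
    [Module R M] [Module R N] [Module.Flat R M] [Module.Flat R N] : Module.Flat R (M × N) := by
  rw [Module.Flat.iff_rTensor_injective']
  intro I
  have key : (TensorProduct.prodRight R R R M N).toLinearMap ∘ₗ (I.subtype.rTensor (M × N)) =
      (LinearMap.prodMap (I.subtype.rTensor M) (I.subtype.rTensor N)) ∘ₗ
        (TensorProduct.prodRight R R I M N).toLinearMap := by
    apply TensorProduct.ext'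
    intro x y
    simp
  have h1 : Function.Injective ((LinearMap.prodMap (I.subtype.rTensor M) (I.subtype.rTensor N)) ∘ₗ
        (TensorProduct.prodRight R R I M N).toLinearMap) := by
    rw [LinearMap.coe_comp]
    refine Function.Injective.comp ?_ (TensorProduct.prodRight R R I M N).injective
    exact Function.Injective.prodMap
      (Module.Flat.rTensor_preserves_injective_linearMap _ Subtype.val_injective)
      (Module.Flat.rTensor_preserves_injective_linearMap _ Subtype.val_injective)
  rw [← key, LinearMap.coe_comp] at h1
  exact Function.Injective.of_comp h1

end Groth.Agent.Lib.Helper16.FlatKer
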