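import Mathlib
import Groth.Agent.Lib.Helper16.PC7d

/-!
# Helper16 — PC7f: an `m`-pseudo-coherent object of `D^{≤ b}` has a witness concentrated in `[m, b]`.
-/

open CategoryTheory CategoryTheory.Limits DerivedCategory CategoryTheory.Pretriangulated

namespace Groth.Agent.Lib.Helper16.PC

open Groth.Agent.Lib.Helper8.PAmp Groth.Agent.Lib.Helper8.DRing2 Groth.Agent.Lib.Helper8

universe w v u

variable {A : Type u} [Category.{v} A] [Abelian A] [HasDerivedCategory.{w} A] {Pc : A → Prop}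

open ZeroObject in
lemma exists_stage_zero (hPc_zero : ∀ X, IsZero X → Pc X) (L : CochainComplex A ℤ) (b : ℤ)
    (hb : (Q.obj L).IsLE b) : ∃ s : Stage Pc L b, s.n = b + 1 := by
  have h0 : IsZero (0 : CochainComplex A ℤ) := isZero_zero _
  have h0X : ∀ i : ℤ, IsZero ((0 : CochainComplex A ℤ).X i) := fun i =>
    Functor.map_isZero (HomologicalComplex.eval A (ComplexShape.up ℤ) i) h0
  have hQ0 : IsZero (Q.obj (0 : CochainComplex A ℤ)) := Functor.map_isZero Q h0
  refine ⟨{ E := 0, n := b + 1, a := 0, hn := le_rfl, bdd := fun i _ => h0X i,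
            pc := fun i => hPc_zero _ (h0X i), good := ?_ }, rfl⟩
  refine ⟨fun i hi => ?_, ?_⟩
  · have h1 : IsZero ((homologyFunctor A i).obj (Q.obj (0 : CochainComplex A ℤ))) :=
      Functor.map_isZero _ hQ0
    have h2 : IsZero ((homologyFunctor A i).obj (Q.obj L)) :=
      (isLE_iff _ b).1 hb i (by omega)
    exact ⟨⟨0, h1.eq_of_src _ _, h2.eq_of_src _ _⟩⟩
  · have h2 : IsZero ((homologyFunctor A (b + 1)).obj (Q.obj L)) :=
      (isLE_iff _ b).1 hb (b + 1) (by omega)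
    exact ⟨fun _ _ _ => h2.eq_of_src _ _⟩

variable (hPc_proj : ∀ X, Pc X → Projective X)
  (hPc_biprod : ∀ X Y, Pc X → Pc Y → Pc (X ⊞ Y)) (hPc_iso : ∀ X Y, (X ≅ Y) → Pc X → Pc Y)
  (hPc_zero : ∀ X, IsZero X → Pc X)
  (hPc_cover : ∀ (n : ℤ) (W : DerivedCategory A), W.IsLE n → IsPC Pc n W →
    ∃ (F : A) (_ : Pc F) (π : F ⟶ (homologyFunctor A n).obj W), Epi π)

include hPc_proj hPc_biprod hPc_iso hPc_zero hPc_cover

theorem exists_stage (L : CochainComplex A ℤ) (b : ℤ) (hb : (Q.obj L).IsLE b) :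
    ∀ k : ℕ, IsPC Pc (b + 1 - k) (Q.obj L) → ∃ s : Stage Pc L b, s.n = b + 1 - k := by
  intro k
  induction k with
  | zero =>
    intro _
    obtain ⟨s, hs⟩ := exists_stage_zero hPc_zero L b hb
    exact ⟨s, by rw [hs]; simp⟩
  | succ k ih =>
    intro h
    obtain ⟨s, hs⟩ := ih (h.of_le (by push_cast; omega))
    have he : s.n - 1 = b + 1 - ((k + 1 : ℕ) : ℤ) := by rw [hs]; push_cast; ring
    obtain ⟨st⟩ := nonempty_step hPc_proj hPc_biprod hPc_iso hPc_zero hPc_cover s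
      (by rw [he]; exact h)
    exact ⟨st.s', by rw [st.hn, hs]; push_cast; ring⟩

/-- an `m`-pseudo-coherent object of `D^{≤ b}` has a witness concentrated in `[m, b]`. -/
theorem IsPC.exists_bounded (L : CochainComplex A ℤ) (b : ℤ) (hb : (Q.obj L).IsLE b) (m : ℤ)
    (hm : m ≤ b + 1) (h : IsPC Pc m (Q.obj L)) :
    ∃ (E : CochainComplex A ℤ) (a : E ⟶ L), (∀ i : ℤ, i < m ∨ b < i → IsZero (E.X i)) ∧
      (∀ i : ℤ, Pc (E.X i)) ∧ Good m (Q.map a) := by
  have hk : b + 1 - ((b + 1 - m).toNat : ℤ) = m := by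
    rw [Int.toNat_of_nonneg (by omega)]
    ring
  obtain ⟨s, hs⟩ := exists_stage hPc_proj hPc_biprod hPc_iso hPc_zero hPc_cover L b hb
    (b + 1 - m).toNat (by rw [hk]; exact h)
  rw [hk] at hs
  exact ⟨s.E, s.a, fun i hi => s.bdd i (by rw [hs]; exact hi), s.pc, hs ▸ s.good⟩

end Groth.Agent.Lib.Helper16.PC
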