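import Mathlib
import Groth.Agent.Lib.Helper16.PC7f
import Groth.Agent.Lib.Helper16.PC7e
import Groth.Agent.Lib.Helper16.CycProp3
import Groth.Agent.Lib.Helper16.FlatKer
import Groth.Agent.Lib.Helper16.FlatProd
import Groth.Agent.Lib.Helper8.DRing5

/-!
# Helper16 — PC10: `(m-1)`-pseudo-coherent + tor amplitude `[m, n]` ⇒ perfect amplitude `[m, n]`.
-/

open CategoryTheory CategoryTheory.Limits DerivedCategory CategoryTheory.Pretriangulated

namespace Groth.Agent.Lib.Helper16.PC

universe u

attribute [local instance] HasDerivedCategory.standard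

variable {R : Type u} [CommRing R]

open Groth.Agent.Lib.Helper16.CycProp Groth.Agent.Lib.Helper16.FlatKer
  Groth.Agent.Lib.Helper8.DRing2 Groth.Agent.Lib.Helper8.DRing5

/-- the cokernel of a map between finite free modules, in the form of `opcycles`, is finitely
presented. -/
lemma finitePresentation_opcycles (E : CochainComplex (ModuleCat.{u} R) ℤ) (i m : ℤ)
    (him : i + 1 = m) (h1 : FinFree (E.X m)) (h2 : FinFree (E.X i)) :
    Module.FinitePresentation R (E.opcycles m) := by
  have := h1.1
  have := h1.2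
  have := h2.1
  have hS : (ShortComplex.mk (E.d i m) (E.pOpcycles m) (E.d_pOpcycles i m)).Exact :=
    ShortComplex.exact_of_g_is_cokernel _ (E.opcyclesIsCokernel i m (by simp [← him]))
  rw [ShortComplex.ShortExact.moduleCat_exact_iff_function_exact] at hS
  have hsurj : Function.Surjective (E.pOpcycles m).hom :=
    (ModuleCat.epi_iff_surjective _).1 inferInstance
  refine Module.finitePresentation_of_free_of_surjective (E.pOpcycles m).hom hsurj ?_
  have hk : LinearMap.ker (E.pOpcycles m).hom = LinearMap.range (E.d i m).hom :=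
    (LinearMap.exact_iff.1 hS)
  rw [hk, LinearMap.range_eq_map]
  exact Submodule.FG.map _ Module.Finite.fg_top

lemma flatProp_biprod (X Y : ModuleCat.{u} R) (hX : flatProp R X) (hY : flatProp R Y) :
    flatProp R (X ⊞ Y) := by
  have : Module.Flat R X := hX
  have : Module.Flat R Y := hY
  refine (flatProp R).prop_of_iso (ModuleCat.biprodIsoProd X Y).symm ?_
  exact flat_prod X Y

lemma flatProp_of_finFree (X : ModuleCat.{u} R) (hX : FinFree X) : flatProp R X := by
  have := hX.2
  exact (inferInstance : Module.Flat R X)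

/-- S5611, main direction. -/
theorem perfAmp_of_pc_torAmp (K : Dual.D R) (p n : ℤ) (hpn : p + 1 ≤ n)
    (h1 : DRing.IsPseudoCoherent R p K) (h2 : DRing.HasTorAmplitudeIn R (p + 1) n K) :
    ∃ E : DRing.Cx R, DRing.VanishesOutside E (p + 1) n ∧ DRing.TermwiseFiniteProjective E ∧
      Nonempty (DRing.toD E ≅ K) := by
  obtain ⟨F, hF, hflat, ⟨e⟩⟩ := h2
  have hL : IsPC (FinFree (R := R)) p (Q.obj F) := ((isPseudoCoherent_iff _ _).1 h1).of_iso e.symm
  have hFle : F.IsStrictlyLE n :=
    (CochainComplex.isStrictlyLE_iff _ _).2 (fun i hi => hF i (Or.inr hi))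
  have hFge : F.IsStrictlyGE (p + 1) :=
    (CochainComplex.isStrictlyGE_iff _ _).2 (fun i hi => hF i (Or.inl hi))
  have hb : (Q.obj F).IsLE n := by
    rw [isLE_Q_obj_iff]
    infer_instance
  obtain ⟨E₀, f, hE₀, hpc, hgood⟩ := IsPC.exists_bounded finFree_proj finFree_biprod finFree_iso
    finFree_zero finFree_cover F n hb p (by omega) hL
  have hqi : ∀ i : ℤ, p + 1 ≤ i → QuasiIsoAt f i := fun i hi => by
    have h3 := hgood.1 i (by omega)
    rw [quasiIsoAt_iff_isIso_homologyMap]
    exact (NatIso.isIso_map_iff (homologyFunctorFactors _ i) f).1 h3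
  have hq1 : QuasiIso (CochainComplex.truncGEMap f (p + 1)) :=
    (CochainComplex.quasiIso_truncGEMap_iff f (p + 1)).2 hqi
  let g : E₀.truncGE (p + 1) ⟶ F := CochainComplex.truncGEMap f (p + 1) ≫ inv (F.πTruncGE (p + 1))
  have hg : QuasiIso g := inferInstance
  have hEzero : ∀ i : ℤ, i < p + 1 ∨ n < i → IsZero ((E₀.truncGE (p + 1)).X i) := by
    intro i hi
    rcases hi with hi | hi
    · exact (E₀.truncGE (p + 1)).isZero_of_isStrictlyGE (p + 1) i hi
    · exact (hE₀ i (Or.inr hi)).of_iso (E₀.truncGEXIso (p + 1) i (by omega))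
  have hflatE : ∀ i : ℤ, p + 1 < i → flatProp R ((E₀.truncGE (p + 1)).X i) := fun i hi =>
    (flatProp R).prop_of_iso (E₀.truncGEXIso (p + 1) i hi).symm (flatProp_of_finFree _ (hpc i))
  have hflatEm : Module.Flat R ((E₀.truncGE (p + 1)).X (p + 1)) := by
    have hex : ∀ i : ℤ, (CochainComplex.mappingCone g).ExactAt i :=
      exactAt_mappingCone_of_quasiIso g
    have hC : flatProp R ((CochainComplex.mappingCone g).X p) :=
      prop_bottom (flatProp R) flatProp_zero flatProp_kernel (CochainComplex.mappingCone g) p n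
        (fun i hi => isZero_mappingCone_X g i (hEzero _ (Or.inr (by omega))) (hF i (Or.inr hi)))
        (fun i hi => isZero_mappingCone_X g i (hEzero _ (Or.inl (by omega)))
          (hF i (Or.inl (by omega))))
        hex
        (fun i hi => (flatProp R).prop_of_iso
          (HomologicalComplex.homotopyCofiber.XIsoBiprod g i (i + 1) (by simp)).symm
          (flatProp_biprod _ _ (hflatE _ (by omega)) (hflat i)))
    exact (flatProp R).prop_of_iso (mappingConeXIso' g p (hF p (Or.inl (by omega)))) hC
  refine ⟨E₀.truncGE (p + 1), hEzero, fun i => ?_,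
    ⟨(asIso (Q.map g)) ≪≫ e⟩⟩
  rcases lt_trichotomy i (p + 1) with hi | hi | hi
  · have := ModuleCat.subsingleton_of_isZero (hEzero i (Or.inl hi))
    exact ⟨inferInstance, inferInstance⟩
  · subst hi
    have hfp : Module.FinitePresentation R ((E₀.truncGE (p + 1)).X (p + 1)) := by
      have := finitePresentation_opcycles E₀ p (p + 1) rfl (hpc _) (hpc _)
      exact Module.FinitePresentation.of_equiv (E₀.truncGEXIsoOpcycles (p + 1)).toLinearEquiv.symm
    exact ⟨inferInstance, Module.Flat.projective_of_finitePresentation⟩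
  · have h3 := finFree_iso _ _ (E₀.truncGEXIso (p + 1) i hi).symm (hpc i)
    have := h3.2
    exact ⟨h3.1, Module.Projective.of_free⟩

end Groth.Agent.Lib.Helper16.PC
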