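import Mathlib
import Groth.Agent.Lib.Helper16.FlatAcyc1
import Groth.Agent.Lib.Helper16.FlatKer
import Groth.Agent.Lib.Helper16.LDer3
import Groth.Agent.Lib.Helper16.PC10

/-!
# Helper16 — FlatAcyc2: extension of scalars preserves quasi-isomorphisms between bounded above
complexes of flat modules.
-/

open CategoryTheory CategoryTheory.Limits DerivedCategory CategoryTheory.Pretriangulated ZeroObject

namespace Groth.Agent.Lib.Helper16.FlatAcyc

open Groth.Agent.Lib.Helper16.FlatKer Groth.Agent.Lib.Helper16.LDer Groth.Agent.Lib.Helper16.PC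

universe u

attribute [local instance] HasDerivedCategory.standard

lemma isZero_Q_obj_of_exactAt {C : Type*} [Category C] [Abelian C] [HasDerivedCategory C]
    (X : CochainComplex C ℤ) (h : ∀ i, X.ExactAt i) : IsZero (Q.obj X) := by
  have hz : ∀ n : ℤ, IsZero ((homologyFunctor C n).obj (Q.obj X)) := fun n =>
    ((HomologicalComplex.exactAt_iff_isZero_homology _ _).1 (h n)).of_iso
      ((homologyFunctorFactors C n).app X)
  have h0 : IsZero (0 : DerivedCategory C) := isZero_zero _
  have : IsIso (0 : Q.obj X ⟶ 0) := by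
    rw [DerivedCategory.isIso_iff]
    intro n
    exact ⟨⟨0, (hz n).eq_of_src _ _, (Functor.map_isZero _ h0).eq_of_src _ _⟩⟩
  exact h0.of_iso (asIso (0 : Q.obj X ⟶ 0))

variable {A B : Type u} [CommRing A] [CommRing B] (φ : A →+* B)

instance : PreservesFiniteColimits (ModuleCat.extendScalars.{u, u, u} φ) := by
  have := (ModuleCat.extendRestrictScalarsAdj.{u, u, u} φ).leftAdjoint_preservesColimits
  infer_instance

/-- extension of scalars preserves monomorphisms with flat cokernel. -/
lemma mono_ext_of_flat (S : ShortComplex (ModuleCat.{u} A)) (hS : S.ShortExact)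
    (h3 : flatProp A S.X₃) : Mono ((ModuleCat.extendScalars.{u, u, u} φ).map S.f) := by
  have : Module.Flat A S.X₃ := h3
  rw [ModuleCat.mono_iff_injective]
  have hinj : Function.Injective S.f.hom := (ModuleCat.mono_iff_injective _).1 hS.mono_f
  have hsurj : Function.Surjective S.g.hom := (ModuleCat.epi_iff_surjective _).1 hS.epi_g
  have hex : Function.Exact S.f.hom S.g.hom :=
    (ShortComplex.ShortExact.moduleCat_exact_iff_function_exact _).1 hS.exact
  exact LinearMap.lTensor_injective_of_exact_of_flat S.g.hom hsurj S.f.hom hinj hex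
    ((ModuleCat.restrictScalars.{u} φ).obj (ModuleCat.of B B))

/-- extension of scalars of an exact bounded above complex of flat modules is exact. -/
theorem exactAt_ext (K : DRing.Cx A) (n : ℤ) (hK : DRing.VanishesAbove K n)
    (hex : ∀ i : ℤ, K.ExactAt i) (hfl : DRing.TermwiseFlat K) (i : ℤ) :
    ((extCx φ).obj K).ExactAt i :=
  exactAt_map (ModuleCat.extendScalars.{u, u, u} φ) (flatProp A) flatProp_zero flatProp_kernel
    (mono_ext_of_flat φ) K (i - 1) n hK (fun j _ => hex j) (fun j _ => hfl j) i (by omega)

/-- extension of scalars preserves quasi-isomorphisms between bounded above complexes of flat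
modules (in `D(B)`). -/
theorem isIso_Q_map_ext {K L : DRing.Cx A} (f : K ⟶ L) (hf : QuasiIso f) (n : ℤ)
    (hK : DRing.VanishesAbove K n) (hL : DRing.VanishesAbove L n)
    (hKfl : DRing.TermwiseFlat K) (hLfl : DRing.TermwiseFlat L) :
    IsIso (Q.map ((extCx φ).map f)) := by
  let G : HomotopyCategory (ModuleCat.{u} A) (ComplexShape.up ℤ) ⥤ Dual.D B :=
    DRing.baseChangeKh φ
  have hTG := G.map_distinguished _ (HomotopyCategory.mappingCone_triangleh_distinguished f)
  have hC : IsZero (Q.obj ((extCx φ).obj (CochainComplex.mappingCone f))) := by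
    apply isZero_Q_obj_of_exactAt
    intro i
    refine exactAt_ext φ _ n (fun j hj => ?_)
      (fun j => Groth.Agent.Lib.Helper8.DRing2.exactAt_mappingCone_of_quasiIso f j)
      (fun j => ?_) i
    · exact Groth.Agent.Lib.Helper8.DRing2.isZero_mappingCone_X f j (hK _ (by omega)) (hL j hj)
    · have h1 : flatProp A (K.X (j + 1)) := hKfl _
      have h2 : flatProp A (L.X j) := hLfl _
      exact (flatProp A).prop_of_iso
        (HomologicalComplex.homotopyCofiber.XIsoBiprod f j (j + 1) (by simp)).symm
        (flatProp_biprod _ _ h1 h2)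
  exact (Triangle.isZero₃_iff_isIso₁ _ hTG).1 hC

end Groth.Agent.Lib.Helper16.FlatAcyc
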