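import Mathlib
import Groth.Agent.Lib.Helper16.FlatAcyc2

/-!
# Helper16 — TorAmp1: a right exact additive functor which preserves monomorphisms with flat
cokernel preserves quasi-isomorphisms between bounded above complexes of flat modules;
the case of `- ⊗ M`.
-/

open CategoryTheory CategoryTheory.Limits DerivedCategory CategoryTheory.Pretriangulated ZeroObject
  MonoidalCategory

namespace Groth.Agent.Lib.Helper16.TorAmp

open Groth.Agent.Lib.Helper16.FlatKer Groth.Agent.Lib.Helper16.LDer Groth.Agent.Lib.Helper16.PC
  Groth.Agent.Lib.Helper16.FlatAcyc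

universe w u v'

variable {A : Type u} [CommRing A] {C : Type*} [Category C] [Abelian C] [HasDerivedCategory.{w} C]
  (G : ModuleCat.{u} A ⥤ C) [G.Additive] [PreservesFiniteColimits G]

omit [HasDerivedCategory.{w} C] in
/-- `G` of an exact bounded above complex of flat modules is exact. -/
theorem exactAt_map_of_flat
    (hG : ∀ S : ShortComplex (ModuleCat.{u} A), S.ShortExact → flatProp A S.X₃ → Mono (G.map S.f))
    (K : DRing.Cx A) (n : ℤ) (hK : DRing.VanishesAbove K n)
    (hex : ∀ i : ℤ, K.ExactAt i) (hfl : DRing.TermwiseFlat K) (i : ℤ) :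
    ((G.mapHomologicalComplex (ComplexShape.up ℤ)).obj K).ExactAt i :=
  exactAt_map G (flatProp A) flatProp_zero flatProp_kernel
    hG K (i - 1) n hK (fun j _ => hex j) (fun j _ => hfl j) i (by omega)

attribute [local instance] HasDerivedCategory.standard in
/-- `G` preserves quasi-isomorphisms between bounded above complexes of flat modules. -/
theorem isIso_Q_map_of_flat
    (hG : ∀ S : ShortComplex (ModuleCat.{u} A), S.ShortExact → flatProp A S.X₃ → Mono (G.map S.f))
    {K L : DRing.Cx A} (f : K ⟶ L) (hf : QuasiIso f) (n : ℤ)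
    (hK : DRing.VanishesAbove K n) (hL : DRing.VanishesAbove L n)
    (hKfl : DRing.TermwiseFlat K) (hLfl : DRing.TermwiseFlat L) :
    IsIso (Q.map ((G.mapHomologicalComplex (ComplexShape.up ℤ)).map f) :
      (Q.obj _ : DerivedCategory C) ⟶ _) := by
  let G' : HomotopyCategory (ModuleCat.{u} A) (ComplexShape.up ℤ) ⥤ DerivedCategory C :=
    G.mapHomotopyCategory (ComplexShape.up ℤ) ⋙ DerivedCategory.Qh
  have hTG := G'.map_distinguished _ (HomotopyCategory.mappingCone_triangleh_distinguished f)
  have hC : IsZero (Q.obj ((G.mapHomologicalComplex (ComplexShape.up ℤ)).obj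
      (CochainComplex.mappingCone f)) : DerivedCategory C) := by
    apply isZero_Q_obj_of_exactAt
    intro i
    refine exactAt_map_of_flat G hG _ n (fun j hj => ?_)
      (fun j => Groth.Agent.Lib.Helper8.DRing2.exactAt_mappingCone_of_quasiIso f j)
      (fun j => ?_) i
    · exact Groth.Agent.Lib.Helper8.DRing2.isZero_mappingCone_X f j (hK _ (by omega)) (hL j hj)
    · have h1 : flatProp A (K.X (j + 1)) := hKfl _
      have h2 : flatProp A (L.X j) := hLfl _
      exact (flatProp A).prop_of_iso
        (HomologicalComplex.homotopyCofiber.XIsoBiprod f j (j + 1) (by simp)).symm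
        (flatProp_biprod _ _ h1 h2)
  exact (Triangle.isZero₃_iff_isIso₁ _ hTG).1 hC

/-- `G` preserves quasi-isomorphisms between bounded above complexes of flat modules. -/
theorem quasiIso_map_of_flat
    (hG : ∀ S : ShortComplex (ModuleCat.{u} A), S.ShortExact → flatProp A S.X₃ → Mono (G.map S.f))
    {K L : DRing.Cx A} (f : K ⟶ L) (hf : QuasiIso f) (n : ℤ)
    (hK : DRing.VanishesAbove K n) (hL : DRing.VanishesAbove L n)
    (hKfl : DRing.TermwiseFlat K) (hLfl : DRing.TermwiseFlat L) :
    QuasiIso ((G.mapHomologicalComplex (ComplexShape.up ℤ)).map f) := by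
  have := isIso_Q_map_of_flat G hG f hf n hK hL hKfl hLfl
  rwa [isIso_Q_map_iff_quasiIso] at this

end Groth.Agent.Lib.Helper16.TorAmp
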