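import Mathlib

/-!
# Helper16 — TorAmp2: flatness of a cokernel from exactness after tensoring (module level).
-/

open TensorProduct

namespace Groth.Agent.Lib.Helper16.TorAmp

universe u

variable {R : Type u} [CommRing R]

/-- If `F` is flat and `Z ⊗ R/I → F ⊗ R/I` is injective for all ideals `I`, then `F ⧸ Z` is
flat. -/
theorem flat_quotient_of_rTensor_injective {F : Type u} [AddCommGroup F] [Module R F]
    [Module.Flat R F] (Z : Submodule R F)
    (h : ∀ I : Ideal R, Function.Injective (Z.subtype.rTensor (R ⧸ I))) :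
    Module.Flat R (F ⧸ Z) := by
  rw [Module.Flat.iff_lTensor_injective']
  intro I
  rw [injective_iff_map_eq_zero]
  intro x hx
  obtain ⟨y, rfl⟩ := LinearMap.rTensor_surjective I (Submodule.mkQ_surjective Z) x
  have hc1 : ∀ t, (I.subtype.lTensor (F ⧸ Z)) ((Z.mkQ.rTensor I) t) =
      (Z.mkQ.rTensor R) ((I.subtype.lTensor F) t) := fun t => by
    rw [← LinearMap.comp_apply, ← LinearMap.comp_apply, LinearMap.lTensor_comp_rTensor,
      LinearMap.rTensor_comp_lTensor]
  have hc2 : ∀ t, (Z.subtype.rTensor (R ⧸ I)) ((I.mkQ.lTensor Z) t) =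
      (I.mkQ.lTensor F) ((Z.subtype.rTensor R) t) := fun t => by
    rw [← LinearMap.comp_apply, ← LinearMap.comp_apply, LinearMap.lTensor_comp_rTensor,
      LinearMap.rTensor_comp_lTensor]
  have hc3 : ∀ t, (I.subtype.lTensor F) ((Z.subtype.rTensor I) t) =
      (Z.subtype.rTensor R) ((I.subtype.lTensor Z) t) := fun t => by
    rw [← LinearMap.comp_apply, ← LinearMap.comp_apply, LinearMap.lTensor_comp_rTensor,
      LinearMap.rTensor_comp_lTensor]
  have hex1 : Function.Exact (Z.subtype.rTensor R) (Z.mkQ.rTensor R) :=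
    rTensor_exact R (LinearMap.exact_subtype_mkQ Z) (Submodule.mkQ_surjective Z)
  have hex2 : Function.Exact (I.subtype.lTensor Z) (I.mkQ.lTensor Z) :=
    lTensor_exact Z (LinearMap.exact_subtype_mkQ I) (Submodule.mkQ_surjective I)
  rw [hc1] at hx
  obtain ⟨z, hz⟩ := (hex1 _).1 hx
  have hz0 : (I.mkQ.lTensor Z) z = 0 := by
    apply h I
    rw [hc2, hz, map_zero, ← LinearMap.comp_apply, ← LinearMap.lTensor_comp]
    have : I.mkQ ∘ₗ I.subtype = 0 := by
      ext t
      exact Ideal.Quotient.eq_zero_iff_mem.2 t.2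
    rw [this, LinearMap.lTensor_zero, LinearMap.zero_apply]
  obtain ⟨w, hw⟩ := (hex2 _).1 hz0
  have hy : y = (Z.subtype.rTensor I) w := by
    apply Module.Flat.lTensor_preserves_injective_linearMap (M := F) I.subtype
      I.injective_subtype
    rw [hc3, hw, hz]
  rw [hy, ← LinearMap.comp_apply, ← LinearMap.rTensor_comp]
  have : Z.mkQ ∘ₗ Z.subtype = 0 := by
    ext t
    simp
  rw [this, LinearMap.rTensor_zero, LinearMap.zero_apply]

/-- If `K0 → K1 → K2` is exact and stays exact after `- ⊗ M`, then `im(d2) ⊗ M → K2 ⊗ M` is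
injective. -/
theorem rTensor_range_subtype_injective {K0 K1 K2 M : Type*} [AddCommGroup K0] [Module R K0]
    [AddCommGroup K1] [Module R K1] [AddCommGroup K2] [Module R K2] [AddCommGroup M] [Module R M]
    (d1 : K0 →ₗ[R] K1) (d2 : K1 →ₗ[R] K2) (h0 : Function.Exact d1 d2)
    (hM : Function.Exact (d1.rTensor M) (d2.rTensor M)) :
    Function.Injective ((LinearMap.range d2).subtype.rTensor M) := by
  have hsurj : Function.Surjective d2.rangeRestrict := LinearMap.surjective_rangeRestrict d2
  have hex : Function.Exact d1 d2.rangeRestrict := by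
    intro x
    rw [← h0 x]
    constructor
    · intro hx
      have := congrArg Subtype.val hx
      simpa using this
    · intro hx
      ext
      simpa using hx
  have hex' : Function.Exact (d1.rTensor M) (d2.rangeRestrict.rTensor M) :=
    rTensor_exact M hex hsurj
  have hcomp : (LinearMap.range d2).subtype ∘ₗ d2.rangeRestrict = d2 := by
    ext x
    simp
  rw [injective_iff_map_eq_zero]
  intro z hz
  obtain ⟨y, rfl⟩ := LinearMap.rTensor_surjective M hsurj z
  rw [← LinearMap.comp_apply, ← LinearMap.rTensor_comp, hcomp] at hz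
  obtain ⟨x, rfl⟩ := (hM _).1 hz
  exact hex'.apply_apply_eq_zero x

/-- flatness of the cokernel. -/
theorem flat_coker {K0 K1 K2 : Type u} [AddCommGroup K0] [Module R K0]
    [AddCommGroup K1] [Module R K1] [AddCommGroup K2] [Module R K2] [Module.Flat R K2]
    (d1 : K0 →ₗ[R] K1) (d2 : K1 →ₗ[R] K2) (h0 : Function.Exact d1 d2)
    (h : ∀ I : Ideal R, Function.Exact (d1.rTensor (R ⧸ I)) (d2.rTensor (R ⧸ I))) :
    Module.Flat R (K2 ⧸ LinearMap.range d2) :=
  flat_quotient_of_rTensor_injective _ (fun I => rTensor_range_subtype_injective d1 d2 h0 (h I))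

end Groth.Agent.Lib.Helper16.TorAmp
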