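import Mathlib
import Groth.Agent.Lib.Helper16.TorAmp1
import Groth.Agent.Lib.Helper16.TorAmp2
import Groth.Agent.Lib.Helper16.PC12

/-!
# Helper16 — TorAmp3: tor amplitude and tensor products of bounded above flat complexes.
-/

open CategoryTheory CategoryTheory.Limits DerivedCategory CategoryTheory.Pretriangulated ZeroObject
  MonoidalCategory

namespace Groth.Agent.Lib.Helper16.TorAmp

open Groth.Agent.Lib.Helper16.FlatKer Groth.Agent.Lib.Helper16.LDer Groth.Agent.Lib.Helper16.PC
  Groth.Agent.Lib.Helper16.FlatAcyc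

universe u

attribute [local instance] HasDerivedCategory.standard

variable {R : Type u} [CommRing R]

/-- termwise `- ⊗ M` on complexes. -/
noncomputable abbrev tensCx (M : ModuleCat.{u} R) : DRing.Cx R ⥤ DRing.Cx R :=
  (tensorRight M).mapHomologicalComplex (ComplexShape.up ℤ)

lemma mono_tensorRight_of_flat (M : ModuleCat.{u} R) (S : ShortComplex (ModuleCat.{u} R))
    (hS : S.ShortExact) (h3 : flatProp R S.X₃) : Mono ((tensorRight M).map S.f) := by
  have : Module.Flat R S.X₃ := h3
  rw [ModuleCat.mono_iff_injective]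
  have hinj : Function.Injective S.f.hom := (ModuleCat.mono_iff_injective _).1 hS.mono_f
  have hsurj : Function.Surjective S.g.hom := (ModuleCat.epi_iff_surjective _).1 hS.epi_g
  have hex : Function.Exact S.f.hom S.g.hom :=
    (ShortComplex.ShortExact.moduleCat_exact_iff_function_exact _).1 hS.exact
  exact (LinearMap.lTensor_inj_iff_rTensor_inj (M := M) (f := S.f.hom)).1
    (LinearMap.lTensor_injective_of_exact_of_flat S.g.hom hsurj S.f.hom hinj hex M)

/-- `- ⊗ M` preserves quasi-isomorphisms between bounded above complexes of flat modules. -/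
theorem quasiIso_tensCx_of_flat (M : ModuleCat.{u} R) {K L : DRing.Cx R} (f : K ⟶ L)
    (hf : QuasiIso f) (n : ℤ) (hK : DRing.VanishesAbove K n) (hL : DRing.VanishesAbove L n)
    (hKfl : DRing.TermwiseFlat K) (hLfl : DRing.TermwiseFlat L) :
    QuasiIso ((tensCx M).map f) :=
  quasiIso_map_of_flat (tensorRight M) (mono_tensorRight_of_flat M) f hf n hK hL hKfl hLfl

lemma exactAt_tensCx_iff (M : ModuleCat.{u} R) (K : DRing.Cx R) (i j k : ℤ) (hij : i + 1 = j)
    (hjk : j + 1 = k) :
    ((tensCx M).obj K).ExactAt j ↔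
      Function.Exact ((K.d i j).hom.rTensor M) ((K.d j k).hom.rTensor M) := by
  rw [HomologicalComplex.exactAt_iff' _ i j k (by simp [← hij]) (by simp [← hjk]),
    ShortComplex.ShortExact.moduleCat_exact_iff_function_exact]
  rfl

lemma exactAt_iff_function_exact (K : DRing.Cx R) (i j k : ℤ) (hij : i + 1 = j)
    (hjk : j + 1 = k) :
    K.ExactAt j ↔ Function.Exact (K.d i j).hom (K.d j k).hom := by
  rw [HomologicalComplex.exactAt_iff' _ i j k (by simp [← hij]) (by simp [← hjk]),
    ShortComplex.ShortExact.moduleCat_exact_iff_function_exact]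
  rfl

/-- If a bounded above complex of flat modules `K` has tor amplitude in `[a, c]`, then `K ⊗ M`
is exact outside `[a, c]`. -/
theorem exactAt_tensCx_of_torAmp (K : DRing.Cx R) (b : ℤ)
    (hb : DRing.VanishesAbove K b) (hflat : DRing.TermwiseFlat K) (a c : ℤ)
    (hamp : DRing.HasTorAmplitudeIn R a c (DRing.toD K)) (M : ModuleCat.{u} R) (i : ℤ)
    (hi : i < a ∨ c < i) : ((tensCx M).obj K).ExactAt i := by
  obtain ⟨F, hF, hFflat, ⟨e⟩⟩ := hamp
  have hKle : K.IsStrictlyLE b := (CochainComplex.isStrictlyLE_iff _ _).2 hb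
  have hb' : (Q.obj K).IsLE (max b c) := by
    have : (Q.obj K).IsLE b := by
      rw [isLE_Q_obj_iff]
      infer_instance
    exact (TStructure.t).isLE_of_le (Q.obj K) b _ (le_max_left _ _)
  obtain ⟨P, p, hP, hproj, hp⟩ := exists_projective_resolution K (max b c) hb'
  have hproj' : ∀ i, Module.Projective R (P.X i) := fun i =>
    haveI := hproj i
    ModuleCat.projective_of_module_projective (P.X i)
  have hPflat : DRing.TermwiseFlat P := fun i => by
    have := hproj' i
    infer_instance
  haveI : P.IsKProjective := isKProjective_of_bddAbove_projective P _ hP hproj'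
  have hp' : IsIso (Q.map p) := by
    rw [isIso_Q_map_iff_quasiIso]
    exact hp
  obtain ⟨g, hg⟩ := Groth.Agent.Lib.Helper8.PAmp.exists_Q_map_of_isKProjective P F
    (Q.map p ≫ e.inv)
  have hg' : QuasiIso g := by
    rw [← isIso_Q_map_iff_quasiIso, ← hg]
    infer_instance
  have h1 : QuasiIso ((tensCx M).map p) :=
    quasiIso_tensCx_of_flat M p hp (max b c) hP (fun j hj => hb j (by omega)) hPflat hflat
  have h2 : QuasiIso ((tensCx M).map g) :=
    quasiIso_tensCx_of_flat M g hg' (max b c) hP (fun j hj => hF j (Or.inr (by omega))) hPflat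
      hFflat
  have hFz : ((tensCx M).obj F).ExactAt i :=
    HomologicalComplex.ExactAt.of_isZero (Functor.map_isZero (tensorRight M) (hF i hi))
  haveI h1i : QuasiIsoAt ((tensCx M).map p) i := h1.quasiIsoAt i
  haveI h2i : QuasiIsoAt ((tensCx M).map g) i := h2.quasiIsoAt i
  exact (exactAt_iff_of_quasiIsoAt ((tensCx M).map p) i).1
    ((exactAt_iff_of_quasiIsoAt ((tensCx M).map g) i).2 hFz)

/-- a complex with tor amplitude in `[a, c]` is exact outside `[a, c]`. -/
theorem exactAt_of_torAmp (K : DRing.Cx R) (a c : ℤ)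
    (hamp : DRing.HasTorAmplitudeIn R a c (DRing.toD K)) (i : ℤ) (hi : i < a ∨ c < i) :
    K.ExactAt i := by
  obtain ⟨F, hF, -, ⟨e⟩⟩ := hamp
  rw [HomologicalComplex.exactAt_iff_isZero_homology]
  have hFz : IsZero (F.homology i) :=
    (HomologicalComplex.exactAt_iff_isZero_homology _ _).1
      (HomologicalComplex.ExactAt.of_isZero (hF i hi))
  exact hFz.of_iso (((homologyFunctorFactors _ i).app K).symm ≪≫
    (homologyFunctor _ i).mapIso e.symm ≪≫ (homologyFunctorFactors _ i).app F)

/-- S6944: flatness of the cokernel of `K^(a-1) → K^a`. -/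
theorem flat_coker_of_torAmp (K : DRing.Cx R) (b : ℤ)
    (hb : DRing.VanishesAbove K b) (hflat : DRing.TermwiseFlat K) (a c : ℤ)
    (hamp : DRing.HasTorAmplitudeIn R a c (DRing.toD K)) :
    Module.Flat R ((K.X a) ⧸ LinearMap.range (K.d (a - 1) a).hom) := by
  have := hflat a
  refine flat_coker (K.d (a - 1 - 1) (a - 1)).hom (K.d (a - 1) a).hom ?_ (fun I => ?_)
  · exact (exactAt_iff_function_exact K (a - 1 - 1) (a - 1) a (by omega) (by omega)).1
      (exactAt_of_torAmp K a c hamp (a - 1) (Or.inl (by omega)))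
  · exact (exactAt_tensCx_iff (ModuleCat.of R (R ⧸ I)) K (a - 1 - 1) (a - 1) a (by omega)
      (by omega)).1 (exactAt_tensCx_of_torAmp K b hb hflat a c hamp _ (a - 1) (Or.inl (by omega)))

end Groth.Agent.Lib.Helper16.TorAmp
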