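import Mathlib
import Groth.Agent.Lib.Helper16.TorAmp3

/-!
# Helper16 — TorAmp4: the internal tor amplitude criterion.
-/

open CategoryTheory CategoryTheory.Limits DerivedCategory CategoryTheory.Pretriangulated ZeroObject
  MonoidalCategory

namespace Groth.Agent.Lib.Helper16.TorAmp

open Groth.Agent.Lib.Helper16.FlatKer Groth.Agent.Lib.Helper16.LDer Groth.Agent.Lib.Helper16.PC
  Groth.Agent.Lib.Helper16.FlatAcyc

universe u

attribute [local instance] HasDerivedCategory.standard

variable {R : Type u} [CommRing R]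

/-- `opcycles` as the quotient by the range of the differential. -/
noncomputable def opcyclesIsoQuotient (K : DRing.Cx R) (i j : ℤ) (hij : i + 1 = j) :
    K.opcycles j ≅ ModuleCat.of R (K.X j ⧸ LinearMap.range (K.d i j).hom) :=
  (IsColimit.coconePointUniqueUpToIso (K.opcyclesIsCokernel i j (by simp [← hij]))
    (cokernelIsCokernel _)) ≪≫ ModuleCat.cokernelIsoRangeQuotient _

/-- truncation: a bounded above flat complex, exact below `a`, with flat cokernel at `a`, has tor
amplitude in `[a, b]`. -/
theorem torAmp_of_flat_coker (P : DRing.Cx R) (a b : ℤ) (hb : DRing.VanishesAbove P b)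
    (hflat : DRing.TermwiseFlat P) (hex : ∀ i : ℤ, i < a → P.ExactAt i)
    (hc : Module.Flat R (P.X a ⧸ LinearMap.range (P.d (a - 1) a).hom)) :
    DRing.HasTorAmplitudeIn R a b (DRing.toD P) := by
  haveI : P.IsGE a := (P.isGE_iff a).2 hex
  have hq : QuasiIso (P.πTruncGE a) := inferInstance
  have hq' : IsIso (Q.map (P.πTruncGE a)) := by
    rw [isIso_Q_map_iff_quasiIso]
    exact hq
  have hflat_a : Module.Flat R ((P.truncGE a).X a) := by
    have : Module.Flat R (ModuleCat.of R (P.X a ⧸ LinearMap.range (P.d (a - 1) a).hom)) := hc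
    exact Module.Flat.of_linearEquiv
      ((P.truncGEXIsoOpcycles a) ≪≫ opcyclesIsoQuotient P (a - 1) a (by omega)).toLinearEquiv
  refine ⟨P.truncGE a, fun i hi => ?_, fun i => ?_, ⟨(asIso (Q.map (P.πTruncGE a))).symm⟩⟩
  · rcases lt_trichotomy i a with h | h | h
    · exact (P.truncGE a).isZero_of_isStrictlyGE a i h
    · subst h
      have hz : IsZero (P.X i) := hb i (by omega)
      have : Subsingleton (P.X i) := ModuleCat.subsingleton_of_isZero hz
      have hsub : Subsingleton (ModuleCat.of R (P.X i ⧸ LinearMap.range (P.d (i - 1) i).hom)) :=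
        inferInstanceAs (Subsingleton (P.X i ⧸ LinearMap.range (P.d (i - 1) i).hom))
      exact (ModuleCat.isZero_of_subsingleton _).of_iso
        ((P.truncGEXIsoOpcycles i) ≪≫ opcyclesIsoQuotient P (i - 1) i (by omega))
    · exact (hb i (by omega)).of_iso (P.truncGEXIso a i h)
  · rcases lt_trichotomy i a with h | h | h
    · have := ModuleCat.subsingleton_of_isZero ((P.truncGE a).isZero_of_isStrictlyGE a i h)
      infer_instance
    · subst h
      exact hflat_a
    · have := hflat i
      exact Module.Flat.of_linearEquiv (P.truncGEXIso a i h).toLinearEquiv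

/-- `P ⊗ R ≅ P`. -/
noncomputable def tensCxUnitIso (P : DRing.Cx R) :
    (tensCx (𝟙_ (ModuleCat.{u} R))).obj P ≅ P :=
  ((NatIso.mapHomologicalComplex (rightUnitorNatIso (ModuleCat.{u} R)) (ComplexShape.up ℤ)).app P)
    ≪≫ (Functor.mapHomologicalComplexIdIso (ModuleCat.{u} R) (ComplexShape.up ℤ)).app P

/-- flatness of the cokernel from exactness of the tensor products. -/
theorem flat_coker_of_exactAt_tensCx (K : DRing.Cx R) (a : ℤ) (hfl : Module.Flat R (K.X a))
    (h0 : K.ExactAt (a - 1))
    (h : ∀ M : ModuleCat.{u} R, ((tensCx M).obj K).ExactAt (a - 1)) :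
    Module.Flat R ((K.X a) ⧸ LinearMap.range (K.d (a - 1) a).hom) := by
  refine flat_coker (K.d (a - 1 - 1) (a - 1)).hom (K.d (a - 1) a).hom ?_ (fun I => ?_)
  · exact (exactAt_iff_function_exact K (a - 1 - 1) (a - 1) a (by omega) (by omega)).1 h0
  · exact (exactAt_tensCx_iff (ModuleCat.of R (R ⧸ I)) K (a - 1 - 1) (a - 1) a (by omega)
      (by omega)).1 (h _)

lemma hasTorAmplitudeIn_of_iso {K L : Dual.D R} (e : K ≅ L) (a b : ℤ)
    (h : DRing.HasTorAmplitudeIn R a b K) : DRing.HasTorAmplitudeIn R a b L := by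
  obtain ⟨F, hF, hfl, ⟨e'⟩⟩ := h
  exact ⟨F, hF, hfl, ⟨e' ≪≫ e⟩⟩

/-- the internal tor amplitude criterion, for bounded above complexes of flat modules. -/
theorem torAmp_iff_exactAt_tensCx (P : DRing.Cx R) (n : ℤ) (hn : DRing.VanishesAbove P n)
    (hflat : DRing.TermwiseFlat P) (a b : ℤ) :
    DRing.HasTorAmplitudeIn R a b (DRing.toD P) ↔
      ∀ (M : ModuleCat.{u} R) (i : ℤ), i < a ∨ b < i → ((tensCx M).obj P).ExactAt i := by
  constructor
  · intro h M i hi
    exact exactAt_tensCx_of_torAmp P n hn hflat a b h M i hi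
  · intro h
    have hex : ∀ i : ℤ, i < a ∨ b < i → P.ExactAt i := fun i hi =>
      (h (𝟙_ _) i hi).of_iso (tensCxUnitIso P)
    have hb' : (Q.obj P).IsLE b := by
      rw [isLE_Q_obj_iff, CochainComplex.isLE_iff]
      intro i hi
      exact hex i (Or.inr hi)
    obtain ⟨P', p, hP', hproj, hp⟩ := exists_projective_resolution P b hb'
    have hproj' : ∀ i, Module.Projective R (P'.X i) := fun i =>
      haveI := hproj i
      ModuleCat.projective_of_module_projective (P'.X i)
    have hP'flat : DRing.TermwiseFlat P' := fun i => by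
      have := hproj' i
      infer_instance
    have hp' : IsIso (Q.map p) := by
      rw [isIso_Q_map_iff_quasiIso]
      exact hp
    have hex' : ∀ i : ℤ, i < a ∨ b < i → P'.ExactAt i := fun i hi => by
      haveI : QuasiIsoAt p i := hp.quasiIsoAt i
      exact (exactAt_iff_of_quasiIsoAt p i).2 (hex i hi)
    have htens : ∀ (M : ModuleCat.{u} R) (i : ℤ), i < a ∨ b < i →
        ((tensCx M).obj P').ExactAt i := fun M i hi => by
      have h1 : QuasiIso ((tensCx M).map p) :=
        quasiIso_tensCx_of_flat M p hp (max n b) (fun j hj => hP' j (by omega))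
          (fun j hj => hn j (by omega)) hP'flat hflat
      haveI : QuasiIsoAt ((tensCx M).map p) i := h1.quasiIsoAt i
      exact (exactAt_iff_of_quasiIsoAt ((tensCx M).map p) i).2 (h M i hi)
    have hc := flat_coker_of_exactAt_tensCx P' a (hP'flat a) (hex' _ (Or.inl (by omega)))
      (fun M => htens M _ (Or.inl (by omega)))
    exact hasTorAmplitudeIn_of_iso (asIso (Q.map p)) a b
      (torAmp_of_flat_coker P' a b hP' hP'flat (fun i hi => hex' i (Or.inl hi)) hc)

end Groth.Agent.Lib.Helper16.TorAmp
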