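import Mathlib
import Groth.Agent.Lib.Helper16.TorAmp4
import Groth.Agent.Lib.Helper16.LDer4

/-!
# Helper16 — TorAmp6: tor amplitude via the derived tensor product `LTensor`.
-/

open CategoryTheory CategoryTheory.Limits DerivedCategory CategoryTheory.Pretriangulated ZeroObject
  MonoidalCategory

namespace Groth.Agent.Lib.Helper16.TorAmp

open Groth.Agent.Lib.Helper16.FlatKer Groth.Agent.Lib.Helper16.LDer Groth.Agent.Lib.Helper16.PC
  Groth.Agent.Lib.Helper16.FlatAcyc

universe u

attribute [local instance] HasDerivedCategory.standard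

variable {R : Type u} [CommRing R]

instance flat_unit : Module.Flat R (𝟙_ (ModuleCat.{u} R)) :=
  inferInstanceAs (Module.Flat R R)

instance preservesHomology_tensorRight (M : ModuleCat.{u} R) [Module.Flat R M] :
    (tensorRight M).PreservesHomology := inferInstance

/-- `K ⊗^L M ≅ Q(P ⊗ M)` for `P` K-projective. -/
noncomputable def lTensorIso (M : ModuleCat.{u} R) [DRing.HasLTensor R M]
    (P : DRing.Cx R) [P.IsKProjective] :
    (DRing.LTensor R M).obj (Q.obj P) ≅ Q.obj ((tensCx M).obj P) :=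
  lDerIso (tensorRight M) P

/-- `K ⊗^L M ≅ Q(X ⊗ M)` for `M` flat. -/
noncomputable def lTensorIsoOfFlat (M : ModuleCat.{u} R) [Module.Flat R M] [DRing.HasLTensor R M]
    (X : DRing.Cx R) :
    (DRing.LTensor R M).obj (Q.obj X) ≅ Q.obj ((tensCx M).obj X) :=
  lDerIsoOfInverts (tensorRight M) (inverts_GKh_of_preservesHomology _) X

/-- `K ⊗^L R ≅ K`. -/
noncomputable def lTensorUnitIso [DRing.HasLTensor R (𝟙_ (ModuleCat.{u} R))] (K : Dual.D R) :
    (DRing.LTensor R (𝟙_ (ModuleCat.{u} R))).obj K ≅ K :=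
  (DRing.LTensor R (𝟙_ (ModuleCat.{u} R))).mapIso (Q.objObjPreimageIso K).symm ≪≫
    lTensorIsoOfFlat (𝟙_ (ModuleCat.{u} R)) (Q.objPreimage K) ≪≫
    Q.mapIso (tensCxUnitIso (Q.objPreimage K)) ≪≫ Q.objObjPreimageIso K

lemma subsingleton_HD_iff_exactAt (T : DRing.Cx R) {L : Dual.D R} (e : L ≅ Q.obj T) (i : ℤ) :
    Subsingleton (Dual.HD R L i) ↔ T.ExactAt i := by
  rw [HomologicalComplex.exactAt_iff_isZero_homology, ← ModuleCat.isZero_iff_subsingleton]
  exact Iso.isZero_iff ((homologyFunctor _ i).mapIso e ≪≫ (homologyFunctorFactors _ i).app T)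

/-- S6945. -/
theorem torAmp_iff_LTensor [∀ M : ModuleCat.{u} R, DRing.HasLTensor R M] (K : Dual.D R)
    (a b : ℤ) :
    DRing.HasTorAmplitudeIn R a b K ↔
      ∀ (M : ModuleCat.{u} R) (i : ℤ), (i < a ∨ b < i) →
        Subsingleton (Dual.HD R ((DRing.LTensor R M).obj K) i) := by
  have key : K.IsLE b → (DRing.HasTorAmplitudeIn R a b K ↔
      ∀ (M : ModuleCat.{u} R) (i : ℤ), (i < a ∨ b < i) →
        Subsingleton (Dual.HD R ((DRing.LTensor R M).obj K) i)) := by
    intro hLE
    have hLE' : (Q.obj (Q.objPreimage K)).IsLE b :=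
      (TStructure.t).isLE_of_iso (Q.objObjPreimageIso K).symm b
    obtain ⟨P, p, hP, hproj, hp⟩ := exists_projective_resolution (Q.objPreimage K) b hLE'
    have hproj' : ∀ i, Module.Projective R (P.X i) := fun i =>
      haveI := hproj i
      ModuleCat.projective_of_module_projective (P.X i)
    have hPflat : DRing.TermwiseFlat P := fun i => by
      have := hproj' i
      infer_instance
    haveI : P.IsKProjective := isKProjective_of_bddAbove_projective P _ hP hproj'
    have hp' : IsIso (Q.map p) := by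
      rw [isIso_Q_map_iff_quasiIso]
      exact hp
    let eP : Q.obj P ≅ K := asIso (Q.map p) ≪≫ Q.objObjPreimageIso K
    have h1 : DRing.HasTorAmplitudeIn R a b K ↔ DRing.HasTorAmplitudeIn R a b (DRing.toD P) :=
      ⟨hasTorAmplitudeIn_of_iso eP.symm a b, hasTorAmplitudeIn_of_iso eP a b⟩
    rw [h1, torAmp_iff_exactAt_tensCx P b hP hPflat a b]
    refine forall_congr' (fun M => forall_congr' (fun i => imp_congr_right (fun _ => ?_)))
    exact (subsingleton_HD_iff_exactAt _
      ((DRing.LTensor R M).mapIso eP.symm ≪≫ lTensorIso M P) i).symm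
  constructor
  · intro h
    have hLE : K.IsLE b := by
      obtain ⟨F, hF, -, ⟨e⟩⟩ := h
      have hFle : F.IsStrictlyLE b :=
        (CochainComplex.isStrictlyLE_iff _ _).2 (fun i hi => hF i (Or.inr hi))
      have : (Q.obj F).IsLE b := by
        rw [isLE_Q_obj_iff]
        infer_instance
      exact (TStructure.t).isLE_of_iso e b
    exact (key hLE).1 h
  · intro h
    have hLE : K.IsLE b := by
      rw [isLE_iff]
      intro i hi
      have h1 := h (𝟙_ _) i (Or.inr hi)
      rw [← ModuleCat.isZero_iff_subsingleton] at h1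
      exact h1.of_iso ((homologyFunctor _ i).mapIso (lTensorUnitIso K).symm)
    exact (key hLE).2 h

end Groth.Agent.Lib.Helper16.TorAmp
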