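import Mathlib
import Groth.Agent.Lib.Helper16.TorAmp4

/-!
# Helper16 — TorAmp7: tor amplitude and distinguished triangles.
-/

open CategoryTheory CategoryTheory.Limits DerivedCategory CategoryTheory.Pretriangulated ZeroObject
  MonoidalCategory

namespace Groth.Agent.Lib.Helper16.TorAmp

open Groth.Agent.Lib.Helper16.FlatKer Groth.Agent.Lib.Helper16.LDer Groth.Agent.Lib.Helper16.PC
  Groth.Agent.Lib.Helper16.FlatAcyc

universe u

attribute [local instance] HasDerivedCategory.standard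

variable {R : Type u} [CommRing R]

/-- bounded above projective models. -/
lemma exists_projective_model (K : Dual.D R) (n : ℤ) (h : K.IsLE n) :
    ∃ (P : DRing.Cx R), DRing.VanishesAbove P n ∧ (∀ i, Module.Projective R (P.X i)) ∧
      Nonempty (Q.obj P ≅ K) := by
  have hLE' : (Q.obj (Q.objPreimage K)).IsLE n :=
    (TStructure.t).isLE_of_iso (Q.objObjPreimageIso K).symm n
  obtain ⟨P, p, hP, hproj, hp⟩ := exists_projective_resolution (Q.objPreimage K) n hLE'
  have hproj' : ∀ i, Module.Projective R (P.X i) := fun i =>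
    haveI := hproj i
    ModuleCat.projective_of_module_projective (P.X i)
  have hp' : IsIso (Q.map p) := by
    rw [isIso_Q_map_iff_quasiIso]
    exact hp
  exact ⟨P, hP, hproj', ⟨asIso (Q.map p) ≪≫ Q.objObjPreimageIso K⟩⟩

lemma termwiseFlat_of_projective (P : DRing.Cx R) (h : ∀ i, Module.Projective R (P.X i)) :
    DRing.TermwiseFlat P := fun i => by
  have := h i
  infer_instance

lemma isLE_of_torAmp (K : Dual.D R) (a b : ℤ) (h : DRing.HasTorAmplitudeIn R a b K) :
    K.IsLE b := by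
  obtain ⟨F, hF, -, ⟨e⟩⟩ := h
  have hFle : F.IsStrictlyLE b :=
    (CochainComplex.isStrictlyLE_iff _ _).2 (fun i hi => hF i (Or.inr hi))
  have : (Q.obj F).IsLE b := by
    rw [isLE_Q_obj_iff]
    infer_instance
  exact (TStructure.t).isLE_of_iso e b

/-- vanishing of the homology of the third vertex of a distinguished triangle. -/
lemma isZero_homology_obj₃ {C : Type*} [Category C] [Abelian C] [HasDerivedCategory C]
    (T : Triangle (DerivedCategory C)) (hT : T ∈ distTriang _) (i : ℤ)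
    (h2 : IsZero ((homologyFunctor C i).obj T.obj₂))
    (h1 : IsZero ((homologyFunctor C (i + 1)).obj T.obj₁)) :
    IsZero ((homologyFunctor C i).obj T.obj₃) :=
  (HomologySequence.exact₃ T hT i (i + 1) rfl).isZero_X₂ (h2.eq_of_src _ _) (h1.eq_of_tgt _ _)

/-- exactness of the tensor product of a mapping cone. -/
theorem exactAt_tensCx_mappingCone (M : ModuleCat.{u} R) {P1 P2 : DRing.Cx R} (f : P1 ⟶ P2)
    (i : ℤ) (h2 : ((tensCx M).obj P2).ExactAt i) (h1 : ((tensCx M).obj P1).ExactAt (i + 1)) :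
    ((tensCx M).obj (CochainComplex.mappingCone f)).ExactAt i := by
  let G' : HomotopyCategory (ModuleCat.{u} R) (ComplexShape.up ℤ) ⥤ Dual.D R :=
    (tensorRight M).mapHomotopyCategory (ComplexShape.up ℤ) ⋙ DerivedCategory.Qh
  have hTG := G'.map_distinguished _ (HomotopyCategory.mappingCone_triangleh_distinguished f)
  have hz2 : IsZero ((homologyFunctor _ i).obj (Q.obj ((tensCx M).obj P2))) :=
    ((HomologicalComplex.exactAt_iff_isZero_homology _ _).1 h2).of_iso
      ((homologyFunctorFactors _ i).app _)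
  have hz1 : IsZero ((homologyFunctor _ (i + 1)).obj (Q.obj ((tensCx M).obj P1))) :=
    ((HomologicalComplex.exactAt_iff_isZero_homology _ _).1 h1).of_iso
      ((homologyFunctorFactors _ (i + 1)).app _)
  have hz3 : IsZero ((homologyFunctor _ i).obj
      (Q.obj ((tensCx M).obj (CochainComplex.mappingCone f)))) :=
    isZero_homology_obj₃ _ hTG i hz2 hz1
  rw [HomologicalComplex.exactAt_iff_isZero_homology]
  exact hz3.of_iso ((homologyFunctorFactors _ i).app _).symm

/-- lifting the first morphism of a distinguished triangle to bounded above projective complexes. -/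
theorem exists_cone_model (T : Triangle (Dual.D R)) (hT : T ∈ distTriang _) (n : ℤ)
    (h1 : T.obj₁.IsLE n) (h2 : T.obj₂.IsLE n) :
    ∃ (P1 P2 : DRing.Cx R) (f : P1 ⟶ P2), DRing.VanishesAbove P1 n ∧ DRing.VanishesAbove P2 n ∧
      (∀ i, Module.Projective R (P1.X i)) ∧ (∀ i, Module.Projective R (P2.X i)) ∧
      Nonempty (Q.obj P1 ≅ T.obj₁) ∧ Nonempty (Q.obj P2 ≅ T.obj₂) ∧
      Nonempty (Q.obj (CochainComplex.mappingCone f) ≅ T.obj₃) := by
  obtain ⟨P1, hP1, hproj1, ⟨e1⟩⟩ := exists_projective_model T.obj₁ n h1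
  obtain ⟨P2, hP2, hproj2, ⟨e2⟩⟩ := exists_projective_model T.obj₂ n h2
  haveI : P1.IsKProjective := isKProjective_of_bddAbove_projective P1 _ hP1 hproj1
  obtain ⟨f, hf⟩ := Groth.Agent.Lib.Helper8.PAmp.exists_Q_map_of_isKProjective P1 P2
    (e1.hom ≫ T.mor₁ ≫ e2.inv)
  have hT' := mappingCone_triangle_distinguished f
  have e := isoTriangleOfIso₁₂ _ T hT' hT e1 e2 (by
    change Q.map f ≫ e2.hom = e1.hom ≫ T.mor₁
    rw [← hf]
    simp)
  exact ⟨P1, P2, f, hP1, hP2, hproj1, hproj2, ⟨e1⟩, ⟨e2⟩, ⟨Triangle.π₃.mapIso e⟩⟩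

/-- Part (1) of S7027. -/
theorem torAmp_obj₃ (T : Triangle (Dual.D R)) (hT : T ∈ distTriang _) (a b : ℤ)
    (h1 : DRing.HasTorAmplitudeIn R (a + 1) (b + 1) T.obj₁)
    (h2 : DRing.HasTorAmplitudeIn R a b T.obj₂) :
    DRing.HasTorAmplitudeIn R a b T.obj₃ := by
  have hLE1 : T.obj₁.IsLE (b + 1) := isLE_of_torAmp _ _ _ h1
  have hLE2 : T.obj₂.IsLE (b + 1) :=
    haveI : T.obj₂.IsLE b := isLE_of_torAmp _ _ _ h2
    (TStructure.t).isLE_of_le _ b (b + 1) (by omega)
  obtain ⟨P1, P2, f, hP1, hP2, hproj1, hproj2, ⟨e1⟩, ⟨e2⟩, ⟨e3⟩⟩ :=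
    exists_cone_model T hT (b + 1) hLE1 hLE2
  have hfl1 := termwiseFlat_of_projective P1 hproj1
  have hfl2 := termwiseFlat_of_projective P2 hproj2
  have ht1 := (torAmp_iff_exactAt_tensCx P1 (b + 1) hP1 hfl1 (a + 1) (b + 1)).1
    (hasTorAmplitudeIn_of_iso e1.symm _ _ h1)
  have ht2 := (torAmp_iff_exactAt_tensCx P2 (b + 1) hP2 hfl2 a b).1
    (hasTorAmplitudeIn_of_iso e2.symm _ _ h2)
  refine hasTorAmplitudeIn_of_iso e3 a b ?_
  rw [torAmp_iff_exactAt_tensCx (CochainComplex.mappingCone f) (b + 1) ?_ ?_ a b]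
  · intro M i hi
    exact exactAt_tensCx_mappingCone M f i (ht2 M i hi) (ht1 M (i + 1) (by omega))
  · intro j hj
    exact Groth.Agent.Lib.Helper8.DRing2.isZero_mappingCone_X f j (hP1 _ (by omega)) (hP2 j hj)
  · intro j
    have h1' : flatProp R (P1.X (j + 1)) := hfl1 _
    have h2' : flatProp R (P2.X j) := hfl2 _
    exact (flatProp R).prop_of_iso
      (HomologicalComplex.homotopyCofiber.XIsoBiprod f j (j + 1) (by simp)).symm
      (flatProp_biprod _ _ h1' h2')

/-- tor amplitude and shifts. -/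
lemma torAmp_shift (K : Dual.D R) (a b n : ℤ) (h : DRing.HasTorAmplitudeIn R a b K) :
    DRing.HasTorAmplitudeIn R (a - n) (b - n) (K⟦n⟧) := by
  obtain ⟨F, hF, hfl, ⟨e⟩⟩ := h
  refine ⟨F⟦n⟧, fun i hi => ?_, fun i => ?_,
    ⟨(Q.commShiftIso n).app F ≪≫ (shiftFunctor _ n).mapIso e⟩⟩
  · exact hF (i + n) (by omega)
  · exact hfl (i + n)

lemma torAmp_of_shift (K : Dual.D R) (a b n : ℤ)
    (h : DRing.HasTorAmplitudeIn R (a - n) (b - n) (K⟦n⟧)) :
    DRing.HasTorAmplitudeIn R a b K := by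
  have h1 := torAmp_shift _ _ _ (-n) h
  have h2 := hasTorAmplitudeIn_of_iso ((shiftFunctorCompIsoId (Dual.D R) n (-n) (by simp)).app K)
    _ _ h1
  have ha : a - n - -n = a := by omega
  have hb : b - n - -n = b := by omega
  rwa [ha, hb] at h2

/-- Part (2) of S7027. -/
theorem torAmp_obj₂ (T : Triangle (Dual.D R)) (hT : T ∈ distTriang _) (a b : ℤ)
    (h1 : DRing.HasTorAmplitudeIn R a b T.obj₁)
    (h3 : DRing.HasTorAmplitudeIn R a b T.obj₃) :
    DRing.HasTorAmplitudeIn R a b T.obj₂ := by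
  have hT' := inv_rot_of_distTriang _ hT
  have h3' : DRing.HasTorAmplitudeIn R (a + 1) (b + 1) T.invRotate.obj₁ := by
    have := torAmp_shift T.obj₃ a b (-1) h3
    have ha : a - -1 = a + 1 := by omega
    have hb : b - -1 = b + 1 := by omega
    rwa [ha, hb] at this
  exact torAmp_obj₃ T.invRotate hT' a b h3' h1

/-- Part (3) of S7027. -/
theorem torAmp_obj₁ (T : Triangle (Dual.D R)) (hT : T ∈ distTriang _) (a b : ℤ)
    (h2 : DRing.HasTorAmplitudeIn R (a + 1) (b + 1) T.obj₂)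
    (h3 : DRing.HasTorAmplitudeIn R a b T.obj₃) :
    DRing.HasTorAmplitudeIn R (a + 1) (b + 1) T.obj₁ := by
  have hT' := inv_rot_of_distTriang _ hT
  have h3' : DRing.HasTorAmplitudeIn R (a + 1) (b + 1) T.invRotate.obj₁ := by
    have := torAmp_shift T.obj₃ a b (-1) h3
    have ha : a - -1 = a + 1 := by omega
    have hb : b - -1 = b + 1 := by omega
    rwa [ha, hb] at this
  exact torAmp_obj₂ T.invRotate hT' (a + 1) (b + 1) h3' h2

end Groth.Agent.Lib.Helper16.TorAmp
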