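import Mathlib
import Groth.Agent.Lib.Helper16.TorAmp7

/-!
# Helper16 — TorBal1: Tor vanishing via projective resolutions of the first variable;
independence of the resolution; dimension shifting in the second variable.
-/

open CategoryTheory CategoryTheory.Limits DerivedCategory CategoryTheory.Pretriangulated ZeroObject
  MonoidalCategory

namespace Groth.Agent.Lib.Helper16.TorBal

open Groth.Agent.Lib.Helper16.FlatKer Groth.Agent.Lib.Helper16.LDer Groth.Agent.Lib.Helper16.PC
  Groth.Agent.Lib.Helper16.FlatAcyc Groth.Agent.Lib.Helper16.TorAmp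

universe u

attribute [local instance] HasDerivedCategory.standard

variable {R : Type u} [CommRing R]

/-- `H^i(P ⊗ N) = 0` for every bounded above projective resolution `P` of `M`. -/
def TorVan (M N : ModuleCat.{u} R) (i : ℤ) : Prop :=
  ∀ (P : DRing.Cx R) (n : ℤ), DRing.VanishesAbove P n → (∀ j, Module.Projective R (P.X j)) →
    Nonempty (Q.obj P ≅ (singleFunctor (ModuleCat.{u} R) 0).obj M) →
    ((tensCx N).obj P).ExactAt i

/-- independence of the resolution. -/
theorem torVan_iff (M N : ModuleCat.{u} R) (i : ℤ) (P : DRing.Cx R) (n : ℤ)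
    (hP : DRing.VanishesAbove P n) (hproj : ∀ j, Module.Projective R (P.X j))
    (e : Q.obj P ≅ (singleFunctor (ModuleCat.{u} R) 0).obj M) :
    TorVan M N i ↔ ((tensCx N).obj P).ExactAt i := by
  constructor
  · intro h
    exact h P n hP hproj ⟨e⟩
  · intro h P' n' hP' hproj' ⟨e'⟩
    haveI : P'.IsKProjective := isKProjective_of_bddAbove_projective P' _ hP' hproj'
    obtain ⟨g, hg⟩ := Groth.Agent.Lib.Helper8.PAmp.exists_Q_map_of_isKProjective P' P
      (e'.hom ≫ e.inv)
    have hg' : QuasiIso g := by
      rw [← isIso_Q_map_iff_quasiIso, ← hg]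
      infer_instance
    have h1 : QuasiIso ((tensCx N).map g) :=
      quasiIso_tensCx_of_flat N g hg' (max n n') (fun j hj => hP' j (by omega))
        (fun j hj => hP j (by omega)) (termwiseFlat_of_projective P' hproj')
        (termwiseFlat_of_projective P hproj)
    haveI : QuasiIsoAt ((tensCx N).map g) i := h1.quasiIsoAt i
    exact (exactAt_iff_of_quasiIsoAt ((tensCx N).map g) i).2 h

lemma exists_resolution (M : ModuleCat.{u} R) :
    ∃ (P : DRing.Cx R), DRing.VanishesAbove P 0 ∧ (∀ j, Module.Projective R (P.X j)) ∧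
      Nonempty (Q.obj P ≅ (singleFunctor (ModuleCat.{u} R) 0).obj M) :=
  exists_projective_model _ 0 inferInstance

/-- In a distinguished triangle with `H^i(Y) = 0 = H^{i+1}(Y)`: `H^i(Z) = 0 ↔ H^{i+1}(X) = 0`. -/
lemma isZero_homology_obj₃_iff {C : Type*} [Category C] [Abelian C] [HasDerivedCategory C]
    (T : Triangle (DerivedCategory C)) (hT : T ∈ distTriang _) (i : ℤ)
    (h2 : IsZero ((homologyFunctor C i).obj T.obj₂))
    (h2' : IsZero ((homologyFunctor C (i + 1)).obj T.obj₂)) :
    IsZero ((homologyFunctor C i).obj T.obj₃) ↔ IsZero ((homologyFunctor C (i + 1)).obj T.obj₁) := by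
  have hm : Mono (HomologySequence.δ T i (i + 1) rfl) :=
    (HomologySequence.exact₃ T hT i (i + 1) rfl).mono_g (h2.eq_of_src _ _)
  have he : Epi (HomologySequence.δ T i (i + 1) rfl) :=
    (HomologySequence.exact₁ T hT i (i + 1) rfl).epi_f (h2'.eq_of_tgt _ _)
  have : IsIso (HomologySequence.δ T i (i + 1) rfl) := isIso_of_mono_of_epi _
  exact Iso.isZero_iff (asIso (HomologySequence.δ T i (i + 1) rfl))

lemma exactAt_iff_isZero_Q (K : DRing.Cx R) (i : ℤ) :
    K.ExactAt i ↔ IsZero ((homologyFunctor (ModuleCat.{u} R) i).obj (Q.obj K)) := by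
  rw [HomologicalComplex.exactAt_iff_isZero_homology]
  exact Iso.isZero_iff ((homologyFunctorFactors _ i).app K).symm

/-- a flat module tensored with a complex preserves exactness. -/
lemma exactAt_tensCx_of_flat (F : ModuleCat.{u} R) [Module.Flat R F] (P : DRing.Cx R) (i : ℤ)
    (h : P.ExactAt i) : ((tensCx F).obj P).ExactAt i := by
  rw [HomologicalComplex.exactAt_iff] at h ⊢
  exact h.map (tensorRight F)

/-- the short complex of complexes `P ⊗ N' → P ⊗ F → P ⊗ N`. -/
noncomputable def tensSC (S : ShortComplex (ModuleCat.{u} R)) (P : DRing.Cx R) :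
    ShortComplex (DRing.Cx R) :=
  ShortComplex.mk
    ((NatTrans.mapHomologicalComplex ((tensoringRight (ModuleCat.{u} R)).map S.f)
      (ComplexShape.up ℤ)).app P)
    ((NatTrans.mapHomologicalComplex ((tensoringRight (ModuleCat.{u} R)).map S.g)
      (ComplexShape.up ℤ)).app P) (by
    refine HomologicalComplex.hom_ext _ _ (fun j => ?_)
    have h : ((tensoringRight (ModuleCat.{u} R)).map S.f).app (P.X j) ≫
        ((tensoringRight (ModuleCat.{u} R)).map S.g).app (P.X j) = 0 := by
      rw [← NatTrans.comp_app, ← Functor.map_comp, S.zero, Functor.map_zero]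
      rfl
    exact h)

lemma tensSC_shortExact (S : ShortComplex (ModuleCat.{u} R)) (hS : S.ShortExact) (P : DRing.Cx R)
    (hP : DRing.TermwiseFlat P) : (tensSC S P).ShortExact := by
  apply HomologicalComplex.shortExact_of_degreewise_shortExact
  intro j
  have := hP j
  have hmono := hS.mono_f
  have hepi := hS.epi_g
  have : Mono ((tensorLeft (P.X j)).map S.f) := inferInstance
  have : Epi ((tensorLeft (P.X j)).map S.g) := inferInstance
  exact ShortComplex.ShortExact.mk' ((hS.exact.map (tensorLeft (P.X j))))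
    (inferInstanceAs (Mono ((tensorLeft (P.X j)).map S.f)))
    (inferInstanceAs (Epi ((tensorLeft (P.X j)).map S.g)))

/-- dimension shifting in the second variable. -/
theorem exactAt_tens_shift₂ (S : ShortComplex (ModuleCat.{u} R)) (hS : S.ShortExact)
    [Module.Flat R S.X₂] (P : DRing.Cx R) (hP : DRing.TermwiseFlat P)
    (hP0 : ∀ j : ℤ, j < 0 → P.ExactAt j) (i : ℤ) (hi : i + 1 < 0) :
    ((tensCx S.X₃).obj P).ExactAt i ↔ ((tensCx S.X₁).obj P).ExactAt (i + 1) := by
  have hT := triangleOfSES_distinguished (tensSC_shortExact S hS P hP)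
  rw [exactAt_iff_isZero_Q, exactAt_iff_isZero_Q]
  exact isZero_homology_obj₃_iff _ hT i
    ((exactAt_iff_isZero_Q _ _).1 (exactAt_tensCx_of_flat S.X₂ P i (hP0 i (by omega))))
    ((exactAt_iff_isZero_Q _ _).1 (exactAt_tensCx_of_flat S.X₂ P (i + 1) (hP0 _ hi)))

end Groth.Agent.Lib.Helper16.TorBal
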