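import Mathlib
import Groth.Agent.Lib.Helper16.KPR4
import Groth.Agent.Lib.Helper16.TorAmp6
import Groth.Agent.Lib.Helper16.TorBal1
import Groth.Agent.Lib.Helper16.RestrictD

/-!
# Values of `LTensor` and `LBaseChange` on arbitrary objects via K-projective resolutions
-/

open CategoryTheory CategoryTheory.Limits DerivedCategory MonoidalCategory TensorProduct

namespace Groth.Agent.Lib.Helper16.KPR

open Groth.Agent.Lib.Helper16.TorAmp Groth.Agent.Lib.Helper16.LDer Groth.Agent.Lib.Helper16.TorBal
  Groth.Agent.Lib.Helper16.RestrictD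

universe u

attribute [local instance] HasDerivedCategory.standard

section ExtRestrict

variable {R S : Type u} [CommRing R] [CommRing S] (φ : R →+* S)

/-- `S` as an `R`-module. -/
noncomputable abbrev asMod : ModuleCat.{u} R :=
  (ModuleCat.restrictScalars.{u} φ).obj (ModuleCat.of S S)

/-- the underlying `R`-linear identification `restrict (extend X) ≃ S ⊗ X`. -/
noncomputable def extRestrictEquiv (X : ModuleCat.{u} R) :
    ((ModuleCat.restrictScalars.{u} φ).obj ((ModuleCat.extendScalars.{u, u, u} φ).obj X)) ≃ₗ[R]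
      (asMod φ ⊗[R] X) where
  toFun := fun x => x
  invFun := fun x => x
  left_inv := fun _ => rfl
  right_inv := fun _ => rfl
  map_add' := fun _ _ => rfl
  map_smul' := by
    intro r x
    change (φ r • (show (ModuleCat.extendScalars.{u, u, u} φ).obj X from x) : _) =
      r • (show (asMod φ ⊗[R] X) from x)
    induction x using TensorProduct.induction_on with
    | zero =>
      rw [smul_zero]
      exact smul_zero (A := (ModuleCat.extendScalars.{u, u, u} φ).obj X) (φ r)
    | tmul s m => rfl
    | add x y hx hy =>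
      rw [smul_add, ← hx, ← hy]
      exact smul_add (A := (ModuleCat.extendScalars.{u, u, u} φ).obj X) (φ r) _ _

/-- `restrict ∘ extend ≅ - ⊗ S`. -/
noncomputable def extRestrictIso :
    ModuleCat.extendScalars.{u, u, u} φ ⋙ ModuleCat.restrictScalars.{u} φ ≅
      tensorRight (asMod φ) :=
  NatIso.ofComponents
    (fun X => ((extRestrictEquiv φ X).trans (TensorProduct.comm R (asMod φ) X)).toModuleIso)
    (fun {X Y} f => by
      apply ModuleCat.hom_ext
      apply LinearMap.ext
      intro x
      change (TensorProduct.comm R (asMod φ) Y)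
          (((ModuleCat.extendScalars.{u, u, u} φ).map f).hom
            (x : (ModuleCat.extendScalars.{u, u, u} φ).obj X)) =
        ((tensorRight (asMod φ)).map f).hom
          ((TensorProduct.comm R (asMod φ) X) (x : (asMod φ ⊗[R] X)))
      induction x using TensorProduct.induction_on with
      | zero =>
        rw [map_zero, map_zero]
        rfl
      | tmul s m => rfl
      | add x y hx hy =>
        erw [map_add, map_add, map_add, map_add]
        erw [hx, hy])

end ExtRestrict

section Values

variable {R S : Type u} [CommRing R] [CommRing S] (φ : R →+* S)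

/-- `restrict (ext P) ≅ P ⊗ S` as complexes of `R`-modules. -/
noncomputable def restrictExtCxIso (P : DRing.Cx R) :
    ((ModuleCat.restrictScalars.{u} φ).mapHomologicalComplex (ComplexShape.up ℤ)).obj
      ((extCx φ).obj P) ≅ (tensCx (asMod φ)).obj P :=
  (NatIso.mapHomologicalComplex (extRestrictIso φ) (ComplexShape.up ℤ)).app P

lemma isZero_restrict_iff (M : ModuleCat.{u} S) :
    IsZero ((ModuleCat.restrictScalars.{u} φ).obj M) ↔ IsZero M := by
  rw [ModuleCat.isZero_iff_subsingleton, ModuleCat.isZero_iff_subsingleton]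
  exact Iff.rfl

lemma exactAt_extCx_iff (P : DRing.Cx R) (i : ℤ) :
    ((extCx φ).obj P).ExactAt i ↔ ((tensCx (asMod φ)).obj P).ExactAt i := by
  rw [HomologicalComplex.exactAt_iff_isZero_homology, HomologicalComplex.exactAt_iff_isZero_homology,
    ← isZero_restrict_iff φ]
  exact Iso.isZero_iff ((mapHomologyIso' φ ((extCx φ).obj P) i).symm ≪≫
    (HomologicalComplex.homologyFunctor _ _ i).mapIso (restrictExtCxIso φ P))

lemma subsingleton_HD_LBaseChange_iff [DRing.HasLBaseChange φ] (P : DRing.Cx R) [P.IsKProjective]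
    {K : Dual.D R} (e : Q.obj P ≅ K) (i : ℤ) :
    Subsingleton (Dual.HD S ((DRing.LBaseChange φ).obj K) i) ↔
      ((tensCx (asMod φ)).obj P).ExactAt i := by
  rw [← exactAt_extCx_iff]
  exact subsingleton_HD_iff_exactAt _
    ((DRing.LBaseChange φ).mapIso e.symm ≪≫ lBaseChangeIso φ P) i

lemma subsingleton_HD_LTensor_iff (M : ModuleCat.{u} R) [DRing.HasLTensor R M] (P : DRing.Cx R)
    [P.IsKProjective] {K : Dual.D R} (e : Q.obj P ≅ K) (i : ℤ) :
    Subsingleton (Dual.HD R ((DRing.LTensor R M).obj K) i) ↔ ((tensCx M).obj P).ExactAt i :=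
  subsingleton_HD_iff_exactAt _ ((DRing.LTensor R M).mapIso e.symm ≪≫ lTensorIso M P) i

/-- exactness of `P ⊗ M` only depends on the isomorphism class of `M`. -/
lemma exactAt_tensCx_of_iso {M M' : ModuleCat.{u} R} (e : M ≅ M') (P : DRing.Cx R) (i : ℤ) :
    ((tensCx M).obj P).ExactAt i ↔ ((tensCx M').obj P).ExactAt i := by
  rw [HomologicalComplex.exactAt_iff_isZero_homology, HomologicalComplex.exactAt_iff_isZero_homology]
  exact Iso.isZero_iff ((HomologicalComplex.homologyFunctor _ _ i).mapIso
    ((NatIso.mapHomologicalComplex ((tensoringRight (ModuleCat.{u} R)).mapIso e)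
      (ComplexShape.up ℤ)).app P))

lemma exactAt_tensCx_of_subsingleton (M : ModuleCat.{u} R) [Subsingleton M] (P : DRing.Cx R)
    (i : ℤ) : ((tensCx M).obj P).ExactAt i := by
  rw [HomologicalComplex.exactAt_iff_isZero_homology]
  apply ShortComplex.isZero_homology_of_isZero_X₂
  apply ModuleCat.isZero_of_subsingleton (M := ModuleCat.of R ((P.X i : Type u) ⊗[R] (M : Type u)))

/-- middle exactness. -/
lemma exactAt_tensCx_middle (T : ShortComplex (ModuleCat.{u} R)) (hT : T.ShortExact)
    (P : DRing.Cx R) (hP : DRing.TermwiseFlat P) (i : ℤ)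
    (h1 : ((tensCx T.X₁).obj P).ExactAt i) (h3 : ((tensCx T.X₃).obj P).ExactAt i) :
    ((tensCx T.X₂).obj P).ExactAt i := by
  have hE := (tensSC_shortExact T hT P hP).homology_exact₂ i
  rw [HomologicalComplex.exactAt_iff_isZero_homology] at h1 h3 ⊢
  exact hE.isZero_of_both_zeros (h1.eq_of_src _ _) (h3.eq_of_tgt _ _)

end Values

end Groth.Agent.Lib.Helper16.KPR
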