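import Mathlib
import Groth.Agent.Lib.Helper16.KPR5
import Groth.Agent.Lib.Helper16.TorAmp7
import Groth.Agent.Lib.Helper6.DerivedAdj

/-!
# K-projective complexes: base change, homotopy invariance of `- ⊗ M`, tor amplitude criterion
-/

open CategoryTheory CategoryTheory.Limits DerivedCategory MonoidalCategory TensorProduct

namespace Groth.Agent.Lib.Helper16.KPR

open Groth.Agent.Lib.Helper16.TorAmp Groth.Agent.Lib.Helper16.LDer Groth.Agent.Lib.Helper16.TorBal
  Groth.Agent.Lib.Helper16.RestrictD Groth.Agent.Lib.Helper16.PC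

universe v v' u₁ u₂ u

section Adj

variable {A : Type u₁} {B : Type u₂} [Category.{v} A] [Category.{v'} B] [Abelian A] [Abelian B]
  {L : A ⥤ B} {Rr : B ⥤ A} (adj : L ⊣ Rr) [L.Additive] [Rr.Additive]
  [PreservesFiniteLimits Rr] [PreservesFiniteColimits Rr]

include adj in
/-- a left adjoint of an exact functor preserves K-projective complexes. -/
lemma isKProjective_map_of_adjunction (P : CochainComplex A ℤ) [P.IsKProjective] :
    CochainComplex.IsKProjective ((L.mapHomologicalComplex (ComplexShape.up ℤ)).obj P) := by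
  constructor
  intro Z f hZ
  let a := Groth.Agent.Lib.Helper6.DerivedAdj.adjCx adj (ComplexShape.up ℤ)
  let g : P ⟶ (Rr.mapHomologicalComplex (ComplexShape.up ℤ)).obj Z := a.homEquiv P Z f
  have hRZ : ((Rr.mapHomologicalComplex (ComplexShape.up ℤ)).obj Z).Acyclic := by
    intro i
    have hi : (Z.sc i).Exact := hZ i
    exact hi.map Rr
  obtain ⟨hg⟩ := CochainComplex.IsKProjective.nonempty_homotopy_zero g hRZ
  have hf : f = (L.mapHomologicalComplex (ComplexShape.up ℤ)).map g ≫ a.counit.app Z := by
    have := a.homEquiv_counit (X := P) (Y := Z) (g := g)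
    rw [← this]
    exact ((a.homEquiv P Z).symm_apply_apply f).symm
  refine ⟨(Homotopy.ofEq hf).trans (((L.mapHomotopy hg).compRight (a.counit.app Z)).trans
    (Homotopy.ofEq ?_))⟩
  rw [Functor.map_zero, zero_comp]

end Adj

attribute [local instance] HasDerivedCategory.standard

section

variable {R S : Type u} [CommRing R] [CommRing S] (φ : R →+* S)

lemma isKProjective_extCx (P : DRing.Cx R) [P.IsKProjective] :
    CochainComplex.IsKProjective ((extCx φ).obj P) :=
  isKProjective_map_of_adjunction (ModuleCat.extendRestrictScalarsAdj φ) P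

lemma projective_extCx (P : DRing.Cx R) (hP : ∀ i, Module.Projective R (P.X i)) (i : ℤ) :
    Module.Projective S (((extCx φ).obj P).X i) := by
  letI := φ.toAlgebra
  haveI := hP i
  exact inferInstanceAs (Module.Projective S (TensorProduct R S (P.X i)))

end

section

variable {R : Type u} [CommRing R]

/-- a quasi-isomorphism between K-projective complexes is a homotopy equivalence. -/
lemma exists_homotopyEquiv {K L : DRing.Cx R} [K.IsKProjective] [L.IsKProjective] (f : K ⟶ L)
    (hf : QuasiIso f) : ∃ e : HomotopyEquiv K L, e.hom = f :=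
  (CochainComplex.IsKProjective.quasiIso_iff f).1 hf

/-- exactness of `- ⊗ M` is invariant under homotopy equivalences. -/
lemma exactAt_tensCx_iff_of_homotopyEquiv {K L : DRing.Cx R} (e : HomotopyEquiv K L)
    (M : ModuleCat.{u} R) (i : ℤ) :
    ((tensCx M).obj K).ExactAt i ↔ ((tensCx M).obj L).ExactAt i := by
  let e' := (tensorRight M).mapHomotopyEquiv e
  haveI : QuasiIsoAt e'.hom i := inferInstance
  exact exactAt_iff_of_quasiIsoAt e'.hom i

/-- a bounded above projective model of a K-projective complex with homology bounded above. -/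
lemma exists_bddAbove_model (P : DRing.Cx R) [P.IsKProjective] (b : ℤ) (hb : (Q.obj P).IsLE b) :
    ∃ (F : DRing.Cx R) (_ : HomotopyEquiv F P), DRing.VanishesAbove F b ∧
      (∀ i, Module.Projective R (F.X i)) := by
  obtain ⟨F, p, hF, hproj, hp⟩ := exists_projective_resolution P b hb
  have hproj' : ∀ i, Module.Projective R (F.X i) := fun i =>
    haveI := hproj i
    ModuleCat.projective_of_module_projective (F.X i)
  haveI : F.IsKProjective := isKProjective_of_bddAbove_projective F b hF hproj'
  obtain ⟨e, -⟩ := exists_homotopyEquiv p hp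
  exact ⟨F, e, hF, hproj'⟩

/-- **Tor amplitude criterion** on an arbitrary K-projective representative. -/
theorem torAmp_iff_exactAt_tensCx_kproj (P : DRing.Cx R) [P.IsKProjective] (a b : ℤ) :
    DRing.HasTorAmplitudeIn R a b (DRing.toD P) ↔
      ∀ (M : ModuleCat.{u} R) (i : ℤ), i < a ∨ b < i → ((tensCx M).obj P).ExactAt i := by
  have key : (Q.obj P).IsLE b → (DRing.HasTorAmplitudeIn R a b (DRing.toD P) ↔
      ∀ (M : ModuleCat.{u} R) (i : ℤ), i < a ∨ b < i → ((tensCx M).obj P).ExactAt i) := by
    intro hb
    obtain ⟨F, e, hF, hproj⟩ := exists_bddAbove_model P b hb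
    have hFflat := TorAmp.termwiseFlat_of_projective F hproj
    haveI : IsIso (Q.map e.hom) := by
      rw [isIso_Q_map_iff_quasiIso]
      infer_instance
    have h1 : DRing.HasTorAmplitudeIn R a b (DRing.toD P) ↔
        DRing.HasTorAmplitudeIn R a b (DRing.toD F) :=
      ⟨hasTorAmplitudeIn_of_iso (asIso (Q.map e.hom)).symm a b,
        hasTorAmplitudeIn_of_iso (asIso (Q.map e.hom)) a b⟩
    rw [h1, torAmp_iff_exactAt_tensCx F b hF hFflat a b]
    exact forall_congr' (fun M => forall_congr' (fun i => imp_congr_right (fun _ =>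
      exactAt_tensCx_iff_of_homotopyEquiv e M i)))
  constructor
  · intro h
    exact (key (isLE_of_torAmp _ a b h)).1 h
  · intro h
    have hb : (Q.obj P).IsLE b := by
      rw [isLE_Q_obj_iff, CochainComplex.isLE_iff]
      intro i hi
      exact (h (𝟙_ _) i (Or.inr hi)).of_iso (tensCxUnitIso P)
    exact (key hb).2 h

end

end Groth.Agent.Lib.Helper16.KPR
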