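import Mathlib
import Groth.Agent.Lib.Helper16.KPR6

open CategoryTheory CategoryTheory.Limits MonoidalCategory TensorProduct DerivedCategory

namespace Groth.Agent.Lib.Helper16.KPR
universe u

open Groth.Agent.Lib.Helper16.TorAmp Groth.Agent.Lib.Helper16.LDer Groth.Agent.Lib.Helper16.TorBal
  Groth.Agent.Lib.Helper16.RestrictD

attribute [local instance] HasDerivedCategory.standard

section Unbundled
variable {R S : Type u} [CommRing R] [CommRing S] [Algebra R S]
  (N : Type u) [AddCommGroup N] [Module S N] [Module R N] [IsScalarTower R S N]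
  (X Y : Type u) [AddCommGroup X] [Module R X] [AddCommGroup Y] [Module R Y]

/-- `(S ⊗[R] X) ⊗[S] N ≃ X ⊗[R] N`, `S`-linear for the left module structures. -/
noncomputable def assocAddEquiv : ((S ⊗[R] X) ⊗[S] N) ≃+ (X ⊗[R] N) :=
  ((TensorProduct.comm S (S ⊗[R] X) N).toAddEquiv.trans
    (TensorProduct.AlgebraTensorModule.cancelBaseChange R S S N X).toAddEquiv).trans
    (TensorProduct.comm R N X).toAddEquiv

lemma assocAddEquiv_tmul (s : S) (x : X) (n : N) :
    assocAddEquiv N X ((s ⊗ₜ[R] x) ⊗ₜ[S] n) = x ⊗ₜ[R] (s • n) := rfl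

lemma assocAddEquiv_symm_tmul (x : X) (n : N) :
    (assocAddEquiv N X).symm (x ⊗ₜ[R] n) = ((1 : S) ⊗ₜ[R] x) ⊗ₜ[S] n := rfl

lemma assocAddEquiv_smul (r : R) (t : (S ⊗[R] X) ⊗[S] N) :
    assocAddEquiv N X (algebraMap R S r • t) = r • assocAddEquiv N X t := by
  induction t using TensorProduct.induction_on with
  | zero => simp
  | tmul a n =>
    induction a using TensorProduct.induction_on with
    | zero => simp
    | tmul s x =>
      rw [TensorProduct.smul_tmul', TensorProduct.smul_tmul', assocAddEquiv_tmul,
        assocAddEquiv_tmul, smul_eq_mul, mul_smul, TensorProduct.smul_tmul', 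
        TensorProduct.smul_tmul, algebraMap_smul]
    | add a b ha hb =>
      rw [TensorProduct.add_tmul, smul_add, map_add, map_add, smul_add, ha, hb]
  | add a b ha hb => rw [smul_add, map_add, map_add, smul_add, ha, hb]

lemma assocAddEquiv_naturality (f : X →ₗ[R] Y) (t : (S ⊗[R] X) ⊗[S] N) :
    assocAddEquiv N Y (TensorProduct.map (f.baseChange S) LinearMap.id t) =
      TensorProduct.map f LinearMap.id (assocAddEquiv N X t) := by
  induction t using TensorProduct.induction_on with
  | zero => simp
  | tmul a n =>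
    induction a using TensorProduct.induction_on with
    | zero => simp
    | tmul s x => rfl
    | add a b ha hb =>
      rw [TensorProduct.add_tmul, map_add, map_add, map_add, map_add, ha, hb]
  | add a b ha hb => rw [map_add, map_add, map_add, map_add, ha, hb]

end Unbundled


section Bundled
variable {R S : Type u} [CommRing R] [CommRing S] (φ : R →+* S) (N : ModuleCat.{u} S)

/-- the `R`-linear associativity equivalence `restrict ((ext X) ⊗_S N) ≃ X ⊗_R restrict N`. -/
noncomputable def assocEquivB (X : ModuleCat.{u} R) :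
    ((ModuleCat.restrictScalars.{u} φ).obj
      (((ModuleCat.extendScalars.{u, u, u} φ).obj X) ⊗ N)) ≃ₗ[R]
      ((X ⊗ (ModuleCat.restrictScalars.{u} φ).obj N : ModuleCat R)) :=
  letI := φ.toAlgebra
  letI : Module R N := Module.compHom N φ
  haveI : IsScalarTower R S N := ⟨fun r s n => by
    change (φ r * s) • n = φ r • s • n; rw [mul_smul]⟩
  { assocAddEquiv (R := R) (S := S) N X with
    map_smul' := fun r t => assocAddEquiv_smul (R := R) (S := S) N X r t }

/-- `restrict ((ext -) ⊗_S N) ≅ - ⊗_R restrict N`. -/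
noncomputable def assocIsoB :
    ModuleCat.extendScalars.{u, u, u} φ ⋙ tensorRight N ⋙ ModuleCat.restrictScalars.{u} φ ≅
      tensorRight ((ModuleCat.restrictScalars.{u} φ).obj N) :=
  NatIso.ofComponents (fun X => (assocEquivB φ N X).toModuleIso)
    (fun {X Y} f => by
      letI := φ.toAlgebra
      letI : Module R N := Module.compHom N φ
      haveI : IsScalarTower R S N := ⟨fun r s n => by
        change (φ r * s) • n = φ r • s • n; rw [mul_smul]⟩
      apply ModuleCat.hom_ext
      apply LinearMap.ext
      intro t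
      exact assocAddEquiv_naturality (R := R) (S := S) N X Y f.hom t)

end Bundled

section Cx
variable {R S : Type u} [CommRing R] [CommRing S] (φ : R →+* S) (N : ModuleCat.{u} S)

/-- `restrict ((ext P) ⊗_S N) ≅ P ⊗_R restrict N` as complexes of `R`-modules. -/
noncomputable def assocCxIso (P : DRing.Cx R) :
    ((ModuleCat.restrictScalars.{u} φ).mapHomologicalComplex (ComplexShape.up ℤ)).obj
      ((tensCx N).obj ((extCx φ).obj P)) ≅
      (tensCx ((ModuleCat.restrictScalars.{u} φ).obj N)).obj P :=
  (NatIso.mapHomologicalComplex (assocIsoB φ N) (ComplexShape.up ℤ)).app P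

lemma exactAt_tensCx_extCx_iff (P : DRing.Cx R) (i : ℤ) :
    ((tensCx N).obj ((extCx φ).obj P)).ExactAt i ↔
      ((tensCx ((ModuleCat.restrictScalars.{u} φ).obj N)).obj P).ExactAt i := by
  rw [HomologicalComplex.exactAt_iff_isZero_homology, HomologicalComplex.exactAt_iff_isZero_homology,
    ← isZero_restrict_iff φ]
  exact Iso.isZero_iff ((mapHomologyIso' φ ((tensCx N).obj ((extCx φ).obj P)) i).symm ≪≫
    (HomologicalComplex.homologyFunctor _ _ i).mapIso (assocCxIso φ N P))

end Cx

section Transfer
variable {R S : Type u} [CommRing R] [CommRing S] (φ : R →+* S)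

/-- exactness of `(ext P) ⊗_S N` above the homological bound of `ext P`. -/
lemma exactAt_tensCx_restrict_of_gt (Pr : DRing.Cx R) [Pr.IsKProjective] (b : ℤ)
    (h : ∀ i, b < i → ((tensCx (asMod φ)).obj Pr).ExactAt i) (N : ModuleCat.{u} S) (i : ℤ)
    (hi : b < i) :
    ((tensCx ((ModuleCat.restrictScalars.{u} φ).obj N)).obj Pr).ExactAt i := by
  haveI := isKProjective_extCx φ Pr
  have hE : (Q.obj ((extCx φ).obj Pr)).IsLE b := by
    rw [isLE_Q_obj_iff, CochainComplex.isLE_iff]
    intro j hj
    exact (exactAt_extCx_iff φ Pr j).2 (h j hj)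
  obtain ⟨F, e, hF, -⟩ := exists_bddAbove_model ((extCx φ).obj Pr) b hE
  rw [← exactAt_tensCx_extCx_iff, ← exactAt_tensCx_iff_of_homotopyEquiv e N i,
    HomologicalComplex.exactAt_iff_isZero_homology]
  apply ShortComplex.isZero_homology_of_isZero_X₂
  exact Functor.map_isZero (tensorRight N) (hF i hi)

/-- exactness of `P ⊗_R restrict N` outside the tor amplitude range of `ext P`. -/
lemma exactAt_tensCx_restrict_of_torAmp (Pr : DRing.Cx R) [Pr.IsKProjective] (a b : ℤ)
    (h : DRing.HasTorAmplitudeIn S a b (DRing.toD ((extCx φ).obj Pr))) (N : ModuleCat.{u} S)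
    (i : ℤ) (hi : i < a ∨ b < i) :
    ((tensCx ((ModuleCat.restrictScalars.{u} φ).obj N)).obj Pr).ExactAt i := by
  haveI := isKProjective_extCx φ Pr
  rw [← exactAt_tensCx_extCx_iff]
  exact (torAmp_iff_exactAt_tensCx_kproj ((extCx φ).obj Pr) a b).1 h N i hi

end Transfer

section Devissage
variable {R S : Type u} [CommRing R] [CommRing S] (φ : R →+* S)

/-- a module killed by the kernel of a surjection is a restriction of scalars. -/
lemma exists_restrict_iso (hφ : Function.Surjective φ) (N : ModuleCat.{u} R)
    (hN : ∀ r ∈ RingHom.ker φ, ∀ x : N, r • x = 0) :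
    ∃ N'' : ModuleCat.{u} S, Nonempty (N ≅ (ModuleCat.restrictScalars.{u} φ).obj N'') := by
  letI : SMul S N := ⟨fun s x => (hφ s).choose • x⟩
  have hsmul : ∀ (c : R) (x : N), φ c • x = c • x := by
    intro c x
    change (hφ (φ c)).choose • x = c • x
    have h1 : (hφ (φ c)).choose - c ∈ RingHom.ker φ := by
      rw [RingHom.mem_ker, map_sub, (hφ (φ c)).choose_spec, sub_self]
    have h2 := hN _ h1 x
    rwa [sub_smul, sub_eq_zero] at h2
  letI : Module S N := Function.Surjective.moduleLeft φ hφ hsmul
  refine ⟨ModuleCat.of S N, ⟨LinearEquiv.toModuleIso ?_⟩⟩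
  exact show (N : Type u) ≃ₗ[R] ((ModuleCat.restrictScalars.{u} φ).obj (ModuleCat.of S N) : Type u) from
    { toFun := fun x => x
      invFun := fun x => x
      left_inv := fun _ => rfl
      right_inv := fun _ => rfl
      map_add' := fun _ _ => rfl
      map_smul' := fun r x => (hsmul r x).symm }

/-- **dévissage**: exactness of `P ⊗ N` for modules killed by a power of `ker φ`, from the case of
restrictions of `S`-modules. -/
lemma exactAt_tensCx_of_pow_smul_eq_bot (hφ : Function.Surjective φ) (Pr : DRing.Cx R)
    (hfl : DRing.TermwiseFlat Pr) (i : ℤ)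
    (h : ∀ N'' : ModuleCat.{u} S,
      ((tensCx ((ModuleCat.restrictScalars.{u} φ).obj N'')).obj Pr).ExactAt i) :
    ∀ (n : ℕ) (N : ModuleCat.{u} R), (RingHom.ker φ) ^ n • (⊤ : Submodule R N) = ⊥ →
      ((tensCx N).obj Pr).ExactAt i := by
  intro n
  induction n with
  | zero =>
    intro N hN
    rw [pow_zero, Ideal.one_eq_top, Submodule.top_smul] at hN
    haveI : Subsingleton N := by
      rw [← Submodule.subsingleton_iff R]
      exact subsingleton_of_bot_eq_top hN.symm
    exact exactAt_tensCx_of_subsingleton N Pr i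
  | succ n ih =>
    intro N hN
    set I := RingHom.ker φ with hI
    let N' : Submodule R N := I • ⊤
    let T : ShortComplex (ModuleCat.{u} R) :=
      ShortComplex.mk (ModuleCat.ofHom N'.subtype) (ModuleCat.ofHom N'.mkQ) (by
        ext x
        exact (Submodule.Quotient.mk_eq_zero _).2 x.2)
    have hT : T.ShortExact := by
      have h1 : Mono T.f := (ModuleCat.mono_iff_injective _).2 (Submodule.injective_subtype _)
      have h2 : Epi T.g := (ModuleCat.epi_iff_surjective _).2 (Submodule.mkQ_surjective _)
      refine ShortComplex.ShortExact.mk' ?_ h1 h2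
      rw [ShortComplex.moduleCat_exact_iff_range_eq_ker]
      change LinearMap.range N'.subtype = LinearMap.ker N'.mkQ
      rw [Submodule.range_subtype, Submodule.ker_mkQ]
    refine exactAt_tensCx_middle T hT Pr hfl i (ih (ModuleCat.of R N') ?_) ?_
    · rw [Submodule.eq_bot_iff]
      intro x hx
      refine Submodule.smul_induction_on hx ?_ ?_
      · intro r hr y _
        apply Subtype.ext
        have h1 : r • (y : N) ∈ I ^ n • (I • (⊤ : Submodule R N)) :=
          Submodule.smul_mem_smul hr y.2
        rw [← Submodule.smul_assoc, smul_eq_mul, ← pow_succ, hN] at h1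
        exact (Submodule.mem_bot R).1 h1
      · intro x y hx hy
        rw [hx, hy, add_zero]
    · obtain ⟨N'', ⟨e⟩⟩ := exists_restrict_iso φ hφ (ModuleCat.of R (N ⧸ N')) (by
        intro r hr x
        induction x using Submodule.Quotient.induction_on with
        | H y =>
          change r • Submodule.Quotient.mk y = 0
          rw [← Submodule.Quotient.mk_smul, Submodule.Quotient.mk_eq_zero]
          exact Submodule.smul_mem_smul hr Submodule.mem_top)
      exact (exactAt_tensCx_of_iso e Pr i).2 (h N'')

end Devissage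

section Quot
variable {R : Type u} [CommRing R] (I : Ideal R)

/-- `R ⧸ I` as an `R`-module through restriction of scalars. -/
noncomputable def asModQuotIso : asMod (Ideal.Quotient.mk I) ≅ ModuleCat.of R (R ⧸ I) :=
  LinearEquiv.toModuleIso
    { toFun := fun x => x
      invFun := fun x => x
      left_inv := fun _ => rfl
      right_inv := fun _ => rfl
      map_add' := fun _ _ => rfl
      map_smul' := fun r x => by
        induction x using Quotient.inductionOn' with
        | h y => rfl }

/-- upper cohomological bound of `P ⊗ N` for `N` killed by a power of `I`, from that of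
`P ⊗ R/I`. -/
lemma exactAt_tensCx_of_quotient_of_gt (Pr : DRing.Cx R) [Pr.IsKProjective]
    (hfl : DRing.TermwiseFlat Pr) (b : ℤ)
    (h : ∀ i, b < i → ((tensCx (ModuleCat.of R (R ⧸ I))).obj Pr).ExactAt i)
    (n : ℕ) (N : ModuleCat.{u} R) (hN : I ^ n • (⊤ : Submodule R N) = ⊥) (i : ℤ) (hi : b < i) :
    ((tensCx N).obj Pr).ExactAt i := by
  refine exactAt_tensCx_of_pow_smul_eq_bot (Ideal.Quotient.mk I) Ideal.Quotient.mk_surjective Pr hfl i
    (fun N'' => exactAt_tensCx_restrict_of_gt (Ideal.Quotient.mk I) Pr b (fun j hj =>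
      (exactAt_tensCx_of_iso (asModQuotIso I) Pr j).2 (h j hj)) N'' i hi) n N ?_
  rwa [Ideal.mk_ker]

end Quot

end Groth.Agent.Lib.Helper16.KPR
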