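import Mathlib
import Groth.Agent.Lib.Helper16.KPR7

/-!
# Tor amplitude and derived base change, via K-projective resolutions
-/

open CategoryTheory CategoryTheory.Limits MonoidalCategory TensorProduct DerivedCategory

namespace Groth.Agent.Lib.Helper16.KPR
universe u

open Groth.Agent.Lib.Helper16.TorAmp Groth.Agent.Lib.Helper16.LDer Groth.Agent.Lib.Helper16.TorBal
  Groth.Agent.Lib.Helper16.RestrictD

attribute [local instance] HasDerivedCategory.standard

section
variable {R S : Type u} [CommRing R] [CommRing S] (φ : R →+* S)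

/-- derived base change preserves tor amplitude. -/
theorem hasTorAmplitudeIn_LBaseChange [DRing.HasLBaseChange φ] (K : Dual.D R) (a b : ℤ)
    (h : DRing.HasTorAmplitudeIn R a b K) :
    DRing.HasTorAmplitudeIn S a b ((DRing.LBaseChange φ).obj K) := by
  obtain ⟨Pr, hPr, -, ⟨e⟩⟩ := exists_kprojective_module K
  haveI := hPr
  haveI := isKProjective_extCx φ Pr
  refine hasTorAmplitudeIn_of_iso
    ((lBaseChangeIso φ Pr).symm ≪≫ (DRing.LBaseChange φ).mapIso e) a b ?_
  rw [torAmp_iff_exactAt_tensCx_kproj]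
  intro N i hi
  rw [exactAt_tensCx_extCx_iff]
  exact (torAmp_iff_exactAt_tensCx_kproj Pr a b).1
    (hasTorAmplitudeIn_of_iso e.symm a b h) _ i hi

/-- tor amplitude descends along a surjection with nilpotent kernel. -/
theorem hasTorAmplitudeIn_of_LBaseChange_of_nilpotent [DRing.HasLBaseChange φ]
    (hφ : Function.Surjective φ) (hnil : IsNilpotent (RingHom.ker φ)) (K : Dual.D R) (a b : ℤ)
    (h : DRing.HasTorAmplitudeIn S a b ((DRing.LBaseChange φ).obj K)) :
    DRing.HasTorAmplitudeIn R a b K := by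
  obtain ⟨Pr, hPr, hproj, ⟨e⟩⟩ := exists_kprojective_module K
  haveI := hPr
  have hfl : DRing.TermwiseFlat Pr :=
    Groth.Agent.Lib.Helper16.TorAmp.termwiseFlat_of_projective Pr hproj
  have h' : DRing.HasTorAmplitudeIn S a b (DRing.toD ((extCx φ).obj Pr)) :=
    hasTorAmplitudeIn_of_iso
      ((DRing.LBaseChange φ).mapIso e.symm ≪≫ lBaseChangeIso φ Pr) a b h
  refine hasTorAmplitudeIn_of_iso e a b ?_
  rw [torAmp_iff_exactAt_tensCx_kproj]
  intro M i hi
  obtain ⟨n, hn⟩ := hnil
  refine exactAt_tensCx_of_pow_smul_eq_bot φ hφ Pr hfl i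
    (fun N'' => exactAt_tensCx_restrict_of_torAmp φ Pr a b h' N'' i hi) n M ?_
  rw [hn]
  exact Submodule.bot_smul _

end

end Groth.Agent.Lib.Helper16.KPR
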