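import Mathlib
import Groth.Agent.Lib.Helper16.PC10

/-!
# Helper16 — PC11: perfect ⇔ pseudo-coherent + finite tor dimension, and variants.
-/

open CategoryTheory CategoryTheory.Limits DerivedCategory CategoryTheory.Pretriangulated

namespace Groth.Agent.Lib.Helper16.PC

universe u

attribute [local instance] HasDerivedCategory.standard

variable {R : Type u} [CommRing R]

/-- pseudo-coherent with tor amplitude in `[a, b]` ⇒ represented by finite projectives in `[a, b]`. -/
theorem perfAmp_of_pc'_torAmp (K : Dual.D R) (a b : ℤ) (h1 : DRing.IsPseudoCoherent' R K)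
    (h2 : DRing.HasTorAmplitudeIn R a b K) :
    ∃ E : DRing.Cx R, DRing.VanishesOutside E a b ∧ DRing.TermwiseFiniteProjective E ∧
      Nonempty (DRing.toD E ≅ K) := by
  by_cases hab : a ≤ b
  · have h3 := perfAmp_of_pc_torAmp K (a - 1) b (by omega) (pc_of_pc' h1 (a - 1))
      (by rwa [sub_add_cancel])
    rwa [sub_add_cancel] at h3
  · obtain ⟨F, hF, -, he⟩ := h2
    refine ⟨F, hF, fun i => ?_, he⟩
    have := ModuleCat.subsingleton_of_isZero (hF i (by omega))
    exact ⟨inferInstance, inferInstance⟩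

lemma pc'_of_perfect (K : Dual.D R) (h : DRing.IsPerfect R K) : DRing.IsPseudoCoherent' R K := by
  obtain ⟨E, a, b, hE, hfp, ⟨e⟩⟩ := h
  exact pc'_of_pc fun m =>
    pc_of_iso (pc_of_boundedAbove_finProj E b (fun i hi => hE i (Or.inr hi)) hfp m) e

/-- S6954 -/
theorem isPerfect_iff_pc'_and_finiteTorDim (K : Dual.D R) :
    DRing.IsPerfect R K ↔ DRing.IsPseudoCoherent' R K ∧ DRing.HasFiniteTorDimCx R K := by
  constructor
  · intro h
    refine ⟨pc'_of_perfect K h, ?_⟩
    obtain ⟨E, a, b, hE, hfp, he⟩ := h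
    refine ⟨a, b, E, hE, fun i => ?_, he⟩
    have := (hfp i).2
    exact inferInstance
  · rintro ⟨h1, a, b, h2⟩
    obtain ⟨E, hE, hfp, he⟩ := perfAmp_of_pc'_torAmp K a b h1 h2
    exact ⟨E, a, b, hE, hfp, he⟩

/-- S6976 -/
theorem projAmp_iff_perfect_torAmp (K : Dual.D R) (hK : DRing.IsPseudoCoherent' R K) (a b : ℤ) :
    (∃ P : DRing.Cx R, DRing.VanishesOutside P a b ∧ (∀ i : ℤ, Module.Projective R (P.X i)) ∧
        Nonempty (DRing.toD P ≅ K)) ↔ DRing.IsPerfect R K ∧ DRing.HasTorAmplitudeIn R a b K := by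
  constructor
  · rintro ⟨P, hP, hproj, he⟩
    have h2 : DRing.HasTorAmplitudeIn R a b K := ⟨P, hP, fun i => by
      have := hproj i
      exact inferInstance, he⟩
    obtain ⟨E, hE, hfp, he'⟩ := perfAmp_of_pc'_torAmp K a b hK h2
    exact ⟨⟨E, a, b, hE, hfp, he'⟩, h2⟩
  · rintro ⟨-, h2⟩
    obtain ⟨E, hE, hfp, he'⟩ := perfAmp_of_pc'_torAmp K a b hK h2
    exact ⟨E, hE, fun i => (hfp i).2, he'⟩

end Groth.Agent.Lib.Helper16.PC
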