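import Mathlib
import Groth.Agent.Lib.Helper16.KPR8
import Groth.Agent.Lib.Helper16.LocSplit
import Groth.Agent.Lib.Helper16.PC11

/-!
# Perfectness of pseudo-coherent complexes over local rings from the fibre
-/

open CategoryTheory CategoryTheory.Limits MonoidalCategory TensorProduct DerivedCategory

namespace Groth.Agent.Lib.Helper16.KPR
universe u

open Groth.Agent.Lib.Helper16.TorAmp Groth.Agent.Lib.Helper16.LDer Groth.Agent.Lib.Helper16.TorBal
  Groth.Agent.Lib.Helper16.RestrictD

attribute [local instance] HasDerivedCategory.standard

section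
variable {R : Type u} [CommRing R] [IsLocalRing R]

/-- the residue field as an `R`-module is `R ⧸ m`. -/
noncomputable def asModResidueIso' :
    asMod (IsLocalRing.residue R) ≅ ModuleCat.of R (IsLocalRing.ResidueField R) :=
  LinearEquiv.toModuleIso
    { toFun := fun x => x
      invFun := fun x => x
      left_inv := fun _ => rfl
      right_inv := fun _ => rfl
      map_add' := fun _ _ => rfl
      map_smul' := fun r x => by
        induction x using Quotient.inductionOn' with
        | h y => rfl }

/-- exactness of `E ⊗ κ` at `i` gives exactness of `E` at `i` and a projective cokernel. -/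
theorem exactAt_and_projective_of_residue (E : DRing.Cx R) (hff : DRing.TermwiseFiniteFree E)
    (i j k : ℤ) (hij : i + 1 = j) (hjk : j + 1 = k)
    (h : ((tensCx (ModuleCat.of R (IsLocalRing.ResidueField R))).obj E).ExactAt j) :
    E.ExactAt j ∧ Module.Projective R (E.X k ⧸ LinearMap.range (E.d j k).hom) := by
  rw [exactAt_tensCx_iff _ E i j k hij hjk] at h
  have h' : Function.Exact ((E.d i j).hom.lTensor (IsLocalRing.ResidueField R))
      ((E.d j k).hom.lTensor (IsLocalRing.ResidueField R)) :=
    (Function.Exact.iff_of_ladder_linearEquiv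
      (e₁ := TensorProduct.comm R (E.X i) (IsLocalRing.ResidueField R))
      (e₂ := TensorProduct.comm R (E.X j) (IsLocalRing.ResidueField R))
      (e₃ := TensorProduct.comm R (E.X k) (IsLocalRing.ResidueField R))
      (LinearMap.lTensor_comp_comm _) (LinearMap.lTensor_comp_comm _)).2 h
  haveI := (hff j).1
  haveI := (hff k).1
  haveI := (hff k).2
  have hgf : (E.d j k).hom ∘ₗ (E.d i j).hom = 0 := by
    have := E.d_comp_d i j k
    exact congrArg ModuleCat.Hom.hom this
  obtain ⟨h1, h2⟩ := LocSplit.exact_and_projective_of_exact_residue _ _ hgf h'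
  exact ⟨(exactAt_iff_function_exact E i j k hij hjk).2 h1, h2⟩

end

section Main
variable {R : Type u} [CommRing R] [IsLocalRing R]

/-- tor amplitude bounded below from exactness of the fibre, for bounded above complexes of finite
free modules over a local ring. -/
theorem torAmp_of_residue_exact (E : DRing.Cx R) (b' : ℤ) (hE : DRing.VanishesAbove E b')
    (hff : DRing.TermwiseFiniteFree E) (a : ℤ)
    (h : ∀ i : ℤ, i < a →
      ((tensCx (ModuleCat.of R (IsLocalRing.ResidueField R))).obj E).ExactAt i) :
    DRing.HasTorAmplitudeIn R a b' (DRing.toD E) := by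
  have hflat : DRing.TermwiseFlat E := fun i => by
    haveI := (hff i).2
    infer_instance
  refine torAmp_of_flat_coker E a b' hE hflat (fun i hi => ?_) ?_
  · exact (exactAt_and_projective_of_residue E hff (i - 1) i (i + 1) (by omega) rfl (h i hi)).1
  · haveI := (exactAt_and_projective_of_residue E hff (a - 1 - 1) (a - 1) a (by omega) (by omega)
      (h (a - 1) (by omega))).2
    infer_instance

/-- **S6975**: over a local ring, a pseudo-coherent object whose derived fibre has cohomology
bounded below is perfect. -/
theorem isPerfect_of_pc'_of_fibre_bounded_below [DRing.HasLBaseChange (IsLocalRing.residue R)]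
    (K : Dual.D R) (hK : DRing.IsPseudoCoherent' R K) (a : ℤ)
    (h : ∀ i : ℤ, i < a → Subsingleton (Dual.HD (IsLocalRing.ResidueField R)
      ((DRing.LBaseChange (IsLocalRing.residue R)).obj K) i)) :
    ∃ b' : ℤ, DRing.HasTorAmplitudeIn R a b' K := by
  obtain ⟨E, b', hE, hff, ⟨e⟩⟩ := hK
  have hproj : ∀ i, Module.Projective R (E.X i) := fun i =>
    haveI := (hff i).2
    Module.Projective.of_free
  haveI : E.IsKProjective := isKProjective_of_bddAbove_projective E b' hE hproj
  refine ⟨b', hasTorAmplitudeIn_of_iso e a b' (torAmp_of_residue_exact E b' hE hff a ?_)⟩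
  intro i hi
  exact (exactAt_tensCx_of_iso asModResidueIso' E i).1
    ((subsingleton_HD_LBaseChange_iff (IsLocalRing.residue R) E e i).1 (h i hi))

end Main

end Groth.Agent.Lib.Helper16.KPR
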