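import Mathlib
import Groth.Prelude.Def_DDual2
import Groth.Agent.Lib.Helper16.LDer3
import Groth.Agent.Lib.Helper16.PC12
import Groth.Agent.Lib.Helper16.TorAmp7

/-!
# Derived base change preserves `m`-pseudo-coherence (S2137)
-/

open CategoryTheory CategoryTheory.Limits DerivedCategory CategoryTheory.Pretriangulated

attribute [local instance] HasDerivedCategory.standard

namespace Groth.Agent.Lib.Helper16.LBCpc

open Groth.Agent.Lib.Helper16.LDer Groth.Agent.Lib.Helper16.PC Groth.Agent.Lib.Helper16.TorAmp

universe u

variable {A B : Type u} [CommRing A] [CommRing B] (φ : A →+* B) [DRing.HasLBaseChange φ]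

/-- naturality of the counit for chain maps between K-projective complexes. -/
lemma lBaseChangeIso_naturality {E P : DRing.Cx A} [E.IsKProjective] [P.IsKProjective] (a : E ⟶ P) :
    (DRing.LBaseChange φ).map (Q.map a) ≫ (lBaseChangeIso φ P).hom =
      (lBaseChangeIso φ E).hom ≫ Q.map ((extCx φ).map a) :=
  ((DRing.baseChangeKh φ).totalLeftDerivedCounit DerivedCategory.Qh
      (HomotopyCategory.quasiIso (ModuleCat.{u} A) (ComplexShape.up ℤ))).naturality
        ((HomotopyCategory.quotient _ _).map a)

/-- derived base change of a bounded above complex of projectives is bounded above. -/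
lemma isLE_lBaseChange_of_isLE (X : Dual.D A) (n : ℤ) (hX : X.IsLE n) :
    ((DRing.LBaseChange φ).obj X).IsLE n := by
  obtain ⟨P', hP', hP'proj, ⟨e'⟩⟩ := exists_projective_model X n hX
  haveI : P'.IsKProjective := isKProjective_of_bddAbove_projective P' n hP' hP'proj
  have h1 : ((extCx φ).obj P').IsStrictlyLE n :=
    (CochainComplex.isStrictlyLE_iff _ _).2 (fun i hi => extCx_isZero φ P' i (hP' i hi))
  have h2 : (Q.obj ((extCx φ).obj P')).IsLE n := by
    rw [isLE_Q_obj_iff]
    infer_instance
  exact (TStructure.t).isLE_of_iso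
    ((lBaseChangeIso φ P').symm ≪≫ (DRing.LBaseChange φ).mapIso e') n

/-- S2137. -/
theorem pc_lBaseChange (K : Dual.D A) (m : ℤ) (hK : DRing.IsPseudoCoherent A m K) :
    DRing.IsPseudoCoherent B m ((DRing.LBaseChange φ).obj K) := by
  obtain ⟨b, hb⟩ := ((isPseudoCoherent_iff m K).1 hK).exists_isLE
  obtain ⟨E, a₀, b₀, α, hE, hfree, hiso, hepi⟩ := hK
  have hgood : Good m α := ⟨hiso, hepi⟩
  obtain ⟨P, hP, hPproj, ⟨e⟩⟩ := exists_projective_model K b hb
  have hEproj : ∀ i, Module.Projective A (E.X i) := fun i => by
    haveI := (hfree i).2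
    infer_instance
  haveI : E.IsKProjective :=
    isKProjective_of_bddAbove_projective E b₀ (fun i hi => hE i (Or.inr hi)) hEproj
  haveI : P.IsKProjective := isKProjective_of_bddAbove_projective P b hP hPproj
  obtain ⟨a, ha⟩ := Groth.Agent.Lib.Helper8.PAmp.exists_Q_map_of_isKProjective E P (α ≫ e.inv)
  have hgood' : Good m (Q.map a) := by
    rw [← ha]
    exact hgood.comp (good_of_isIso m e.inv)
  -- the cone
  have hC : (Q.obj (CochainComplex.mappingCone a)).IsLE (m - 1) :=
    (good_iff_isLE _ (mappingCone_triangle_distinguished a) m (m - 1) (by omega)).1 hgood'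
  have hCproj : ∀ i, Module.Projective A ((CochainComplex.mappingCone a).X i) := fun i => by
    have h1 : Projective (E.X (i + 1)) :=
      haveI := hEproj (i + 1)
      ModuleCat.projective_of_categoryTheory_projective _
    have h2 : Projective (P.X i) :=
      haveI := hPproj i
      ModuleCat.projective_of_categoryTheory_projective _
    haveI := Groth.Agent.Lib.Helper8.PAmp.projective_mappingCone_X a i h1 h2
    exact ModuleCat.projective_of_module_projective _
  have hCb : DRing.VanishesAbove (CochainComplex.mappingCone a) (max b₀ b) := fun i hi =>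
    Groth.Agent.Lib.Helper8.DRing2.isZero_mappingCone_X a i
      (hE _ (Or.inr (by have := le_max_left b₀ b; omega)))
      (hP i (by have := le_max_right b₀ b; omega))
  haveI : (CochainComplex.mappingCone a).IsKProjective :=
    isKProjective_of_bddAbove_projective _ _ hCb hCproj
  have hCB : (Q.obj ((extCx φ).obj (CochainComplex.mappingCone a))).IsLE (m - 1) :=
    haveI := isLE_lBaseChange_of_isLE φ _ (m - 1) hC
    (TStructure.t).isLE_of_iso (lBaseChangeIso φ (CochainComplex.mappingCone a)) (m - 1)
  -- the distinguished triangle after base change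
  have hTG := (DRing.baseChangeKh φ).map_distinguished _
    (HomotopyCategory.mappingCone_triangleh_distinguished a)
  have hgoodB : Good m (Q.map ((extCx φ).map a)) :=
    (good_iff_isLE _ hTG m (m - 1) (by omega)).2 hCB
  refine ⟨(extCx φ).obj E, a₀, b₀,
    (lBaseChangeIso φ E).inv ≫ (DRing.LBaseChange φ).map α, ?_, ?_, ?_⟩
  · intro i hi
    exact extCx_isZero φ E i (hE i hi)
  · intro i
    haveI := (hfree i).1
    haveI := (hfree i).2
    exact ⟨ext_finite φ (E.X i), ext_free φ (E.X i)⟩
  · have hα : α = Q.map a ≫ e.hom := by rw [← ha, Category.assoc, Iso.inv_hom_id, Category.comp_id]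
    have key : (lBaseChangeIso φ E).inv ≫ (DRing.LBaseChange φ).map α =
        Q.map ((extCx φ).map a) ≫ ((lBaseChangeIso φ P).inv ≫ (DRing.LBaseChange φ).map e.hom) := by
      rw [hα, Functor.map_comp, Iso.inv_comp_eq, ← Category.assoc, ← Category.assoc,
        ← lBaseChangeIso_naturality, Category.assoc, Category.assoc, Iso.hom_inv_id_assoc]
    have hg : Good m ((lBaseChangeIso φ E).inv ≫ (DRing.LBaseChange φ).map α) := by
      rw [key]
      exact hgoodB.comp (good_of_isIso m _)
    exact hg

end Groth.Agent.Lib.Helper16.LBCpc
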