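import Mathlib
import Groth.Agent.Lib.Helper16.KPR7

/-!
# Nakayama for a surjection with nilpotent kernel, in `ModuleCat` form
-/

open CategoryTheory CategoryTheory.Limits TensorProduct

namespace Groth.Agent.Lib.Helper16.KPR
universe u

section
variable {R S : Type u} [CommRing R] [CommRing S] (φ : R →+* S)

/-- if `S ⊗_R Q = 0` for a surjection `R → S` with nilpotent kernel then `Q = 0`. -/
lemma isZero_of_isZero_extendScalars (hφ : Function.Surjective φ)
    (hnil : IsNilpotent (RingHom.ker φ)) (Q : ModuleCat.{u} R)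
    (h : IsZero ((ModuleCat.extendScalars.{u, u, u} φ).obj Q)) : IsZero Q := by
  set I := RingHom.ker φ with hI
  obtain ⟨n, hn⟩ := hnil
  let Q' : Submodule R Q := I • ⊤
  obtain ⟨Q'', ⟨e⟩⟩ := exists_restrict_iso φ hφ (ModuleCat.of R (Q ⧸ Q')) (by
    intro r hr x
    induction x using Submodule.Quotient.induction_on with
    | H y =>
      change r • Submodule.Quotient.mk y = 0
      rw [← Submodule.Quotient.mk_smul, Submodule.Quotient.mk_eq_zero]
      exact Submodule.smul_mem_smul hr Submodule.mem_top)
  let π : Q ⟶ ModuleCat.of R (Q ⧸ Q') := ModuleCat.ofHom Q'.mkQ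
  let adj := ModuleCat.extendRestrictScalarsAdj.{u, u, u} φ
  have h0 : π ≫ e.hom = 0 := by
    apply (adj.homEquiv Q Q'').symm.injective
    exact h.eq_of_src _ _
  have hπ : π = 0 := by
    have := congrArg (fun t => t ≫ e.inv) h0
    simpa using this
  have htop : Q' = ⊤ := by
    rw [eq_top_iff]
    intro x _
    have := congrArg (fun t => t.hom x) hπ
    exact (Submodule.Quotient.mk_eq_zero Q').1 this
  have hpow : ∀ k : ℕ, I ^ k • (⊤ : Submodule R Q) = ⊤ := by
    intro k
    induction k with
    | zero => rw [pow_zero, Ideal.one_eq_top, Submodule.top_smul]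
    | succ k ih =>
      rw [pow_succ, ← smul_eq_mul, Submodule.smul_assoc]
      have : I • (⊤ : Submodule R Q) = ⊤ := htop
      rw [this, ih]
  have hbot : (⊤ : Submodule R Q) = ⊥ := by
    rw [← hpow n, hn]
    exact Submodule.bot_smul _
  rw [ModuleCat.isZero_iff_subsingleton, ← Submodule.subsingleton_iff R]
  exact subsingleton_of_bot_eq_top hbot.symm

end

section
variable {R S : Type u} [CommRing R] [CommRing S] (φ : R →+* S)

/-- **Nakayama for nilpotent kernels**: if `S ⊗_R M` is a finite `S`-module for a surjection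
`R → S` with nilpotent kernel then `M` is a finite `R`-module. -/
lemma finite_of_finite_extendScalars (hφ : Function.Surjective φ)
    (hnil : IsNilpotent (RingHom.ker φ)) (M : ModuleCat.{u} R)
    (h : Module.Finite S ((ModuleCat.extendScalars.{u, u, u} φ).obj M)) : Module.Finite R M := by
  let f : M → (ModuleCat.extendScalars.{u, u, u} φ).obj M := fun m => (1 : S) ⊗ₜ[R] m
  let T : Set ((ModuleCat.extendScalars.{u, u, u} φ).obj M) := Set.range f
  have key : ∀ (s : S) (m : M),
      (s ⊗ₜ[R] m : (ModuleCat.extendScalars.{u, u, u} φ).obj M) ∈ Submodule.span S T := by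
    intro s m
    have h1 := ModuleCat.ExtendScalars.smul_tmul φ s (1 : S) m
    rw [mul_one] at h1
    have h2 : s • f m ∈ Submodule.span S T :=
      Submodule.smul_mem _ _ (Submodule.subset_span ⟨m, rfl⟩)
    exact (congrArg (fun z => z ∈ Submodule.span S T) h1).mp h2
  have hall : ∀ x : (ModuleCat.extendScalars.{u, u, u} φ).obj M, x ∈ Submodule.span S T := by
    intro x
    induction x using TensorProduct.induction_on with
    | zero => exact Submodule.zero_mem _
    | tmul s m => exact key s m
    | add x y hx hy => exact Submodule.add_mem _ hx hy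
  have hT : Submodule.span S T = ⊤ := by
    rw [eq_top_iff]
    intro x _
    exact hall x
  have hfg : (Submodule.span S T).FG := by
    rw [hT]
    exact Module.finite_def.1 h
  obtain ⟨t, htT, hspan⟩ := (Submodule.fg_span_iff_fg_span_finset_subset T).1 hfg
  let g : {x // x ∈ t} → M := fun x => (htT x.2).choose
  have hg : ∀ x, f (g x) = x.1 := fun x => (htT x.2).choose_spec
  let N' : Submodule R M := Submodule.span R (Set.range g)
  have hN' : N'.FG := Submodule.fg_span (Set.finite_range g)
  let ι : ModuleCat.of R N' ⟶ M := ModuleCat.ofHom N'.subtype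
  let π : M ⟶ ModuleCat.of R (M ⧸ N') := ModuleCat.ofHom N'.mkQ
  have hιπ : ι ≫ π = 0 := by
    ext x
    exact (Submodule.Quotient.mk_eq_zero _).2 x.2
  have hepi : Epi ((ModuleCat.extendScalars.{u, u, u} φ).map ι) := by
    rw [ModuleCat.epi_iff_surjective, ← LinearMap.range_eq_top, eq_top_iff, ← hT, hspan,
      Submodule.span_le]
    intro x hx
    refine ⟨(1 : S) ⊗ₜ[R] (⟨g ⟨x, hx⟩, Submodule.subset_span ⟨⟨x, hx⟩, rfl⟩⟩ : N'), ?_⟩
    exact hg ⟨x, hx⟩
  have hz : (ModuleCat.extendScalars.{u, u, u} φ).map π = 0 := by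
    rw [← cancel_epi ((ModuleCat.extendScalars.{u, u, u} φ).map ι), ← Functor.map_comp, hιπ,
      Functor.map_zero, comp_zero]
  haveI : (ModuleCat.extendScalars.{u, u, u} φ).PreservesEpimorphisms :=
    Functor.preservesEpimorphisms_of_adjunction (ModuleCat.extendRestrictScalarsAdj.{u, u, u} φ)
  haveI : Epi π := (ModuleCat.epi_iff_surjective _).2 (Submodule.mkQ_surjective _)
  have hZ : IsZero ((ModuleCat.extendScalars.{u, u, u} φ).obj (ModuleCat.of R (M ⧸ N'))) :=
    IsZero.of_epi_eq_zero _ hz
  have hZ' := isZero_of_isZero_extendScalars φ hφ hnil _ hZ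
  have htop : N' = ⊤ := by
    rw [← Submodule.Quotient.subsingleton_iff]
    exact ModuleCat.subsingleton_of_isZero hZ'
  rw [Module.finite_def, ← htop]
  exact hN'

end

end Groth.Agent.Lib.Helper16.KPR
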