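import Mathlib
import Groth.Agent.Lib.Helper16.PC9
import Groth.Agent.Lib.Helper16.PC7e

/-!
# Helper16 — PCNoeth: pseudo-coherence over Noetherian rings.
-/

open CategoryTheory CategoryTheory.Limits DerivedCategory CategoryTheory.Pretriangulated

namespace Groth.Agent.Lib.Helper16.PC

universe u

attribute [local instance] HasDerivedCategory.standard

variable {R : Type u} [CommRing R]

/-- `H^0(M[0]) ≅ M`. -/
noncomputable def homologySingleIso (M : ModuleCat.{u} R) :
    (homologyFunctor (ModuleCat.{u} R) 0).obj ((singleFunctor (ModuleCat.{u} R) 0).obj M) ≅ M :=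
  (singleFunctorCompHomologyFunctorIso (ModuleCat.{u} R) 0).app M

lemma finite_of_iso {M N : ModuleCat.{u} R} (e : M ≅ N) (h : Module.Finite R M) :
    Module.Finite R N :=
  Module.Finite.equiv e.toLinearEquiv

variable [IsNoetherianRing R]

/-- over a Noetherian ring, a finite module is `(-j)`-pseudo-coherent for all `j`. -/
lemma pc_single_of_finite_aux : ∀ (j : ℕ) (M : ModuleCat.{u} R), Module.Finite R M →
    DRing.IsPseudoCoherent R (-(j : ℤ)) ((singleFunctor (ModuleCat.{u} R) 0).obj M) := by
  intro j
  induction j with
  | zero =>
    intro M hM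
    have h0 : (-((0 : ℕ) : ℤ)) = 0 := by simp
    rw [h0]
    exact pc_of_isLE_of_finite _ 0 inferInstance (finite_of_iso (homologySingleIso M).symm hM)
  | succ j ih =>
    intro M hM
    obtain ⟨n, f, hf⟩ := Module.Finite.exists_fin' R M
    let F : ModuleCat.{u} R := ModuleCat.of R (Fin n → R)
    let N : ModuleCat.{u} R := ModuleCat.of R (LinearMap.ker f)
    have hN : Module.Finite R N := by
      have : IsNoetherian R (Fin n → R) := inferInstance
      exact Module.Finite.of_injective (LinearMap.ker f).subtype (Submodule.subtype_injective _)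
    let S : ShortComplex (ModuleCat.{u} R) :=
      ShortComplex.mk (ModuleCat.ofHom (LinearMap.ker f).subtype : N ⟶ F)
        (ModuleCat.ofHom f : F ⟶ M) (by
          ext x
          exact x.2)
    have hS : S.ShortExact := by
      refine ShortComplex.ShortExact.mk' ?_ ?_ ?_
      · rw [ShortComplex.ShortExact.moduleCat_exact_iff_function_exact]
        intro x
        change f x = 0 ↔ x ∈ Set.range (LinearMap.ker f).subtype
        constructor
        · intro hx
          exact ⟨⟨x, hx⟩, rfl⟩
        · rintro ⟨y, rfl⟩
          exact y.2
      · rw [ModuleCat.mono_iff_injective]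
        exact Submodule.subtype_injective _
      · rw [ModuleCat.epi_iff_surjective]
        exact hf
    have hT := hS.singleTriangle_distinguished
    have hF : ∀ m' : ℤ, DRing.IsPseudoCoherent R m'
        ((singleFunctor (ModuleCat.{u} R) 0).obj F) :=
      fun m' => (isPseudoCoherent_iff _ _).2
        (isPC_single finFree_zero finFree_iso _
          ⟨(inferInstance : Module.Finite R (Fin n → R)),
            (inferInstance : Module.Free R (Fin n → R))⟩ 0 m')
    have h3 := (isPseudoCoherent_two_of_three _ hT (-((j + 1 : ℕ) : ℤ))).1
    refine h3 ?_ (hF _)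
    have h4 := ih N hN
    have : -((j + 1 : ℕ) : ℤ) + 1 = -(j : ℤ) := by push_cast; ring
    rw [this]
    exact h4

/-- over a Noetherian ring, a finite module is pseudo-coherent. -/
lemma pc_single_of_finite (M : ModuleCat.{u} R) (hM : Module.Finite R M) (m : ℤ) :
    DRing.IsPseudoCoherent R m ((singleFunctor (ModuleCat.{u} R) 0).obj M) := by
  have h := pc_single_of_finite_aux (-m).toNat M hM
  exact pc_of_le (by have := Int.self_le_toNat (-m); omega) h

/-- homology of a complex of finite modules over a Noetherian ring is finite. -/
lemma finite_homology_of_termwise (E : DRing.Cx R) (i : ℤ) (h : Module.Finite R (E.X i)) :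
    Module.Finite R (E.homology i) := by
  have : IsNoetherian R (E.X i) := isNoetherian_of_isNoetherianRing_of_finite R (E.X i)
  have h1 : Module.Finite R (E.cycles i) :=
    Module.Finite.of_injective (E.iCycles i).hom ((ModuleCat.mono_iff_injective _).1 inferInstance)
  exact Module.Finite.of_surjective (E.homologyπ i).hom ((ModuleCat.epi_iff_surjective _).1 inferInstance)

/-- pseudo-coherent objects over a Noetherian ring have finite cohomology in degrees `≥ m`. -/
lemma finite_homology_of_pc (K : Dual.D R) (m : ℤ) (hK : DRing.IsPseudoCoherent R m K) (i : ℤ)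
    (hi : m ≤ i) : Module.Finite R ((homologyFunctor (ModuleCat.{u} R) i).obj K) := by
  obtain ⟨E, a, b, α, hv, hff, hiso, hepi⟩ := pc_of_le hi hK
  have h1 : Module.Finite R ((homologyFunctor (ModuleCat.{u} R) i).obj (Q.obj E)) :=
    finite_of_iso ((homologyFunctorFactors (ModuleCat.{u} R) i).app E).symm
      (finite_homology_of_termwise E i (hff i).1)
  exact Module.Finite.of_surjective ((homologyFunctor (ModuleCat.{u} R) i).map α).hom
    ((ModuleCat.epi_iff_surjective _).1 hepi)

end Groth.Agent.Lib.Helper16.PC
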