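import Mathlib
import Groth.Agent.Lib.Helper16.KPR8
import Groth.Agent.Lib.Helper16.PCNoeth
import Groth.Agent.Lib.Helper16.PC8
import Groth.Agent.Lib.Helper16.NilNak
import Groth.Agent.Lib.Helper16.LBCpc

open CategoryTheory CategoryTheory.Limits TensorProduct DerivedCategory MonoidalCategory

namespace Groth.Agent.Lib.Helper16.KPR
universe u
open Groth.Agent.Lib.Helper16.TorAmp Groth.Agent.Lib.Helper16.LDer Groth.Agent.Lib.Helper16.PC
open Groth.Agent.Lib.Helper8 CategoryTheory.Pretriangulated

attribute [local instance] HasDerivedCategory.standard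

section
variable {R S : Type u} [CommRing R] [CommRing S] (φ : R →+* S)

/-- `opcycles (ext P) ≅ ext (opcycles P)`. -/
noncomputable def opcyclesExtIso (P : DRing.Cx R) (p : ℤ) :
    ((extCx φ).obj P).opcycles p ≅ (ModuleCat.extendScalars.{u, u, u} φ).obj (P.opcycles p) :=
  IsColimit.coconePointUniqueUpToIso (((extCx φ).obj P).opcyclesIsCokernel (p - 1) p (by simp))
    (CokernelCofork.mapIsColimit _ (P.opcyclesIsCokernel (p - 1) p (by simp))
      (ModuleCat.extendScalars.{u, u, u} φ))

/-- top homology commutes with extension of scalars. -/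
noncomputable def topHomologyExtIso (P : DRing.Cx R) (b : ℤ) (hP : IsZero (P.X (b + 1))) :
    ((extCx φ).obj P).homology b ≅ (ModuleCat.extendScalars.{u, u, u} φ).obj (P.homology b) :=
  haveI : IsIso (P.homologyι b) :=
    P.isIso_homologyι b (b + 1) (by simp) (hP.eq_of_tgt _ _)
  haveI : IsIso (((extCx φ).obj P).homologyι b) :=
    ((extCx φ).obj P).isIso_homologyι b (b + 1) (by simp)
      ((extCx_isZero φ P (b + 1) hP).eq_of_tgt _ _)
  asIso (((extCx φ).obj P).homologyι b) ≪≫ opcyclesExtIso φ P b ≪≫
    (ModuleCat.extendScalars.{u, u, u} φ).mapIso (asIso (P.homologyι b)).symm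

end

section
variable {R : Type u} [CommRing R]

lemma pc'_of_iso {K K' : Dual.D R} (h : DRing.IsPseudoCoherent' R K) (e : K ≅ K') :
    DRing.IsPseudoCoherent' R K' := by
  obtain ⟨E, b, hb, hff, ⟨e'⟩⟩ := h
  exact ⟨E, b, hb, hff, ⟨e' ≪≫ e⟩⟩

/-- pseudo-coherence of the third vertex of a distinguished triangle. -/
lemma pc'_obj₃ (T : Triangle (Dual.D R)) (hT : T ∈ distTriang _)
    (h1 : DRing.IsPseudoCoherent' R T.obj₁) (h2 : DRing.IsPseudoCoherent' R T.obj₂) :
    DRing.IsPseudoCoherent' R T.obj₃ :=
  pc'_of_pc (fun m => (isPseudoCoherent_two_of_three T hT m).1 (pc_of_pc' h1 (m + 1))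
    (pc_of_pc' h2 m))

lemma isLE_of_vanishesAbove (F : DRing.Cx R) (b : ℤ) (hF : DRing.VanishesAbove F b) :
    (Q.obj F).IsLE b := by
  rw [isLE_Q_obj_iff, CochainComplex.isLE_iff]
  intro i hi
  exact ShortComplex.exact_of_isZero_X₂ _ (hF i hi)

lemma finFree_single_X (X : ModuleCat.{u} R) (hX : FinFree X) (b i : ℤ) :
    FinFree (((HomologicalComplex.single (ModuleCat.{u} R) (ComplexShape.up ℤ) b).obj X).X i) := by
  by_cases h : i = b
  · subst h
    exact finFree_iso _ _ (HomologicalComplex.singleObjXSelf _ i X).symm hX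
  · exact finFree_zero _ (HomologicalComplex.isZero_single_obj_X _ b X i h)

end

section
variable {R S : Type u} [CommRing R] [CommRing S] (φ : R →+* S)

lemma finFree_ext (X : ModuleCat.{u} R) (hX : FinFree X) :
    FinFree ((ModuleCat.extendScalars.{u, u, u} φ).obj X) := by
  letI := φ.toAlgebra
  haveI := hX.1
  haveI := hX.2
  exact ⟨inferInstanceAs (Module.Finite S (TensorProduct R S X)),
    inferInstanceAs (Module.Free S (TensorProduct R S X))⟩

end

section Main
variable {R S : Type u} [CommRing R] [CommRing S] (φ : R →+* S)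

/-- the inductive step of descent of pseudo-coherence along a surjection with nilpotent kernel. -/
theorem pc_of_pc'_extCx (hφ : Function.Surjective φ) (hnil : IsNilpotent (RingHom.ker φ)) :
    ∀ (j : ℕ) (b : ℤ) (P : DRing.Cx R) [P.IsKProjective], (∀ i, Module.Projective R (P.X i)) →
      (Q.obj P).IsLE b → DRing.IsPseudoCoherent' S (DRing.toD ((extCx φ).obj P)) →
      DRing.IsPseudoCoherent R (b + 1 - j) (DRing.toD P) := by
  intro j
  induction j with
  | zero =>
    intro b P _ _ hb _
    exact pc_of_isLE _ _ b hb (by simp)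
  | succ j ih =>
    intro b P _ hproj hb hpc
    obtain ⟨F, e, hF, hFproj⟩ := exists_bddAbove_model P b hb
    haveI : F.IsKProjective := isKProjective_of_bddAbove_projective F b hF hFproj
    haveI : IsIso (Q.map e.hom) := by
      rw [isIso_Q_map_iff_quasiIso]
      infer_instance
    let eD : DRing.toD F ≅ DRing.toD P := asIso (Q.map e.hom)
    let e' := (ModuleCat.extendScalars.{u, u, u} φ).mapHomotopyEquiv e
    haveI : IsIso (Q.map e'.hom) := by
      rw [isIso_Q_map_iff_quasiIso]
      infer_instance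
    have hpcF : DRing.IsPseudoCoherent' S (DRing.toD ((extCx φ).obj F)) :=
      pc'_of_iso hpc (asIso (Q.map e'.hom)).symm
    haveI hFb : (Q.obj F).IsLE b := isLE_of_vanishesAbove F b hF
    have hEb : (Q.obj ((extCx φ).obj F)).IsLE b :=
      isLE_of_vanishesAbove _ b (fun i hi => extCx_isZero φ F i (hF i hi))
    -- finiteness of the top cohomology
    have hfin1 : Module.Finite S ((homologyFunctor (ModuleCat.{u} S) b).obj
        (DRing.toD ((extCx φ).obj F))) :=
      (Groth.Agent.S2068.result _ b (pc_of_pc' hpcF b)).1 (fun i hi => (isLE_iff _ b).1 hEb i hi)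
    have hfin2 : Module.Finite S (((extCx φ).obj F).homology b) :=
      finite_of_iso ((homologyFunctorFactors (ModuleCat.{u} S) b).app _) hfin1
    have hfin3 : Module.Finite S ((ModuleCat.extendScalars.{u, u, u} φ).obj (F.homology b)) :=
      finite_of_iso (topHomologyExtIso φ F b (hF (b + 1) (by omega))) hfin2
    have hfin4 : Module.Finite R (F.homology b) :=
      finite_of_finite_extendScalars φ hφ hnil _ hfin3
    have hfin5 : Module.Finite R ((homologyFunctor (ModuleCat.{u} R) b).obj (Q.obj F)) :=
      finite_of_iso ((homologyFunctorFactors (ModuleCat.{u} R) b).app F).symm hfin4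
    obtain ⟨r, p, hp⟩ := Module.Finite.exists_fin' R
      ((homologyFunctor (ModuleCat.{u} R) b).obj (Q.obj F))
    let X : ModuleCat.{u} R := ModuleCat.of R (Fin r → R)
    have hX : FinFree X := ⟨(inferInstance : Module.Finite R (Fin r → R)),
      (inferInstance : Module.Free R (Fin r → R))⟩
    haveI : Projective X := finFree_proj X hX
    let ψ : X ⟶ (homologyFunctor (ModuleCat.{u} R) b).obj (Q.obj F) := ModuleCat.ofHom p
    haveI : Epi ψ := (ModuleCat.epi_iff_surjective _).2 hp
    obtain ⟨β, hβ⟩ := PAmp.exists_lift_of_projective b X (Q.obj F) ψ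
    let G : DRing.Cx R := (HomologicalComplex.single (ModuleCat.{u} R) (ComplexShape.up ℤ) b).obj X
    have hG : DRing.VanishesAbove G b := fun i hi =>
      HomologicalComplex.isZero_single_obj_X _ b X i (by omega)
    have hGff : ∀ i, FinFree (G.X i) := finFree_single_X X hX b
    have hGproj : ∀ i, Module.Projective R (G.X i) := fun i =>
      haveI := (hGff i).2
      Module.Projective.of_free
    haveI : G.IsKProjective := isKProjective_of_bddAbove_projective G b hG hGproj
    obtain ⟨α, hα⟩ := exists_map_of_isKProjective G F β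
    have hβepi : Epi ((homologyFunctor (ModuleCat.{u} R) b).map β) := by
      rw [hβ]
      infer_instance
    have hgood : Good b (Q.map α) := by
      rw [hα]
      refine ⟨fun i hi => ?_, hβepi⟩
      · have h1 : IsZero ((homologyFunctor (ModuleCat.{u} R) i).obj
            ((singleFunctor (ModuleCat.{u} R) b).obj X)) :=
          (isLE_iff _ b).1 inferInstance i hi
        have h2 : IsZero ((homologyFunctor (ModuleCat.{u} R) i).obj (Q.obj F)) :=
          (isLE_iff _ b).1 hFb i hi
        exact ⟨⟨0, h1.eq_of_src _ _, h2.eq_of_src _ _⟩⟩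
    let C := CochainComplex.mappingCone α
    haveI : C.IsKProjective := isKProjective_mappingCone α
    have hCproj : ∀ i, Module.Projective R (C.X i) := fun i =>
      haveI : Projective (C.X i) := projective_mappingCone_X α
        (fun i => haveI := hGproj i; ModuleCat.projective_of_categoryTheory_projective _)
        (fun i => haveI := hFproj i; ModuleCat.projective_of_categoryTheory_projective _) i
      ModuleCat.projective_of_module_projective (C.X i)
    have hT := mappingCone_triangle_distinguished α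
    have hCle : (Q.obj C).IsLE (b - 1) := (good_iff_isLE _ hT b (b - 1) (by omega)).1 hgood
    have hT' := mappingCone_triangle_distinguished ((extCx φ).map α)
    have hpcG : DRing.IsPseudoCoherent' S (DRing.toD ((extCx φ).obj G)) :=
      ⟨(extCx φ).obj G, b, fun i hi => extCx_isZero φ G i (hG i hi),
        fun i => finFree_ext φ _ (hGff i), ⟨Iso.refl _⟩⟩
    have hpcC' : DRing.IsPseudoCoherent' S
        (DRing.toD (CochainComplex.mappingCone ((extCx φ).map α))) :=
      pc'_obj₃ _ hT' hpcG hpcF
    have hpcC : DRing.IsPseudoCoherent' S (DRing.toD ((extCx φ).obj C)) :=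
      pc'_of_iso hpcC' (Q.mapIso (CochainComplex.mappingCone.mapHomologicalComplexIso α
        (ModuleCat.extendScalars.{u, u, u} φ))).symm
    have hC := ih (b - 1) C hCproj hCle hpcC
    have hm : b - 1 + 1 - (j : ℤ) = b + 1 - ((j + 1 : ℕ) : ℤ) := by push_cast; ring
    rw [hm] at hC
    have hGpc : DRing.IsPseudoCoherent R (b + 1 - ((j + 1 : ℕ) : ℤ)) (DRing.toD G) :=
      pc_of_pc' ⟨G, b, hG, hGff, ⟨Iso.refl _⟩⟩ _
    exact pc_of_iso ((isPseudoCoherent_two_of_three _ hT _).2.1 hGpc hC) eD

end Main

section Final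
variable {R S : Type u} [CommRing R] [CommRing S] (φ : R →+* S) [DRing.HasLBaseChange φ]

/-- derived base change preserves pseudo-coherence. -/
theorem pc'_LBaseChange (K : Dual.D R) (h : DRing.IsPseudoCoherent' R K) :
    DRing.IsPseudoCoherent' S ((DRing.LBaseChange φ).obj K) :=
  pc'_of_pc (fun m => Groth.Agent.Lib.Helper16.LBCpc.pc_lBaseChange φ K m (pc_of_pc' h m))

/-- pseudo-coherence descends along a surjection with nilpotent kernel. -/
theorem pc'_of_pc'_LBaseChange_of_nilpotent (hφ : Function.Surjective φ)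
    (hnil : IsNilpotent (RingHom.ker φ)) (K : Dual.D R)
    (h : DRing.IsPseudoCoherent' S ((DRing.LBaseChange φ).obj K)) :
    DRing.IsPseudoCoherent' R K := by
  obtain ⟨Pr, hPr, hproj, ⟨e⟩⟩ := exists_kprojective_module K
  haveI := hPr
  have hfl : DRing.TermwiseFlat Pr :=
    Groth.Agent.Lib.Helper16.TorAmp.termwiseFlat_of_projective Pr hproj
  have h' : DRing.IsPseudoCoherent' S (DRing.toD ((extCx φ).obj Pr)) :=
    pc'_of_iso h ((DRing.LBaseChange φ).mapIso e.symm ≪≫ lBaseChangeIso φ Pr)
  obtain ⟨E, b, hE, -, ⟨eE⟩⟩ := h'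
  have hEb : (Q.obj ((extCx φ).obj Pr)).IsLE b := by
    haveI := isLE_of_vanishesAbove E b hE
    exact (TStructure.t).isLE_of_iso eE b
  have hex : ∀ i, b < i → ((tensCx (asMod φ)).obj Pr).ExactAt i := by
    intro i hi
    rw [← exactAt_extCx_iff]
    rw [isLE_Q_obj_iff, CochainComplex.isLE_iff] at hEb
    exact hEb i hi
  obtain ⟨n, hn⟩ := hnil
  have hall : ∀ (M : ModuleCat.{u} R) (i : ℤ), b < i → ((tensCx M).obj Pr).ExactAt i := by
    intro M i hi
    refine exactAt_tensCx_of_pow_smul_eq_bot φ hφ Pr hfl i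
      (fun N'' => exactAt_tensCx_restrict_of_gt φ Pr b hex N'' i hi) n M ?_
    rw [hn]
    exact Submodule.bot_smul _
  have hPb : (Q.obj Pr).IsLE b := by
    rw [isLE_Q_obj_iff, CochainComplex.isLE_iff]
    intro i hi
    exact (hall (𝟙_ _) i hi).of_iso (tensCxUnitIso Pr)
  have h'' : DRing.IsPseudoCoherent' S (DRing.toD ((extCx φ).obj Pr)) :=
    pc'_of_iso h ((DRing.LBaseChange φ).mapIso e.symm ≪≫ lBaseChangeIso φ Pr)
  refine pc'_of_iso (pc'_of_pc (fun m => ?_)) e
  have hj := pc_of_pc'_extCx φ hφ ⟨n, hn⟩ (b + 1 - m).toNat b Pr hproj hPb h''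
  exact pc_of_le (by have := Int.self_le_toNat (b + 1 - m); omega) hj

end Final

end Groth.Agent.Lib.Helper16.KPR
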