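import Mathlib
import Groth.Agent.Lib.Helper16.NilPC
import Groth.Agent.Lib.Helper16.GlobSplit
import Groth.Agent.Lib.Helper16.LocPerf

/-!
# Perfectness and tor amplitude from fibres at all maximal ideals
-/

open CategoryTheory CategoryTheory.Limits MonoidalCategory TensorProduct DerivedCategory

namespace Groth.Agent.Lib.Helper16.KPR
universe u

open Groth.Agent.Lib.Helper16.TorAmp Groth.Agent.Lib.Helper16.LDer Groth.Agent.Lib.Helper16.TorBal
  Groth.Agent.Lib.Helper16.RestrictD Groth.Agent.Lib.Helper16.PC

attribute [local instance] HasDerivedCategory.standard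

section Zero
variable {R : Type u} [CommRing R]

/-- a finite module whose fibres at all maximal ideals vanish is zero. -/
lemma subsingleton_of_forall_maximal (M : Type u) [AddCommGroup M] [Module R M] [Module.Finite R M]
    (h : ∀ (m : Ideal R) [m.IsMaximal], Subsingleton ((R ⧸ m) ⊗[R] M)) : Subsingleton M := by
  have hinj := GlobSplit.injective_of_forall_maximal (0 : M →ₗ[R] PUnit.{u + 1})
    (fun m _ => by
      haveI := h m
      exact Function.injective_of_subsingleton _)
  exact ⟨fun x y => hinj (Subsingleton.elim _ _)⟩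

lemma isZero_of_forall_maximal (M : ModuleCat.{u} R) [Module.Finite R M]
    (h : ∀ (m : Ideal R) [m.IsMaximal],
      IsZero ((ModuleCat.extendScalars.{u, u, u} (Ideal.Quotient.mk m)).obj M)) : IsZero M := by
  rw [ModuleCat.isZero_iff_subsingleton]
  refine subsingleton_of_forall_maximal (R := R) M ?_
  intro m _
  haveI : Subsingleton ((ModuleCat.restrictScalars.{u} (Ideal.Quotient.mk m)).obj
      ((ModuleCat.extendScalars.{u, u, u} (Ideal.Quotient.mk m)).obj M)) :=
    ModuleCat.subsingleton_of_isZero
      ((isZero_restrict_iff (Ideal.Quotient.mk m) _).2 (h m))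
  let e1 := extRestrictEquiv (Ideal.Quotient.mk m) M
  let e2 : (asMod (Ideal.Quotient.mk m) ⊗[R] M) ≃ₗ[R] ((R ⧸ m) ⊗[R] M) :=
    TensorProduct.congr (asModQuotIso m).toLinearEquiv (LinearEquiv.refl R M)
  exact (e1.trans e2).symm.toEquiv.subsingleton

end Zero

section Upper
variable {R : Type u} [CommRing R]

/-- **upper bound from the fibres at maximal ideals** (Nakayama on the top cohomology). -/
theorem isLE_of_fibres (E : DRing.Cx R) [E.IsKProjective]
    (hpc : DRing.IsPseudoCoherent' R (DRing.toD E)) (b : ℤ)
    (h : ∀ (m : Ideal R) [m.IsMaximal] (i : ℤ), b < i →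
      ((extCx (Ideal.Quotient.mk m)).obj E).ExactAt i) :
    (Q.obj E).IsLE b := by
  obtain ⟨E₀, b₀, hE₀, -, ⟨e₀⟩⟩ := id hpc
  have hb₀ : (Q.obj E).IsLE b₀ := by
    haveI := isLE_of_vanishesAbove E₀ b₀ hE₀
    exact (TStructure.t).isLE_of_iso e₀ b₀
  have key : ∀ n : ℕ, ∀ c : ℤ, c ≤ b + n → (Q.obj E).IsLE c → (Q.obj E).IsLE b := by
    intro n
    induction n with
    | zero =>
      intro c hc hle
      haveI := hle
      exact (TStructure.t).isLE_of_le (Q.obj E) c b (by simpa using hc)
    | succ n ih =>
      intro c hc hle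
      by_cases hcb : c ≤ b + n
      · exact ih c hcb hle
      · have hbc : b < c := by omega
        refine ih (c - 1) (by push_cast at hc; omega) ?_
        obtain ⟨F, e, hF, hFproj⟩ := exists_bddAbove_model E c hle
        haveI : IsIso (Q.map e.hom) := by
          rw [isIso_Q_map_iff_quasiIso]
          infer_instance
        have hpcF : DRing.IsPseudoCoherent' R (DRing.toD F) :=
          pc'_of_iso hpc (asIso (Q.map e.hom)).symm
        have hFle : (Q.obj F).IsLE c := isLE_of_vanishesAbove F c hF
        have hfin1 : Module.Finite R ((homologyFunctor (ModuleCat.{u} R) c).obj (DRing.toD F)) :=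
          (Groth.Agent.S2068.result _ c (pc_of_pc' hpcF c)).1
            (fun i hi => (isLE_iff _ c).1 hFle i hi)
        haveI hfin : Module.Finite R (F.homology c) :=
          finite_of_iso ((homologyFunctorFactors (ModuleCat.{u} R) c).app F) hfin1
        have hz : ∀ (m : Ideal R) [m.IsMaximal], IsZero
            ((ModuleCat.extendScalars.{u, u, u} (Ideal.Quotient.mk m)).obj (F.homology c)) := by
          intro m _
          refine IsZero.of_iso ?_ (topHomologyExtIso (Ideal.Quotient.mk m) F c
            (hF (c + 1) (by omega))).symm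
          let e' := (ModuleCat.extendScalars.{u, u, u} (Ideal.Quotient.mk m)).mapHomotopyEquiv e
          haveI : QuasiIsoAt e'.hom c := inferInstance
          rw [← HomologicalComplex.exactAt_iff_isZero_homology]
          exact (exactAt_iff_of_quasiIsoAt e'.hom c).2 (h m c hbc)
        have hM : IsZero (F.homology c) := isZero_of_forall_maximal _ hz
        have hEc : E.ExactAt c := by
          haveI : QuasiIsoAt e.hom c := inferInstance
          rw [← exactAt_iff_of_quasiIsoAt e.hom c, HomologicalComplex.exactAt_iff_isZero_homology]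
          exact hM
        rw [isLE_Q_obj_iff, CochainComplex.isLE_iff] at hle ⊢
        intro i hi
        by_cases hic : i = c
        · rw [hic]
          exact hEc
        · exact hle i (by omega)
  exact key (b₀ - b).toNat b₀ (by have := Int.self_le_toNat (b₀ - b); omega) hb₀

end Upper

section Main
variable {R : Type u} [CommRing R]

lemma exactAt_tensCx_of_isLE (P : DRing.Cx R) [P.IsKProjective] (b : ℤ) (hb : (Q.obj P).IsLE b)
    (M : ModuleCat.{u} R) (i : ℤ) (hi : b < i) : ((tensCx M).obj P).ExactAt i := by
  obtain ⟨F, e, hF, -⟩ := exists_bddAbove_model P b hb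
  rw [← exactAt_tensCx_iff_of_homotopyEquiv e M i, HomologicalComplex.exactAt_iff_isZero_homology]
  apply ShortComplex.isZero_homology_of_isZero_X₂
  exact Functor.map_isZero (tensorRight M) (hF i hi)

/-- exactness and flat cokernel from the fibres at all maximal ideals. -/
theorem exactAt_and_flat_of_fibres (E : DRing.Cx R) (hff : DRing.TermwiseFiniteFree E)
    (i j k : ℤ) (hij : i + 1 = j) (hjk : j + 1 = k)
    (h : ∀ (m : Ideal R) [m.IsMaximal],
      ((tensCx (ModuleCat.of R (R ⧸ m))).obj E).ExactAt j) :
    E.ExactAt j ∧ Module.Flat R (E.X k ⧸ LinearMap.range (E.d j k).hom) := by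
  have h' : ∀ (m : Ideal R) [m.IsMaximal], Function.Exact ((E.d i j).hom.lTensor (R ⧸ m))
      ((E.d j k).hom.lTensor (R ⧸ m)) := by
    intro m _
    have hm := (exactAt_tensCx_iff _ E i j k hij hjk).1 (h m)
    exact (Function.Exact.iff_of_ladder_linearEquiv
      (e₁ := TensorProduct.comm R (E.X i) (R ⧸ m))
      (e₂ := TensorProduct.comm R (E.X j) (R ⧸ m))
      (e₃ := TensorProduct.comm R (E.X k) (R ⧸ m))
      (LinearMap.lTensor_comp_comm _) (LinearMap.lTensor_comp_comm _)).2 hm
  haveI := (hff j).1
  haveI := (hff k).1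
  haveI := (hff k).2
  have hgf : (E.d j k).hom ∘ₗ (E.d i j).hom = 0 := by
    have := E.d_comp_d i j k
    exact congrArg ModuleCat.Hom.hom this
  obtain ⟨h1, h2⟩ := GlobSplit.exact_and_flat_of_exact_quotients _ _ hgf h'
  exact ⟨(exactAt_iff_function_exact E i j k hij hjk).2 h1, h2⟩

/-- **tor amplitude from the fibres at all maximal ideals**, for bounded above complexes of finite
free modules. -/
theorem torAmp_of_fibres (E : DRing.Cx R) (b' : ℤ) (hE : DRing.VanishesAbove E b')
    (hff : DRing.TermwiseFiniteFree E) (a b : ℤ)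
    (h : ∀ (m : Ideal R) [m.IsMaximal] (i : ℤ), i < a ∨ b < i →
      ((tensCx (ModuleCat.of R (R ⧸ m))).obj E).ExactAt i) :
    DRing.HasTorAmplitudeIn R a b (DRing.toD E) := by
  have hproj : ∀ i, Module.Projective R (E.X i) := fun i =>
    haveI := (hff i).2
    Module.Projective.of_free
  haveI : E.IsKProjective := isKProjective_of_bddAbove_projective E b' hE hproj
  have hflat := TorAmp.termwiseFlat_of_projective E hproj
  have hb : (Q.obj E).IsLE b := by
    refine isLE_of_fibres E ⟨E, b', hE, hff, ⟨Iso.refl _⟩⟩ b (fun m _ i hi => ?_)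
    exact (exactAt_extCx_iff _ E i).2
      ((exactAt_tensCx_of_iso (asModQuotIso m) E i).2 (h m i (Or.inr hi)))
  have h1 : DRing.HasTorAmplitudeIn R a b' (DRing.toD E) := by
    refine torAmp_of_flat_coker E a b' hE hflat (fun i hi => ?_) ?_
    · exact (exactAt_and_flat_of_fibres E hff (i - 1) i (i + 1) (by omega) rfl
        (fun m _ => h m i (Or.inl hi))).1
    · exact (exactAt_and_flat_of_fibres E hff (a - 1 - 1) (a - 1) a (by omega) (by omega)
        (fun m _ => h m (a - 1) (Or.inl (by omega)))).2
  rw [torAmp_iff_exactAt_tensCx_kproj] at h1 ⊢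
  intro M i hi
  rcases hi with hi | hi
  · exact h1 M i (Or.inl hi)
  · exact exactAt_tensCx_of_isLE E b hb M i hi

end Main

end Groth.Agent.Lib.Helper16.KPR
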