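import Mathlib
import Groth.Agent.Lib.Helper16.BiCx1

/-!
# Helper16 — Res1: attaching cells to kill the kernel in cohomology (general abelian category)

Given a map of complexes `f : P ⟶ G` and a class `W` of objects such that every object is a
quotient of an object of `W`, we build `P ⟶ P' ⟶ G` with `P' = cone(Σ ⟶ P)` where `Σ` has zero
differentials and terms in `W`, such that the kernel of `H(P) ⟶ H(G)` dies in `H(P')`.
-/

set_option autoImplicit false
open CategoryTheory CategoryTheory.Limits CochainComplex HomComplex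

namespace Groth.Agent.Lib.Helper16.Res

variable {A : Type*} [Category A] [Abelian A]

/-- the complex with zero differentials and given terms. -/
def zeroD (X : ℤ → A) : CochainComplex A ℤ where
  X := X
  d _ _ := 0
  shape _ _ _ := rfl
  d_comp_d' _ _ _ _ _ := zero_comp

lemma zeroD_d (X : ℤ → A) (i j : ℤ) : (zeroD X).d i j = 0 := rfl

/-- maps out of a complex with zero differentials. -/
def zeroDDesc (X : ℤ → A) (G : CochainComplex A ℤ) (g : ∀ n, (zeroD X).X n ⟶ G.X n)
    (hg : ∀ n, g n ≫ G.d n (n + 1) = 0) : zeroD X ⟶ G where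
  f := g
  comm' i j hij := by
    change i + 1 = j at hij
    subst hij
    rw [zeroD_d, zero_comp]
    exact hg i

@[simp] lemma zeroDDesc_f (X : ℤ → A) (G : CochainComplex A ℤ)
    (g : ∀ n, (zeroD X).X n ⟶ G.X n)
    (hg : ∀ n, g n ≫ G.d n (n + 1) = 0) (n : ℤ) : (zeroDDesc X G g hg).f n = g n := rfl

/-- the tautological cycle of a complex with zero differentials. -/
noncomputable def zeroDCycle (X : ℤ → A) (n : ℤ) : (zeroD X).X n ⟶ (zeroD X).cycles n :=
  (zeroD X).liftCycles (𝟙 ((zeroD X).X n)) (n + 1) (by simp) (by rw [zeroD_d, comp_zero])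

@[reassoc (attr := simp)]
lemma zeroDCycle_i (X : ℤ → A) (n : ℤ) : zeroDCycle X n ≫ (zeroD X).iCycles n = 𝟙 _ :=
  (zeroD X).liftCycles_i _ _ _ _


section Cover

variable {W : A → Prop} (hW : ∀ M : A, ∃ (F : A) (p : F ⟶ M), W F ∧ Epi p)

/-- a chosen `W`-cover of an object. -/
noncomputable def cov (M : A) : A := (hW M).choose

/-- the covering map. -/
noncomputable def covπ (M : A) : cov hW M ⟶ M := (hW M).choose_spec.choose

lemma cov_W (M : A) : W (cov hW M) := (hW M).choose_spec.choose_spec.1

instance epi_covπ (M : A) : Epi (covπ hW M) := (hW M).choose_spec.choose_spec.2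

end Cover

section Step

variable {W : A → Prop} (hW : ∀ M : A, ∃ (F : A) (p : F ⟶ M), W F ∧ Epi p)
  {P G : CochainComplex A ℤ} (f : P ⟶ G)

/-- pairs `(z, g)` of a cycle `z` of `P` in degree `n` and `g ∈ G^{n-1}` with `f z = d g`. -/
noncomputable def E (n : ℤ) : A :=
  pullback (HomologicalComplex.cyclesMap f n) (G.toCycles (n - 1) n)

/-- first projection. -/
noncomputable def Efst (n : ℤ) : E f n ⟶ P.cycles n := pullback.fst _ _

/-- second projection. -/
noncomputable def Esnd (n : ℤ) : E f n ⟶ G.X (n - 1) := pullback.snd _ _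

lemma E_condition (n : ℤ) :
    Efst f n ≫ HomologicalComplex.cyclesMap f n = Esnd f n ≫ G.toCycles (n - 1) n :=
  pullback.condition

/-- the universal property. -/
noncomputable def Elift (n : ℤ) {T : A} (z : T ⟶ P.cycles n) (g : T ⟶ G.X (n - 1))
    (h : z ≫ HomologicalComplex.cyclesMap f n = g ≫ G.toCycles (n - 1) n) : T ⟶ E f n :=
  pullback.lift z g h

@[reassoc (attr := simp)]
lemma Elift_fst (n : ℤ) {T : A} (z : T ⟶ P.cycles n) (g : T ⟶ G.X (n - 1))
    (h : z ≫ HomologicalComplex.cyclesMap f n = g ≫ G.toCycles (n - 1) n) :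
    Elift f n z g h ≫ Efst f n = z := pullback.lift_fst _ _ _

@[reassoc (attr := simp)]
lemma Elift_snd (n : ℤ) {T : A} (z : T ⟶ P.cycles n) (g : T ⟶ G.X (n - 1))
    (h : z ≫ HomologicalComplex.cyclesMap f n = g ≫ G.toCycles (n - 1) n) :
    Elift f n z g h ≫ Esnd f n = g := pullback.lift_snd _ _ _

/-- if `cyclesMap f n` is an epimorphism, so is the second projection. -/
lemma epi_Esnd (n : ℤ) [Epi (HomologicalComplex.cyclesMap f n)] : Epi (Esnd f n) :=
  Abelian.epi_pullback_of_epi_f _ _

/-- the terms of the complex of cells. -/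
noncomputable def cell (n : ℤ) : A := cov hW (E f n)

/-- the complex of cells (zero differentials). -/
noncomputable abbrev cellCx : CochainComplex A ℤ := zeroD (cell hW f)

/-- the cycle of `P` attached to a cell. -/
noncomputable def cellZ (n : ℤ) : (cellCx hW f).X n ⟶ P.cycles n :=
  covπ hW (E f n) ≫ Efst f n

/-- the element of `G^{n-1}` attached to a cell. -/
noncomputable def cellG (n : ℤ) : (cellCx hW f).X n ⟶ G.X (n - 1) :=
  covπ hW (E f n) ≫ Esnd f n

lemma cell_condition (n : ℤ) :
    cellZ hW f n ≫ HomologicalComplex.cyclesMap f n = cellG hW f n ≫ G.toCycles (n - 1) n := by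
  change (covπ hW (E f n) ≫ Efst f n) ≫ _ = (covπ hW (E f n) ≫ Esnd f n) ≫ _
  rw [Category.assoc, Category.assoc, E_condition]

/-- the attaching map. -/
noncomputable def attach : cellCx hW f ⟶ P :=
  zeroDDesc _ P (fun n => cellZ hW f n ≫ P.iCycles n) (fun n => by
    rw [Category.assoc, HomologicalComplex.iCycles_d, comp_zero])

@[simp] lemma attach_f (n : ℤ) : (attach hW f).f n = cellZ hW f n ≫ P.iCycles n := rfl

/-- the complex obtained by attaching the cells. -/
noncomputable def next : CochainComplex A ℤ := mappingCone (attach hW f)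

/-- the inclusion. -/
noncomputable def nextι : P ⟶ next hW f := mappingCone.inr (attach hW f)

/-- the cochain used to extend `f`. -/
noncomputable def nextα : Cochain (cellCx hW f) G (-1) :=
  Cochain.mk (fun p q hpq => cellG hW f p ≫ (G.XIsoOfEq (show p - 1 = q by omega)).hom)

lemma nextα_v (p q : ℤ) (hpq : p + (-1) = q) :
    (nextα hW f).v p q hpq = cellG hW f p ≫ (G.XIsoOfEq (show p - 1 = q by omega)).hom := rfl

lemma δ_nextα : δ (-1) 0 (nextα hW f) = Cochain.ofHom (attach hW f ≫ f) := by
  ext p
  rw [δ_v (-1) 0 (by omega) (nextα hW f) p p (add_zero p) (p - 1) (p + 1) rfl rfl]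
  rw [Cochain.ofHom_v, HomologicalComplex.comp_f, attach_f, Category.assoc,
    ← HomologicalComplex.cyclesMap_i, ← Category.assoc, cell_condition, Category.assoc,
    HomologicalComplex.toCycles_i, nextα_v]
  have h0 : (cellCx hW f).d p (p + 1) = 0 := rfl
  rw [h0, zero_comp, smul_zero, add_zero, Category.assoc, HomologicalComplex.XIsoOfEq_hom_comp_d]

/-- the extension of `f` to the complex with cells attached. -/
noncomputable def nextf : next hW f ⟶ G :=
  mappingCone.desc (attach hW f) (nextα hW f) f (δ_nextα hW f)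

@[reassoc (attr := simp)]
lemma nextι_nextf : nextι hW f ≫ nextf hW f = f := mappingCone.inr_desc _ _ _ _

end Step

end Groth.Agent.Lib.Helper16.Res
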