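import Mathlib
import Groth.Agent.Lib.Helper16.Res1

/-!
# Helper16 — Res2: a criterion for a map out of a sequential colimit to be a monomorphism
-/

set_option autoImplicit false
open CategoryTheory CategoryTheory.Limits

namespace Groth.Agent.Lib.Helper16.Res

attribute [local instance] IsFiltered.isConnected

variable {A : Type*} [Category A] [Abelian A] [HasColimitsOfShape ℕ A]
  [HasExactColimitsOfShape ℕ A]

/-- **Let `c` be a colimit cocone of `F : ℕ ⥤ A` (sequential colimits being exact in `A`) and
`g : c.pt ⟶ Y`. If every generalized element of `F k` killed by `F k ⟶ c.pt ⟶ Y` is already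
killed by `F k ⟶ F (k + 1)`, then `g` is a monomorphism.** -/
theorem mono_of_isColimit_of_kernel_dies {F : ℕ ⥤ A} {c : Cocone F} (hc : IsColimit c) {Y : A}
    (g : c.pt ⟶ Y)
    (h : ∀ (k : ℕ) (T : A) (x : T ⟶ F.obj k), x ≫ c.ι.app k ≫ g = 0 →
      x ≫ F.map (homOfLE (Nat.le_succ k)) = 0) : Mono g := by
  let α : F ⟶ (Functor.const ℕ).obj Y :=
    { app := fun k => c.ι.app k ≫ g
      naturality := fun i j u => by
        dsimp
        rw [Category.comp_id, ← Category.assoc, c.w] }
  let S : ShortComplex (ℕ ⥤ A) := ShortComplex.mk (kernel.ι α) α (kernel.condition α)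
  have hS : S.Exact := ShortComplex.exact_of_f_is_kernel _ (kernelIsKernel α)
  have hK : ∀ k : ℕ, (kernel.ι α).app k ≫ c.ι.app k = 0 := by
    intro k
    rw [← c.w (homOfLE (Nat.le_succ k)), ← Category.assoc, h k _ _ (congr_app (kernel.condition α) k),
      zero_comp]
  have hex := colim.exact_mapShortComplex (S := S) hS (colimit.isColimit (kernel α)) hc
    (isColimitConstCocone ℕ Y) (0 : colimit (kernel α) ⟶ c.pt)
    g (fun j => by rw [comp_zero]; exact (hK j).symm) (fun j => (Category.comp_id _).symm)
  exact hex.mono_g rfl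

end Groth.Agent.Lib.Helper16.Res
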