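import Mathlib
import Groth.Agent.Lib.Helper16.Res1

/-!
# Helper16 — Res3: homological properties of the cell attachment
-/

set_option autoImplicit false
open CategoryTheory CategoryTheory.Limits CochainComplex HomComplex

namespace Groth.Agent.Lib.Helper16.Res

variable {A : Type*} [Category A] [Abelian A]
  {W : A → Prop} (hW : ∀ M : A, ∃ (F : A) (p : F ⟶ M), W F ∧ Epi p)
  {P G : CochainComplex A ℤ} (f : P ⟶ G)

lemma cellZ_eq (n : ℤ) :
    cellZ hW f n = zeroDCycle (cell hW f) n ≫ HomologicalComplex.cyclesMap (attach hW f) n := by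
  rw [← cancel_mono (P.iCycles n), Category.assoc, HomologicalComplex.cyclesMap_i,
    zeroDCycle_i_assoc, attach_f]

lemma homologyMap_attach_nextι (n : ℤ) :
    HomologicalComplex.homologyMap (attach hW f) n ≫
      HomologicalComplex.homologyMap (nextι hW f) n = 0 := by
  rw [← HomologicalComplex.homologyMap_comp]
  have h : Homotopy (attach hW f ≫ nextι hW f) 0 :=
    HomologicalComplex.homotopyCofiber.inrCompHomotopy (attach hW f) (fun j => ⟨j - 1, by simp⟩)
  rw [h.homologyMap_eq n, HomologicalComplex.homologyMap_zero]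

lemma cellZ_homologyπ_nextι (n : ℤ) :
    cellZ hW f n ≫ P.homologyπ n ≫ HomologicalComplex.homologyMap (nextι hW f) n = 0 := by
  rw [cellZ_eq, Category.assoc, ← HomologicalComplex.homologyπ_naturality_assoc,
    homologyMap_attach_nextι, comp_zero, comp_zero]

/-- **the kernel of `H(P) ⟶ H(G)` dies in `H(P')`.** -/
theorem comp_homologyMap_nextι_eq_zero (n : ℤ) {T : A} (x : T ⟶ P.homology n)
    (hx : x ≫ HomologicalComplex.homologyMap f n = 0) :
    x ≫ HomologicalComplex.homologyMap (nextι hW f) n = 0 := by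
  obtain ⟨T₁, π₁, hπ₁, z, hz⟩ := surjective_up_to_refinements_of_epi (P.homologyπ n) x
  have h1 : (z ≫ HomologicalComplex.cyclesMap f n) ≫ G.homologyπ n = 0 := by
    rw [Category.assoc, ← HomologicalComplex.homologyπ_naturality, ← Category.assoc, ← hz,
      Category.assoc, hx, comp_zero]
  have hex : (ShortComplex.mk (G.toCycles (n - 1) n) (G.homologyπ n)
      (G.toCycles_comp_homologyπ (n - 1) n)).Exact :=
    ShortComplex.exact_of_g_is_cokernel _ (G.homologyIsCokernel (n - 1) n (by simp))
  obtain ⟨T₂, π₂, hπ₂, g, hg⟩ := hex.exact_up_to_refinements _ h1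
  let e : T₂ ⟶ E f n := Elift f n (π₂ ≫ z) g (by rw [Category.assoc]; exact hg)
  obtain ⟨T₃, π₃, hπ₃, e', he'⟩ := surjective_up_to_refinements_of_epi (covπ hW (E f n)) e
  rw [← cancel_epi π₁, ← cancel_epi π₂, ← cancel_epi π₃, comp_zero, comp_zero, comp_zero]
  let e'' : T₃ ⟶ (cellCx hW f).X n := e'
  have h3 : e'' ≫ cellZ hW f n = π₃ ≫ π₂ ≫ z := by
    change e' ≫ covπ hW (E f n) ≫ Efst f n = _
    rw [← Category.assoc, ← he', Category.assoc, Elift_fst]
  have h2 : π₃ ≫ π₂ ≫ π₁ ≫ x = e'' ≫ cellZ hW f n ≫ P.homologyπ n := by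
    rw [hz, ← Category.assoc e'', h3]
    simp only [Category.assoc]
  calc π₃ ≫ π₂ ≫ π₁ ≫ x ≫ HomologicalComplex.homologyMap (nextι hW f) n
      = (π₃ ≫ π₂ ≫ π₁ ≫ x) ≫ HomologicalComplex.homologyMap (nextι hW f) n := by
        simp only [Category.assoc]
    _ = (e'' ≫ cellZ hW f n ≫ P.homologyπ n) ≫
          HomologicalComplex.homologyMap (nextι hW f) n := by rw [h2]
    _ = e'' ≫ (cellZ hW f n ≫ P.homologyπ n ≫
          HomologicalComplex.homologyMap (nextι hW f) n) := by simp only [Category.assoc]
    _ = 0 := by rw [cellZ_homologyπ_nextι, comp_zero]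


lemma epi_homologyMap_of_epi_cyclesMap (n : ℤ) [Epi (HomologicalComplex.cyclesMap f n)] :
    Epi (HomologicalComplex.homologyMap f n) := by
  haveI : Epi (P.homologyπ n ≫ HomologicalComplex.homologyMap f n) := by
    rw [HomologicalComplex.homologyπ_naturality]
    infer_instance
  exact epi_of_epi (P.homologyπ n) _

lemma epi_cyclesMap_nextf (n : ℤ) [Epi (HomologicalComplex.cyclesMap f n)] :
    Epi (HomologicalComplex.cyclesMap (nextf hW f) n) := by
  haveI : Epi (HomologicalComplex.cyclesMap (nextι hW f) n ≫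
      HomologicalComplex.cyclesMap (nextf hW f) n) := by
    rw [← HomologicalComplex.cyclesMap_comp, nextι_nextf]
    infer_instance
  exact epi_of_epi (HomologicalComplex.cyclesMap (nextι hW f) n) _

lemma epi_cellG (n : ℤ) [Epi (HomologicalComplex.cyclesMap f n)] : Epi (cellG hW f n) := by
  haveI := epi_Esnd f n
  exact epi_comp (covπ hW (E f n)) (Esnd f n)

lemma epi_nextf_f (n : ℤ) [Epi (HomologicalComplex.cyclesMap f (n + 1))] :
    Epi ((nextf hW f).f n) := by
  have h : (mappingCone.inl (attach hW f)).v (n + 1) n (by omega) ≫ (nextf hW f).f n =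
      cellG hW f (n + 1) ≫ (G.XIsoOfEq (show n + 1 - 1 = n by omega)).hom := by
    exact mappingCone.inl_v_desc_f _ _ _ _ _ _ _
  haveI := epi_cellG hW f (n + 1)
  have h' : Epi ((mappingCone.inl (attach hW f)).v (n + 1) n (by omega) ≫ (nextf hW f).f n) := by
    rw [h]
    infer_instance
  exact @epi_of_epi _ _ _ _ _ _ _ h'

section Base

variable (G)

/-- the base stage: a complex with zero differentials and terms in `W` surjecting onto the cycles
of `G`. -/
noncomputable abbrev base : CochainComplex A ℤ := zeroD (fun n => cov hW (G.cycles n))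

/-- the covering of the cycles. -/
noncomputable def baseπ (n : ℤ) : (base hW G).X n ⟶ G.cycles n := covπ hW (G.cycles n)

instance epi_baseπ (n : ℤ) : Epi (baseπ hW G n) := epi_covπ hW (G.cycles n)

/-- the map from the base stage. -/
noncomputable def basef : base hW G ⟶ G :=
  zeroDDesc _ G (fun n => baseπ hW G n ≫ G.iCycles n) (fun n => by
    rw [Category.assoc, HomologicalComplex.iCycles_d, comp_zero])

lemma basef_f (n : ℤ) : (basef hW G).f n = baseπ hW G n ≫ G.iCycles n := rfl

instance epi_cyclesMap_basef (n : ℤ) : Epi (HomologicalComplex.cyclesMap (basef hW G) n) := by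
  have h : zeroDCycle (fun n => cov hW (G.cycles n)) n ≫
      HomologicalComplex.cyclesMap (basef hW G) n = baseπ hW G n := by
    rw [← cancel_mono (G.iCycles n), Category.assoc, HomologicalComplex.cyclesMap_i,
      zeroDCycle_i_assoc, basef_f]
  haveI : Epi (zeroDCycle (fun n => cov hW (G.cycles n)) n ≫
      HomologicalComplex.cyclesMap (basef hW G) n) := by
    rw [h]
    infer_instance
  exact epi_of_epi (zeroDCycle (fun n => cov hW (G.cycles n)) n) _

end Base

end Groth.Agent.Lib.Helper16.Res
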