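import Mathlib
import Groth.Agent.Lib.Helper16.Res2
import Groth.Agent.Lib.Helper16.Res3
import Groth.Agent.Lib.Helper8.HColim2

/-!
# Helper16 — Res4: existence of resolutions by cell attachment (general abelian category)

Let `A` be an abelian category with exact sequential colimits, `W` a class of objects such that
every object is a quotient of an object of `W`, and `Q` a property of complexes which holds for
complexes with zero differentials and terms in `W`, is stable under mapping cones and under
sequential colimits.  Then every complex `G` admits a quasi-isomorphism `K ⟶ G` which is an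
epimorphism in each degree, with `Q K`.
-/

set_option autoImplicit false
open CategoryTheory CategoryTheory.Limits CochainComplex HomComplex

namespace Groth.Agent.Lib.Helper16.Res

variable {A : Type*} [Category A] [Abelian A]
  {W : A → Prop} (hW : ∀ M : A, ∃ (F : A) (p : F ⟶ M), W F ∧ Epi p)
  (G : CochainComplex A ℤ)

/-- a stage of the construction. -/
structure Stage where
  /-- the complex -/
  P : CochainComplex A ℤ
  /-- the map -/
  f : P ⟶ G

/-- the stages. -/
noncomputable def stage : ℕ → Stage G
  | 0 => ⟨base hW G, basef hW G⟩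
  | k + 1 => ⟨next hW (stage k).f, nextf hW (stage k).f⟩

/-- the transition maps. -/
noncomputable def stageι (k : ℕ) : (stage hW G k).P ⟶ (stage hW G (k + 1)).P :=
  nextι hW (stage hW G k).f

lemma stageι_f (k : ℕ) : stageι hW G k ≫ (stage hW G (k + 1)).f = (stage hW G k).f :=
  nextι_nextf hW (stage hW G k).f

/-- the sequence of stages. -/
noncomputable def seqF : ℕ ⥤ CochainComplex A ℤ := Functor.ofSequence (stageι hW G)

/-- the cocone over `G`. -/
noncomputable def seqCocone : Cocone (seqF hW G) where
  pt := G
  ι := NatTrans.ofSequence (F := seqF hW G) (G := (Functor.const ℕ).obj G)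
    (fun k => (stage hW G k).f) (fun k => by
      simp only [seqF, Functor.ofSequence_map_homOfLE_succ, Functor.const_obj_obj,
        Functor.const_obj_map]
      exact (stageι_f hW G k).trans (Category.comp_id _).symm)

instance epi_cyclesMap_stage (k : ℕ) (n : ℤ) :
    Epi (HomologicalComplex.cyclesMap (stage hW G k).f n) := by
  induction k with
  | zero => exact epi_cyclesMap_basef hW G n
  | succ k ih => exact epi_cyclesMap_nextf hW (stage hW G k).f n

lemma comp_homologyMap_stageι_eq_zero (k : ℕ) (n : ℤ) {T : A}
    (x : T ⟶ (stage hW G k).P.homology n)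
    (hx : x ≫ HomologicalComplex.homologyMap (stage hW G k).f n = 0) :
    x ≫ HomologicalComplex.homologyMap (stageι hW G k) n = 0 :=
  comp_homologyMap_nextι_eq_zero hW (stage hW G k).f n x hx

section Main

variable [HasColimitsOfShape ℕ A] [HasExactColimitsOfShape ℕ A]

/-- the resolution. -/
noncomputable abbrev res : CochainComplex A ℤ := colimit (seqF hW G)

/-- the inclusions of the stages. -/
noncomputable def resι (k : ℕ) : (stage hW G k).P ⟶ res hW G := colimit.ι (seqF hW G) k

/-- the map to `G`. -/
noncomputable def resπ : res hW G ⟶ G := colimit.desc (seqF hW G) (seqCocone hW G)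

lemma ι_resπ (k : ℕ) : resι hW G k ≫ resπ hW G = (stage hW G k).f :=
  colimit.ι_desc _ _

lemma epi_resπ_f (n : ℤ) : Epi ((resπ hW G).f n) := by
  have h : (resι hW G 1).f n ≫ (resπ hW G).f n = (stage hW G 1).f.f n := by
    rw [← HomologicalComplex.comp_f, ι_resπ]
  have h1 : Epi ((stage hW G 1).f.f n) := epi_nextf_f hW (stage hW G 0).f n
  rw [← h] at h1
  exact @epi_of_epi _ _ _ _ _ _ _ h1

lemma quasiIso_resπ : QuasiIso (resπ hW G) := by
  refine ⟨fun n => ?_⟩
  rw [quasiIsoAt_iff_isIso_homologyMap]
  have hepi : Epi (HomologicalComplex.homologyMap (resπ hW G) n) := by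
    have h : HomologicalComplex.homologyMap (resι hW G 0) n ≫
        HomologicalComplex.homologyMap (resπ hW G) n =
        HomologicalComplex.homologyMap (stage hW G 0).f n := by
      rw [← HomologicalComplex.homologyMap_comp, ι_resπ]
    have h1 : Epi (HomologicalComplex.homologyMap (stage hW G 0).f n) :=
      epi_homologyMap_of_epi_cyclesMap _ n
    rw [← h] at h1
    exact @epi_of_epi _ _ _ _ _ _ _ h1
  have hmono : Mono (HomologicalComplex.homologyMap (resπ hW G) n) := by
    let H := HomologicalComplex.homologyFunctor A (ComplexShape.up ℤ) n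
    refine mono_of_isColimit_of_kernel_dies (F := seqF hW G ⋙ H)
      (c := H.mapCocone (colimit.cocone (seqF hW G)))
      (isColimitOfPreserves H (colimit.isColimit (seqF hW G)))
      (HomologicalComplex.homologyMap (resπ hW G) n) (fun k T x hx => ?_)
    have h1 : x ≫ HomologicalComplex.homologyMap (stage hW G k).f n = 0 := by
      rw [← ι_resπ, HomologicalComplex.homologyMap_comp]
      exact hx
    have h2 := comp_homologyMap_stageι_eq_zero hW G k n x h1
    have h3 : (seqF hW G).map (homOfLE (Nat.le_succ k)) = stageι hW G k :=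
      Functor.ofSequence_map_homOfLE_succ _ k
    change x ≫ HomologicalComplex.homologyMap ((seqF hW G).map (homOfLE (Nat.le_succ k))) n = 0
    rw [h3]
    exact h2
  exact isIso_of_mono_of_epi _

include hW in
/-- **Existence of resolutions.** -/
theorem exists_resolution (Q : CochainComplex A ℤ → Prop)
    (q0 : ∀ X : ℤ → A, (∀ n, W (X n)) → Q (zeroD X))
    (q1 : ∀ {K L : CochainComplex A ℤ} (φ : K ⟶ L), Q K → Q L → Q (mappingCone φ))
    (q2 : ∀ (F : ℕ ⥤ CochainComplex A ℤ) (c : Cocone F), IsColimit c → (∀ n, Q (F.obj n)) →
      Q c.pt) :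
    ∃ (K : CochainComplex A ℤ) (q : K ⟶ G), Q K ∧ QuasiIso q ∧ ∀ n : ℤ, Epi (q.f n) := by
  refine ⟨res hW G, resπ hW G, ?_, quasiIso_resπ hW G, epi_resπ_f hW G⟩
  refine q2 _ _ (colimit.isColimit (seqF hW G)) (fun k => ?_)
  change Q (stage hW G k).P
  induction k with
  | zero => exact q0 _ (fun n => cov_W hW _)
  | succ k ih => exact q1 _ (q0 _ (fun n => cov_W hW _)) ih

end Main

end Groth.Agent.Lib.Helper16.Res
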