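import Mathlib
import Groth.Agent.Lib.Helper16.Res4

/-!
# Helper16 — FRes1: functorial resolutions (general abelian category)

We apply `Res.exists_resolution` in the functor category `CochainComplex A ℤ ⥤ A` to the
tautological complex, and obtain resolutions which are functorial in the complex.
-/

set_option autoImplicit false
open CategoryTheory CategoryTheory.Limits CochainComplex HomComplex

namespace Groth.Agent.Lib.Helper16.Res

universe v u

variable {A : Type u} [Category.{v} A] [Abelian A]

section Taut

variable (A)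

/-- the tautological complex in the functor category. -/
@[simps]
noncomputable def taut : CochainComplex (CochainComplex A ℤ ⥤ A) ℤ where
  X n := HomologicalComplex.eval A (ComplexShape.up ℤ) n
  d n m :=
    { app := fun G => G.d n m
      naturality := fun G G' g => (g.comm n m) }
  shape n m h := by
    ext G
    exact G.shape n m h
  d_comp_d' n m k _ _ := by
    ext G
    exact G.d_comp_d n m k

end Taut

/-- evaluation at `G` of a complex in the functor category. -/
noncomputable abbrev evCx (G : CochainComplex A ℤ) :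
    CochainComplex (CochainComplex A ℤ ⥤ A) ℤ ⥤ CochainComplex A ℤ :=
  (((evaluation (CochainComplex A ℤ) A).obj G)).mapHomologicalComplex (ComplexShape.up ℤ)

/-- the functor associated to a complex in the functor category. -/
@[simps]
noncomputable def toFunctor (𝕂 : CochainComplex (CochainComplex A ℤ ⥤ A) ℤ) :
    CochainComplex A ℤ ⥤ CochainComplex A ℤ where
  obj G := (evCx G).obj 𝕂
  map {G G'} g :=
    { f := fun n => (𝕂.X n).map g
      comm' := fun n m _ => ((𝕂.d n m).naturality g) }
  map_id G := by
    ext n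
    exact (𝕂.X n).map_id G
  map_comp g g' := by
    ext n
    exact (𝕂.X n).map_comp g g'

/-- the natural transformation associated to a morphism to the tautological complex. -/
noncomputable def toNatTrans {𝕂 : CochainComplex (CochainComplex A ℤ ⥤ A) ℤ} (q : 𝕂 ⟶ taut A) :
    toFunctor 𝕂 ⟶ 𝟭 (CochainComplex A ℤ) where
  app G :=
    { f := fun n => (q.f n).app G
      comm' := fun n m _ => (congrArg (fun t => t.app G) (q.comm n m)) }
  naturality G G' g := by
    ext n
    exact (q.f n).naturality g

/-- the evaluation of the tautological complex at `G` is `G`. -/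
noncomputable def tautHom (G : CochainComplex A ℤ) : (evCx G).obj (taut A) ⟶ G where
  f n := 𝟙 (G.X n)
  comm' _ _ _ := (Category.id_comp _).trans (Category.comp_id _).symm

/-- the evaluation of the tautological complex at `G` is `G`. -/
noncomputable def tautInv (G : CochainComplex A ℤ) : G ⟶ (evCx G).obj (taut A) where
  f n := 𝟙 (G.X n)
  comm' _ _ _ := (Category.id_comp _).trans (Category.comp_id _).symm

/-- the evaluation of the tautological complex at `G` is `G`. -/
noncomputable def tautIso (G : CochainComplex A ℤ) : (evCx G).obj (taut A) ≅ G where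
  hom := tautHom G
  inv := tautInv G
  hom_inv_id := by
    ext n
    exact Category.comp_id _
  inv_hom_id := by
    ext n
    exact Category.comp_id _

lemma toNatTrans_app {𝕂 : CochainComplex (CochainComplex A ℤ ⥤ A) ℤ} (q : 𝕂 ⟶ taut A)
    (G : CochainComplex A ℤ) :
    (toNatTrans q).app G = (evCx G).map q ≫ (tautIso G).hom := by
  ext n
  exact (Category.comp_id ((q.f n).app G)).symm

section Main

variable [HasColimitsOfShape ℕ A] [HasExactColimitsOfShape ℕ A]
  {W : A → Prop} (cv : A ⥤ A) (π : cv ⟶ 𝟭 A) (hπ : ∀ M, Epi (π.app M))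
  (hcv : ∀ M, W (cv.obj M))

include hπ hcv in
/-- **Existence of functorial resolutions.** -/
theorem exists_functorial_resolution (Q : CochainComplex A ℤ → Prop)
    (qiso : ∀ {K L : CochainComplex A ℤ}, (K ≅ L) → Q K → Q L)
    (q0 : ∀ X : ℤ → A, (∀ n, W (X n)) → Q (zeroD X))
    (q1 : ∀ {K L : CochainComplex A ℤ} (φ : K ⟶ L), Q K → Q L → Q (mappingCone φ))
    (q2 : ∀ (F : ℕ ⥤ CochainComplex A ℤ) (c : Cocone F), IsColimit c → (∀ n, Q (F.obj n)) →
      Q c.pt) :
    ∃ (P : CochainComplex A ℤ ⥤ CochainComplex A ℤ) (ψ : P ⟶ 𝟭 (CochainComplex A ℤ)),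
      ∀ G : CochainComplex A ℤ, Q (P.obj G) ∧ QuasiIso (ψ.app G) ∧
        ∀ n : ℤ, Epi ((ψ.app G).f n) := by
  let W' : (CochainComplex A ℤ ⥤ A) → Prop := fun F => ∀ G, W (F.obj G)
  have hW' : ∀ M : CochainComplex A ℤ ⥤ A, ∃ (F : CochainComplex A ℤ ⥤ A) (p : F ⟶ M),
      W' F ∧ Epi p := fun M => by
    refine ⟨M ⋙ cv, Functor.whiskerLeft M π ≫ (Functor.rightUnitor M).hom, fun G => hcv _, ?_⟩
    haveI : ∀ G, Epi ((Functor.whiskerLeft M π ≫ (Functor.rightUnitor M).hom).app G) := by
      intro G
      dsimp
      simp only [Category.comp_id]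
      exact hπ _
    exact NatTrans.epi_of_epi_app _
  let Q' : CochainComplex (CochainComplex A ℤ ⥤ A) ℤ → Prop := fun 𝕂 => ∀ G, Q ((evCx G).obj 𝕂)
  have key : ∃ (𝕂 : CochainComplex (CochainComplex A ℤ ⥤ A) ℤ) (q : 𝕂 ⟶ taut A),
      Q' 𝕂 ∧ QuasiIso q ∧ ∀ n : ℤ, Epi (q.f n) := by
    refine exists_resolution hW' (taut A) Q' ?_ ?_ ?_
    · intro Y hY G
      refine qiso (K := zeroD (fun n => (Y n).obj G)) ?_ (q0 _ (fun n => hY n G))
      exact HomologicalComplex.Hom.isoOfComponents (fun n => Iso.refl _) (fun i j _ => by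
        dsimp
        simp only [zeroD_d]
        exact comp_zero.trans zero_comp.symm)
    · intro K L φ hK hL G
      exact qiso (mappingCone.mapHomologicalComplexIso φ _).symm (q1 _ (hK G) (hL G))
    · intro F c hc h G
      exact q2 (F ⋙ evCx G) ((evCx G).mapCocone c) (isColimitOfPreserves (evCx G) hc)
        (fun n => h n G)
  obtain ⟨𝕂, q, hK, hq, he⟩ := key
  refine ⟨toFunctor 𝕂, toNatTrans q, fun G => ⟨hK G, ?_, fun n => ?_⟩⟩
  · rw [toNatTrans_app]
    haveI : QuasiIso ((evCx G).map q) := by
      dsimp only [evCx]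
      infer_instance
    haveI h2 : QuasiIso (tautIso G).hom := inferInstance
    exact (quasiIso_iff_comp_right ((evCx G).map q) (tautIso G).hom).2 this
  · haveI := he n
    change Epi ((q.f n).app G)
    infer_instance

end Main

end Groth.Agent.Lib.Helper16.Res
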