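import Mathlib
import Groth.Prelude.Def_KFlatSite
import Groth.Agent.Lib.Helper16.KF1

/-!
# Helper16 — KF2: short exact sequences of complexes preserved by `- ⊗ K`, `L ⊗ -`
-/

set_option autoImplicit false
universe u
open CategoryTheory CategoryTheory.Limits MonoidalCategory

namespace Groth.Agent.Lib.Helper16.KF

variable {R : Type u} [CommRing R]

section Modules

variable (T : ShortComplex (ModuleCat.{u} R))

lemma shortExact_tensorRight_of_splitting (s : T.Splitting) (M : ModuleCat.{u} R) :
    (T.map (tensorRight M)).ShortExact := (s.map (tensorRight M)).shortExact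

lemma shortExact_tensorLeft_of_splitting (s : T.Splitting) (M : ModuleCat.{u} R) :
    (T.map (tensorLeft M)).ShortExact := (s.map (tensorLeft M)).shortExact

lemma shortExact_tensorRight_of_flat (hT : T.ShortExact) (M : ModuleCat.{u} R) [Module.Flat R M] :
    (T.map (tensorRight M)).ShortExact := by
  haveI : PreservesFiniteLimits (tensorRight M) :=
    (Module.Flat.iff_preservesFiniteLimits_tensorRight M).1 inferInstance
  exact hT.map_of_exact (tensorRight M)

lemma shortExact_tensorLeft_of_flat (hT : T.ShortExact) (M : ModuleCat.{u} R) [Module.Flat R M] :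
    (T.map (tensorLeft M)).ShortExact := by
  haveI : PreservesFiniteLimits (tensorLeft M) :=
    (Module.Flat.iff_preservesFiniteLimits_tensorLeft M).1 inferInstance
  exact hT.map_of_exact (tensorLeft M)

lemma shortExact_tensorLeft_of_flat₃ (hT : T.ShortExact) [Module.Flat R T.X₃]
    (N : ModuleCat.{u} R) : (T.map (tensorLeft N)).ShortExact := by
  haveI := hT.mono_f
  haveI := hT.epi_g
  have hm : Mono (N ◁ T.f) := by
    rw [ModuleCat.mono_iff_injective]
    exact LinearMap.lTensor_injective_of_exact_of_flat T.g.hom
      ((ModuleCat.epi_iff_surjective _).1 inferInstance) T.f.hom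
      ((ModuleCat.mono_iff_injective _).1 inferInstance)
      ((ShortComplex.ShortExact.moduleCat_exact_iff_function_exact T).1 hT.exact) N
  have hsurj : Function.Surjective T.g.hom := (ModuleCat.epi_iff_surjective _).1 inferInstance
  have he : Epi (N ◁ T.g) := by
    rw [ModuleCat.epi_iff_surjective]
    exact LinearMap.lTensor_surjective N hsurj
  have hx : (T.map (tensorLeft N)).Exact := by
    rw [ShortComplex.ShortExact.moduleCat_exact_iff_function_exact]
    exact lTensor_exact N
      ((ShortComplex.ShortExact.moduleCat_exact_iff_function_exact T).1 hT.exact) hsurj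
  exact { exact := hx
          mono_f := hm
          epi_g := he }

lemma shortExact_tensorRight_of_flat₃ (hT : T.ShortExact) [Module.Flat R T.X₃]
    (N : ModuleCat.{u} R) : (T.map (tensorRight N)).ShortExact := by
  have h := shortExact_tensorLeft_of_flat₃ T hT N
  refine ShortComplex.shortExact_of_iso (ShortComplex.isoMk (β_ _ _) (β_ _ _) (β_ _ _) ?_ ?_) h
  · exact (BraidedCategory.braiding_naturality_right N T.f).symm
  · exact (BraidedCategory.braiding_naturality_right N T.g).symm

end Modules

section Complexes

variable (S : ShortComplex (Cx R))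

/-- a short complex of complexes is degreewise split. -/
def DegreewiseSplit : Prop :=
  ∀ p : ℤ, Nonempty ((S.map (HomologicalComplex.eval _ _ p)).Splitting)

variable {S}

lemma DegreewiseSplit.shortExact (hS : DegreewiseSplit S) : S.ShortExact :=
  HomologicalComplex.shortExact_of_degreewise_shortExact S (fun p => (hS p).some.shortExact)

lemma shortExact_whiskerRight_of_split (hS : DegreewiseSplit S) (K : Cx R) :
    (S.map (tensorRight K)).ShortExact :=
  shortExact_whiskerRight S K (fun p q => shortExact_tensorRight_of_splitting _ (hS p).some _)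

lemma shortExact_whiskerLeft_of_split (L : Cx R) (hS : DegreewiseSplit S) :
    (S.map (tensorLeft L)).ShortExact :=
  shortExact_whiskerLeft L S (fun p q => shortExact_tensorLeft_of_splitting _ (hS q).some _)

lemma shortExact_whiskerRight_of_flat (hS : S.ShortExact) (K : Cx R) (hK : DRing.TermwiseFlat K) :
    (S.map (tensorRight K)).ShortExact := by
  rw [HomologicalComplex.shortExact_iff_degreewise_shortExact] at hS
  exact shortExact_whiskerRight S K (fun p q => by
    haveI := hK q
    exact shortExact_tensorRight_of_flat _ (hS p) _)

lemma shortExact_whiskerLeft_of_flat (L : Cx R) (hL : DRing.TermwiseFlat L) (hS : S.ShortExact) :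
    (S.map (tensorLeft L)).ShortExact := by
  rw [HomologicalComplex.shortExact_iff_degreewise_shortExact] at hS
  exact shortExact_whiskerLeft L S (fun p q => by
    haveI := hL p
    exact shortExact_tensorLeft_of_flat _ (hS q) _)

lemma shortExact_whiskerLeft_of_flat₃ (L : Cx R) (hS : S.ShortExact)
    (h3 : DRing.TermwiseFlat S.X₃) : (S.map (tensorLeft L)).ShortExact := by
  rw [HomologicalComplex.shortExact_iff_degreewise_shortExact] at hS
  exact shortExact_whiskerLeft L S (fun p q => by
    haveI : Module.Flat R (S.map (HomologicalComplex.eval _ _ q)).X₃ := h3 q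
    exact shortExact_tensorLeft_of_flat₃ _ (hS q) _)

lemma shortExact_whiskerRight_of_flat₃ (hS : S.ShortExact)
    (h3 : DRing.TermwiseFlat S.X₃) (K : Cx R) : (S.map (tensorRight K)).ShortExact := by
  rw [HomologicalComplex.shortExact_iff_degreewise_shortExact] at hS
  exact shortExact_whiskerRight S K (fun p q => by
    haveI : Module.Flat R (S.map (HomologicalComplex.eval _ _ p)).X₃ := h3 p
    exact shortExact_tensorRight_of_flat₃ _ (hS p) _)

end Complexes

end Groth.Agent.Lib.Helper16.KF
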