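import Mathlib
import Groth.Prelude.Def_KFlatSite
import Groth.Agent.Lib.Helper16.KF2

/-!
# Helper16 — KF3: homotopy invariance of the tensor product of complexes; acyclicity lemmas
-/

set_option autoImplicit false
universe u
open CategoryTheory CategoryTheory.Limits MonoidalCategory

namespace Groth.Agent.Lib.Helper16.KF

variable {R : Type u} [CommRing R]

/-- acyclic complexes (every homology module vanishes). -/
def Acyc (L : Cx R) : Prop := ∀ i : ℤ, IsZero (L.homology i)

lemma acyc_iff_acyclic (L : Cx R) : Acyc L ↔ L.Acyclic := by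
  simp only [Acyc, HomologicalComplex.Acyclic, HomologicalComplex.exactAt_iff_isZero_homology]

lemma Acyc.of_iso {L L' : Cx R} (h : Acyc L) (e : L ≅ L') : Acyc L' := fun i =>
  IsZero.of_iso (h i) ((HomologicalComplex.homologyFunctor _ _ i).mapIso e.symm)

lemma Acyc.of_quasiIso {L L' : Cx R} (f : L ⟶ L') [QuasiIso f] (h : Acyc L) : Acyc L' := fun i =>
  IsZero.of_iso (h i) (asIso (HomologicalComplex.homologyMap f i)).symm

lemma Acyc.of_quasiIso' {L L' : Cx R} (f : L ⟶ L') [QuasiIso f] (h : Acyc L') : Acyc L := fun i =>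
  IsZero.of_iso (h i) (asIso (HomologicalComplex.homologyMap f i))

lemma Acyc.of_homotopyEquiv {L L' : Cx R} (h : Acyc L) (e : HomotopyEquiv L L') : Acyc L' :=
  h.of_quasiIso e.hom

lemma acyc_of_isZero {L : Cx R} (h : IsZero L) : Acyc L := fun i =>
  (HomologicalComplex.homologyFunctor _ _ i).map_isZero h

/-- a complex whose identity is null-homotopic is acyclic. -/
lemma acyc_of_homotopy_id_zero {L : Cx R} (h : Homotopy (𝟙 L) 0) : Acyc L := fun i => by
  rw [IsZero.iff_id_eq_zero, ← HomologicalComplex.homologyMap_id, h.homologyMap_eq i,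
    HomologicalComplex.homologyMap_zero]

/-- homotopies are preserved by `- ⊗ K`. -/
noncomputable def whiskerRightHomotopy {L₁ L₂ : Cx R} {f g : L₁ ⟶ L₂} (h : Homotopy f g)
    (K : Cx R) : Homotopy (f ▷ K) (g ▷ K) :=
  HomologicalComplex.mapBifunctorMapHomotopy₁ h (𝟙 K) _ _

/-- homotopies are preserved by `L ⊗ -`. -/
noncomputable def whiskerLeftHomotopy (L : Cx R) {K₁ K₂ : Cx R} {f g : K₁ ⟶ K₂}
    (h : Homotopy f g) : Homotopy (L ◁ f) (L ◁ g) :=
  HomologicalComplex.mapBifunctorMapHomotopy₂ (𝟙 L) h _ _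

/-- `- ⊗ K` preserves homotopy equivalences. -/
noncomputable def whiskerRightHomotopyEquiv {L₁ L₂ : Cx R} (e : HomotopyEquiv L₁ L₂) (K : Cx R) :
    HomotopyEquiv (L₁ ⊗ K) (L₂ ⊗ K) where
  hom := e.hom ▷ K
  inv := e.inv ▷ K
  homotopyHomInvId := (Homotopy.ofEq (comp_whiskerRight _ _ _).symm).trans
    ((whiskerRightHomotopy e.homotopyHomInvId K).trans (Homotopy.ofEq (id_whiskerRight _ _)))
  homotopyInvHomId := (Homotopy.ofEq (comp_whiskerRight _ _ _).symm).trans
    ((whiskerRightHomotopy e.homotopyInvHomId K).trans (Homotopy.ofEq (id_whiskerRight _ _)))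

/-- `L ⊗ -` preserves homotopy equivalences. -/
noncomputable def whiskerLeftHomotopyEquiv (L : Cx R) {K₁ K₂ : Cx R} (e : HomotopyEquiv K₁ K₂) :
    HomotopyEquiv (L ⊗ K₁) (L ⊗ K₂) where
  hom := L ◁ e.hom
  inv := L ◁ e.inv
  homotopyHomInvId := (Homotopy.ofEq (MonoidalCategory.whiskerLeft_comp _ _ _).symm).trans
    ((whiskerLeftHomotopy L e.homotopyHomInvId).trans
      (Homotopy.ofEq (MonoidalCategory.whiskerLeft_id _ _)))
  homotopyInvHomId := (Homotopy.ofEq (MonoidalCategory.whiskerLeft_comp _ _ _).symm).trans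
    ((whiskerLeftHomotopy L e.homotopyInvHomId).trans
      (Homotopy.ofEq (MonoidalCategory.whiskerLeft_id _ _)))

/-- if `K` is contractible then so is `L ⊗ K`. -/
lemma acyc_tensor_of_contractible_right (L : Cx R) {K : Cx R} (h : Homotopy (𝟙 K) 0) :
    Acyc (L ⊗ K) :=
  acyc_of_homotopy_id_zero ((Homotopy.ofEq (MonoidalCategory.whiskerLeft_id _ _).symm).trans
    ((whiskerLeftHomotopy L h).trans (Homotopy.ofEq ((tensorLeft L).map_zero _ _))))

lemma acyc_tensor_of_contractible_left {L : Cx R} (h : Homotopy (𝟙 L) 0) (K : Cx R) :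
    Acyc (L ⊗ K) :=
  acyc_of_homotopy_id_zero ((Homotopy.ofEq (id_whiskerRight _ _).symm).trans
    ((whiskerRightHomotopy h K).trans (Homotopy.ofEq ((tensorRight K).map_zero _ _))))

/-- K-flatness is invariant under homotopy equivalence. -/
lemma isKFlat_of_homotopyEquiv {K K' : Cx R} (e : HomotopyEquiv K K') (hK : DRing.IsKFlat R K) :
    DRing.IsKFlat R K' := fun L hL =>
  Acyc.of_homotopyEquiv (hK L hL) (whiskerLeftHomotopyEquiv L e)

lemma isKFlat_of_iso {K K' : Cx R} (e : K ≅ K') (hK : DRing.IsKFlat R K) :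
    DRing.IsKFlat R K' := fun L hL =>
  Acyc.of_iso (hK L hL) ((tensorLeft L).mapIso e)

/-- contractible complexes are K-flat. -/
lemma isKFlat_of_contractible {K : Cx R} (h : Homotopy (𝟙 K) 0) : DRing.IsKFlat R K :=
  fun L _ => acyc_tensor_of_contractible_right L h

end Groth.Agent.Lib.Helper16.KF
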