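import Mathlib
import Groth.Prelude.Def_KFlatSite
import Groth.Agent.Lib.Helper16.KF3

/-!
# Helper16 — KF4: tensoring with a K-flat complex preserves quasi-isomorphisms
-/

set_option autoImplicit false
universe u
open CategoryTheory CategoryTheory.Limits MonoidalCategory

namespace Groth.Agent.Lib.Helper16.KF

variable {R : Type u} [CommRing R]

/-- in a short exact sequence of complexes with acyclic cokernel, the first map is a
quasi-isomorphism. -/
lemma quasiIso_f_of_acyc_X₃ {S : ShortComplex (Cx R)} (hS : S.ShortExact) (h3 : Acyc S.X₃) :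
    QuasiIso S.f := by
  refine ⟨fun n => ?_⟩
  rw [quasiIsoAt_iff_isIso_homologyMap]
  have he : Epi (HomologicalComplex.homologyMap S.f n) :=
    (hS.homology_exact₂ n).epi_f ((h3 n).eq_of_tgt _ _)
  have hm : Mono (HomologicalComplex.homologyMap S.f n) :=
    (hS.homology_exact₁ (n - 1) n (by simp)).mono_g ((h3 (n - 1)).eq_of_src _ _)
  exact isIso_of_mono_of_epi _

/-- in a short exact sequence of complexes with acyclic kernel, the second map is a
quasi-isomorphism. -/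
lemma quasiIso_g_of_acyc_X₁ {S : ShortComplex (Cx R)} (hS : S.ShortExact) (h1 : Acyc S.X₁) :
    QuasiIso S.g := by
  refine ⟨fun n => ?_⟩
  rw [quasiIsoAt_iff_isIso_homologyMap]
  have hm : Mono (HomologicalComplex.homologyMap S.g n) :=
    (hS.homology_exact₂ n).mono_g ((h1 n).eq_of_src _ _)
  have he : Epi (HomologicalComplex.homologyMap S.g n) :=
    (hS.homology_exact₃ n (n + 1) (by simp)).epi_f ((h1 (n + 1)).eq_of_tgt _ _)
  exact isIso_of_mono_of_epi _

lemma acyc_X₃_of_quasiIso_f {S : ShortComplex (Cx R)} (hS : S.ShortExact) [QuasiIso S.f] :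
    Acyc S.X₃ := (acyc_iff_acyclic _).2 (hS.acyclic_X₃ inferInstance)

lemma acyc_X₁_of_quasiIso_g {S : ShortComplex (Cx R)} (hS : S.ShortExact) [QuasiIso S.g] :
    Acyc S.X₁ := (acyc_iff_acyclic _).2 (hS.acyclic_X₁ inferInstance)

lemma acyc_X₂ {S : ShortComplex (Cx R)} (hS : S.ShortExact) (h1 : Acyc S.X₁) (h3 : Acyc S.X₃) :
    Acyc S.X₂ :=
  (acyc_iff_acyclic _).2 (hS.acyclic_X₂ ((acyc_iff_acyclic _).1 h1) ((acyc_iff_acyclic _).1 h3))

lemma acyc_X₁ {S : ShortComplex (Cx R)} (hS : S.ShortExact) (h2 : Acyc S.X₂) (h3 : Acyc S.X₃) :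
    Acyc S.X₁ := by
  haveI : QuasiIso S.g := ⟨fun n => by
    rw [quasiIsoAt_iff_isIso_homologyMap]
    exact ⟨0, (h2 n).eq_of_src _ _, (h3 n).eq_of_src _ _⟩⟩
  exact acyc_X₁_of_quasiIso_g hS

lemma acyc_X₃ {S : ShortComplex (Cx R)} (hS : S.ShortExact) (h1 : Acyc S.X₁) (h2 : Acyc S.X₂) :
    Acyc S.X₃ := by
  haveI : QuasiIso S.f := ⟨fun n => by
    rw [quasiIsoAt_iff_isIso_homologyMap]
    exact ⟨0, (h1 n).eq_of_src _ _, (h2 n).eq_of_src _ _⟩⟩
  exact acyc_X₃_of_quasiIso_f hS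

/-- a map of complexes with degreewise retractions, with its cokernel, is a degreewise split
short exact sequence. -/
lemma degreewiseSplit_of_retractions {A B : Cx R} (i : A ⟶ B) (r : ∀ n, B.X n ⟶ A.X n)
    (hr : ∀ n, i.f n ≫ r n = 𝟙 _) :
    DegreewiseSplit (ShortComplex.mk i (cokernel.π i) (cokernel.condition i)) := by
  haveI : ∀ n, Mono (i.f n) := fun n => mono_of_mono_fac (hr n)
  haveI : Mono i := HomologicalComplex.mono_of_mono_f i inferInstance
  have hS : (ShortComplex.mk i (cokernel.π i) (cokernel.condition i)).ShortExact :=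
    { exact := ShortComplex.exact_cokernel i }
  rw [HomologicalComplex.shortExact_iff_degreewise_shortExact] at hS
  intro p
  haveI := (hS p).epi_g
  exact ⟨ShortComplex.Splitting.ofExactOfRetraction _ (hS p).exact (r p) (hr p) (hS p).epi_g⟩

section Cylinder

open CochainComplex

variable {L₁ L₂ : Cx R} (f : L₁ ⟶ L₂)

/-- the factorisation of `f` through `mappingCone (𝟙 L₁) ⊞ L₂`: first map. -/
noncomputable def cylI : L₁ ⟶ mappingCone (𝟙 L₁) ⊞ L₂ :=
  biprod.lift (mappingCone.inr (𝟙 L₁)) f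

/-- the factorisation of `f` through `mappingCone (𝟙 L₁) ⊞ L₂`: second map. -/
noncomputable abbrev cylP : mappingCone (𝟙 L₁) ⊞ L₂ ⟶ L₂ := biprod.snd

@[reassoc (attr := simp)]
lemma cylI_cylP : cylI f ≫ cylP (L₁ := L₁) (L₂ := L₂) = f := by simp [cylI]

lemma cylI_f_comp (n : ℤ) : (cylI f).f n ≫
    (biprod.fst : mappingCone (𝟙 L₁) ⊞ L₂ ⟶ _).f n ≫
      (mappingCone.snd (𝟙 L₁)).v n n (add_zero n) = 𝟙 _ := by
  rw [← Category.assoc, ← HomologicalComplex.comp_f]
  simp [cylI]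

/-- the second projection is a homotopy equivalence. -/
noncomputable def cylHomotopyEquiv : HomotopyEquiv (mappingCone (𝟙 L₁) ⊞ L₂) L₂ where
  hom := cylP
  inv := biprod.inr
  homotopyHomInvId :=
    let h₀ : Homotopy (𝟙 (mappingCone (𝟙 L₁))) 0 := mappingCone.homotopyToZeroOfId L₁
    let h₁ := (h₀.compRight
      (biprod.inl : _ ⟶ mappingCone (𝟙 L₁) ⊞ L₂)).compLeft
        (biprod.fst : mappingCone (𝟙 L₁) ⊞ L₂ ⟶ _)
    let h₂ := Homotopy.add h₁ (Homotopy.refl (biprod.snd ≫ biprod.inr))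
    (Homotopy.ofEq (by simp)).trans (h₂.symm.trans (Homotopy.ofEq (by simp)))
  homotopyInvHomId := Homotopy.ofEq (by simp)

end Cylinder

/-- **Tensoring with a K-flat complex (on the right) preserves quasi-isomorphisms.** -/
theorem quasiIso_whiskerRight_of_isKFlat {K : Cx R} (hK : DRing.IsKFlat R K) {L₁ L₂ : Cx R}
    (f : L₁ ⟶ L₂) [QuasiIso f] : QuasiIso (f ▷ K) := by
  haveI : QuasiIso (cylP (L₁ := L₁) (L₂ := L₂)) := (cylHomotopyEquiv (L₁ := L₁) (L₂ := L₂)).quasiIso_hom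
  haveI : QuasiIso (cylI f ≫ cylP (L₁ := L₁) (L₂ := L₂)) := by rw [cylI_cylP]; infer_instance
  haveI : QuasiIso (cylI f) := quasiIso_of_comp_right (cylI f) (cylP (L₁ := L₁) (L₂ := L₂))
  let S := ShortComplex.mk (cylI f) (cokernel.π (cylI f)) (cokernel.condition _)
  have hS : DegreewiseSplit S := degreewiseSplit_of_retractions (cylI f) _ (cylI_f_comp f)
  haveI : QuasiIso S.f := inferInstanceAs (QuasiIso (cylI f))
  have h3 : Acyc S.X₃ := acyc_X₃_of_quasiIso_f hS.shortExact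
  have h3' : Acyc (S.X₃ ⊗ K) := hK _ h3
  have hS' := shortExact_whiskerRight_of_split hS K
  have h4 : QuasiIso (cylI f ▷ K) := quasiIso_f_of_acyc_X₃ hS' h3'
  haveI : QuasiIso (cylP (L₁ := L₁) (L₂ := L₂) ▷ K) :=
    (whiskerRightHomotopyEquiv (cylHomotopyEquiv (L₁ := L₁) (L₂ := L₂)) K).quasiIso_hom
  have : f ▷ K = cylI f ▷ K ≫ cylP (L₁ := L₁) (L₂ := L₂) ▷ K := by
    rw [← comp_whiskerRight, cylI_cylP]
  rw [this]
  infer_instance

end Groth.Agent.Lib.Helper16.KF
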