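import Mathlib
import Groth.Prelude.Def_KFlatSite
import Groth.Agent.Lib.Helper16.KF4
import Groth.Agent.Lib.Helper8.HColim2

/-!
# Helper16 — KF5: the tensor product of complexes commutes with colimits; colimits of K-flat complexes
-/

set_option autoImplicit false
universe w' w u
open CategoryTheory CategoryTheory.Limits MonoidalCategory

namespace Groth.Agent.Lib.Helper16.KF

variable {R : Type u} [CommRing R]

lemma ι_d (L K : Cx R) (p q n : ℤ) (h : p + q = n) :
    HomologicalComplex.ιTensorObj L K p q n h ≫ (L ⊗ K).d n (n + 1) =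
      (L.d p (p + 1) ▷ K.X q) ≫ HomologicalComplex.ιTensorObj L K (p + 1) q (n + 1) (by omega) +
      p.negOnePow • ((L.X p ◁ K.d q (q + 1)) ≫
        HomologicalComplex.ιTensorObj L K p (q + 1) (n + 1) (by omega)) := by
  change HomologicalComplex.ιMapBifunctor L K (curriedTensor (ModuleCat.{u} R))
    (ComplexShape.up ℤ) p q n h ≫
    (HomologicalComplex.mapBifunctor L K (curriedTensor (ModuleCat.{u} R))
      (ComplexShape.up ℤ)).d n (n + 1) = _
  rw [HomologicalComplex.mapBifunctor.d_eq, Preadditive.comp_add,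
    HomologicalComplex.mapBifunctor.ι_D₁, HomologicalComplex.mapBifunctor.ι_D₂,
    HomologicalComplex.mapBifunctor.d₁_eq _ _ _ _
      (show (ComplexShape.up ℤ).Rel p (p + 1) by simp) q (n + 1) (by dsimp; omega),
    HomologicalComplex.mapBifunctor.d₂_eq _ _ _ _ p
      (show (ComplexShape.up ℤ).Rel q (q + 1) by simp) (n + 1) (by dsimp; omega)]
  simp

section Colimits

variable {J : Type w} [Category.{w'} J] [HasColimitsOfShape J (ModuleCat.{u} R)]

/-- constructor for morphisms out of `(L ⊗ K).X n`. -/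
noncomputable abbrev tensorDesc {L K : Cx R} {n : ℤ} {A : ModuleCat.{u} R}
    (f : ∀ (p q : ℤ) (_ : p + q = n), L.X p ⊗ K.X q ⟶ A) : (L ⊗ K).X n ⟶ A :=
  HomologicalComplex.mapBifunctorDesc (K₁ := L) (K₂ := K) (F := curriedTensor (ModuleCat.{u} R))
    (c := ComplexShape.up ℤ) f

@[reassoc (attr := simp)]
lemma ι_tensorDesc {L K : Cx R} {n : ℤ} {A : ModuleCat.{u} R}
    (f : ∀ (p q : ℤ) (_ : p + q = n), L.X p ⊗ K.X q ⟶ A) (p q : ℤ) (h : p + q = n) :
    HomologicalComplex.ιTensorObj L K p q n h ≫ tensorDesc f = f p q h :=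
  HomologicalComplex.ι_mapBifunctorDesc _ _ _ _

/-- the legs of a cocone over `F ⋙ tensorLeft L ⋙ eval n`, with a convenient type. -/
abbrev legL (L : Cx R) {F : J ⥤ Cx R} (n : ℤ)
    (s : Cocone (F ⋙ tensorLeft L ⋙ HomologicalComplex.eval _ (ComplexShape.up ℤ) n)) (j : J) :
    (L ⊗ F.obj j).X n ⟶ s.pt := s.ι.app j

lemma legL_w (L : Cx R) {F : J ⥤ Cx R} (n : ℤ)
    (s : Cocone (F ⋙ tensorLeft L ⋙ HomologicalComplex.eval _ (ComplexShape.up ℤ) n))
    {j j' : J} (φ : j ⟶ j') : (L ◁ F.map φ).f n ≫ legL L n s j' = legL L n s j := s.w φ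

/-- the cocones in each bidegree induced by a cocone over `F ⋙ tensorLeft L ⋙ eval n`. -/
noncomputable def coconeL (L : Cx R) {F : J ⥤ Cx R} (n : ℤ)
    (s : Cocone (F ⋙ tensorLeft L ⋙ HomologicalComplex.eval _ (ComplexShape.up ℤ) n))
    (p q : ℤ) (h : p + q = n) :
    Cocone ((F ⋙ HomologicalComplex.eval _ (ComplexShape.up ℤ) q) ⋙ tensorLeft (L.X p)) where
  pt := s.pt
  ι :=
    { app := fun j => HomologicalComplex.ιTensorObj L (F.obj j) p q n h ≫ legL L n s j
      naturality := fun j j' φ => by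
        change (L.X p ◁ (F.map φ).f q) ≫ HomologicalComplex.ιTensorObj L (F.obj j') p q n h ≫
          legL L n s j' = (HomologicalComplex.ιTensorObj L (F.obj j) p q n h ≫ legL L n s j) ≫ 𝟙 _
        rw [Category.comp_id, ← legL_w L n s φ, ι_whiskerLeft_assoc] }

/-- the legs of a cocone, with a convenient type. -/
abbrev cleg {F : J ⥤ Cx R} (c : Cocone F) (j : J) : F.obj j ⟶ c.pt := c.ι.app j

/-- `L ⊗ -` preserves colimits (degreewise). -/
noncomputable def isColimitTensorLeftEval (L : Cx R) {F : J ⥤ Cx R} {c : Cocone F}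
    (hc : IsColimit c) (n : ℤ) :
    IsColimit ((tensorLeft L ⋙ HomologicalComplex.eval _ _ n).mapCocone c) := by
  -- the colimit cocones in each bidegree
  let hpq : ∀ p q : ℤ, IsColimit ((tensorLeft (L.X p)).mapCocone
      ((HomologicalComplex.eval _ (ComplexShape.up ℤ) q).mapCocone c)) := fun p q =>
    isColimitOfPreserves (tensorLeft (L.X p))
      (isColimitOfPreserves (HomologicalComplex.eval _ _ q) hc)
  let dpq : ∀ (s : Cocone (F ⋙ tensorLeft L ⋙ HomologicalComplex.eval _ (ComplexShape.up ℤ) n))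
      (p q : ℤ) (_ : p + q = n), (L.X p ⊗ c.pt.X q : ModuleCat.{u} R) ⟶ s.pt :=
    fun s p q h => (hpq p q).desc (coconeL L n s p q h)
  have hfac : ∀ (s : Cocone (F ⋙ tensorLeft L ⋙ HomologicalComplex.eval _ (ComplexShape.up ℤ) n))
      (p q : ℤ) (h : p + q = n) (j : J),
      (L.X p ◁ (cleg c j).f q) ≫ dpq s p q h =
        HomologicalComplex.ιTensorObj L (F.obj j) p q n h ≫ legL L n s j :=
    fun s p q h j => (hpq p q).fac (coconeL L n s p q h) j
  have huniq : ∀ (s : Cocone (F ⋙ tensorLeft L ⋙ HomologicalComplex.eval _ (ComplexShape.up ℤ) n))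
      (p q : ℤ) (h : p + q = n) (m : (L.X p ⊗ c.pt.X q : ModuleCat.{u} R) ⟶ s.pt),
      (∀ j, (L.X p ◁ (cleg c j).f q) ≫ m =
        HomologicalComplex.ιTensorObj L (F.obj j) p q n h ≫ legL L n s j) → m = dpq s p q h :=
    fun s p q h m hm => (hpq p q).uniq (coconeL L n s p q h) m hm
  exact
    { desc := fun s => tensorDesc (dpq s)
      fac := fun s j => by
        change (L ◁ cleg c j).f n ≫ tensorDesc (dpq s) = legL L n s j
        apply tensor_hom_ext
        intro p q h
        rw [ι_whiskerLeft_assoc, ι_tensorDesc, hfac]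
      uniq := fun s m hm => by
        have key : ∀ (m : (L ⊗ c.pt).X n ⟶ s.pt),
            (∀ j, (L ◁ cleg c j).f n ≫ m = legL L n s j) → m = tensorDesc (dpq s) := by
          intro m hm'
          apply tensor_hom_ext
          intro p q h
          rw [ι_tensorDesc]
          apply huniq
          intro j
          rw [← hm' j, ι_whiskerLeft_assoc]
        exact key m hm }

/-- `L ⊗ -` preserves colimits. -/
noncomputable def isColimitTensorLeft (L : Cx R) {F : J ⥤ Cx R} {c : Cocone F}
    (hc : IsColimit c) : IsColimit ((tensorLeft L).mapCocone c) :=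
  HomologicalComplex.isColimitOfEval _ _ (fun n => isColimitTensorLeftEval L hc n)

/-- a colimit (of an exact shape) of acyclic complexes is acyclic. -/
lemma acyc_of_isColimit [HasExactColimitsOfShape J (ModuleCat.{u} R)] {F : J ⥤ Cx R}
    {c : Cocone F} (hc : IsColimit c) (h : ∀ j, Acyc (F.obj j)) : Acyc c.pt := by
  intro i
  let H := HomologicalComplex.homologyFunctor (ModuleCat.{u} R) (ComplexShape.up ℤ) i
  have hc' : IsColimit (H.mapCocone c) := isColimitOfPreserves H hc
  rw [IsZero.iff_id_eq_zero]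
  apply hc'.hom_ext
  intro j
  exact (h j i).eq_of_src _ _

/-- a colimit (of an exact shape) of K-flat complexes is K-flat. -/
theorem isKFlat_of_isColimit [HasExactColimitsOfShape J (ModuleCat.{u} R)] {F : J ⥤ Cx R}
    {c : Cocone F} (hc : IsColimit c) (h : ∀ j, DRing.IsKFlat R (F.obj j)) :
    DRing.IsKFlat R c.pt := fun L hL =>
  acyc_of_isColimit (isColimitTensorLeft L hc) (fun j => h j L hL)

end Colimits

end Groth.Agent.Lib.Helper16.KF
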