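import Mathlib
import Groth.Prelude.Def_KFlatSite
import Groth.Agent.Lib.Helper16.KF5

/-!
# Helper16 — KF6: a complex concentrated in one degree, with flat term, is K-flat
-/

set_option autoImplicit false
universe w v u
open CategoryTheory CategoryTheory.Limits MonoidalCategory

namespace Groth.Agent.Lib.Helper16.KF

section Abstract

variable {C : Type u} [Category.{v} C] [HasZeroMorphisms C]

open Classical in
/-- in a coproduct all of whose summands but one vanish, the remaining inclusion is an iso. -/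
lemma isIso_inj_of_isZero {ι : Type w} {X : ι → C} {c : Cofan X} (hc : IsColimit c) (i₀ : ι)
    (h : ∀ i, i ≠ i₀ → IsZero (X i)) : IsIso (c.inj i₀) := by
  let r : c.pt ⟶ X i₀ := Cofan.IsColimit.desc hc
    (fun i => if hi : i = i₀ then eqToHom (by rw [hi]) else 0)
  have h1 : c.inj i₀ ≫ r = 𝟙 _ := by
    rw [Cofan.IsColimit.fac, dif_pos rfl]
    rfl
  refine ⟨r, h1, ?_⟩
  apply Cofan.IsColimit.hom_ext hc
  intro i
  by_cases hi : i = i₀
  · subst hi
    rw [reassoc_of% h1, Category.comp_id]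
  · exact (h i hi).eq_of_src _ _

end Abstract

variable {R : Type u} [CommRing R]

lemma isIso_ι_of_concentrated (L Q : Cx R) (k : ℤ) (hQ : ∀ i, i ≠ k → IsZero (Q.X i))
    (p n : ℤ) (h : p + k = n) : IsIso (HomologicalComplex.ιTensorObj L Q p k n h) := by
  let i₀ : Idx n := ⟨(p, k), h⟩
  refine isIso_inj_of_isZero (isColimitCofanT L Q n) i₀ (fun i hi => ?_)
  have : i.1.2 ≠ k := fun hk => hi (by
    have h2 := i.2
    ext
    · change i.1.1 = p
      have : i.1.1 + i.1.2 = n := h2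
      omega
    · exact hk)
  exact (tensorLeft (L.X i.1.1)).map_isZero (hQ _ this)

/-- exactness criterion for cochain complexes, in terms of `sc'`. -/
lemma exactAt_succ_iff (K : Cx R) (n : ℤ) :
    K.ExactAt (n + 1) ↔ (K.sc' n (n + 1) (n + 1 + 1)).Exact :=
  K.exactAt_iff' n (n + 1) (n + 1 + 1) (by simp) (by simp)

lemma acyc_of_forall_exact_sc' (K : Cx R) (h : ∀ n : ℤ, (K.sc' n (n + 1) (n + 1 + 1)).Exact) :
    Acyc K := by
  intro N
  obtain ⟨n, rfl⟩ : ∃ n, N = n + 1 := ⟨N - 1, by omega⟩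
  rw [← HomologicalComplex.exactAt_iff_isZero_homology, exactAt_succ_iff]
  exact h n

lemma exact_sc'_of_acyc (K : Cx R) (h : Acyc K) (n : ℤ) : (K.sc' n (n + 1) (n + 1 + 1)).Exact := by
  rw [← exactAt_succ_iff, HomologicalComplex.exactAt_iff_isZero_homology]
  exact h _

/-- a complex concentrated in one degree, with a flat module there, is K-flat. -/
theorem isKFlat_of_concentrated (Q : Cx R) (k : ℤ) (hQ : ∀ i, i ≠ k → IsZero (Q.X i))
    [Module.Flat R (Q.X k)] : DRing.IsKFlat R Q := by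
  intro L hL
  apply acyc_of_forall_exact_sc'
  intro n
  obtain ⟨p, rfl⟩ : ∃ p, n = p + k := ⟨n - k, by omega⟩
  have hx : ((L.sc' p (p + 1) (p + 1 + 1)).map (tensorRight (Q.X k))).Exact :=
    Module.Flat.rTensor_shortComplex_exact (Q.X k) _ (exact_sc'_of_acyc L hL p)
  have h1 := isIso_ι_of_concentrated L Q k hQ p (p + k) rfl
  have h2 := isIso_ι_of_concentrated L Q k hQ (p + 1) (p + k + 1) (by omega)
  have h3 := isIso_ι_of_concentrated L Q k hQ (p + 1 + 1) (p + k + 1 + 1) (by omega)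
  have hd : Q.d k (k + 1) = 0 := (hQ (k + 1) (by omega)).eq_of_tgt _ _
  refine (ShortComplex.exact_iff_of_iso (ShortComplex.isoMk
    (@asIso _ _ _ _ _ h1) (@asIso _ _ _ _ _ h2) (@asIso _ _ _ _ _ h3) ?_ ?_)).1 hx
  · change HomologicalComplex.ιTensorObj L Q p k (p + k) rfl ≫ (L ⊗ Q).d (p + k) (p + k + 1) =
      (L.d p (p + 1) ▷ Q.X k) ≫ HomologicalComplex.ιTensorObj L Q (p + 1) k (p + k + 1) _
    rw [ι_d, hd]
    simp
  · change HomologicalComplex.ιTensorObj L Q (p + 1) k (p + k + 1) _ ≫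
        (L ⊗ Q).d (p + k + 1) (p + k + 1 + 1) =
      (L.d (p + 1) (p + 1 + 1) ▷ Q.X k) ≫
        HomologicalComplex.ιTensorObj L Q (p + 1 + 1) k (p + k + 1 + 1) _
    rw [ι_d, hd]
    simp

end Groth.Agent.Lib.Helper16.KF
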