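import Mathlib
import Groth.Prelude.Def_KFlatSite
import Groth.Agent.Lib.Helper16.KF6

/-!
# Helper16 — KF7: subcomplexes of complexes of modules defined by families of submodules
-/

set_option autoImplicit false
universe u
open CategoryTheory CategoryTheory.Limits

namespace Groth.Agent.Lib.Helper16.KF

variable {R : Type u} [CommRing R]

/-- a family of submodules of the terms of a complex, stable under the differential. -/
structure SubCx (P : Cx R) where
  /-- the submodules -/
  S : ∀ i : ℤ, Submodule R (P.X i)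
  d_mem : ∀ (i j : ℤ) (x : P.X i), x ∈ S i → (P.d i j).hom x ∈ S j

namespace SubCx

variable {P : Cx R}

instance : LE (SubCx P) := ⟨fun T T' => ∀ i, T.S i ≤ T'.S i⟩

instance : Preorder (SubCx P) where
  le_refl T i := le_rfl
  le_trans T T' T'' h h' i := (h i).trans (h' i)

/-- the subcomplex. -/
noncomputable def cx (T : SubCx P) : Cx R where
  X i := ModuleCat.of R (T.S i)
  d i j := ModuleCat.ofHom ((P.d i j).hom.restrict (T.d_mem i j))
  shape i j h := by
    ext x
    change (P.d i j).hom x.1 = 0
    rw [P.shape i j h]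
    rfl
  d_comp_d' i j k _ _ := by
    ext x
    change (P.d j k).hom ((P.d i j).hom x.1) = 0
    rw [← ModuleCat.comp_apply, P.d_comp_d]
    rfl

/-- the inclusion of the subcomplex. -/
noncomputable def ι (T : SubCx P) : T.cx ⟶ P where
  f i := ModuleCat.ofHom (T.S i).subtype
  comm' i j _ := by
    ext x
    rfl

/-- the inclusion of a subcomplex in a bigger one. -/
noncomputable def map {T T' : SubCx P} (h : T ≤ T') : T.cx ⟶ T'.cx where
  f i := ModuleCat.ofHom (Submodule.inclusion (h i))
  comm' i j _ := by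
    ext x
    rfl

@[reassoc (attr := simp)]
lemma map_ι {T T' : SubCx P} (h : T ≤ T') : map h ≫ T'.ι = T.ι := by
  ext i x
  rfl

/-- the quotient complex. -/
noncomputable def quot (T : SubCx P) : Cx R where
  X i := ModuleCat.of R (P.X i ⧸ T.S i)
  d i j := ModuleCat.ofHom ((T.S i).mapQ (T.S j) (P.d i j).hom (fun x hx => T.d_mem i j x hx))
  shape i j h := by
    ext x
    change (Submodule.Quotient.mk ((P.d i j).hom x) : P.X j ⧸ T.S j) = 0
    rw [P.shape i j h]
    rfl
  d_comp_d' i j k _ _ := by
    ext x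
    change (Submodule.Quotient.mk ((P.d j k).hom ((P.d i j).hom x)) : P.X k ⧸ T.S k) = 0
    rw [← ModuleCat.comp_apply, P.d_comp_d]
    rfl

/-- the projection to the quotient complex. -/
noncomputable def π (T : SubCx P) : P ⟶ T.quot where
  f i := ModuleCat.ofHom (T.S i).mkQ
  comm' i j _ := by
    ext x
    rfl

@[reassoc (attr := simp)]
lemma ι_π (T : SubCx P) : T.ι ≫ T.π = 0 := by
  ext i x
  change (Submodule.Quotient.mk (x.1 : P.X i) : P.X i ⧸ T.S i) = 0
  rw [Submodule.Quotient.mk_eq_zero]
  exact x.2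

/-- the short exact sequence `0 ⟶ T.cx ⟶ P ⟶ T.quot ⟶ 0`. -/
noncomputable def sc (T : SubCx P) : ShortComplex (Cx R) := ShortComplex.mk T.ι T.π T.ι_π

lemma sc_shortExact (T : SubCx P) : T.sc.ShortExact := by
  apply HomologicalComplex.shortExact_of_degreewise_shortExact
  intro i
  apply ModuleCat.shortComplex_shortExact
  · intro y
    have key : ∀ y : P.X i, (T.S i).mkQ y = 0 ↔ y ∈ Set.range (T.S i).subtype := by
      intro y
      rw [Submodule.mkQ_apply, Submodule.Quotient.mk_eq_zero]
      simp
    exact key y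
  · exact Submodule.injective_subtype _
  · exact Submodule.mkQ_surjective _

lemma isIso_ι_f (T : SubCx P) (i : ℤ) (h : T.S i = ⊤) : IsIso (T.ι.f i) := by
  rw [ConcreteCategory.isIso_iff_bijective]
  refine ⟨Submodule.injective_subtype _, fun x => ⟨⟨x, by rw [h]; trivial⟩, rfl⟩⟩

lemma isZero_cx_X (T : SubCx P) (i : ℤ) (h : T.S i = ⊥) : IsZero (T.cx.X i) := by
  haveI : Subsingleton (T.S i) := by rw [h]; infer_instance
  exact ModuleCat.isZero_of_subsingleton (ModuleCat.of R (T.S i))

lemma isZero_cx_X' (T : SubCx P) (i : ℤ) (h : IsZero (P.X i)) : IsZero (T.cx.X i) := by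
  haveI : Subsingleton (P.X i) := ModuleCat.subsingleton_of_isZero h
  haveI : Subsingleton (T.S i) := inferInstance
  exact ModuleCat.isZero_of_subsingleton (ModuleCat.of R (T.S i))

lemma isZero_quot_X (T : SubCx P) (i : ℤ) (h : T.S i = ⊤) : IsZero (T.quot.X i) := by
  haveI : Subsingleton (P.X i ⧸ T.S i) := by rw [h]; infer_instance
  exact ModuleCat.isZero_of_subsingleton (ModuleCat.of R (P.X i ⧸ T.S i))

lemma isZero_quot_X' (T : SubCx P) (i : ℤ) (h : IsZero (P.X i)) : IsZero (T.quot.X i) := by
  haveI : Subsingleton (P.X i) := ModuleCat.subsingleton_of_isZero h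
  haveI : Subsingleton (P.X i ⧸ T.S i) := inferInstance
  exact ModuleCat.isZero_of_subsingleton (ModuleCat.of R (P.X i ⧸ T.S i))

lemma flat_cx_X (T : SubCx P) (i : ℤ) (h : T.S i = ⊤ ∨ T.S i = ⊥) [Module.Flat R (P.X i)] :
    Module.Flat R (T.cx.X i) := by
  rcases h with h | h
  · have e : T.S i ≃ₗ[R] P.X i := (LinearEquiv.ofEq _ _ h).trans Submodule.topEquiv
    exact Module.Flat.of_linearEquiv e
  · haveI : Subsingleton (T.S i) := by rw [h]; infer_instance
    change Module.Flat R (T.S i)
    infer_instance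

lemma flat_quot_X (T : SubCx P) (i : ℤ) (h : T.S i = ⊤ ∨ T.S i = ⊥) [Module.Flat R (P.X i)] :
    Module.Flat R (T.quot.X i) := by
  rcases h with h | h
  · haveI : Subsingleton (P.X i ⧸ T.S i) := by rw [h]; infer_instance
    change Module.Flat R (P.X i ⧸ T.S i)
    infer_instance
  · have e : (P.X i ⧸ T.S i) ≃ₗ[R] P.X i := Submodule.quotEquivOfEqBot _ h
    exact Module.Flat.of_linearEquiv e

/-- the functor from subcomplex data to complexes. -/
noncomputable def toCx (P : Cx R) : SubCx P ⥤ Cx R where
  obj T := T.cx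
  map f := map (leOfHom f)
  map_id T := by
    ext i x
    rfl
  map_comp f g := by
    ext i x
    rfl

/-- the cocone with point `P` over a diagram of subcomplexes. -/
noncomputable def cocone {J : Type*} [Category J] (F : J ⥤ SubCx P) : Cocone (F ⋙ toCx P) where
  pt := P
  ι :=
    { app := fun j => (F.obj j).ι
      naturality := fun j j' f => by
        dsimp [toCx]
        rw [map_ι, Category.comp_id] }

/-- the stupid truncation `σ_{≥ k} P`, as subcomplex data. -/
def geT (P : Cx R) (k : ℤ) : SubCx P where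
  S i := if k ≤ i then ⊤ else ⊥
  d_mem i j x hx := by
    by_cases hj : k ≤ j
    · rw [if_pos hj]; trivial
    · by_cases hi : k ≤ i
      · have : ¬ (ComplexShape.up ℤ).Rel i j := by
          simp only [ComplexShape.up_Rel]
          omega
        rw [P.shape i j this]
        exact Submodule.zero_mem _
      · rw [if_neg hi] at hx
        rw [(Submodule.mem_bot R).1 hx, map_zero]
        exact Submodule.zero_mem _

lemma geT_S_of_le (P : Cx R) (k i : ℤ) (h : k ≤ i) : (geT P k).S i = ⊤ := if_pos h

lemma geT_S_of_lt (P : Cx R) (k i : ℤ) (h : i < k) : (geT P k).S i = ⊥ := if_neg (by omega)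

lemma geT_S (P : Cx R) (k i : ℤ) : (geT P k).S i = ⊤ ∨ (geT P k).S i = ⊥ := by
  by_cases h : k ≤ i
  · exact Or.inl (geT_S_of_le P k i h)
  · exact Or.inr (geT_S_of_lt P k i (by omega))

lemma geT_mono (P : Cx R) {k k' : ℤ} (h : k' ≤ k) : geT P k ≤ geT P k' := by
  intro i
  by_cases hi : k ≤ i
  · rw [geT_S_of_le P k' i (by omega)]
    exact le_top
  · rw [geT_S_of_lt P k i (by omega)]
    exact bot_le

end SubCx

end Groth.Agent.Lib.Helper16.KF
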