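import Mathlib
import Groth.Prelude.Def_KFlatSite
import Groth.Agent.Lib.Helper16.KF7
import Groth.Agent.Lib.Helper16.KPR4

/-!
# Helper16 — KF8: bounded above complexes of flat modules are K-flat
-/

set_option autoImplicit false
universe u
open CategoryTheory CategoryTheory.Limits MonoidalCategory

namespace Groth.Agent.Lib.Helper16.KF

variable {R : Type u} [CommRing R]

lemma isKFlat_of_isZero_X (Q : Cx R) (h : ∀ i, IsZero (Q.X i)) : DRing.IsKFlat R Q :=
  isKFlat_of_contractible (Homotopy.ofEq (by
    ext i : 1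
    exact (h i).eq_of_src _ _))

open SubCx in
/-- bounded complexes of flat modules are K-flat. -/
theorem isKFlat_of_bounded (m : ℕ) : ∀ (Q : Cx R) (k : ℤ), DRing.TermwiseFlat Q →
    (∀ i, i < k → IsZero (Q.X i)) → (∀ i, k + m ≤ i → IsZero (Q.X i)) → DRing.IsKFlat R Q := by
  induction m with
  | zero =>
    intro Q k _ h1 h2
    refine isKFlat_of_isZero_X Q (fun i => ?_)
    by_cases hi : i < k
    · exact h1 i hi
    · exact h2 i (by simp; omega)
  | succ m ih =>
    intro Q k hQ h1 h2
    let T := geT Q (k + 1)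
    have hT1 : DRing.IsKFlat R T.cx := by
      refine ih T.cx (k + 1) (fun i => ?_) (fun i hi => ?_) (fun i hi => ?_)
      · haveI := hQ i
        exact flat_cx_X T i (geT_S Q (k + 1) i)
      · exact isZero_cx_X T i (geT_S_of_lt Q (k + 1) i hi)
      · exact isZero_cx_X' T i (h2 i (by push_cast; omega))
    have hT3flat : DRing.TermwiseFlat T.quot := fun i => by
      haveI := hQ i
      exact flat_quot_X T i (geT_S Q (k + 1) i)
    have hT3 : DRing.IsKFlat R T.quot := by
      haveI := hT3flat k
      refine isKFlat_of_concentrated T.quot k (fun i hi => ?_)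
      by_cases hik : i < k
      · exact isZero_quot_X' T i (h1 i hik)
      · exact isZero_quot_X T i (geT_S_of_le Q (k + 1) i (by omega))
    intro L hL
    have hS := shortExact_whiskerLeft_of_flat₃ L T.sc_shortExact hT3flat
    exact acyc_X₂ hS (hT1 L hL) (hT3 L hL)

/-- the increasing sequence of stupid truncations `σ_{≥ -n} P`. -/
noncomputable def geTSeq (P : Cx R) : ℕ ⥤ SubCx P :=
  Monotone.functor (f := fun n : ℕ => SubCx.geT P (-(n : ℤ)))
    (fun n m h => SubCx.geT_mono P (by
      have : (n : ℤ) ≤ m := by exact_mod_cast h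
      omega))

/-- every complex is the colimit of its stupid truncations `σ_{≥ -n} P`. -/
noncomputable def isColimitCoconeGeT (P : Cx R) : IsColimit (SubCx.cocone (geTSeq P)) :=
  HomologicalComplex.isColimitOfEval _ _ (fun i =>
    KPR.isColimitOfEventuallyIso _ _ (-i).toNat (fun n hn => by
      change IsIso ((SubCx.geT P (-(n : ℤ))).ι.f i)
      refine SubCx.isIso_ι_f _ i (SubCx.geT_S_of_le P _ i ?_)
      have : (-i).toNat ≤ n := hn
      omega))

/-- **Bounded above complexes of flat modules are K-flat.** -/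
theorem isKFlat_of_boundedAbove (P : Cx R) (b : ℤ) (hb : DRing.VanishesAbove P b)
    (hP : DRing.TermwiseFlat P) : DRing.IsKFlat R P := by
  haveI : HasExactColimitsOfShape ℕ (ModuleCat.{u} R) :=
    KPR.hasExactColimitsOfShape_nat_moduleCat R
  have key : ∀ n : ℕ, DRing.IsKFlat R ((geTSeq P ⋙ SubCx.toCx P).obj n) := by
    intro n
    change DRing.IsKFlat R (SubCx.geT P (-(n : ℤ))).cx
    refine isKFlat_of_bounded (b + 1 + n).toNat _ (-(n : ℤ)) (fun i => ?_) (fun i hi => ?_)
      (fun i hi => ?_)
    · haveI := hP i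
      exact SubCx.flat_cx_X _ i (SubCx.geT_S P _ i)
    · exact SubCx.isZero_cx_X _ i (SubCx.geT_S_of_lt P _ i hi)
    · refine SubCx.isZero_cx_X' _ i (hb i ?_)
      have := Int.self_le_toNat (b + 1 + n)
      omega
  exact isKFlat_of_isColimit (c := SubCx.cocone (geTSeq P)) (isColimitCoconeGeT P) key

end Groth.Agent.Lib.Helper16.KF
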