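import Mathlib
import Groth.Prelude.Def_KFlatSite
import Groth.Agent.Lib.Helper16.KF8

/-!
# Helper16 — KF14: a dévissage principle for complexes of modules

Every complex is a sequential colimit of bounded subcomplexes; bounded complexes are iterated
degreewise split extensions of complexes concentrated in one degree.
-/

set_option autoImplicit false
universe u
open CategoryTheory CategoryTheory.Limits MonoidalCategory

namespace Groth.Agent.Lib.Helper16.KF

variable {R : Type u} [CommRing R]

namespace SubCx

variable {P : Cx R}

lemma degreewiseSplit_sc (T : SubCx P) (h : ∀ i, T.S i = ⊤ ∨ T.S i = ⊥) :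
    DegreewiseSplit T.sc := by
  intro i
  have hse := (HomologicalComplex.shortExact_iff_degreewise_shortExact _).1 T.sc_shortExact i
  obtain ⟨r, hr⟩ : ∃ r : P.X i →ₗ[R] T.S i, ∀ x : T.S i, r x.1 = x := by
    rcases h i with h | h
    · exact ⟨LinearMap.codRestrict (T.S i) LinearMap.id (fun x => by rw [h]; trivial),
        fun x => Subtype.ext rfl⟩
    · refine ⟨0, fun x => Subtype.ext ?_⟩
      have h2 : x.1 ∈ (⊥ : Submodule R (P.X i)) := h ▸ x.2
      exact ((Submodule.mem_bot R).1 h2).symm
  exact ⟨ShortComplex.Splitting.ofExactOfRetraction _ hse.exact (ModuleCat.ofHom r)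
    (by ext x; exact hr x) hse.epi_g⟩

/-- the two-sided truncation: everything in degrees `[-n, n)`, the cycles in degree `n`. -/
noncomputable def box (P : Cx R) (n : ℕ) : SubCx P where
  S i := if i < -(n : ℤ) then ⊥ else if i < n then ⊤ else if i = n then
    LinearMap.ker (P.d i (i + 1)).hom else ⊥
  d_mem i j x hx := by
    by_cases hij : i + 1 = j
    · subst hij
      by_cases h1 : i < -(n : ℤ)
      · rw [if_pos h1] at hx
        rw [(Submodule.mem_bot R).1 hx, map_zero]
        exact Submodule.zero_mem _
      · rw [if_neg h1] at hx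
        by_cases h2 : i + 1 < n
        · rw [if_neg (by omega), if_pos h2]; trivial
        · by_cases h3 : i + 1 = n
          · rw [if_neg (by omega), if_neg (by omega), if_pos h3]
            rw [LinearMap.mem_ker, ← ModuleCat.comp_apply, P.d_comp_d]
            rfl
          · by_cases h4 : i = n
            · rw [if_neg (by omega), if_pos h4] at hx
              rw [LinearMap.mem_ker.1 hx]
              exact Submodule.zero_mem _
            · rw [if_neg (by omega), if_neg h4] at hx
              rw [(Submodule.mem_bot R).1 hx, map_zero]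
              exact Submodule.zero_mem _
    · have : ¬ (ComplexShape.up ℤ).Rel i j := by
        simp only [ComplexShape.up_Rel]
        exact hij
      rw [P.shape i j this]
      exact Submodule.zero_mem _

lemma box_S_of_lt (P : Cx R) (n : ℕ) (i : ℤ) (h : i < -(n : ℤ)) : (box P n).S i = ⊥ := if_pos h

lemma box_S_of_gt (P : Cx R) (n : ℕ) (i : ℤ) (h : (n : ℤ) < i) : (box P n).S i = ⊥ := by
  change (if i < -(n : ℤ) then ⊥ else if i < n then ⊤ else if i = n then
    LinearMap.ker (P.d i (i + 1)).hom else ⊥) = ⊥
  rw [if_neg (by omega), if_neg (by omega), if_neg (by omega)]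

lemma box_S_of_mem (P : Cx R) (n : ℕ) (i : ℤ) (h1 : -(n : ℤ) ≤ i) (h2 : i < n) :
    (box P n).S i = ⊤ := by
  change (if i < -(n : ℤ) then ⊥ else if i < n then ⊤ else if i = n then
    LinearMap.ker (P.d i (i + 1)).hom else ⊥) = ⊤
  rw [if_neg (by omega), if_pos h2]

lemma box_mono (P : Cx R) {n m : ℕ} (h : n ≤ m) : box P n ≤ box P m := by
  intro i
  have h' : (n : ℤ) ≤ m := by exact_mod_cast h
  by_cases h1 : i < -(n : ℤ)
  · rw [box_S_of_lt P n i h1]; exact bot_le
  · by_cases h2 : (n : ℤ) < i
    · rw [box_S_of_gt P n i h2]; exact bot_le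
    · by_cases h3 : i < m
      · rw [box_S_of_mem P m i (by omega) h3]; exact le_top
      · have h4 : i = n := by omega
        have h5 : i = m := by omega
        have h6 : n = m := by exact_mod_cast (h4.symm.trans h5)
        subst h6
        exact le_rfl

/-- the increasing sequence of two-sided truncations. -/
noncomputable def boxSeq (P : Cx R) : ℕ ⥤ SubCx P :=
  Monotone.functor (f := fun n : ℕ => box P n) (fun _ _ h => box_mono P h)

/-- every complex is the colimit of its two-sided truncations. -/
noncomputable def isColimitCoconeBox (P : Cx R) : IsColimit (cocone (boxSeq P)) :=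
  HomologicalComplex.isColimitOfEval _ _ (fun i =>
    KPR.isColimitOfEventuallyIso _ _ (i.natAbs + 1) (fun n hn => by
      change IsIso ((box P n).ι.f i)
      have : i.natAbs + 1 ≤ n := hn
      refine isIso_ι_f _ i (box_S_of_mem P n i ?_ ?_) <;> omega))

end SubCx

/-- **Dévissage**: a property of complexes of modules which holds for complexes concentrated in
one degree, is stable under degreewise split extensions and under sequential colimits, holds for
all complexes. -/
theorem devissage (W : Cx R → Prop)
    (hconc : ∀ (Q : Cx R) (k : ℤ), (∀ i, i ≠ k → IsZero (Q.X i)) → W Q)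
    (hext : ∀ S : ShortComplex (Cx R), DegreewiseSplit S → W S.X₁ → W S.X₃ → W S.X₂)
    (hcolim : ∀ (F : ℕ ⥤ Cx R) (c : Cocone F), IsColimit c → (∀ n, W (F.obj n)) → W c.pt)
    (L : Cx R) : W L := by
  have bounded : ∀ (m : ℕ) (Q : Cx R) (k : ℤ), (∀ i, i < k → IsZero (Q.X i)) →
      (∀ i, k + m ≤ i → IsZero (Q.X i)) → W Q := by
    intro m
    induction m with
    | zero =>
      intro Q k h1 h2
      refine hconc Q 0 (fun i _ => ?_)
      by_cases hi : i < k
      · exact h1 i hi
      · exact h2 i (by simp; omega)
    | succ m ih =>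
      intro Q k h1 h2
      let T := SubCx.geT Q (k + 1)
      have hT1 : W T.cx := by
        refine ih T.cx (k + 1) (fun i hi => ?_) (fun i hi => ?_)
        · exact SubCx.isZero_cx_X T i (SubCx.geT_S_of_lt Q (k + 1) i hi)
        · exact SubCx.isZero_cx_X' T i (h2 i (by push_cast; omega))
      have hT3 : W T.quot := by
        refine hconc T.quot k (fun i hi => ?_)
        by_cases hik : i < k
        · exact SubCx.isZero_quot_X' T i (h1 i hik)
        · exact SubCx.isZero_quot_X T i (SubCx.geT_S_of_le Q (k + 1) i (by omega))
      exact hext T.sc (SubCx.degreewiseSplit_sc T (SubCx.geT_S Q (k + 1))) hT1 hT3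
  refine hcolim _ (SubCx.cocone (SubCx.boxSeq L)) (SubCx.isColimitCoconeBox L) (fun n => ?_)
  change W (SubCx.box L n).cx
  refine bounded (2 * n + 1) _ (-(n : ℤ)) (fun i hi => ?_) (fun i hi => ?_)
  · exact SubCx.isZero_cx_X _ i (SubCx.box_S_of_lt L n i hi)
  · exact SubCx.isZero_cx_X _ i (SubCx.box_S_of_gt L n i (by push_cast at hi; omega))

end Groth.Agent.Lib.Helper16.KF
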