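import Mathlib
import Groth.Prelude.Def_KFlatSite
import Groth.Agent.Lib.Helper16.KF14

/-!
# Helper16 — RL1: ring-level lemmas for K-flat resolutions of sheaves

* a complex of modules with zero differentials and flat terms is K-flat;
* a sequential colimit of flat modules is flat;
* a biproduct of flat modules is flat.
-/

set_option autoImplicit false
universe u
open CategoryTheory CategoryTheory.Limits MonoidalCategory

namespace Groth.Agent.Lib.Helper16.KF

variable {R : Type u} [CommRing R]

/-- **a complex of modules with zero differentials and flat terms is K-flat.** -/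
theorem isKFlat_of_d_eq_zero (P : Cx R) (hd : ∀ i j, P.d i j = 0) (hP : DRing.TermwiseFlat P) :
    DRing.IsKFlat R P := by
  haveI : HasExactColimitsOfShape ℕ (ModuleCat.{u} R) :=
    KPR.hasExactColimitsOfShape_nat_moduleCat R
  have hS : ∀ (n : ℕ) (i : ℤ), (SubCx.box P n).S i = ⊤ ∨ (SubCx.box P n).S i = ⊥ := by
    intro n i
    by_cases h1 : i < -(n : ℤ)
    · exact Or.inr (SubCx.box_S_of_lt P n i h1)
    · by_cases h2 : i < n
      · exact Or.inl (SubCx.box_S_of_mem P n i (by omega) h2)
      · by_cases h3 : i = n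
        · left
          change (if i < -(n : ℤ) then ⊥ else if i < n then ⊤ else if i = n then
            LinearMap.ker (P.d i (i + 1)).hom else ⊥) = ⊤
          rw [if_neg h1, if_neg h2, if_pos h3, hd]
          exact LinearMap.ker_zero
        · exact Or.inr (SubCx.box_S_of_gt P n i (by omega))
  have key : ∀ n : ℕ, DRing.IsKFlat R ((SubCx.boxSeq P ⋙ SubCx.toCx P).obj n) := by
    intro n
    change DRing.IsKFlat R (SubCx.box P n).cx
    refine isKFlat_of_bounded (2 * n + 1) _ (-(n : ℤ)) (fun i => ?_) (fun i hi => ?_)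
      (fun i hi => ?_)
    · haveI := hP i
      exact SubCx.flat_cx_X _ i (hS n i)
    · exact SubCx.isZero_cx_X _ i (SubCx.box_S_of_lt P n i hi)
    · exact SubCx.isZero_cx_X _ i (SubCx.box_S_of_gt P n i (by push_cast at hi; omega))
  exact isKFlat_of_isColimit (c := SubCx.cocone (SubCx.boxSeq P)) (SubCx.isColimitCoconeBox P) key


lemma flat_iff_mono_whiskerLeft (M : ModuleCat.{u} R) :
    Module.Flat R M ↔ ∀ ⦃N N' : ModuleCat.{u} R⦄ (f : N ⟶ N'), Mono f → Mono (M ◁ f) := by
  rw [Module.Flat.iff_lTensor_preserves_injective_linearMap]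
  constructor
  · intro h N N' f hf
    rw [ModuleCat.mono_iff_injective] at hf ⊢
    exact h f.hom hf
  · intro h N N' _ _ _ _ f hf
    have := h (ModuleCat.ofHom f) ((ModuleCat.mono_iff_injective _).2 hf)
    exact (ModuleCat.mono_iff_injective _).1 this

/-- **a colimit (of exact shape) of flat modules is flat.** -/
theorem flat_of_isColimit {J : Type*} [Category J] [HasColimitsOfShape J (ModuleCat.{u} R)]
    [HasExactColimitsOfShape J (ModuleCat.{u} R)]
    {F : J ⥤ ModuleCat.{u} R} {c : Cocone F} (hc : IsColimit c)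
    (h : ∀ k, Module.Flat R (F.obj k)) : Module.Flat R c.pt := by
  rw [flat_iff_mono_whiskerLeft]
  intro N N' f hf
  have hc₁ : IsColimit ((tensorRight N).mapCocone c) := isColimitOfPreserves _ hc
  have hc₂ : IsColimit ((tensorRight N').mapCocone c) := isColimitOfPreserves _ hc
  let φ : F ⋙ tensorRight N ⟶ F ⋙ tensorRight N' :=
    { app := fun k => F.obj k ◁ f
      naturality := fun i j u => (whisker_exchange (F.map u) f).symm }
  haveI : ∀ k, Mono (φ.app k) := fun k => (flat_iff_mono_whiskerLeft _).1 (h k) f hf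
  haveI := NatTrans.mono_of_mono_app φ
  exact colim.map_mono' φ hc₁ hc₂ (c.pt ◁ f) (fun k => (whisker_exchange (c.ι.app k) f).symm)

/-- **a sequential colimit of flat modules is flat.** -/
theorem flat_of_isColimit_nat {F : ℕ ⥤ ModuleCat.{u} R} {c : Cocone F} (hc : IsColimit c)
    (h : ∀ k, Module.Flat R (F.obj k)) : Module.Flat R c.pt := by
  haveI : HasExactColimitsOfShape ℕ (ModuleCat.{u} R) :=
    KPR.hasExactColimitsOfShape_nat_moduleCat R
  exact flat_of_isColimit hc h

/-- **a coproduct of flat modules is flat.** -/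
theorem flat_of_isColimit_discrete {ι : Type u} {F : Discrete ι ⥤ ModuleCat.{u} R} {c : Cocone F}
    (hc : IsColimit c) (h : ∀ k, Module.Flat R (F.obj k)) : Module.Flat R c.pt :=
  flat_of_isColimit hc h

/-- a biproduct of flat modules is flat. -/
lemma flat_biprod (M N : ModuleCat.{u} R) [hM : Module.Flat R M] [hN : Module.Flat R N] :
    Module.Flat R (M ⊞ N : ModuleCat.{u} R) := by
  rw [flat_iff_mono_whiskerLeft]
  intro A B f hf
  haveI := (flat_iff_mono_whiskerLeft M).1 hM f hf
  haveI := (flat_iff_mono_whiskerLeft N).1 hN f hf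
  refine Preadditive.mono_of_cancel_zero _ (fun {T} x hx => ?_)
  have h1 : x ≫ ((biprod.fst : M ⊞ N ⟶ M) ▷ A) = 0 := by
    rw [← cancel_mono (M ◁ f), Category.assoc, zero_comp, ← whisker_exchange,
      reassoc_of% hx, zero_comp]
  have h2 : x ≫ ((biprod.snd : M ⊞ N ⟶ N) ▷ A) = 0 := by
    rw [← cancel_mono (N ◁ f), Category.assoc, zero_comp, ← whisker_exchange,
      reassoc_of% hx, zero_comp]
  have h3 : 𝟙 ((M ⊞ N : ModuleCat.{u} R) ⊗ A) =
      ((biprod.fst : M ⊞ N ⟶ M) ▷ A) ≫ ((biprod.inl : M ⟶ M ⊞ N) ▷ A) +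
      ((biprod.snd : M ⊞ N ⟶ N) ▷ A) ≫ ((biprod.inr : N ⟶ M ⊞ N) ▷ A) := by
    rw [← comp_whiskerRight, ← comp_whiskerRight, ← MonoidalPreadditive.add_whiskerRight,
      biprod.total, id_whiskerRight]
  rw [← Category.comp_id x, h3, Preadditive.comp_add, reassoc_of% h1, reassoc_of% h2, zero_comp,
    zero_comp, add_zero]

end Groth.Agent.Lib.Helper16.KF
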