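import Mathlib

/-!
# Helper16 — Stk1: stalks of presheaves of modules on a topological space (element API)
-/

set_option autoImplicit false
universe u
open CategoryTheory CategoryTheory.Limits TopologicalSpace Opposite

namespace Groth.Agent.Lib.Helper16.Stk

variable {X : TopCat.{u}} (R : X.Presheaf CommRingCat.{u})

/-- presheaves of modules over a presheaf of commutative rings on a space. -/
abbrev PM := PresheafOfModules.{u} (R ⋙ forget₂ CommRingCat RingCat)

variable {R} (x : X)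

/-- the stalk as a type -/
abbrev St (P : PM R) : Type u := ↑(TopCat.Presheaf.stalk P.presheaf x)

noncomputable instance (P : PM R) : Module (R.stalk x) (St x P) :=
  inferInstanceAs (Module (R.stalk x) ↑(TopCat.Presheaf.stalk P.presheaf x))

/-- the germ map, as an additive map. -/
noncomputable def gm (P : PM R) (U : Opens X) (hx : x ∈ U) : P.obj (op U) →+ St x P :=
  (TopCat.Presheaf.germ P.presheaf U x hx).hom

/-- the germ map of the ring. -/
noncomputable def gr (U : Opens X) (hx : x ∈ U) : R.obj (op U) →+* R.stalk x :=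
  (R.germ U x hx).hom

variable {x}

lemma gm_smul (P : PM R) (U : Opens X) (hx : x ∈ U) (r : R.obj (op U)) (m : P.obj (op U)) :
    gm x P U hx (r • m) = gr x U hx r • gm x P U hx m :=
  PresheafOfModules.germ_smul P x U hx r m

lemma gm_res (P : PM R) {U V : Opens X} (i : U ⟶ V) (hx : x ∈ U) (m : P.obj (op V)) :
    gm x P U hx (P.map i.op m) = gm x P V (i.le hx) m :=
  TopCat.Presheaf.germ_res_apply P.presheaf i x hx m

lemma gr_res {U V : Opens X} (i : U ⟶ V) (hx : x ∈ U) (r : R.obj (op V)) :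
    gr x U hx (R.map i.op r) = gr x V (i.le hx) r :=
  TopCat.Presheaf.germ_res_apply R i x hx r

lemma exists_gm (P : PM R) (a : St x P) : ∃ (U : Opens X) (hx : x ∈ U) (m : P.obj (op U)),
    gm x P U hx m = a :=
  TopCat.Presheaf.exists_germ_eq P.presheaf a

lemma exists_gr (a : R.stalk x) : ∃ (U : Opens X) (hx : x ∈ U) (r : R.obj (op U)),
    gr x U hx r = a :=
  TopCat.Presheaf.exists_germ_eq R a

lemma gm_eq (P : PM R) {U V : Opens X} (hxU : x ∈ U) (hxV : x ∈ V) (m : P.obj (op U))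
    (m' : P.obj (op V)) (h : gm x P U hxU m = gm x P V hxV m') :
    ∃ (W : Opens X) (_ : x ∈ W) (iU : W ⟶ U) (iV : W ⟶ V), P.map iU.op m = P.map iV.op m' :=
  TopCat.Presheaf.germ_eq P.presheaf x hxU hxV m m' h

lemma exists_gm₂ (P Q : PM R) (a : St x P) (b : St x Q) :
    ∃ (W : Opens X) (hx : x ∈ W) (m : P.obj (op W)) (n : Q.obj (op W)),
      gm x P W hx m = a ∧ gm x Q W hx n = b := by
  obtain ⟨U, hU, m, rfl⟩ := exists_gm P a
  obtain ⟨V, hV, n, rfl⟩ := exists_gm Q b
  refine ⟨U ⊓ V, ⟨hU, hV⟩, P.map (homOfLE inf_le_left : U ⊓ V ⟶ U).op m,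
    Q.map (homOfLE inf_le_right : U ⊓ V ⟶ V).op n, ?_, ?_⟩
  · exact gm_res P _ _ m
  · exact gm_res Q _ _ n

lemma exists_gr_gm (P : PM R) (r : R.stalk x) (a : St x P) :
    ∃ (W : Opens X) (hx : x ∈ W) (ρ : R.obj (op W)) (m : P.obj (op W)),
      gr x W hx ρ = r ∧ gm x P W hx m = a := by
  obtain ⟨U, hU, ρ, rfl⟩ := exists_gr r
  obtain ⟨V, hV, m, rfl⟩ := exists_gm P a
  refine ⟨U ⊓ V, ⟨hU, hV⟩, R.map (homOfLE inf_le_left : U ⊓ V ⟶ U).op ρ,
    P.map (homOfLE inf_le_right : U ⊓ V ⟶ V).op m, ?_, ?_⟩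
  · exact gr_res _ _ ρ
  · exact gm_res P _ _ m

lemma exists_gm₃ (P : PM R) (a b : St x P) :
    ∃ (W : Opens X) (hx : x ∈ W) (m n : P.obj (op W)),
      gm x P W hx m = a ∧ gm x P W hx n = b := exists_gm₂ P P a b

/-- additive maps out of a stalk are determined by their values on germs. -/
lemma St_addHom_ext (P : PM R) {T : Type*} [AddCommGroup T] {f g : St x P →+ T}
    (h : ∀ (U : Opens X) (hx : x ∈ U) (m : P.obj (op U)), f (gm x P U hx m) = g (gm x P U hx m)) :
    f = g := by
  ext a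
  obtain ⟨U, hU, m, rfl⟩ := exists_gm P a
  exact h U hU m

variable (x) in
/-- the map on stalks induced by a morphism of presheaves of modules. -/
noncomputable def stMap {P Q : PM R} (φ : P ⟶ Q) : St x P →+ St x Q :=
  ((TopCat.Presheaf.stalkFunctor Ab x).map ((PresheafOfModules.toPresheaf _).map φ)).hom

lemma stMap_gm {P Q : PM R} (φ : P ⟶ Q) (U : Opens X) (hx : x ∈ U) (m : P.obj (op U)) :
    stMap x φ (gm x P U hx m) = gm x Q U hx (φ.app (op U) m) :=
  TopCat.Presheaf.stalkFunctor_map_germ_apply U x hx ((PresheafOfModules.toPresheaf _).map φ) m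

lemma stMap_smul {P Q : PM R} (φ : P ⟶ Q) (r : R.stalk x) (a : St x P) :
    stMap x φ (r • a) = r • stMap x φ a := by
  obtain ⟨W, hW, ρ, m, rfl, rfl⟩ := exists_gr_gm P r a
  rw [← gm_smul, stMap_gm, stMap_gm, ← gm_smul]
  congr 1
  exact (φ.app (op W)).hom.map_smul ρ m

variable (x) in
/-- the map on stalks, as a linear map. -/
noncomputable def stMapₗ {P Q : PM R} (φ : P ⟶ Q) : St x P →ₗ[R.stalk x] St x Q where
  toFun := stMap x φ
  map_add' := map_add _
  map_smul' := stMap_smul φ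

variable (x) in
/-- the stalk functor on presheaves of modules. -/
noncomputable def pstalk : PM R ⥤ ModuleCat.{u} (R.stalk x) where
  obj P := ModuleCat.of (R.stalk x) (St x P)
  map φ := ModuleCat.ofHom (stMapₗ x φ)
  map_id P := by
    ext a
    obtain ⟨U, hU, m, rfl⟩ := exists_gm P a
    exact stMap_gm (𝟙 P) U hU m
  map_comp {P Q T} φ ψ := by
    ext a
    obtain ⟨U, hU, m, rfl⟩ := exists_gm P a
    change stMap x (φ ≫ ψ) _ = stMap x ψ (stMap x φ _)
    rw [stMap_gm, stMap_gm, stMap_gm]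
    rfl

end Groth.Agent.Lib.Helper16.Stk
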