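import Mathlib
import Groth.Agent.Lib.Helper16.Stk1

/-!
# Helper16 — Stk2: the stalk of a tensor product of presheaves of modules
-/

set_option autoImplicit false
universe u
open CategoryTheory CategoryTheory.Limits TopologicalSpace Opposite MonoidalCategory

namespace Groth.Agent.Lib.Helper16.Stk

variable {X : TopCat.{u}} {R : X.Presheaf CommRingCat.{u}} {x : X}

/-- a pure tensor, as a section of the tensor product presheaf. -/
def tm (P Q : PM R) (U : Opens X) (m : P.obj (op U)) (n : Q.obj (op U)) :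
    (P ⊗ Q).obj (op U) := m ⊗ₜ[R.obj (op U)] n

/-- restriction maps with clean types. -/
noncomputable def res (P : PM R) {U V : Opens X} (i : U ⟶ V) : P.obj (op V) →+ P.obj (op U) :=
  (P.presheaf.map i.op).hom

lemma res_apply (P : PM R) {U V : Opens X} (i : U ⟶ V) (m : P.obj (op V)) :
    res P i m = P.map i.op m := rfl

lemma gm_res' (P : PM R) {U V : Opens X} (i : U ⟶ V) (hx : x ∈ U) (m : P.obj (op V)) :
    gm x P U hx (res P i m) = gm x P V (i.le hx) m := gm_res P i hx m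

lemma map_tm (P Q : PM R) {U V : Opens X} (i : U ⟶ V) (m : P.obj (op V)) (n : Q.obj (op V)) :
    res (P ⊗ Q) i (tm P Q V m n) = tm P Q U (res P i m) (res Q i n) := rfl

lemma gm_tm_res (P Q : PM R) {U V : Opens X} (i : U ⟶ V) (hx : x ∈ U) (m : P.obj (op V))
    (n : Q.obj (op V)) :
    gm x (P ⊗ Q) U hx (tm P Q U (res P i m) (res Q i n)) =
      gm x (P ⊗ Q) V (i.le hx) (tm P Q V m n) := by
  rw [← map_tm, gm_res']

lemma map_eq_of_thin (P : PM R) {U V : Opens X} (i j : U ⟶ V) (m : P.obj (op V)) :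
    res P i m = res P j m := by
  rw [Subsingleton.elim i j]

lemma map_map' (P : PM R) {U V W : Opens X} (i : U ⟶ V) (j : V ⟶ W) (m : P.obj (op W)) :
    res P i (res P j m) = res P (i ≫ j) m := by
  change P.map i.op (P.map j.op m) = P.map (i ≫ j).op m
  rw [op_comp, P.map_comp]
  rfl

lemma gm_tm_congr (P Q : PM R) {U V : Opens X} (hxU : x ∈ U) (hxV : x ∈ V)
    (m : P.obj (op U)) (m' : P.obj (op V)) (n : Q.obj (op U)) (n' : Q.obj (op V))
    (hm : gm x P U hxU m = gm x P V hxV m') (hn : gm x Q U hxU n = gm x Q V hxV n') :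
    gm x (P ⊗ Q) U hxU (tm P Q U m n) = gm x (P ⊗ Q) V hxV (tm P Q V m' n') := by
  obtain ⟨W₁, hW₁, iU, iV, h₁⟩ := gm_eq P hxU hxV m m' hm
  obtain ⟨W₂, hW₂, jU, jV, h₂⟩ := gm_eq Q hxU hxV n n' hn
  let k₁ : W₁ ⊓ W₂ ⟶ W₁ := homOfLE inf_le_left
  let k₂ : W₁ ⊓ W₂ ⟶ W₂ := homOfLE inf_le_right
  have hW : x ∈ W₁ ⊓ W₂ := ⟨hW₁, hW₂⟩
  rw [← gm_tm_res P Q (k₁ ≫ iU) hW m n, ← gm_tm_res P Q (k₁ ≫ iV) hW m' n']
  congr 2
  · rw [← map_map', ← map_map']
    exact congr_arg _ h₁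
  · rw [map_eq_of_thin Q (k₁ ≫ iU) (k₂ ≫ jU), map_eq_of_thin Q (k₁ ≫ iV) (k₂ ≫ jV),
      ← map_map', ← map_map']
    exact congr_arg _ h₂

/-- the biadditive map `P_x × Q_x → (P ⊗ Q)_x`, defined by choosing representatives. -/
noncomputable def bt (P Q : PM R) (a : St x P) (b : St x Q) : St x (P ⊗ Q) :=
  gm x (P ⊗ Q) (exists_gm₂ P Q a b).choose (exists_gm₂ P Q a b).choose_spec.choose
    (tm P Q _ (exists_gm₂ P Q a b).choose_spec.choose_spec.choose
      (exists_gm₂ P Q a b).choose_spec.choose_spec.choose_spec.choose)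

lemma bt_gm (P Q : PM R) (U : Opens X) (hx : x ∈ U) (m : P.obj (op U)) (n : Q.obj (op U)) :
    bt P Q (gm x P U hx m) (gm x Q U hx n) = gm x (P ⊗ Q) U hx (tm P Q U m n) := by
  have h := (exists_gm₂ P Q (gm x P U hx m)
    (gm x Q U hx n)).choose_spec.choose_spec.choose_spec.choose_spec
  exact gm_tm_congr P Q _ hx _ m _ n h.1 h.2

lemma exists_gm₂₁ (P Q : PM R) (a a' : St x P) (b : St x Q) :
    ∃ (W : Opens X) (hx : x ∈ W) (m m' : P.obj (op W)) (n : Q.obj (op W)),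
      gm x P W hx m = a ∧ gm x P W hx m' = a' ∧ gm x Q W hx n = b := by
  obtain ⟨U, hU, m, m', rfl, rfl⟩ := exists_gm₃ P a a'
  obtain ⟨V, hV, n, rfl⟩ := exists_gm Q b
  refine ⟨U ⊓ V, ⟨hU, hV⟩, P.map (homOfLE inf_le_left : U ⊓ V ⟶ U).op m,
    P.map (homOfLE inf_le_left : U ⊓ V ⟶ U).op m',
    Q.map (homOfLE inf_le_right : U ⊓ V ⟶ V).op n, ?_, ?_, ?_⟩
  · exact gm_res P _ _ m
  · exact gm_res P _ _ m'
  · exact gm_res Q _ _ n

lemma exists_gm₁₂ (P Q : PM R) (a : St x P) (b b' : St x Q) :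
    ∃ (W : Opens X) (hx : x ∈ W) (m : P.obj (op W)) (n n' : Q.obj (op W)),
      gm x P W hx m = a ∧ gm x Q W hx n = b ∧ gm x Q W hx n' = b' := by
  obtain ⟨U, hU, n, n', rfl, rfl⟩ := exists_gm₃ Q b b'
  obtain ⟨V, hV, m, rfl⟩ := exists_gm P a
  refine ⟨U ⊓ V, ⟨hU, hV⟩, P.map (homOfLE inf_le_right : U ⊓ V ⟶ V).op m,
    Q.map (homOfLE inf_le_left : U ⊓ V ⟶ U).op n,
    Q.map (homOfLE inf_le_left : U ⊓ V ⟶ U).op n', ?_, ?_, ?_⟩
  · exact gm_res P _ _ m
  · exact gm_res Q _ _ n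
  · exact gm_res Q _ _ n'

lemma exists_gr_gm₂ (P Q : PM R) (r : R.stalk x) (a : St x P) (b : St x Q) :
    ∃ (W : Opens X) (hx : x ∈ W) (ρ : R.obj (op W)) (m : P.obj (op W)) (n : Q.obj (op W)),
      gr x W hx ρ = r ∧ gm x P W hx m = a ∧ gm x Q W hx n = b := by
  obtain ⟨U, hU, m, n, rfl, rfl⟩ := exists_gm₂ P Q a b
  obtain ⟨V, hV, ρ, rfl⟩ := exists_gr r
  refine ⟨U ⊓ V, ⟨hU, hV⟩, R.map (homOfLE inf_le_right : U ⊓ V ⟶ V).op ρ,
    P.map (homOfLE inf_le_left : U ⊓ V ⟶ U).op m,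
    Q.map (homOfLE inf_le_left : U ⊓ V ⟶ U).op n, ?_, ?_, ?_⟩
  · exact gr_res _ _ ρ
  · exact gm_res P _ _ m
  · exact gm_res Q _ _ n

lemma tm_add_left (P Q : PM R) (U : Opens X) (m m' : P.obj (op U)) (n : Q.obj (op U)) :
    tm P Q U (m + m') n = tm P Q U m n + tm P Q U m' n := TensorProduct.add_tmul m m' n

lemma tm_add_right (P Q : PM R) (U : Opens X) (m : P.obj (op U)) (n n' : Q.obj (op U)) :
    tm P Q U m (n + n') = tm P Q U m n + tm P Q U m n' := TensorProduct.tmul_add m n n'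

lemma tm_smul_left (P Q : PM R) (U : Opens X) (ρ : R.obj (op U)) (m : P.obj (op U))
    (n : Q.obj (op U)) : tm P Q U (ρ • m) n = ρ • tm P Q U m n :=
  (TensorProduct.smul_tmul' ρ m n).symm

lemma tm_smul_right (P Q : PM R) (U : Opens X) (ρ : R.obj (op U)) (m : P.obj (op U))
    (n : Q.obj (op U)) : tm P Q U m (ρ • n) = ρ • tm P Q U m n :=
  TensorProduct.tmul_smul ρ m n

lemma bt_add_left (P Q : PM R) (a a' : St x P) (b : St x Q) :
    bt P Q (a + a') b = bt P Q a b + bt P Q a' b := by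
  obtain ⟨W, hW, m, m', n, rfl, rfl, rfl⟩ := exists_gm₂₁ P Q a a' b
  rw [← map_add, bt_gm, bt_gm, bt_gm, tm_add_left, map_add]

lemma bt_add_right (P Q : PM R) (a : St x P) (b b' : St x Q) :
    bt P Q a (b + b') = bt P Q a b + bt P Q a b' := by
  obtain ⟨W, hW, m, n, n', rfl, rfl, rfl⟩ := exists_gm₁₂ P Q a b b'
  rw [← map_add, bt_gm, bt_gm, bt_gm, tm_add_right, map_add]

lemma bt_smul_left (P Q : PM R) (r : R.stalk x) (a : St x P) (b : St x Q) :
    bt P Q (r • a) b = r • bt P Q a b := by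
  obtain ⟨W, hW, ρ, m, n, rfl, rfl, rfl⟩ := exists_gr_gm₂ P Q r a b
  rw [← gm_smul, bt_gm, bt_gm, tm_smul_left, gm_smul]

lemma bt_smul_right (P Q : PM R) (r : R.stalk x) (a : St x P) (b : St x Q) :
    bt P Q a (r • b) = r • bt P Q a b := by
  obtain ⟨W, hW, ρ, m, n, rfl, rfl, rfl⟩ := exists_gr_gm₂ P Q r a b
  rw [← gm_smul, bt_gm, bt_gm, tm_smul_right, gm_smul]

/-- the comparison map `P_x ⊗ Q_x → (P ⊗ Q)_x`. -/
noncomputable def tsInv (P Q : PM R) :
    TensorProduct (R.stalk x) (St x P) (St x Q) →ₗ[R.stalk x] St x (P ⊗ Q) :=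
  TensorProduct.lift (LinearMap.mk₂ (R.stalk x) (bt P Q) (bt_add_left P Q) (bt_smul_left P Q)
    (bt_add_right P Q) (bt_smul_right P Q))

lemma tsInv_tmul (P Q : PM R) (a : St x P) (b : St x Q) :
    tsInv P Q (a ⊗ₜ b) = bt P Q a b := rfl

section Desc

variable (P : PM R) {T : Type u} [AddCommGroup T]
  (f : ∀ (U : Opens X), x ∈ U → (P.obj (op U) →+ T))
  (hf : ∀ {U V : Opens X} (i : U ⟶ V) (hx : x ∈ U) (m : P.obj (op V)),
    f U hx (P.map i.op m) = f V (i.le hx) m)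

/-- the cocone used to define maps out of a stalk. -/
noncomputable def stCocone : Cocone ((OpenNhds.inclusion x).op ⋙ P.presheaf) where
  pt := AddCommGrpCat.of T
  ι :=
    { app := fun U => AddCommGrpCat.ofHom (f U.unop.1 U.unop.2)
      naturality := fun U V i => by
        ext m
        exact hf ((OpenNhds.inclusion x).map i.unop) V.unop.2 m }

/-- maps out of a stalk. -/
noncomputable def stDesc : St x P →+ T :=
  (colimit.desc ((OpenNhds.inclusion x).op ⋙ P.presheaf) (stCocone P f hf)).hom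

lemma stDesc_gm (U : Opens X) (hx : x ∈ U) (m : P.obj (op U)) :
    stDesc P f hf (gm x P U hx m) = f U hx m := by
  have h := colimit.ι_desc (stCocone P f hf) (op (⟨U, hx⟩ : OpenNhds x))
  exact congr_arg (fun φ => φ.hom m) h

end Desc

/-- auxiliary biadditive map for `tsHomAux`. -/
noncomputable def tsBi (P Q : PM R) (U : Opens X) (hx : x ∈ U) :
    P.obj (op U) →+ Q.obj (op U) →+ TensorProduct (R.stalk x) (St x P) (St x Q) :=
  AddMonoidHom.mk' (fun m => AddMonoidHom.mk' (fun n => gm x P U hx m ⊗ₜ[R.stalk x] gm x Q U hx n)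
    (fun n n' => by rw [map_add, TensorProduct.tmul_add]))
    (fun m m' => by
      ext n
      change gm x P U hx (m + m') ⊗ₜ[R.stalk x] gm x Q U hx n = _
      rw [map_add, TensorProduct.add_tmul]
      rfl)

/-- the sectionwise maps `P(U) ⊗ Q(U) → P_x ⊗ Q_x`. -/
noncomputable def tsHomAux (P Q : PM R) (U : Opens X) (hx : x ∈ U) :
    (P ⊗ Q).obj (op U) →+ TensorProduct (R.stalk x) (St x P) (St x Q) :=
  TensorProduct.liftAddHom (R := R.obj (op U)) (tsBi P Q U hx) (fun ρ m n => by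
    change gm x P U hx (ρ • m) ⊗ₜ[R.stalk x] gm x Q U hx n =
      gm x P U hx m ⊗ₜ[R.stalk x] gm x Q U hx (ρ • n)
    rw [gm_smul, gm_smul, TensorProduct.smul_tmul])

lemma tsHomAux_tm (P Q : PM R) (U : Opens X) (hx : x ∈ U) (m : P.obj (op U)) (n : Q.obj (op U)) :
    tsHomAux P Q U hx (tm P Q U m n) = gm x P U hx m ⊗ₜ[R.stalk x] gm x Q U hx n := rfl

lemma tensor_addHom_ext {A : Type*} [CommRing A] {M N T : Type*} [AddCommGroup M] [Module A M]
    [AddCommGroup N] [Module A N] [AddCommGroup T] {f g : TensorProduct A M N →+ T}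
    (h : ∀ m n, f (m ⊗ₜ n) = g (m ⊗ₜ n)) : f = g := by
  ext t
  induction t using TensorProduct.induction_on with
  | zero => simp
  | tmul m n => exact h m n
  | add a b ha hb => rw [map_add, map_add, ha, hb]

lemma tsHomAux_res (P Q : PM R) {U V : Opens X} (i : U ⟶ V) (hx : x ∈ U)
    (t : (P ⊗ Q).obj (op V)) :
    tsHomAux P Q U hx ((P ⊗ Q).map i.op t) = tsHomAux P Q V (i.le hx) t := by
  have key : (tsHomAux P Q U hx).comp (res (P ⊗ Q) i) = tsHomAux P Q V (i.le hx) := by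
    apply tensor_addHom_ext (A := R.obj (op V))
    intro m n
    change tsHomAux P Q U hx (res (P ⊗ Q) i (tm P Q V m n)) = tsHomAux P Q V _ (tm P Q V m n)
    rw [map_tm, tsHomAux_tm, tsHomAux_tm, gm_res', gm_res']
  exact DFunLike.congr_fun key t

/-- the comparison map `(P ⊗ Q)_x → P_x ⊗ Q_x`, additive version. -/
noncomputable def tsHomAdd (P Q : PM R) :
    St x (P ⊗ Q) →+ TensorProduct (R.stalk x) (St x P) (St x Q) :=
  stDesc (P ⊗ Q) (fun U hx => tsHomAux P Q U hx) (fun i hx t => tsHomAux_res P Q i hx t)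

lemma tsHomAdd_gm_tm (P Q : PM R) (U : Opens X) (hx : x ∈ U) (m : P.obj (op U))
    (n : Q.obj (op U)) :
    tsHomAdd P Q (gm x (P ⊗ Q) U hx (tm P Q U m n)) =
      gm x P U hx m ⊗ₜ[R.stalk x] gm x Q U hx n := by
  rw [tsHomAdd, stDesc_gm, tsHomAux_tm]

lemma tsInv_tsHomAdd (P Q : PM R) (c : St x (P ⊗ Q)) : tsInv P Q (tsHomAdd P Q c) = c := by
  have key : ((tsInv (x := x) P Q).toAddMonoidHom.comp (tsHomAdd P Q)) = AddMonoidHom.id _ := by
    apply St_addHom_ext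
    intro U hx t
    have key' : (((tsInv (x := x) P Q).toAddMonoidHom.comp (tsHomAdd P Q)).comp
        (gm x (P ⊗ Q) U hx)) =
        (AddMonoidHom.id _).comp (gm x (P ⊗ Q) U hx) := by
      apply tensor_addHom_ext (A := R.obj (op U))
      intro m n
      change tsInv P Q (tsHomAdd P Q (gm x (P ⊗ Q) U hx (tm P Q U m n))) =
        gm x (P ⊗ Q) U hx (tm P Q U m n)
      rw [tsHomAdd_gm_tm, tsInv_tmul, bt_gm]
    exact DFunLike.congr_fun key' t
  exact DFunLike.congr_fun key c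

lemma tsHomAdd_tsInv (P Q : PM R) (c : TensorProduct (R.stalk x) (St x P) (St x Q)) :
    tsHomAdd P Q (tsInv P Q c) = c := by
  induction c using TensorProduct.induction_on with
  | zero => simp
  | tmul a b =>
    obtain ⟨W, hW, m, n, rfl, rfl⟩ := exists_gm₂ P Q a b
    rw [tsInv_tmul, bt_gm, tsHomAdd_gm_tm]
  | add c c' h h' => rw [map_add, map_add, h, h']

/-- `P_x ⊗ Q_x ≃ (P ⊗ Q)_x`. -/
noncomputable def tsEquiv (P Q : PM R) :
    TensorProduct (R.stalk x) (St x P) (St x Q) ≃ₗ[R.stalk x] St x (P ⊗ Q) :=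
  { tsInv P Q with
    invFun := tsHomAdd P Q
    left_inv := tsHomAdd_tsInv P Q
    right_inv := tsInv_tsHomAdd P Q }

variable (x) in
/-- **the stalk of a tensor product of presheaves of modules.** -/
noncomputable def pstalkTensorIso (P Q : PM R) :
    (pstalk x).obj P ⊗ (pstalk x).obj Q ≅ (pstalk x).obj (P ⊗ Q) :=
  (tsEquiv P Q).toModuleIso

lemma pstalkTensorIso_hom_tmul (P Q : PM R) (U : Opens X) (hx : x ∈ U) (m : P.obj (op U))
    (n : Q.obj (op U)) :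
    (pstalkTensorIso x P Q).hom (gm x P U hx m ⊗ₜ[R.stalk x] gm x Q U hx n) =
      gm x (P ⊗ Q) U hx (tm P Q U m n) :=
  bt_gm P Q U hx m n

lemma tensorHom_app_tm {P P' Q Q' : PM R} (φ : P ⟶ P') (ψ : Q ⟶ Q') (U : Opens X)
    (m : P.obj (op U)) (n : Q.obj (op U)) :
    (φ ⊗ₘ ψ).app (op U) (tm P Q U m n) = tm P' Q' U (φ.app (op U) m) (ψ.app (op U) n) := rfl

lemma pstalkTensorIso_naturality {P P' Q Q' : PM R} (φ : P ⟶ P') (ψ : Q ⟶ Q') :
    ((pstalk x).map φ ⊗ₘ (pstalk x).map ψ) ≫ (pstalkTensorIso x P' Q').hom =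
      (pstalkTensorIso x P Q).hom ≫ (pstalk x).map (φ ⊗ₘ ψ) := by
  apply ModuleCat.MonoidalCategory.tensor_ext
  intro a b
  obtain ⟨W, hW, m, n, rfl, rfl⟩ := exists_gm₂ P Q a b
  change (pstalkTensorIso x P' Q').hom (stMap x φ (gm x P W hW m) ⊗ₜ[R.stalk x]
      stMap x ψ (gm x Q W hW n)) =
    stMap x (φ ⊗ₘ ψ) ((pstalkTensorIso x P Q).hom (gm x P W hW m ⊗ₜ[R.stalk x] gm x Q W hW n))
  rw [stMap_gm, stMap_gm, pstalkTensorIso_hom_tmul, pstalkTensorIso_hom_tmul, stMap_gm,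
    tensorHom_app_tm]

end Groth.Agent.Lib.Helper16.Stk
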