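import Mathlib
import Groth.Agent.Lib.Helper16.Stk2

/-!
# Helper16 — Sky1: skyscraper presheaves of modules
-/

set_option autoImplicit false
universe u
open CategoryTheory CategoryTheory.Limits TopologicalSpace Opposite

namespace Groth.Agent.Lib.Helper16.Stk

variable {X : TopCat.{u}} {R : X.Presheaf CommRingCat.{u}} (x : X)
  (N : Type u) [AddCommGroup N] [Module (R.stalk x) N]

/-- the skyscraper abelian presheaf at `x` with value `N`: sections over `U` are the functions
from proofs of `x ∈ U` to `N`. -/
def skyAb : (Opens X)ᵒᵖ ⥤ Ab.{u} where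
  obj U := AddCommGrpCat.of (PLift (x ∈ U.unop) → N)
  map {U V} i := AddCommGrpCat.ofHom
    { toFun := fun f h => f ⟨i.unop.le h.down⟩
      map_zero' := rfl
      map_add' := fun _ _ => rfl }
  map_id _ := rfl
  map_comp _ _ := rfl

noncomputable instance skyModule (U : (Opens X)ᵒᵖ) :
    Module ((R ⋙ forget₂ CommRingCat RingCat).obj U) ((skyAb (X := X) x N).obj U) where
  smul r f := fun h => (gr (R := R) x U.unop h.down r) • f h
  one_smul f := by
    funext h
    change (gr (R := R) x U.unop h.down 1) • f h = f h
    rw [map_one, one_smul]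
  mul_smul r s f := by
    funext h
    change (gr (R := R) x U.unop h.down (r * s)) • f h =
      (gr (R := R) x U.unop h.down r) • ((gr (R := R) x U.unop h.down s) • f h)
    rw [map_mul, mul_smul]
  smul_zero r := by
    funext h
    exact smul_zero _
  smul_add r f g := by
    funext h
    exact smul_add _ _ _
  add_smul r s f := by
    funext h
    change (gr (R := R) x U.unop h.down (r + s)) • f h =
      (gr (R := R) x U.unop h.down r) • f h + (gr (R := R) x U.unop h.down s) • f h
    rw [map_add, add_smul]
  zero_smul f := by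
    funext h
    change (gr (R := R) x U.unop h.down 0) • f h = 0
    rw [map_zero, zero_smul]

lemma sky_smul_apply (U : (Opens X)ᵒᵖ) (r : (R ⋙ forget₂ CommRingCat RingCat).obj U)
    (f : (skyAb (X := X) x N).obj U) (h : PLift (x ∈ U.unop)) :
    (r • f) h = (gr (R := R) x U.unop h.down r) • f h := rfl

lemma skyAb_map_apply {U V : (Opens X)ᵒᵖ} (i : U ⟶ V) (f : (skyAb (X := X) x N).obj U)
    (h : PLift (x ∈ V.unop)) : (skyAb (X := X) x N).map i f h = f ⟨i.unop.le h.down⟩ := rfl

/-- the skyscraper presheaf of modules at `x` with value `N`. -/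
noncomputable def skyP : PM R :=
  PresheafOfModules.ofPresheaf (skyAb (X := X) x N) (fun U V i r f => by
    funext h
    rw [sky_smul_apply, skyAb_map_apply, skyAb_map_apply, sky_smul_apply]
    congr 1
    exact (gr_res (R := R) i.unop h.down r).symm)

lemma skyP_map_apply {U V : Opens X} (i : U ⟶ V) (f : (skyP (R := R) x N).obj (op V))
    (h : PLift (x ∈ U)) : res (skyP (R := R) x N) i f h = f ⟨i.le h.down⟩ := rfl

/-- evaluation of a section of the skyscraper at `x`. -/
def skyEv (U : Opens X) (hx : x ∈ U) : (skyP (R := R) x N).obj (op U) →+ N where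
  toFun f := f ⟨hx⟩
  map_zero' := rfl
  map_add' _ _ := rfl

lemma skyEv_res {U V : Opens X} (i : U ⟶ V) (hx : x ∈ U)
    (m : (skyP (R := R) x N).obj (op V)) :
    skyEv (R := R) x N U hx ((skyP (R := R) x N).map i.op m) = skyEv x N V (i.le hx) m := rfl

/-- the stalk of the skyscraper at `x`, evaluation map. -/
noncomputable def skyStalkEv : St x (skyP (R := R) x N) →+ N :=
  stDesc (skyP (R := R) x N) (fun U hx => skyEv x N U hx) (fun i hx m => skyEv_res x N i hx m)

lemma skyStalkEv_gm (U : Opens X) (hx : x ∈ U) (f : (skyP (R := R) x N).obj (op U)) :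
    skyStalkEv (R := R) x N (gm x _ U hx f) = f ⟨hx⟩ :=
  stDesc_gm (skyP (R := R) x N) (fun U hx => skyEv x N U hx)
    (fun i hx m => skyEv_res x N i hx m) U hx f

/-- the constant section. -/
def skyConst (n : N) : (skyP (R := R) x N).obj (op ⊤) := fun _ => n

/-- the germ of the constant section. -/
noncomputable def skyGerm (n : N) : St x (skyP (R := R) x N) :=
  gm x (skyP (R := R) x N) ⊤ (Opens.mem_top x) (skyConst x N n)

lemma skyGerm_eq (U : Opens X) (hx : x ∈ U) (f : (skyP (R := R) x N).obj (op U)) :
    skyGerm (R := R) x N (f ⟨hx⟩) = gm x _ U hx f := by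
  unfold skyGerm
  rw [← gm_res' (skyP (R := R) x N) (homOfLE le_top : U ⟶ ⊤) hx]
  congr 1

/-- the stalk of the skyscraper at `x` is `N`. -/
noncomputable def skyStalkEquiv : St x (skyP (R := R) x N) ≃ₗ[R.stalk x] N where
  toFun := skyStalkEv x N
  map_add' := map_add _
  map_smul' r a := by
    obtain ⟨W, hW, ρ, m, rfl, rfl⟩ := exists_gr_gm (skyP (R := R) x N) r a
    rw [← gm_smul, skyStalkEv_gm, skyStalkEv_gm]
    rfl
  invFun := skyGerm x N
  left_inv a := by
    obtain ⟨U, hU, f, rfl⟩ := exists_gm (skyP (R := R) x N) a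
    rw [skyStalkEv_gm, skyGerm_eq]
  right_inv n := skyStalkEv_gm x N ⊤ (Opens.mem_top x) (skyConst x N n)

section Functor

variable {N} {N' : Type u} [AddCommGroup N'] [Module (R.stalk x) N']

/-- the map of skyscraper abelian presheaves induced by an additive map. -/
def skyAbMap (φ : N →+ N') : skyAb (X := X) x N ⟶ skyAb (X := X) x N' where
  app U := AddCommGrpCat.ofHom
    { toFun := fun f h => φ (f h)
      map_zero' := by
        funext h
        exact map_zero φ
      map_add' := fun f g => by
        funext h
        exact map_add φ _ _ }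
  naturality _ _ _ := rfl

/-- the map of skyscraper presheaves of modules induced by a linear map. -/
noncomputable def skyPMap (φ : N →ₗ[R.stalk x] N') : skyP (R := R) x N ⟶ skyP (R := R) x N' :=
  PresheafOfModules.homMk (skyAbMap x φ.toAddMonoidHom) (fun U r f => by
    funext h
    change φ ((gr (R := R) x U.unop h.down r) • f h) = (gr (R := R) x U.unop h.down r) • φ (f h)
    exact map_smul φ _ _)

lemma skyPMap_app_apply (φ : N →ₗ[R.stalk x] N') (U : Opens X)
    (f : (skyP (R := R) x N).obj (op U)) (h : PLift (x ∈ U)) :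
    (skyPMap (R := R) x φ).app (op U) f h = φ (f h) := rfl

end Functor

/-- the skyscraper functor to presheaves of modules. -/
noncomputable def skyPFunctor : ModuleCat.{u} (R.stalk x) ⥤ PM R where
  obj N := skyP (R := R) x N
  map φ := skyPMap x φ.hom
  map_id _ := rfl
  map_comp _ _ := rfl

/-- the stalk at `x` of the skyscraper functor is the identity. -/
noncomputable def skyPStalkIso : skyPFunctor (R := R) x ⋙ pstalk x ≅ 𝟭 _ :=
  NatIso.ofComponents (fun N => (skyStalkEquiv (R := R) x N).toModuleIso) (fun {N N'} φ => by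
    ext a
    obtain ⟨U, hU, f, rfl⟩ := exists_gm (skyP (R := R) x N) a
    change skyStalkEv (R := R) x N' (stMap x (skyPMap (R := R) x φ.hom) (gm x _ U hU f)) =
      φ.hom (skyStalkEv (R := R) x N (gm x _ U hU f))
    rw [stMap_gm, skyStalkEv_gm, skyStalkEv_gm, skyPMap_app_apply])

end Groth.Agent.Lib.Helper16.Stk
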