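import Mathlib
import Groth.Agent.Lib.Helper16.Sky1

/-!
# Helper16 — Sky2: the skyscraper presheaf of modules is a sheaf
-/

set_option autoImplicit false
universe u
open CategoryTheory CategoryTheory.Limits TopologicalSpace Opposite

namespace Groth.Agent.Lib.Helper16.Stk

variable {X : TopCat.{u}} (x : X) (N : Type u) [AddCommGroup N]

open Classical in
lemma skyAb_isSheaf : TopCat.Presheaf.IsSheaf (skyAb (X := X) x N) := by
  rw [TopCat.Presheaf.isSheaf_iff_isSheafUniqueGluing]
  intro ι U sf hsf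
  have hc : ∀ (i j : ι) (hi : x ∈ U i) (hj : x ∈ U j), sf i ⟨hi⟩ = sf j ⟨hj⟩ := by
    intro i j hi hj
    have := congr_fun (hsf i j) ⟨(⟨hi, hj⟩ : x ∈ U i ⊓ U j)⟩
    exact this
  let s : (skyAb (X := X) x N).obj (op (iSup U)) := fun h =>
    sf (Opens.mem_iSup.1 h.down).choose ⟨(Opens.mem_iSup.1 h.down).choose_spec⟩
  refine ⟨s, fun i => ?_, fun s' hs' => ?_⟩
  · funext h
    exact hc _ _ _ _
  · funext h
    have h1 := congr_fun (hs' (Opens.mem_iSup.1 h.down).choose)
      ⟨(Opens.mem_iSup.1 h.down).choose_spec⟩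
    exact h1

end Groth.Agent.Lib.Helper16.Stk
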