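import Mathlib
import Groth.Agent.Lib.Helper16.Sky2

/-!
# Helper16 — Sky3: the adjunction between the stalk functor and the skyscraper functor
(presheaves of modules on a topological space)
-/

set_option autoImplicit false
universe u
open CategoryTheory CategoryTheory.Limits TopologicalSpace Opposite

namespace Groth.Agent.Lib.Helper16.Stk

variable {X : TopCat.{u}} {R : X.Presheaf CommRingCat.{u}} (x : X)

/-- the unit `P ⟶ sky(P_x)`, on abelian presheaves. -/
noncomputable def skyUnitAb (P : PM R) : P.presheaf ⟶ skyAb (X := X) x (St x P) where
  app U := AddCommGrpCat.ofHom
    { toFun := fun m h => gm x P U.unop h.down m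
      map_zero' := by
        funext h
        exact map_zero _
      map_add' := fun m m' => by
        funext h
        exact map_add _ _ _ }
  naturality U V i := by
    ext m
    funext h
    exact gm_res P i.unop h.down m

/-- the unit `P ⟶ sky(P_x)`. -/
noncomputable def skyUnit (P : PM R) : P ⟶ skyP (R := R) x (St x P) :=
  PresheafOfModules.homMk (skyUnitAb x P) (fun U r m => by
    funext h
    exact gm_smul P U.unop h.down r m)

lemma skyUnit_app_apply (P : PM R) (U : Opens X) (m : P.obj (op U)) (h : PLift (x ∈ U)) :
    (skyUnit x P).app (op U) m h = gm x P U h.down m := rfl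

/-- the unit of the adjunction, as a natural transformation. -/
noncomputable def skyUnitNat : 𝟭 (PM R) ⟶ pstalk x ⋙ skyPFunctor (R := R) x where
  app P := skyUnit x P
  naturality {P Q} φ := by
    apply (PresheafOfModules.toPresheaf _).map_injective
    ext U m
    funext h
    exact (stMap_gm φ U.unop h.down m).symm

/-- **the adjunction between the stalk functor and the skyscraper functor.** -/
noncomputable def pstalkSkyAdj : pstalk (R := R) x ⊣ skyPFunctor (R := R) x :=
  Adjunction.mkOfUnitCounit
    { unit := skyUnitNat x
      counit := (skyPStalkIso (R := R) x).hom
      left_triangle := by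
        ext P : 2
        ext a
        obtain ⟨U, hU, m, rfl⟩ := exists_gm P a
        change skyStalkEv (R := R) x (St x P)
          (stMap x (skyUnit x P) (gm x P U hU m)) = gm x P U hU m
        rw [stMap_gm, skyStalkEv_gm, skyUnit_app_apply]
      right_triangle := by
        ext N : 2
        apply (PresheafOfModules.toPresheaf _).map_injective
        ext U f
        funext h
        exact skyStalkEv_gm (R := R) x N U.unop h.down f }

end Groth.Agent.Lib.Helper16.Stk
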