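import Mathlib
import Groth.Prelude.Def_ModSite

/-!
# Helper16 — SMod1: `SheafOfModules.toSheaf` preserves colimits; AB4 / AB5 for sheaves of modules
-/

set_option autoImplicit false
universe w' w v v' u' u
open CategoryTheory CategoryTheory.Limits

namespace Groth.Agent.Lib.Helper16.SMod

section Reflective

variable {C : Type*} [Category C] {D : Type*} [Category D] {E : Type*} [Category E]
  {K : Type*} [Category K]

/-- if `a ⊣ i` with `i` fully faithful and `a ⋙ G` preserves colimits of shape `K`, so does `G`. -/
lemma preservesColimitsOfShape_of_reflective {a : C ⥤ D} {i : D ⥤ C} (adj : a ⊣ i)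
    [i.Full] [i.Faithful] (G : D ⥤ E) [HasColimitsOfShape K C]
    [PreservesColimitsOfShape K (a ⋙ G)] : PreservesColimitsOfShape K G where
  preservesColimit {F} := by
    haveI : IsIso adj.counit := inferInstance
    let e : (F ⋙ i) ⋙ a ≅ F :=
      Functor.associator _ _ _ ≪≫ Functor.isoWhiskerLeft F (asIso adj.counit) ≪≫ F.rightUnitor
    haveI : PreservesColimit ((F ⋙ i) ⋙ a) G := by
      haveI : a.IsLeftAdjoint := adj.isLeftAdjoint
      have h₁ : IsColimit (a.mapCocone (colimit.cocone (F ⋙ i))) :=
        isColimitOfPreserves a (colimit.isColimit _)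
      have h₂ : IsColimit (G.mapCocone (a.mapCocone (colimit.cocone (F ⋙ i)))) :=
        isColimitOfPreserves (a ⋙ G) (colimit.isColimit (F ⋙ i))
      exact preservesColimit_of_preserves_colimit_cocone h₁ h₂
    exact preservesColimit_of_iso_diagram G e

end Reflective

section ToSheaf

variable {C : Type u'} [Category.{v'} C] {J : GrothendieckTopology C} (R : Sheaf J RingCat.{u})
  [HasSheafify J AddCommGrpCat.{v}] [J.WEqualsLocallyBijective AddCommGrpCat.{v}]
  (K : Type w) [Category.{w'} K]


/-- the forgetful functor from sheaves of modules to sheaves of abelian groups preserves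
colimits. -/
lemma toSheaf_preservesColimitsOfShape [HasColimitsOfShape K (PresheafOfModules.{v} R.obj)]
    [HasColimitsOfShape K AddCommGrpCat.{v}] :
    PreservesColimitsOfShape K (SheafOfModules.toSheaf.{v} R) := by
  haveI : PreservesColimitsOfShape K
      (PresheafOfModules.sheafification.{v} (𝟙 R.obj) ⋙ SheafOfModules.toSheaf.{v} R) :=
    inferInstanceAs (PreservesColimitsOfShape K
      (PresheafOfModules.toPresheaf.{v} R.obj ⋙ presheafToSheaf J AddCommGrpCat.{v}))
  exact preservesColimitsOfShape_of_reflective
    (PresheafOfModules.sheafificationAdjunction.{v} (𝟙 R.obj)) _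

/-- exactness of colimits of shape `K` in sheaves of modules, from abelian groups. -/
lemma hasExactColimitsOfShape [HasColimitsOfShape K (PresheafOfModules.{v} R.obj)]
    [HasColimitsOfShape K AddCommGrpCat.{v}] [HasExactColimitsOfShape K AddCommGrpCat.{v}]
    [HasFiniteLimits (SheafOfModules.{v} R)] :
    HasExactColimitsOfShape K (SheafOfModules.{v} R) := by
  haveI := toSheaf_preservesColimitsOfShape.{w', w, v} R K
  exact HasExactColimitsOfShape.domain_of_functor K (SheafOfModules.toSheaf.{v} R)

end ToSheaf

section ModSite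

variable {C : Type u} [SmallCategory C] {J : GrothendieckTopology C} (O : Sheaf J CommRingCat.{u})

/-- AB5 for `Mod O`. -/
theorem ab5 (Λ : Type u) [SmallCategory Λ] [IsFiltered Λ] :
    HasExactColimitsOfShape Λ (ModSite.Mod O) :=
  hasExactColimitsOfShape.{u, u, u} (ModSite.ringSh O) Λ

/-- AB4 (small coproducts) for `Mod O`. -/
theorem ab4 (ι : Type u) : HasExactColimitsOfShape (Discrete ι) (ModSite.Mod O) :=
  hasExactColimitsOfShape.{u, u, u} (ModSite.ringSh O) (Discrete ι)

/-- AB4 for coproducts indexed by a type in `Type`. -/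
theorem ab4₀ (ι : Type) : HasExactColimitsOfShape (Discrete ι) (ModSite.Mod O) :=
  hasExactColimitsOfShape.{0, 0, u} (ModSite.ringSh O) (Discrete ι)

/-- AB5 for sequential colimits. -/
theorem ab5Nat : HasExactColimitsOfShape ℕ (ModSite.Mod O) := by
  haveI : HasFilteredColimitsOfSize.{0, 0} AddCommGrpCat.{u} := ⟨fun _ _ _ => inferInstance⟩
  haveI : AB5OfSize.{0, 0} AddCommGrpCat.{u} := AB5OfSize_of_univLE.{0, 0, u, u} _
  exact hasExactColimitsOfShape.{0, 0, u} (ModSite.ringSh O) ℕ

end ModSite

end Groth.Agent.Lib.Helper16.SMod
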