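import Mathlib
import Groth.Prelude.Def_DCoh4
import Groth.Agent.Lib.Helper16.BiCx2
import Groth.Agent.Lib.Helper16.SMod1

/-!
# Helper16 — BiCx4: K-flat complexes of modules on a scheme (general homological facts)
-/

set_option autoImplicit false
universe u
open CategoryTheory CategoryTheory.Limits HomologicalComplex AlgebraicGeometry

namespace Groth.Agent.Lib.Helper16.BiCx

open Groth.Agent.Lib.Helper16.KF (Idx)

variable {X : Scheme.{u}}

instance hasExactColimitsOfShape_idx_scheme (n : ℤ) :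
    HasExactColimitsOfShape (Discrete (Idx n)) X.Modules :=
  Groth.Agent.Lib.Helper16.SMod.hasExactColimitsOfShape.{0, 0, u} X.ringCatSheaf _

lemma dcoh_isKFlat_iff (K : CochainComplex X.Modules ℤ) :
    DCoh.IsKFlat K ↔ IsKFlatR (DCoh.tensorBi (X := X)) K := Iff.rfl

/-- tensoring with a K-flat complex preserves quasi-isomorphisms. -/
theorem dcoh_quasiIso_mapL_of_isKFlat {K : CochainComplex X.Modules ℤ} (hK : DCoh.IsKFlat K)
    {L₁ L₂ : CochainComplex X.Modules ℤ} (f : L₁ ⟶ L₂) [QuasiIso f] :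
    QuasiIso (mapL (DCoh.tensorBi (X := X)) f K) :=
  quasiIso_mapL_of_isKFlatR (DCoh.tensorBi (X := X)) hK f

open CochainComplex in
theorem dcoh_isKFlat_mappingCone_two_out_of_three {K₁ K₂ : CochainComplex X.Modules ℤ}
    (φ : K₁ ⟶ K₂) :
    (DCoh.IsKFlat K₁ → DCoh.IsKFlat K₂ → DCoh.IsKFlat (mappingCone φ)) ∧
    (DCoh.IsKFlat K₁ → DCoh.IsKFlat (mappingCone φ) → DCoh.IsKFlat K₂) ∧
    (DCoh.IsKFlat K₂ → DCoh.IsKFlat (mappingCone φ) → DCoh.IsKFlat K₁) :=
  isKFlatR_mappingCone_two_out_of_three (DCoh.tensorBi (X := X)) φ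

end Groth.Agent.Lib.Helper16.BiCx
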