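import Mathlib
import Groth.Prelude.Def_DCoh4
import Groth.Prelude.Def_DerSch
import Groth.Agent.Lib.Helper16.Stk2

/-!
# Helper16 — Stk3: locally bijective morphisms of presheaves induce bijections on stalks;
the stalk of the sheafification of a presheaf of modules
-/

set_option autoImplicit false
universe u
open CategoryTheory CategoryTheory.Limits TopologicalSpace Opposite

namespace Groth.Agent.Lib.Helper16.Stk

section Top

variable {X : TopCat.{u}} {F G : X.Presheaf Ab.{u}} (φ : F ⟶ G) (x : X)

lemma stalk_map_injective_of_isLocallyInjective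
    [Presheaf.IsLocallyInjective (Opens.grothendieckTopology X) φ] :
    Function.Injective ((TopCat.Presheaf.stalkFunctor Ab x).map φ) := by
  rw [injective_iff_map_eq_zero]
  intro a ha
  obtain ⟨U, hU, s, rfl⟩ := TopCat.Presheaf.exists_germ_eq F a
  rw [TopCat.Presheaf.stalkFunctor_map_germ_apply] at ha
  have h0 : G.germ U x hU (φ.app (op U) s) = G.germ U x hU 0 := by
    rw [ha]
    exact (map_zero _).symm
  obtain ⟨W, hW, iU, iV, h₁⟩ := TopCat.Presheaf.germ_eq G x hU hU _ _ h0
  have h₂ : φ.app (op W) (F.map iU.op s) = φ.app (op W) 0 := by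
    have := congr_arg (fun f => f.hom s) (φ.naturality iU.op)
    simp only [map_zero] at h₁ ⊢
    rw [← h₁]
    exact this
  have h₃ := Presheaf.equalizerSieve_mem (Opens.grothendieckTopology X) φ _ _ h₂
  obtain ⟨V, f, hf, hV⟩ := h₃ x hW
  have h₄ : F.map f.op (F.map iU.op s) = F.map f.op 0 := hf
  rw [← TopCat.Presheaf.germ_res_apply F iU x hW s, ← TopCat.Presheaf.germ_res_apply F f x hV, h₄,
    map_zero]
  exact map_zero _

lemma stalk_map_surjective_of_isLocallySurjective
    [Presheaf.IsLocallySurjective (Opens.grothendieckTopology X) φ] :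
    Function.Surjective ((TopCat.Presheaf.stalkFunctor Ab x).map φ) := by
  intro b
  obtain ⟨U, hU, t, rfl⟩ := TopCat.Presheaf.exists_germ_eq G b
  have h := Presheaf.imageSieve_mem (Opens.grothendieckTopology X) φ (U := op U) t
  obtain ⟨V, f, ⟨s, hs⟩, hV⟩ := h x hU
  refine ⟨F.germ V x hV s, ?_⟩
  rw [TopCat.Presheaf.stalkFunctor_map_germ_apply, hs, TopCat.Presheaf.germ_res_apply]

end Top

section Scheme

open AlgebraicGeometry

variable {X : Scheme.{u}} (x : X)

/-- the stalk functor on presheaves of modules on a scheme. -/
noncomputable def pst : CohB1.PMod X ⥤ ModuleCat.{u} (X.presheaf.stalk x) :=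
  pstalk (R := X.presheaf) x

/-- the sheafification adjunction, typed on the prelude's functors. -/
noncomputable def adjSh : DCoh.shP (X := X) ⊣ DCoh.toP :=
  PresheafOfModules.sheafificationAdjunction (𝟙 X.ringCatSheaf.obj)

instance : (DCoh.toP (X := X)).Full :=
  inferInstanceAs (Scheme.Modules.toPresheafOfModules X).Full

instance : (DCoh.toP (X := X)).Faithful :=
  inferInstanceAs (Scheme.Modules.toPresheafOfModules X).Faithful

lemma stalkFunctor_obj (M : X.Modules) :
    (DerSch.stalkFunctor X x).obj M = (pst x).obj (DCoh.toP.obj M) := rfl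

lemma stalkFunctor_map {M N : X.Modules} (φ : M ⟶ N) :
    (DerSch.stalkFunctor X x).map φ = (pst x).map (DCoh.toP.map φ) := rfl

/-- the prelude's stalk functor is the presheaf stalk functor after forgetting. -/
noncomputable def stalkFunctorIso : DerSch.stalkFunctor X x ≅ DCoh.toP ⋙ pst x :=
  NatIso.ofComponents (fun M => Iso.refl _) (fun {M N} φ =>
    (Category.comp_id _).trans (Category.id_comp _).symm)

lemma toPresheaf_map_unit (P : CohB1.PMod X) :
    (PresheafOfModules.toPresheaf _).map ((adjSh (X := X)).unit.app P) =
      CategoryTheory.toSheafify (Opens.grothendieckTopology X) P.presheaf := rfl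

instance isIso_pst_map_unit (P : CohB1.PMod X) : IsIso ((pst x).map ((adjSh (X := X)).unit.app P)) := by
  rw [ConcreteCategory.isIso_iff_bijective]
  constructor
  · exact stalk_map_injective_of_isLocallyInjective
      (CategoryTheory.toSheafify (Opens.grothendieckTopology X) P.presheaf) x
  · exact stalk_map_surjective_of_isLocallySurjective
      (CategoryTheory.toSheafify (Opens.grothendieckTopology X) P.presheaf) x

/-- the stalk of the sheafification is the stalk of the presheaf. -/
noncomputable def pstShIso : pst x ≅ DCoh.shP ⋙ DerSch.stalkFunctor X x :=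
  NatIso.ofComponents (fun P => @asIso _ _ _ _ _ (isIso_pst_map_unit x P))
    (fun {P Q} φ => by
      change (pst x).map φ ≫ (pst x).map (adjSh.unit.app Q) =
        (pst x).map (adjSh.unit.app P) ≫ (pst x).map (DCoh.toP.map (DCoh.shP.map φ))
      rw [← Functor.map_comp, ← Functor.map_comp]
      exact congr_arg _ ((adjSh (X := X)).unit.naturality φ))

end Scheme

end Groth.Agent.Lib.Helper16.Stk
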