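import Mathlib
import Groth.Prelude.Def_DCoh4
import Groth.Prelude.Def_DerSch
import Groth.Agent.Lib.Helper16.Stk3
import Groth.Agent.Lib.Helper16.SMod1
import Groth.Agent.Lib.Helper16.BiCx1

/-!
# Helper16 — Stk4: the stalk functors on `X.Modules` are exact, commute with colimits and are
jointly conservative
-/

set_option autoImplicit false
universe u
open CategoryTheory CategoryTheory.Limits TopologicalSpace Opposite AlgebraicGeometry

namespace Groth.Agent.Lib.Helper16.Stk

variable {X : Scheme.{u}} (x : X)

/-- the stalk functor with values in abelian groups. -/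
noncomputable def stalkAb : X.Modules ⥤ Ab.{u} :=
  SheafOfModules.toSheaf.{u} X.ringCatSheaf ⋙
    (TopCat.Sheaf.forget Ab.{u} X.toTopCat ⋙ TopCat.Presheaf.stalkFunctor Ab.{u} x)

lemma stalkFunctor_comp_forget₂ :
    DerSch.stalkFunctor X x ⋙ forget₂ (ModuleCat.{u} (X.presheaf.stalk x)) Ab.{u} = stalkAb x :=
  rfl

instance : PreservesFiniteLimits (stalkAb (X := X) x) := by
  unfold stalkAb
  haveI h1 : PreservesFiniteLimits (SheafOfModules.toSheaf.{u} X.ringCatSheaf) := inferInstance
  haveI h2 : PreservesFiniteLimits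
    (TopCat.Sheaf.forget Ab.{u} X.toTopCat ⋙ TopCat.Presheaf.stalkFunctor Ab.{u} x) := inferInstance
  exact @comp_preservesFiniteLimits _ _ _ _ _ _ _ _ h1 h2

lemma preservesColimitsOfShape_stalkAb (K : Type*) [Category K]
    [HasColimitsOfShape K (PresheafOfModules.{u} X.ringCatSheaf.obj)]
    [HasColimitsOfShape K AddCommGrpCat.{u}] :
    PreservesColimitsOfShape K (stalkAb (X := X) x) := by
  unfold stalkAb
  haveI h1 : PreservesColimitsOfShape K (SheafOfModules.toSheaf.{u} X.ringCatSheaf) :=
    Groth.Agent.Lib.Helper16.SMod.toSheaf_preservesColimitsOfShape X.ringCatSheaf K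
  haveI h2 : PreservesColimitsOfShape K
    (TopCat.Sheaf.forget Ab.{u} X.toTopCat ⋙ TopCat.Presheaf.stalkFunctor Ab.{u} x) := inferInstance
  exact @comp_preservesColimitsOfShape _ _ _ _ _ _ _ _ _ _ h1 h2

section Reflect

variable (A : Type u) [Ring A]

instance reflectsFiniteLimits_forget₂ :
    ReflectsFiniteLimits (forget₂ (ModuleCat.{u} A) Ab.{u}) where
  reflects J _ _ := reflectsLimitsOfShape_of_reflectsIsomorphisms

instance reflectsColimitsOfShape_forget₂ (K : Type*) [Category K]
    [HasColimitsOfShape K (ModuleCat.{u} A)]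
    [PreservesColimitsOfShape K (forget₂ (ModuleCat.{u} A) Ab.{u})] :
    ReflectsColimitsOfShape K (forget₂ (ModuleCat.{u} A) Ab.{u}) :=
  reflectsColimitsOfShape_of_reflectsIsomorphisms

end Reflect

instance : PreservesFiniteLimits (DerSch.stalkFunctor X x) := by
  haveI : PreservesFiniteLimits (DerSch.stalkFunctor X x ⋙
      forget₂ (ModuleCat.{u} (X.presheaf.stalk x)) Ab.{u}) :=
    inferInstanceAs (PreservesFiniteLimits (stalkAb x))
  exact preservesFiniteLimits_of_reflects_of_preserves (DerSch.stalkFunctor X x)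
    (forget₂ (ModuleCat.{u} (X.presheaf.stalk x)) Ab.{u})

lemma preservesColimitsOfShape_stalkFunctor (K : Type*) [Category K]
    [HasColimitsOfShape K (PresheafOfModules.{u} X.ringCatSheaf.obj)]
    [HasColimitsOfShape K AddCommGrpCat.{u}]
    [HasColimitsOfShape K (ModuleCat.{u} (X.presheaf.stalk x))]
    [PreservesColimitsOfShape K (forget₂ (ModuleCat.{u} (X.presheaf.stalk x)) Ab.{u})] :
    PreservesColimitsOfShape K (DerSch.stalkFunctor X x) := by
  haveI : PreservesColimitsOfShape K (DerSch.stalkFunctor X x ⋙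
      forget₂ (ModuleCat.{u} (X.presheaf.stalk x)) Ab.{u}) :=
    preservesColimitsOfShape_stalkAb x K
  exact preservesColimitsOfShape_of_reflects_of_preserves (DerSch.stalkFunctor X x)
    (forget₂ (ModuleCat.{u} (X.presheaf.stalk x)) Ab.{u})

instance : PreservesFiniteColimits (DerSch.stalkFunctor X x) where
  preservesFiniteColimits J _ _ := preservesColimitsOfShape_stalkFunctor x J

/-- the stalk functors are jointly conservative on objects. -/
lemma isZero_of_forall_isZero_stalk (M : X.Modules)
    (h : ∀ x : X, IsZero ((DerSch.stalkFunctor X x).obj M)) : IsZero M := by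
  rw [IsZero.iff_id_eq_zero]
  apply Scheme.Modules.hom_ext
  intro U
  ext s
  change s = 0
  refine TopCat.Presheaf.section_ext ⟨M.presheaf, M.isSheaf⟩ U s 0 (fun x hx => ?_)
  haveI : Subsingleton (M.presheaf.stalk x) := ModuleCat.subsingleton_of_isZero (h x)
  exact Subsingleton.elim _ _

open Groth.Agent.Lib.Helper16.BiCx in
/-- acyclicity of complexes of `O_X`-modules is detected on stalks. -/
lemma acyc_iff_forall_stalk (K : CochainComplex X.Modules ℤ) :
    Acyc K ↔ ∀ x : X, Acyc (((DerSch.stalkFunctor X x).mapHomologicalComplex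
      (ComplexShape.up ℤ)).obj K) := by
  have e : ∀ (x : X) (i : ℤ), (((DerSch.stalkFunctor X x).mapHomologicalComplex
      (ComplexShape.up ℤ)).obj K).homology i ≅ (DerSch.stalkFunctor X x).obj (K.homology i) :=
    fun x i => (K.sc i).mapHomologyIso (DerSch.stalkFunctor X x)
  constructor
  · intro h x i
    exact IsZero.of_iso ((DerSch.stalkFunctor X x).map_isZero (h i)) (e x i)
  · intro h i
    exact isZero_of_forall_isZero_stalk _ (fun x => IsZero.of_iso (h x i) (e x i).symm)

end Groth.Agent.Lib.Helper16.Stk
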