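import Mathlib
import Groth.Prelude.Def_DCoh4
import Groth.Prelude.Def_DerSch
import Groth.Prelude.Def_KFlatSite
import Groth.Agent.Lib.Helper16.Stk4
import Groth.Agent.Lib.Helper16.BiCx7
import Groth.Agent.Lib.Helper16.BiCx4

/-!
# Helper16 — Stk5: the stalk of the tensor product of `O_X`-modules; K-flatness is stalkwise
-/

set_option autoImplicit false
universe u
open CategoryTheory CategoryTheory.Limits TopologicalSpace Opposite AlgebraicGeometry
  MonoidalCategory

namespace Groth.Agent.Lib.Helper16.Stk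

variable {X : Scheme.{u}} (x : X)

/-- the stalk functor (short name). -/
noncomputable abbrev stk : X.Modules ⥤ ModuleCat.{u} (X.presheaf.stalk x) :=
  DerSch.stalkFunctor X x

lemma tensorBi_obj_obj (M N : X.Modules) :
    (DCoh.tensorBi.obj M).obj N = DCoh.shP.obj (DCoh.toP.obj M ⊗ DCoh.toP.obj N) := rfl

lemma tensorBi_map_app {M M' : X.Modules} (f : M ⟶ M') (N : X.Modules) :
    (DCoh.tensorBi.map f).app N = DCoh.shP.map (DCoh.toP.map f ▷ DCoh.toP.obj N) := rfl

lemma tensorBi_obj_map (M : X.Modules) {N N' : X.Modules} (g : N ⟶ N') :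
    (DCoh.tensorBi.obj M).map g = DCoh.shP.map (DCoh.toP.obj M ◁ DCoh.toP.map g) := rfl

/-- the stalk of a tensor product of presheaves of modules on a scheme. -/
noncomputable def pstTensorIso (P Q : CohB1.PMod X) :
    (pst x).obj P ⊗ (pst x).obj Q ≅ (pst x).obj (P ⊗ Q) :=
  pstalkTensorIso (R := X.presheaf) x P Q

lemma pstTensorIso_naturality {P P' Q Q' : CohB1.PMod X} (φ : P ⟶ P') (ψ : Q ⟶ Q') :
    ((pst x).map φ ⊗ₘ (pst x).map ψ) ≫ (pstTensorIso x P' Q').hom =
      (pstTensorIso x P Q).hom ≫ (pst x).map (φ ⊗ₘ ψ) :=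
  pstalkTensorIso_naturality (R := X.presheaf) (x := x) φ ψ

/-- **the stalk of a tensor product of `O_X`-modules.** -/
noncomputable def stalkTensorIso (M N : X.Modules) :
    (stk x).obj M ⊗ (stk x).obj N ≅ (stk x).obj ((DCoh.tensorBi.obj M).obj N) :=
  pstTensorIso x (DCoh.toP.obj M) (DCoh.toP.obj N) ≪≫
    (pstShIso x).app (DCoh.toP.obj M ⊗ DCoh.toP.obj N)

lemma stalkTensorIso_natL {M M' : X.Modules} (f : M ⟶ M') (N : X.Modules) :
    ((stk x).map f ▷ (stk x).obj N) ≫ (stalkTensorIso x M' N).hom =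
      (stalkTensorIso x M N).hom ≫ (stk x).map ((DCoh.tensorBi.map f).app N) := by
  have h1 := pstTensorIso_naturality x (DCoh.toP.map f) (𝟙 (DCoh.toP.obj N))
  rw [CategoryTheory.Functor.map_id, tensorHom_id, tensorHom_id] at h1
  have h2 := (pstShIso x).hom.naturality (DCoh.toP.map f ▷ DCoh.toP.obj N)
  change ((stk x).map f ▷ (stk x).obj N) ≫
    (pstTensorIso x (DCoh.toP.obj M') (DCoh.toP.obj N)).hom ≫
      (pstShIso x).hom.app (DCoh.toP.obj M' ⊗ DCoh.toP.obj N) =
    ((pstTensorIso x (DCoh.toP.obj M) (DCoh.toP.obj N)).hom ≫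
      (pstShIso x).hom.app (DCoh.toP.obj M ⊗ DCoh.toP.obj N)) ≫ _
  refine ((reassoc_of% h1) _).trans ?_
  exact (congr_arg (fun t => _ ≫ t) h2).trans (Category.assoc _ _ _).symm

lemma stalkTensorIso_natR (M : X.Modules) {N N' : X.Modules} (g : N ⟶ N') :
    ((stk x).obj M ◁ (stk x).map g) ≫ (stalkTensorIso x M N').hom =
      (stalkTensorIso x M N).hom ≫ (stk x).map ((DCoh.tensorBi.obj M).map g) := by
  have h1 := pstTensorIso_naturality x (𝟙 (DCoh.toP.obj M)) (DCoh.toP.map g)
  rw [CategoryTheory.Functor.map_id, id_tensorHom, id_tensorHom] at h1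
  have h2 := (pstShIso x).hom.naturality (DCoh.toP.obj M ◁ DCoh.toP.map g)
  change ((stk x).obj M ◁ (stk x).map g) ≫
    (pstTensorIso x (DCoh.toP.obj M) (DCoh.toP.obj N')).hom ≫
      (pstShIso x).hom.app (DCoh.toP.obj M ⊗ DCoh.toP.obj N') =
    ((pstTensorIso x (DCoh.toP.obj M) (DCoh.toP.obj N)).hom ≫
      (pstShIso x).hom.app (DCoh.toP.obj M ⊗ DCoh.toP.obj N)) ≫ _
  refine ((reassoc_of% h1) _).trans ?_
  exact (congr_arg (fun t => _ ≫ t) h2).trans (Category.assoc _ _ _).symm

open Groth.Agent.Lib.Helper16.KF (Idx) in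
instance preservesColimitsOfShape_idx_stk (n : ℤ) :
    PreservesColimitsOfShape (Discrete (Idx n)) (stk x) :=
  preservesColimitsOfShape_stalkFunctor x (Discrete (Idx n))

open Groth.Agent.Lib.Helper16.BiCx

/-- the complex of stalks. -/
noncomputable abbrev stkCx (K : CochainComplex X.Modules ℤ) :
    CochainComplex (ModuleCat.{u} (X.presheaf.stalk x)) ℤ :=
  ((stk x).mapHomologicalComplex (ComplexShape.up ℤ)).obj K

/-- **the stalk of the tensor product of complexes of `O_X`-modules.** -/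
noncomputable def stalkTensorCxIso (L K : CochainComplex X.Modules ℤ) :
    stkCx x L ⊗ stkCx x K ≅ stkCx x (T (DCoh.tensorBi (X := X)) L K) :=
  cmpIso (DCoh.tensorBi (X := X)) (curriedTensor (ModuleCat.{u} (X.presheaf.stalk x)))
    (stk x) (stk x) (stk x) (stalkTensorIso x)
    (fun f N => stalkTensorIso_natL x f N) (fun M _ _ g => stalkTensorIso_natR x M g) L K

/-- **a complex of `O_X`-modules all of whose complexes of stalks are K-flat is K-flat.** -/
theorem isKFlat_of_forall_stalk (E : CochainComplex X.Modules ℤ)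
    (h : ∀ x : X, DRing.IsKFlat (X.presheaf.stalk x) (stkCx x E)) : DCoh.IsKFlat E := by
  intro L hL
  change Acyc (T (DCoh.tensorBi (X := X)) L E)
  rw [acyc_iff_forall_stalk]
  intro x
  have hLx : Acyc (stkCx x L) := (acyc_iff_forall_stalk L).1 hL x
  exact Acyc.of_iso (h x (stkCx x L) hLx) (stalkTensorCxIso x L E)

end Groth.Agent.Lib.Helper16.Stk
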