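import Mathlib
import Groth.Prelude.Def_DCoh4
import Groth.Prelude.Def_DerSch
import Groth.Prelude.Def_KFlatSite
import Groth.Prelude.Def_FlatMod2
import Groth.Agent.Lib.Helper16.Stk5
import Groth.Agent.Lib.Helper16.KF2

/-!
# Helper16 — Stk7: exactness on stalks; tensoring short exact sequences with flat cokernel;
two-out-of-three for K-flatness in short exact sequences with flat third term
-/

set_option autoImplicit false
universe u
open CategoryTheory CategoryTheory.Limits TopologicalSpace Opposite AlgebraicGeometry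
  MonoidalCategory

namespace Groth.Agent.Lib.Helper16.Stk

variable {X : Scheme.{u}}

lemma exact_of_forall_stalk (T : ShortComplex X.Modules)
    (h : ∀ x : X, (T.map (stk x)).Exact) : T.Exact := by
  rw [ShortComplex.exact_iff_isZero_homology]
  apply isZero_of_forall_isZero_stalk
  intro x
  exact IsZero.of_iso ((ShortComplex.exact_iff_isZero_homology _).1 (h x))
    (T.mapHomologyIso (stk x)).symm

lemma mono_of_forall_stalk {M N : X.Modules} (f : M ⟶ N) (h : ∀ x : X, Mono ((stk x).map f)) :
    Mono f := by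
  let T : ShortComplex X.Modules := ShortComplex.mk (0 : M ⟶ M) f zero_comp
  have hT : T.Exact := exact_of_forall_stalk T (fun x => by
    have : (T.map (stk x)).f = 0 := (stk x).map_zero _ _
    rw [ShortComplex.exact_iff_mono _ this]
    exact h x)
  exact (ShortComplex.exact_iff_mono T rfl).1 hT

lemma epi_of_forall_stalk {M N : X.Modules} (f : M ⟶ N) (h : ∀ x : X, Epi ((stk x).map f)) :
    Epi f := by
  let T : ShortComplex X.Modules := ShortComplex.mk f (0 : N ⟶ N) comp_zero
  have hT : T.Exact := exact_of_forall_stalk T (fun x => by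
    have : (T.map (stk x)).g = 0 := (stk x).map_zero _ _
    rw [ShortComplex.exact_iff_epi _ this]
    exact h x)
  exact (ShortComplex.exact_iff_epi T rfl).1 hT

lemma shortExact_of_forall_stalk (T : ShortComplex X.Modules)
    (h : ∀ x : X, (T.map (stk x)).ShortExact) : T.ShortExact where
  exact := exact_of_forall_stalk T (fun x => (h x).exact)
  mono_f := mono_of_forall_stalk T.f (fun x => (h x).mono_f)
  epi_g := epi_of_forall_stalk T.g (fun x => (h x).epi_g)

/-- tensoring a short exact sequence whose cokernel is (stalkwise) flat stays short exact. -/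
lemma shortExact_tensorBi_obj_of_flat₃ (T : ShortComplex X.Modules) (hT : T.ShortExact)
    (h3 : FlatMod.IsFlat T.X₃) (M : X.Modules) :
    (T.map (DCoh.tensorBi.obj M)).ShortExact := by
  apply shortExact_of_forall_stalk
  intro x
  have hTx : (T.map (stk x)).ShortExact := hT.map_of_exact (stk x)
  haveI : Module.Flat (X.presheaf.stalk x) ((T.map (stk x)).X₃) := h3 x
  have h := Groth.Agent.Lib.Helper16.KF.shortExact_tensorLeft_of_flat₃ (T.map (stk x)) hTx
    ((stk x).obj M)
  refine ShortComplex.shortExact_of_iso (ShortComplex.isoMk (stalkTensorIso x M T.X₁)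
    (stalkTensorIso x M T.X₂) (stalkTensorIso x M T.X₃) ?_ ?_) h
  · exact (stalkTensorIso_natR x M T.f).symm
  · exact (stalkTensorIso_natR x M T.g).symm

open Groth.Agent.Lib.Helper16.BiCx in
/-- **two-out-of-three for K-flatness in a short exact sequence of complexes whose third term has
flat terms.** -/
theorem isKFlat_shortExact_two_out_of_three (S : ShortComplex (CochainComplex X.Modules ℤ))
    (hS : S.ShortExact) (h3 : ∀ n : ℤ, FlatMod.IsFlat (S.X₃.X n)) :
    (DCoh.IsKFlat S.X₁ → DCoh.IsKFlat S.X₂ → DCoh.IsKFlat S.X₃) ∧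
    (DCoh.IsKFlat S.X₁ → DCoh.IsKFlat S.X₃ → DCoh.IsKFlat S.X₂) ∧
    (DCoh.IsKFlat S.X₂ → DCoh.IsKFlat S.X₃ → DCoh.IsKFlat S.X₁) := by
  have hS' := hS
  rw [HomologicalComplex.shortExact_iff_degreewise_shortExact] at hS'
  have key : ∀ L : CochainComplex X.Modules ℤ,
      (S.map (funR (DCoh.tensorBi (X := X)) L)).ShortExact := fun L =>
    shortExact_funR (DCoh.tensorBi (X := X)) L S (fun p q =>
      shortExact_tensorBi_obj_of_flat₃ _ (hS' q) (h3 q) (L.X p))
  refine ⟨fun h1 h2 L hL => ?_, fun h1 h3' L hL => ?_, fun h2 h3' L hL => ?_⟩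
  · exact acyc_X₃ (key L) (h1 L hL) (h2 L hL)
  · exact acyc_X₂ (key L) (h1 L hL) (h3' L hL)
  · exact acyc_X₁ (key L) (h2 L hL) (h3' L hL)

end Groth.Agent.Lib.Helper16.Stk
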