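import Mathlib
import Groth.Prelude.Def_DCoh4
import Groth.Prelude.Def_DerSch
import Groth.Agent.Lib.Helper16.Sky3
import Groth.Agent.Lib.Helper16.Stk7

/-!
# Helper16 — Sky4: skyscraper `O_X`-modules on a scheme; adjunction with the stalk functor
-/

set_option autoImplicit false
universe u
open CategoryTheory CategoryTheory.Limits TopologicalSpace Opposite AlgebraicGeometry

namespace Groth.Agent.Lib.Helper16.Stk

variable {X : Scheme.{u}} (x : X)

/-- the skyscraper `O_X`-module at `x` with value `N`. -/
noncomputable def skyMod (N : ModuleCat.{u} (X.presheaf.stalk x)) : X.Modules :=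
  (show SheafOfModules.{u} X.ringCatSheaf from
    { val := skyP (R := X.presheaf) x N
      isSheaf := skyAb_isSheaf x N })

/-- the skyscraper functor. -/
noncomputable def skyFunctor : ModuleCat.{u} (X.presheaf.stalk x) ⥤ X.Modules where
  obj N := skyMod x N
  map {N N'} φ := (show SheafOfModules.Hom (R := X.ringCatSheaf) (skyMod x N) (skyMod x N') from
    ⟨skyPMap (R := X.presheaf) x φ.hom⟩)
  map_id _ := rfl
  map_comp _ _ := rfl

lemma skyFunctor_comp_toP :
    skyFunctor x ⋙ DCoh.toP = skyPFunctor (R := X.presheaf) x := rfl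

/-- the presheaf-level adjunction on a scheme. -/
noncomputable def pstSkyAdj : pst x ⊣ skyPFunctor (R := X.presheaf) x :=
  pstalkSkyAdj (R := X.presheaf) x

/-- **the adjunction between the stalk functor and the skyscraper functor on `O_X`-modules.** -/
noncomputable def stkSkyAdj : stk x ⊣ skyFunctor x :=
  (pstSkyAdj x).restrictFullyFaithful (iC := DCoh.toP (X := X))
    (iD := 𝟭 (ModuleCat.{u} (X.presheaf.stalk x)))
    (Functor.FullyFaithful.ofFullyFaithful _) (Functor.FullyFaithful.id _)
    ((stalkFunctorIso x).symm ≪≫ (Functor.rightUnitor _).symm)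
    (Functor.leftUnitor _ ≪≫ Iso.refl _)

instance : (skyFunctor x).IsRightAdjoint := (stkSkyAdj x).isRightAdjoint

instance : (stk x).IsLeftAdjoint := (stkSkyAdj x).isLeftAdjoint

/-- the stalk at `x` of the skyscraper functor is the identity. -/
noncomputable def skyStalkIso : skyFunctor x ⋙ stk x ≅ 𝟭 _ :=
  Functor.isoWhiskerLeft (skyFunctor x) (stalkFunctorIso x) ≪≫
    (Functor.associator _ _ _).symm ≪≫ skyPStalkIso (R := X.presheaf) x

instance : (skyFunctor x).Additive := ⟨fun {_ _ _ _} => rfl⟩

lemma epi_skyFunctor_map {N N' : ModuleCat.{u} (X.presheaf.stalk x)} (φ : N ⟶ N') [Epi φ] :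
    Epi ((skyFunctor x).map φ) := by
  have hφ : Function.Surjective φ.hom := (ModuleCat.epi_iff_surjective φ).1 inferInstance
  apply epi_of_forall_stalk
  intro y
  rw [ModuleCat.epi_iff_surjective]
  intro a'
  obtain ⟨U, hU, f', rfl⟩ := exists_gm (R := X.presheaf) (skyP (R := X.presheaf) x N') a'
  let f : (skyP (R := X.presheaf) x N).obj (op U) := fun h => (hφ (f' h)).choose
  refine ⟨gm y (skyP (R := X.presheaf) x N) U hU f, ?_⟩
  refine (stMap_gm (R := X.presheaf) (skyPMap (R := X.presheaf) x φ.hom) U hU f).trans ?_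
  congr 1
  funext h
  exact (hφ (f' h)).choose_spec

instance : (skyFunctor x).PreservesEpimorphisms where
  preserves φ _ := epi_skyFunctor_map x φ

instance : (skyFunctor x).PreservesHomology :=
  Functor.preservesHomology_of_preservesEpis_and_kernels _

open Groth.Agent.Lib.Helper16.BiCx in
/-- the skyscraper functor preserves acyclic complexes. -/
lemma acyc_skyFunctor (N : CochainComplex (ModuleCat.{u} (X.presheaf.stalk x)) ℤ) (hN : Acyc N) :
    Acyc (((skyFunctor x).mapHomologicalComplex (ComplexShape.up ℤ)).obj N) := fun i =>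
  IsZero.of_iso ((skyFunctor x).map_isZero (hN i)) ((N.sc i).mapHomologyIso (skyFunctor x))

end Groth.Agent.Lib.Helper16.Stk
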