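import Mathlib
import Groth.Prelude.Def_DCoh4
import Groth.Prelude.Def_DerSch
import Groth.Prelude.Def_FlatMod2
import Groth.Agent.Lib.Helper16.Sky4
import Groth.Agent.Lib.Helper16.RL1

/-!
# Helper16 — Fl1: flat covers of `O_X`-modules

`jS U = j_! O_U` (sheafification of the free presheaf of modules on the representable presheaf of
`U`) corepresents sections over `U`; its stalks are projective, hence flat.  Every `O_X`-module is
a quotient of a coproduct of such modules, which is flat.
-/

set_option autoImplicit false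
universe u
open CategoryTheory CategoryTheory.Limits TopologicalSpace Opposite AlgebraicGeometry

namespace Groth.Agent.Lib.Helper16.Stk

variable {X : Scheme.{u}}

/-- the free presheaf of modules on the representable presheaf of `U`. -/
noncomputable def jP (U : X.Opens) : CohB1.PMod X :=
  (PresheafOfModules.free _).obj (yoneda.obj U)

/-- `j_! O_U`. -/
noncomputable def jS (U : X.Opens) : X.Modules := DCoh.shP.obj (jP U)

/-- `j_! O_U` corepresents sections over `U`. -/
noncomputable def jSEquiv (U : X.Opens) (M : X.Modules) :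
    (jS U ⟶ M) ≃ ((DCoh.toP.obj M).obj (op U)) :=
  ((adjSh (X := X)).homEquiv (jP U) M).trans PresheafOfModules.freeYonedaEquiv

lemma jSEquiv_comp (U : X.Opens) {M N : X.Modules} (m : jS U ⟶ M) (φ : M ⟶ N) :
    jSEquiv U N (m ≫ φ) = (DCoh.toP.map φ).app (op U) (jSEquiv U M m) := by
  have h1 : (adjSh (X := X)).homEquiv (jP U) N (m ≫ φ) =
      (adjSh (X := X)).homEquiv (jP U) M m ≫ DCoh.toP.map φ :=
    Adjunction.homEquiv_naturality_right _ _ _
  exact (congrArg PresheafOfModules.freeYonedaEquiv h1).trans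
    (PresheafOfModules.freeYonedaEquiv_comp _ _)


/-- the stalks of `j_! O_U` are projective. -/
lemma projective_stk_jS (x : X) (U : X.Opens) : Projective ((stk x).obj (jS U)) := by
  constructor
  intro N N' f e he
  have hsurj : Function.Surjective e.hom := (ModuleCat.epi_iff_surjective e).1 he
  let f' : jS U ⟶ (skyFunctor x).obj N' := (stkSkyAdj x).homEquiv _ _ f
  let s' : (skyP (R := X.presheaf) x N').obj (op U) := jSEquiv U _ f'
  let s : (skyP (R := X.presheaf) x N).obj (op U) := fun h => (hsurj (s' h)).choose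
  let g' : jS U ⟶ (skyFunctor x).obj N := (jSEquiv U _).symm s
  have hg' : g' ≫ (skyFunctor x).map e = f' := by
    apply (jSEquiv U _).injective
    have hs : jSEquiv U ((skyFunctor x).obj N) g' = s := Equiv.apply_symm_apply _ _
    refine (jSEquiv_comp U g' ((skyFunctor x).map e)).trans ?_
    refine (congrArg (fun t => (skyPMap (R := X.presheaf) x e.hom).app (op U) t) hs).trans ?_
    funext h
    exact (hsurj (s' h)).choose_spec
  refine ⟨((stkSkyAdj x).homEquiv _ _).symm g', ?_⟩
  rw [← Adjunction.homEquiv_naturality_right_symm, hg']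
  exact Equiv.symm_apply_apply _ _

/-- `j_! O_U` is flat. -/
lemma isFlat_jS (U : X.Opens) : FlatMod.IsFlat (jS U) := by
  intro x
  haveI := projective_stk_jS x U
  haveI : Module.Projective (X.presheaf.stalk x) ((stk x).obj (jS U)) :=
    (IsProjective.iff_projective _).2 (projective_stk_jS x U)
  change Module.Flat (X.presheaf.stalk x) ((stk x).obj (jS U))
  infer_instance


/-- sections of `M` over all opens. -/
def Sec (M : X.Modules) : Type u := Σ U : X.Opens, ((DCoh.toP.obj M).obj (op U) : Type u)

/-- the canonical flat cover of `M`. -/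
noncomputable def flatCover (M : X.Modules) : X.Modules := ∐ fun i : Sec M => jS i.1

/-- the covering map. -/
noncomputable def flatCoverπ (M : X.Modules) : flatCover M ⟶ M :=
  Sigma.desc fun i : Sec M => (jSEquiv i.1 M).symm i.2

lemma jSEquiv_zero (U : X.Opens) (M : X.Modules) : jSEquiv U M 0 = 0 := by
  have h := jSEquiv_comp U (0 : jS U ⟶ M) (0 : M ⟶ M)
  rw [comp_zero] at h
  exact h

instance epi_flatCoverπ (M : X.Modules) : Epi (flatCoverπ M) := by
  refine Preadditive.epi_of_cancel_zero _ (fun {N} g hg => ?_)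
  apply Scheme.Modules.hom_ext
  intro U
  ext s
  let s' : (DCoh.toP.obj M).obj (op U) := s
  have h2 : Sigma.ι (fun i : Sec M => jS i.1) ⟨U, s'⟩ ≫ flatCoverπ M = (jSEquiv U M).symm s' :=
    Sigma.ι_desc _ _
  have h1 : (jSEquiv U M).symm s' ≫ g = 0 :=
    calc (jSEquiv U M).symm s' ≫ g
        = (Sigma.ι (fun i : Sec M => jS i.1) ⟨U, s'⟩ ≫ flatCoverπ M) ≫ g :=
          congrArg (· ≫ g) h2.symm
      _ = Sigma.ι (fun i : Sec M => jS i.1) ⟨U, s'⟩ ≫ (flatCoverπ M ≫ g) := Category.assoc _ _ _
      _ = Sigma.ι (fun i : Sec M => jS i.1) ⟨U, s'⟩ ≫ 0 := congrArg (_ ≫ ·) hg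
      _ = 0 := comp_zero
  have h3 : jSEquiv U N ((jSEquiv U M).symm s' ≫ g) =
      (DCoh.toP.map g).app (op U) (jSEquiv U M ((jSEquiv U M).symm s')) := jSEquiv_comp U _ g
  have h4 : jSEquiv U N ((jSEquiv U M).symm s' ≫ g) = 0 :=
    (congrArg (jSEquiv U N) h1).trans (jSEquiv_zero U N)
  have h5 : jSEquiv U M ((jSEquiv U M).symm s') = s' := Equiv.apply_symm_apply _ _
  exact ((congrArg (fun t => (DCoh.toP.map g).app (op U) t) h5).symm.trans (h3.symm.trans h4))


/-- a coproduct of flat `O_X`-modules is flat. -/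
lemma isFlat_sigma {ι : Type u} (F : ι → X.Modules) (hF : ∀ i, FlatMod.IsFlat (F i)) :
    FlatMod.IsFlat (∐ F) := by
  intro x
  haveI : PreservesColimitsOfShape (Discrete ι) (stk x) :=
    preservesColimitsOfShape_stalkFunctor x (Discrete ι)
  have hc := isColimitOfPreserves (stk x) (colimit.isColimit (Discrete.functor F))
  exact Groth.Agent.Lib.Helper16.KF.flat_of_isColimit_discrete hc (fun k => hF k.as x)

lemma isFlat_flatCover (M : X.Modules) : FlatMod.IsFlat (flatCover M) :=
  isFlat_sigma _ (fun i => isFlat_jS i.1)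

/-- **every `O_X`-module is a quotient of a flat `O_X`-module.** -/
theorem exists_flat_cover (M : X.Modules) :
    ∃ (F : X.Modules) (p : F ⟶ M), FlatMod.IsFlat F ∧ Epi p :=
  ⟨flatCover M, flatCoverπ M, isFlat_flatCover M, inferInstance⟩

end Groth.Agent.Lib.Helper16.Stk
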