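import Mathlib
import Groth.Prelude.Def_KFlatSite
import Groth.Agent.Lib.Helper16.KF8

/-!
# Helper16 — KF9: K-flat complexes: shifts, mapping cones, biproducts
-/

set_option autoImplicit false
universe u
open CategoryTheory CategoryTheory.Limits MonoidalCategory

namespace Groth.Agent.Lib.Helper16.KF

variable {R : Type u} [CommRing R]

lemma acyc_shift_iff (K : Cx R) (n : ℤ) : Acyc (K⟦n⟧) ↔ Acyc K := by
  constructor
  · intro h i
    have e := (CochainComplex.ShiftSequence.shiftIso (ModuleCat.{u} R) n (i - n) i (by omega)).app K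
    exact IsZero.of_iso (h (i - n)) e.symm
  · intro h i
    have e := (CochainComplex.ShiftSequence.shiftIso (ModuleCat.{u} R) n i (n + i) rfl).app K
    exact IsZero.of_iso (h (n + i)) e

/-- `L ⊗ K⟦n⟧ ≅ (L ⊗ K)⟦n⟧`. -/
noncomputable def tensorShiftRightIso (L K : Cx R) (n : ℤ) : L ⊗ (K⟦n⟧) ≅ (L ⊗ K)⟦n⟧ :=
  CochainComplex.mapBifunctorShift₂Iso L K (curriedTensor (ModuleCat.{u} R)) n

/-- `L⟦n⟧ ⊗ K ≅ (L ⊗ K)⟦n⟧`. -/
noncomputable def tensorShiftLeftIso (L K : Cx R) (n : ℤ) : (L⟦n⟧) ⊗ K ≅ (L ⊗ K)⟦n⟧ :=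
  CochainComplex.mapBifunctorShift₁Iso L K (curriedTensor (ModuleCat.{u} R)) n

lemma isKFlat_shift {K : Cx R} (hK : DRing.IsKFlat R K) (n : ℤ) : DRing.IsKFlat R (K⟦n⟧) :=
  fun L hL => Acyc.of_iso ((acyc_shift_iff _ n).2 (hK L hL)) (tensorShiftRightIso L K n).symm

lemma isKFlat_of_shift {K : Cx R} (n : ℤ) (hK : DRing.IsKFlat R (K⟦n⟧)) : DRing.IsKFlat R K :=
  fun L hL => (acyc_shift_iff _ n).1 (Acyc.of_iso (hK L hL) (tensorShiftRightIso L K n))

section Cone

open CochainComplex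

variable {A B : Cx R} (φ : A ⟶ B)

lemma degreewiseSplit_triangleRotateShortComplex :
    DegreewiseSplit (mappingCone.triangleRotateShortComplex φ) :=
  fun n => ⟨mappingCone.triangleRotateShortComplexSplitting φ n⟩

lemma isKFlat_mappingCone (hA : DRing.IsKFlat R A) (hB : DRing.IsKFlat R B) :
    DRing.IsKFlat R (mappingCone φ) := fun L hL =>
  acyc_X₂ (shortExact_whiskerLeft_of_split L (degreewiseSplit_triangleRotateShortComplex φ))
    (hB L hL) (isKFlat_shift hA 1 L hL)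

lemma isKFlat_of_mappingCone_left (hA : DRing.IsKFlat R A) (hC : DRing.IsKFlat R (mappingCone φ)) :
    DRing.IsKFlat R B := fun L hL =>
  acyc_X₁ (shortExact_whiskerLeft_of_split L (degreewiseSplit_triangleRotateShortComplex φ))
    (hC L hL) (isKFlat_shift hA 1 L hL)

lemma isKFlat_of_mappingCone_right (hB : DRing.IsKFlat R B) (hC : DRing.IsKFlat R (mappingCone φ)) :
    DRing.IsKFlat R A :=
  isKFlat_of_shift 1 (fun L hL =>
    acyc_X₃ (shortExact_whiskerLeft_of_split L (degreewiseSplit_triangleRotateShortComplex φ))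
      (hB L hL) (hC L hL))

end Cone

end Groth.Agent.Lib.Helper16.KF
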