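import Mathlib
import Groth.Prelude.Def_KFlatSite
import Groth.Agent.Lib.Helper16.KF9

/-!
# Helper16 — KF10: K-projective resolutions with an extra property; K-flat resolutions
-/

universe w w' v u

open CategoryTheory CategoryTheory.Limits CategoryTheory.Pretriangulated

namespace Groth.Agent.Lib.Helper16.KPR

open DerivedCategory Groth.Agent.Lib.Helper8.DCoprod Groth.Agent.Lib.Helper8.SeqColim

section General

variable {A : Type u} [Category.{v} A] [Abelian A] [HasDerivedCategory.{w} A]

variable [EnoughProjectives A] [HasColimitsOfShape (Discrete ℕ) A]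
  [HasExactColimitsOfShape (Discrete ℕ) A] [HasColimitsOfShape ℕ A] [HasExactColimitsOfShape ℕ A]

/-- **Existence of K-projective resolutions** (with projective terms) for arbitrary objects of
the derived category, with an extra property `W` which holds for bounded above complexes of
projectives and is stable under telescopes. -/
theorem exists_kprojective_with (W : CochainComplex A ℤ → Prop)
    (hW1 : ∀ (E : CochainComplex A ℤ) (n : ℕ), (∀ i : ℤ, (n : ℤ) < i → IsZero (E.X i)) →
      (∀ i, Projective (E.X i)) → W E)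
    (hW2 : ∀ (P : ℕ → CochainComplex A ℤ) (φ : ∀ n, P n ⟶ P (n + 1)), (∀ n, W (P n)) →
      W (tel P φ))
    (K : DerivedCategory A) :
    ∃ P : CochainComplex A ℤ, P.IsKProjective ∧ (∀ i, Projective (P.X i)) ∧ W P ∧
      Nonempty (Q.obj P ≅ K) := by
  let t : Triangulated.TStructure (DerivedCategory A) := TStructure.t
  let Kn : ℕ → DerivedCategory A := fun n => (t.truncLT ((n : ℤ) + 1)).obj K
  have hle : ∀ n : ℕ, (n : ℤ) + 1 ≤ ((n + 1 : ℕ) : ℤ) + 1 := fun n => by push_cast; omega
  let jn : ∀ n, Kn n ⟶ Kn (n + 1) := fun n =>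
    (t.natTransTruncLTOfLE ((n : ℤ) + 1) (((n + 1 : ℕ) : ℤ) + 1) (hle n)).app K
  let ιn : ∀ n, Kn n ⟶ K := fun n => (t.truncLTι ((n : ℤ) + 1)).app K
  have hjι : ∀ n, jn n ≫ ιn (n + 1) = ιn n := fun n =>
    t.natTransTruncLTOfLE_ι_app _ _ (hle n) K
  -- resolutions of the truncations
  have hres : ∀ n : ℕ, ∃ (E : CochainComplex A ℤ), (∀ i : ℤ, (n : ℤ) < i → IsZero (E.X i)) ∧
      (∀ i, Projective (E.X i)) ∧ Nonempty (Q.obj E ≅ Kn n) := by
    intro n
    have hKn : (Kn n).IsLE n := by
      change t.IsLE ((t.truncLT ((n : ℤ) + 1)).obj K) n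
      infer_instance
    let L := Q.objPreimage (Kn n)
    let eL : Q.obj L ≅ Kn n := Q.objObjPreimageIso (Kn n)
    have hL : (Q.obj L).IsLE n := by
      change t.IsLE (Q.obj L) n
      haveI : t.IsLE (Kn n) n := hKn
      exact t.isLE_of_iso eL.symm n
    obtain ⟨E, a, hE1, hE2, hE3⟩ := PC.exists_projective_resolution L n hL
    haveI : IsIso (Q.map a) := (isIso_Q_map_iff_quasiIso A a).2 hE3
    exact ⟨E, hE1, hE2, ⟨asIso (Q.map a) ≪≫ eL⟩⟩
  choose P hPb hPp hPe using hres
  have hKP : ∀ n, (P n).IsKProjective := fun n => by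
    haveI : (P n).IsStrictlyLE n := (CochainComplex.isStrictlyLE_iff _ _).2 (fun i hi => hPb n i hi)
    haveI : ∀ i, Projective ((P n).X i) := hPp n
    exact CochainComplex.isKProjective_of_projective (P n) n
  let e : ∀ n, Q.obj (P n) ≅ Kn n := fun n => (hPe n).some
  choose φ hφ using fun n =>
    exists_map_of_isKProjective (P n) (P (n + 1)) ((e n).hom ≫ jn n ≫ (e (n + 1)).inv)
  refine ⟨tel P φ, tel_isKProjective P φ, tel_projective P φ hPp,
    hW2 P φ (fun n => hW1 (P n) n (hPb n) (hPp n)), ?_⟩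
  -- the telescope is a homotopy colimit
  have hho := isHocolim_tel P φ
  obtain ⟨c, hc⟩ := hho
  let gn : ∀ n, Q.obj (P n) ⟶ K := fun n => (e n).hom ≫ ιn n
  have hgn : ∀ n, Q.map (φ n) ≫ gn (n + 1) = gn n := fun n => by
    change Q.map (φ n) ≫ (e (n + 1)).hom ≫ ιn (n + 1) = (e n).hom ≫ ιn n
    rw [hφ, Category.assoc, Category.assoc, Iso.inv_hom_id_assoc, hjι]
  let g : (∐ fun n => Q.obj (P n)) ⟶ K := Sigma.desc gn
  have hg : (𝟙 _ - DerLim.shiftMap (fun n => Q.obj (P n)) (fun n => Q.map (φ n))) ≫ g = 0 := by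
    apply Sigma.hom_ext
    intro n
    rw [Preadditive.sub_comp, Preadditive.comp_sub, Category.id_comp, Sigma.ι_desc,
      reassoc_of% (ι_shiftMap (fun n => Q.obj (P n)) (fun n => Q.map (φ n)) n), Sigma.ι_desc,
      comp_zero, hgn, sub_self]
  obtain ⟨(h : Q.obj (tel P φ) ⟶ K), hh⟩ := Triangle.yoneda_exact₂ _ hc g hg
  replace hh : g = Sigma.desc (fun n => Q.map (telι P φ n)) ≫ h := hh
  have hh' : ∀ n, Q.map (telι P φ n) ≫ h = gn n := fun n => by
    have h1 : Sigma.ι (fun n => Q.obj (P n)) n ≫ g = gn n := Sigma.ι_desc _ _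
    rw [← h1, hh, ← Category.assoc, Sigma.ι_desc]
  suffices IsIso h from ⟨asIso h⟩
  rw [DerivedCategory.isIso_iff]
  intro m
  let H := homologyFunctor A m
  obtain ⟨ε, hε⟩ := Groth.Agent.S1034.result H (fun n => Q.obj (P n)) (fun n => Q.map (φ n))
    (Q.obj (tel P φ)) (fun n => Q.map (telι P φ n)) ⟨c, hc⟩
  -- the cocone with point `H K`
  let F := Functor.ofSequence (fun n => H.map (Q.map (φ n)))
  have hH : ∀ n, H.map (Q.map (φ n)) ≫ H.map (gn (n + 1)) = H.map (gn n) := fun n => by
    rw [← H.map_comp, hgn]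
  have hH' : ∀ n, H.map (Q.map (telι P φ n)) ≫ H.map h = H.map (gn n) := fun n => by
    rw [← H.map_comp, hh']
  let cK : Cocone F :=
    { pt := H.obj K
      ι := NatTrans.ofSequence (F := F) (G := (Functor.const ℕ).obj (H.obj K))
        (fun n => H.map (gn n)) (fun n => by
          simp only [F, Functor.ofSequence_map_homOfLE_succ, Functor.const_obj_obj,
            Functor.const_obj_map]
          exact (hH n).trans (Category.comp_id _).symm) }
  have hcK : IsColimit cK := by
    refine isColimitOfEventuallyIso F cK m.toNat (fun n hn => ?_)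
    change IsIso (H.map ((e n).hom ≫ ιn n))
    rw [H.map_comp]
    haveI : IsIso (H.map (ιn n)) :=
      DerT.isIso_homologyMap_truncLTι K ((n : ℤ) + 1) m (by omega)
    infer_instance
  have h2 : ε.hom ≫ H.map h = colimit.desc F cK := by
    apply colimit.hom_ext
    intro n
    rw [reassoc_of% (hε n), colimit.ι_desc]
    exact hH' n
  have h3 : IsIso (colimit.desc F cK) := by
    have : colimit.desc F cK =
        (IsColimit.coconePointUniqueUpToIso (colimit.isColimit F) hcK).hom := rfl
    rw [this]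
    infer_instance
  have h4 : H.map h = ε.inv ≫ colimit.desc F cK := by rw [← h2, Iso.inv_hom_id_assoc]
  rw [h4]
  infer_instance



end General

end Groth.Agent.Lib.Helper16.KPR

namespace Groth.Agent.Lib.Helper16.KF

open DerivedCategory Groth.Agent.Lib.Helper16.KPR

attribute [local instance] HasDerivedCategory.standard

variable {R : Type u} [CommRing R]

lemma isKFlat_sigma (P : ℕ → Cx R) (hP : ∀ n, DRing.IsKFlat R (P n)) : DRing.IsKFlat R (∐ P) :=
  isKFlat_of_isColimit (F := Discrete.functor P) (colimit.isColimit (Discrete.functor P))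
    (fun ⟨n⟩ => hP n)

lemma isKFlat_tel (P : ℕ → Cx R) (φ : ∀ n, P n ⟶ P (n + 1)) (hP : ∀ n, DRing.IsKFlat R (P n)) :
    DRing.IsKFlat R (tel P φ) :=
  isKFlat_mappingCone _ (isKFlat_sigma P hP) (isKFlat_sigma P hP)

/-- every object of `D(R)` is represented by a K-projective, K-flat complex with projective
terms. -/
theorem exists_kprojective_kflat (K : Dual.D R) :
    ∃ P : Cx R, P.IsKProjective ∧ (∀ i, Module.Projective R (P.X i)) ∧ DRing.IsKFlat R P ∧
      Nonempty (DRing.toD P ≅ K) := by
  obtain ⟨P, h1, h2, h3, h4⟩ := exists_kprojective_with (A := ModuleCat.{u} R)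
    (fun E => DRing.IsKFlat R E)
    (fun E n hb hp => isKFlat_of_boundedAbove E n hb (fun i => by
      haveI := hp i
      haveI : Module.Projective R (E.X i) := ModuleCat.projective_of_module_projective (E.X i)
      infer_instance))
    (fun P φ hP => isKFlat_tel P φ hP) K
  refine ⟨P, h1, fun i => ?_, h3, h4⟩
  haveI := h2 i
  exact ModuleCat.projective_of_module_projective (P.X i)

/-- every complex receives a quasi-isomorphism from a K-projective, K-flat complex with
projective terms. -/
theorem exists_kprojective_kflat_quasiIso (M : Cx R) :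
    ∃ (P : Cx R) (f : P ⟶ M), P.IsKProjective ∧ (∀ i, Module.Projective R (P.X i)) ∧
      DRing.IsKFlat R P ∧ QuasiIso f := by
  obtain ⟨P, h1, h2, h3, ⟨e⟩⟩ := exists_kprojective_kflat (DRing.toD M)
  haveI := h1
  obtain ⟨f, hf⟩ := exists_map_of_isKProjective P M e.hom
  refine ⟨P, f, h1, h2, h3, ?_⟩
  rw [← isIso_Q_map_iff_quasiIso, hf]
  infer_instance

end Groth.Agent.Lib.Helper16.KF
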