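import Mathlib
import Groth.Prelude.Def_KFlatSite
import Groth.Agent.Lib.Helper16.KF10

/-!
# Helper16 — KF11: K-flat resolutions with flat terms and degreewise surjective
-/

set_option autoImplicit false
universe u
open CategoryTheory CategoryTheory.Limits MonoidalCategory

namespace Groth.Agent.Lib.Helper16.KF

variable {R : Type u} [CommRing R]

section Disk

open CochainComplex HomComplex

variable (M : Cx R)

/-- a free module surjecting onto every term of `M`. -/
abbrev diskG : Type u := (∀ q : ℤ, M.X q) →₀ R

/-- the surjections `diskG M → M.X q`. -/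
noncomputable def diskEv (q : ℤ) : diskG M →ₗ[R] M.X q :=
  Finsupp.linearCombination R (fun f : (∀ q : ℤ, M.X q) => f q)

lemma diskEv_surjective (q : ℤ) : Function.Surjective (diskEv M q) :=
  Finsupp.linearCombination_surjective R (Function.surjective_eval q)

/-- the complex with all terms `diskG M` and zero differentials. -/
noncomputable def diskN : Cx R where
  X _ := ModuleCat.of R (diskG M)
  d _ _ := 0

/-- the cochain of degree `-1` given by the surjections. -/
noncomputable def diskα : Cochain (diskN M) M (-1) :=
  Cochain.mk (fun _ q _ => ModuleCat.ofHom (diskEv M q))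

/-- the null-homotopic chain map `δ α`. -/
noncomputable def diskβ : diskN M ⟶ M :=
  Cocycle.homOf (Cocycle.mk (δ (-1) 0 (diskα M)) 1 (by simp) (δ_δ _ _ _ _))

/-- the contractible complex surjecting onto `M`. -/
noncomputable abbrev diskD : Cx R := mappingCone (𝟙 (diskN M))

/-- the degreewise surjective map from the contractible complex. -/
noncomputable def diskMap : diskD M ⟶ M :=
  mappingCone.desc (𝟙 (diskN M)) (diskα M) (diskβ M) (by simp [diskβ])

lemma epi_diskMap_f (q : ℤ) : Epi ((diskMap M).f q) := by
  have h := mappingCone.inl_v_desc_f (𝟙 (diskN M)) (diskα M) (diskβ M) (by simp [diskβ])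
    (q + 1) q (by omega)
  have h2 : Epi ((diskα M).v (q + 1) q (by omega)) := by
    rw [ModuleCat.epi_iff_surjective]
    exact diskEv_surjective M q
  rw [← h] at h2
  exact @epi_of_epi _ _ _ _ _ ((mappingCone.inl (𝟙 (diskN M))).v (q + 1) q (by omega))
    ((diskMap M).f q) h2

lemma flat_diskD_X (q : ℤ) : Module.Flat R ((diskD M).X q) := by
  have e : (diskD M).X q ≅ (diskN M).X (q + 1) ⊞ (diskN M).X q :=
    HomologicalComplex.homotopyCofiber.XIsoBiprod (𝟙 (diskN M)) q (q + 1) rfl
  have e' := e ≪≫ ModuleCat.biprodIsoProd _ _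
  haveI : Module.Free R (diskG M × diskG M) := Module.Free.prod _ _ _
  haveI : Module.Projective R (diskG M × diskG M) := Module.Projective.of_free
  haveI : Module.Flat R (diskG M × diskG M) := Module.Flat.of_projective
  haveI : Module.Flat R (ModuleCat.of R (↑((diskN M).X (q + 1)) × ↑((diskN M).X q))) :=
    inferInstanceAs (Module.Flat R (diskG M × diskG M))
  exact Module.Flat.of_linearEquiv e'.toLinearEquiv

lemma projective_diskD_X (q : ℤ) : Projective ((diskD M).X q) := by
  haveI : ∀ i, Projective ((diskN M).X i) := fun i => by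
    haveI : Module.Projective R (diskG M) := Module.Projective.of_free
    exact (IsProjective.iff_projective (R := R) (P := diskG M)).1 inferInstance
  exact KPR.projective_mappingCone_X (𝟙 (diskN M)) inferInstance inferInstance q

end Disk

lemma isKProjective_of_homotopyEquiv {K K' : Cx R} (e : HomotopyEquiv K K')
    (hK : K.IsKProjective) : K'.IsKProjective := by
  rw [CochainComplex.isKProjective_iff_leftOrthogonal] at hK ⊢
  exact ObjectProperty.prop_of_iso _ (HomotopyCategory.isoOfHomotopyEquiv e) hK

/-- **K-flat resolutions**: every complex receives a degreewise surjective quasi-isomorphism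
from a K-flat (even K-projective) complex with projective terms. -/
theorem exists_kflat_resolution (M : Cx R) :
    ∃ (K : Cx R) (f : K ⟶ M), DRing.IsKFlat R K ∧ K.IsKProjective ∧
      (∀ i, Module.Projective R (K.X i)) ∧ QuasiIso f ∧ ∀ i : ℤ, Function.Surjective (f.f i) := by
  obtain ⟨P, f, hKP, hproj, hflat, hq⟩ := exists_kprojective_kflat_quasiIso M
  let e : HomotopyEquiv (diskD M ⊞ P) P := cylHomotopyEquiv (L₁ := diskN M) (L₂ := P)
  let h : diskD M ⊞ P ⟶ M := biprod.desc (diskMap M) f
  refine ⟨diskD M ⊞ P, h, isKFlat_of_homotopyEquiv e.symm hflat, ?_, fun i => ?_, ?_, fun i => ?_⟩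
  · exact isKProjective_of_homotopyEquiv e.symm hKP
  · have e' : (diskD M ⊞ P).X i ≅ (diskD M).X i ⊞ P.X i :=
      (HomologicalComplex.eval _ _ i).mapBiprod _ _
    haveI := projective_diskD_X M i
    haveI : Projective (P.X i) := by
      haveI := hproj i
      exact (IsProjective.iff_projective (R := R) (P := P.X i)).1 inferInstance
    haveI : Projective ((diskD M ⊞ P).X i) := Projective.of_iso e'.symm inferInstance
    exact ModuleCat.projective_of_module_projective _
  · haveI : QuasiIso (biprod.inr : P ⟶ diskD M ⊞ P) := e.quasiIso_inv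
    haveI : QuasiIso ((biprod.inr : P ⟶ diskD M ⊞ P) ≫ h) := by
      simp only [h, biprod.inr_desc]
      exact hq
    exact quasiIso_of_comp_left (biprod.inr : P ⟶ diskD M ⊞ P) h
  · rw [← ModuleCat.epi_iff_surjective]
    have h1 : (biprod.inl : diskD M ⟶ diskD M ⊞ P).f i ≫ h.f i = (diskMap M).f i := by
      rw [← HomologicalComplex.comp_f]
      simp only [h, biprod.inl_desc]
    haveI := epi_diskMap_f M i
    haveI : Epi ((biprod.inl : diskD M ⟶ diskD M ⊞ P).f i ≫ h.f i) := by rw [h1]; infer_instance
    exact epi_of_epi ((biprod.inl : diskD M ⟶ diskD M ⊞ P).f i) (h.f i)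

end Groth.Agent.Lib.Helper16.KF
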