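import Mathlib
import Groth.Prelude.Def_KFlatSite
import Groth.Prelude.Def_DTen
import Groth.Agent.Lib.Helper16.KF11

/-!
# Helper16 — KF12: K-flat complexes and quasi-isomorphisms, both variables
-/

set_option autoImplicit false
universe u
open CategoryTheory CategoryTheory.Limits MonoidalCategory

namespace Groth.Agent.Lib.Helper16.KF

variable {R : Type u} [CommRing R]

lemma braid_whiskerLeft (F : Cx R) {P Q : Cx R} (α : P ⟶ Q) :
    (F ◁ α) ≫ (DTen.braidCx F Q).hom = (DTen.braidCx F P).hom ≫ (α ▷ F) := by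
  have := DTen.braidCx_naturality (𝟙 F) α
  rwa [id_tensorHom, tensorHom_id] at this

lemma braid_whiskerRight {P Q : Cx R} (α : P ⟶ Q) (F : Cx R) :
    (α ▷ F) ≫ (DTen.braidCx Q F).hom = (DTen.braidCx P F).hom ≫ (F ◁ α) := by
  have := DTen.braidCx_naturality α (𝟙 F)
  rwa [id_tensorHom, tensorHom_id] at this

/-- a K-flat complex is also K-flat on the left. -/
lemma acyc_tensor_left_of_isKFlat {F : Cx R} (hF : DRing.IsKFlat R F) (M : Cx R) (hM : Acyc M) :
    Acyc (F ⊗ M) :=
  Acyc.of_iso (hF M hM) (DTen.braidCx M F)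

/-- **Tensoring with a K-flat complex (on the left) preserves quasi-isomorphisms.** -/
theorem quasiIso_whiskerLeft_of_isKFlat {F : Cx R} (hF : DRing.IsKFlat R F) {P Q : Cx R}
    (α : P ⟶ Q) [QuasiIso α] : QuasiIso (F ◁ α) := by
  haveI := quasiIso_whiskerRight_of_isKFlat hF α
  have h : F ◁ α = (DTen.braidCx F P).hom ≫ (α ▷ F) ≫ (DTen.braidCx F Q).inv := by
    rw [← Category.assoc, ← braid_whiskerLeft, Category.assoc, Iso.hom_inv_id, Category.comp_id]
  rw [h]
  infer_instance

/-- a quasi-isomorphism between K-flat complexes remains a quasi-isomorphism after tensoring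
with any complex (on the left). -/
theorem quasiIso_whiskerLeft_of_isKFlat_of_isKFlat {P Q : Cx R} (hP : DRing.IsKFlat R P)
    (hQ : DRing.IsKFlat R Q) (α : P ⟶ Q) [QuasiIso α] (L : Cx R) : QuasiIso (L ◁ α) := by
  obtain ⟨F, g, hF, -, -, hg, -⟩ := exists_kflat_resolution L
  haveI := hg
  haveI := quasiIso_whiskerRight_of_isKFlat hP g
  haveI := quasiIso_whiskerRight_of_isKFlat hQ g
  haveI := quasiIso_whiskerLeft_of_isKFlat hF α
  have h : (g ▷ P) ≫ (L ◁ α) = (F ◁ α) ≫ (g ▷ Q) := (whisker_exchange g α).symm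
  haveI : QuasiIso ((g ▷ P) ≫ (L ◁ α)) := by rw [h]; infer_instance
  exact quasiIso_of_comp_left (g ▷ P) (L ◁ α)

/-- same on the right. -/
theorem quasiIso_whiskerRight_of_isKFlat_of_isKFlat {P Q : Cx R} (hP : DRing.IsKFlat R P)
    (hQ : DRing.IsKFlat R Q) (α : P ⟶ Q) [QuasiIso α] (L : Cx R) : QuasiIso (α ▷ L) := by
  haveI := quasiIso_whiskerLeft_of_isKFlat_of_isKFlat hP hQ α L
  have h : α ▷ L = (DTen.braidCx P L).hom ≫ (L ◁ α) ≫ (DTen.braidCx Q L).inv := by
    rw [← Category.assoc, ← braid_whiskerRight, Category.assoc, Iso.hom_inv_id, Category.comp_id]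
  rw [h]
  infer_instance

end Groth.Agent.Lib.Helper16.KF
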