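import Mathlib
import Groth.Prelude.Def_DCoh4
import Groth.Prelude.Def_DerSch
import Groth.Prelude.Def_KFlatSite
import Groth.Agent.Lib.Helper16.Sky4
import Groth.Agent.Lib.Helper16.Stk5

/-!
# Helper16 — Sky5: the stalks of a K-flat complex of `O_X`-modules are K-flat
-/

set_option autoImplicit false
universe u
open CategoryTheory CategoryTheory.Limits TopologicalSpace Opposite AlgebraicGeometry
  MonoidalCategory

namespace Groth.Agent.Lib.Helper16.Stk

open Groth.Agent.Lib.Helper16.BiCx

variable {X : Scheme.{u}} (x : X)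

/-- the skyscraper complex. -/
noncomputable abbrev skyCx (N : CochainComplex (ModuleCat.{u} (X.presheaf.stalk x)) ℤ) :
    CochainComplex X.Modules ℤ :=
  ((skyFunctor x).mapHomologicalComplex (ComplexShape.up ℤ)).obj N

/-- the stalk at `x` of the skyscraper complex. -/
noncomputable def stkSkyCxIso (N : CochainComplex (ModuleCat.{u} (X.presheaf.stalk x)) ℤ) :
    stkCx x (skyCx x N) ≅ N :=
  (NatIso.mapHomologicalComplex (skyStalkIso x) (ComplexShape.up ℤ)).app N ≪≫
    (Functor.mapHomologicalComplexIdIso _ _).app N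

/-- **the stalks of a K-flat complex of `O_X`-modules are K-flat.** -/
theorem stalk_isKFlat_of_isKFlat (E : CochainComplex X.Modules ℤ) (hE : DCoh.IsKFlat E) :
    DRing.IsKFlat (X.presheaf.stalk x) (stkCx x E) := by
  intro N hN
  have hL : Acyc (skyCx x N) := acyc_skyFunctor x N hN
  have h1 : Acyc (T (DCoh.tensorBi (X := X)) (skyCx x N) E) := hE _ hL
  have h2 := (acyc_iff_forall_stalk _).1 h1 x
  have h3 : Acyc (stkCx x (skyCx x N) ⊗ stkCx x E) :=
    Acyc.of_iso h2 (stalkTensorCxIso x (skyCx x N) E).symm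
  exact Acyc.of_iso h3 ((tensorRight (stkCx x E)).mapIso (stkSkyCxIso x N))

/-- **K-flatness of a complex of `O_X`-modules is stalkwise.** -/
theorem isKFlat_iff_forall_stalk (E : CochainComplex X.Modules ℤ) :
    DCoh.IsKFlat E ↔ ∀ x : X, DRing.IsKFlat (X.presheaf.stalk x) (stkCx x E) :=
  ⟨fun hE x => stalk_isKFlat_of_isKFlat x E hE, isKFlat_of_forall_stalk E⟩

end Groth.Agent.Lib.Helper16.Stk
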