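import Mathlib
import Groth.Prelude.Def_DCoh4
import Groth.Prelude.Def_DerSch
import Groth.Prelude.Def_KFlatSite
import Groth.Agent.Lib.Helper16.Sky5
import Groth.Agent.Lib.Helper16.BiCx8
import Groth.Agent.Lib.Helper16.KF12

/-!
# Helper16 — Sky6: quasi-isomorphisms between K-flat complexes of `O_X`-modules stay
quasi-isomorphisms after tensoring with any complex
-/

set_option autoImplicit false
universe u
open CategoryTheory CategoryTheory.Limits TopologicalSpace Opposite AlgebraicGeometry
  MonoidalCategory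

namespace Groth.Agent.Lib.Helper16.Stk

open Groth.Agent.Lib.Helper16.BiCx

/-- ring level: an acyclic K-flat complex tensored with any complex is acyclic. -/
lemma ring_acyc_tensor_of_acyc_of_isKFlat {R : Type u} [CommRing R] (C : DRing.Cx R)
    (hC : Acyc C) (hK : DRing.IsKFlat R C) (N : DRing.Cx R) : Acyc (N ⊗ C) := by
  obtain ⟨F, g, hF, -, -, hg, -⟩ := Groth.Agent.Lib.Helper16.KF.exists_kflat_resolution N
  haveI := hg
  haveI := Groth.Agent.Lib.Helper16.KF.quasiIso_whiskerRight_of_isKFlat hK g
  have h1 : Acyc (F ⊗ C) := Groth.Agent.Lib.Helper16.KF.acyc_tensor_left_of_isKFlat hF C hC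
  exact Acyc.of_quasiIso (g ▷ C) h1

variable {X : Scheme.{u}}

/-- **an acyclic K-flat complex of `O_X`-modules tensored with any complex is acyclic.** -/
theorem acyc_tensor_of_acyc_of_isKFlat (C : CochainComplex X.Modules ℤ) (hC : Acyc C)
    (hK : DCoh.IsKFlat C) (L : CochainComplex X.Modules ℤ) :
    Acyc (T (DCoh.tensorBi (X := X)) L C) := by
  rw [acyc_iff_forall_stalk]
  intro x
  have hCx : Acyc (stkCx x C) := (acyc_iff_forall_stalk C).1 hC x
  have hKx := stalk_isKFlat_of_isKFlat x C hK
  exact Acyc.of_iso (ring_acyc_tensor_of_acyc_of_isKFlat (stkCx x C) hCx hKx (stkCx x L))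
    (stalkTensorCxIso x L C)

/-- **a quasi-isomorphism between K-flat complexes of `O_X`-modules remains a quasi-isomorphism
after tensoring (on the left) with any complex.** -/
theorem quasiIso_mapR_of_isKFlat_of_isKFlat {P Q : CochainComplex X.Modules ℤ} (α : P ⟶ Q)
    [QuasiIso α] (hP : DCoh.IsKFlat P) (hQ : DCoh.IsKFlat Q) (L : CochainComplex X.Modules ℤ) :
    QuasiIso (mapR (DCoh.tensorBi (X := X)) L α) :=
  quasiIso_mapR_of_isKFlatR_of_isKFlatR (DCoh.tensorBi (X := X)) L
    (fun C hC hK => acyc_tensor_of_acyc_of_isKFlat C hC hK L) α hP hQ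

end Groth.Agent.Lib.Helper16.Stk
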