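import Mathlib
import Groth.Prelude.Def_DCoh4
import Groth.Prelude.Def_DerSch
import Groth.Prelude.Def_FlatMod2
import Groth.Agent.Lib.Helper16.Fl1
import Groth.Agent.Lib.Helper16.Res4
import Groth.Agent.Lib.Helper16.Sky6

/-!
# Helper16 — Fl2: K-flat resolutions of complexes of `O_X`-modules
-/

set_option autoImplicit false
universe u
open CategoryTheory CategoryTheory.Limits TopologicalSpace Opposite AlgebraicGeometry

namespace Groth.Agent.Lib.Helper16.Stk

open Groth.Agent.Lib.Helper16.BiCx Groth.Agent.Lib.Helper16.Res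

variable {X : Scheme.{u}}

instance hasExactColimitsOfShape_nat_scheme : HasExactColimitsOfShape ℕ X.Modules := by
  haveI : HasFilteredColimitsOfSize.{0, 0} AddCommGrpCat.{u} := ⟨fun _ _ _ => inferInstance⟩
  haveI : AB5OfSize.{0, 0} AddCommGrpCat.{u} := AB5OfSize_of_univLE.{0, 0, u, u} _
  exact Groth.Agent.Lib.Helper16.SMod.hasExactColimitsOfShape.{0, 0, u} X.ringCatSheaf ℕ

/-- K-flat with flat terms. -/
def KFlatFlat (K : CochainComplex X.Modules ℤ) : Prop :=
  DCoh.IsKFlat K ∧ ∀ n : ℤ, FlatMod.IsFlat (K.X n)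

lemma isFlat_of_iso {M N : X.Modules} (e : M ≅ N) (hM : FlatMod.IsFlat M) : FlatMod.IsFlat N := by
  intro x
  haveI : Module.Flat (X.presheaf.stalk x) ((stk x).obj M) := hM x
  change Module.Flat (X.presheaf.stalk x) ((stk x).obj N)
  exact Module.Flat.of_linearEquiv ((stk x).mapIso e).symm.toLinearEquiv

lemma isFlat_biprod (M N : X.Modules) (hM : FlatMod.IsFlat M) (hN : FlatMod.IsFlat N) :
    FlatMod.IsFlat (M ⊞ N) := by
  intro x
  haveI : Module.Flat (X.presheaf.stalk x) ((stk x).obj M) := hM x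
  haveI : Module.Flat (X.presheaf.stalk x) ((stk x).obj N) := hN x
  haveI := Groth.Agent.Lib.Helper16.KF.flat_biprod ((stk x).obj M) ((stk x).obj N)
  haveI : PreservesBinaryBiproducts (stk x) := preservesBinaryBiproducts_of_preservesBiproducts _
  change Module.Flat (X.presheaf.stalk x) ((stk x).obj (M ⊞ N))
  exact Module.Flat.of_linearEquiv ((stk x).mapBiprod M N).toLinearEquiv

/-- complexes with zero differentials and flat terms. -/
lemma kFlatFlat_zeroD (Y : ℤ → X.Modules) (hY : ∀ n, FlatMod.IsFlat (Y n)) :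
    KFlatFlat (zeroD Y) := by
  refine ⟨?_, hY⟩
  apply isKFlat_of_forall_stalk
  intro x
  refine Groth.Agent.Lib.Helper16.KF.isKFlat_of_d_eq_zero _ (fun i j => ?_) (fun i => hY i x)
  exact (stk x).map_zero _ _

open CochainComplex in
lemma kFlatFlat_mappingCone {K L : CochainComplex X.Modules ℤ} (φ : K ⟶ L) (hK : KFlatFlat K)
    (hL : KFlatFlat L) : KFlatFlat (mappingCone φ) := by
  refine ⟨(dcoh_isKFlat_mappingCone_two_out_of_three φ).1 hK.1 hL.1, fun n => ?_⟩
  exact isFlat_of_iso (HomologicalComplex.homotopyCofiber.XIsoBiprod φ n (n + 1) rfl).symm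
    (isFlat_biprod _ _ (hK.2 (n + 1)) (hL.2 n))


lemma kFlatFlat_of_isColimit (F : ℕ ⥤ CochainComplex X.Modules ℤ) (c : Cocone F)
    (hc : IsColimit c) (h : ∀ n, KFlatFlat (F.obj n)) : KFlatFlat c.pt := by
  have key : ∀ (x : X) (n : ℤ), IsColimit ((stk x).mapCocone
      ((HomologicalComplex.eval X.Modules (ComplexShape.up ℤ) n).mapCocone c)) := by
    intro x n
    haveI : PreservesColimitsOfShape ℕ (stk x) := preservesColimitsOfShape_stalkFunctor x ℕ
    exact isColimitOfPreserves (stk x) (isColimitOfPreserves _ hc)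
  refine ⟨?_, fun n x => ?_⟩
  · apply isKFlat_of_forall_stalk
    intro x
    haveI : HasExactColimitsOfShape ℕ (ModuleCat.{u} (X.presheaf.stalk x)) :=
      Groth.Agent.Lib.Helper16.KPR.hasExactColimitsOfShape_nat_moduleCat _
    haveI : PreservesColimitsOfShape ℕ (stk x) := preservesColimitsOfShape_stalkFunctor x ℕ
    have hcx : IsColimit (((stk x).mapHomologicalComplex (ComplexShape.up ℤ)).mapCocone c) :=
      isColimitOfPreserves _ hc
    have hn : ∀ n, DRing.IsKFlat (X.presheaf.stalk x)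
        ((F ⋙ (stk x).mapHomologicalComplex (ComplexShape.up ℤ)).obj n) :=
      fun n => stalk_isKFlat_of_isKFlat x _ (h n).1
    exact Groth.Agent.Lib.Helper16.KF.isKFlat_of_isColimit (R := X.presheaf.stalk x)
      (F := F ⋙ (stk x).mapHomologicalComplex (ComplexShape.up ℤ))
      (c := ((stk x).mapHomologicalComplex (ComplexShape.up ℤ)).mapCocone c) hcx hn
  · exact Groth.Agent.Lib.Helper16.KF.flat_of_isColimit_nat (key x n) (fun k => (h k).2 n x)

/-- **K-flat resolutions with flat terms, by termwise epimorphic quasi-isomorphisms.** -/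
theorem exists_kFlat_resolution (G : CochainComplex X.Modules ℤ) :
    ∃ (K : CochainComplex X.Modules ℤ) (q : K ⟶ G), DCoh.IsKFlat K ∧
      (∀ n : ℤ, FlatMod.IsFlat (K.X n)) ∧ QuasiIso q ∧ ∀ n : ℤ, Epi (q.f n) := by
  haveI : HasExactColimitsOfShape ℕ X.Modules := hasExactColimitsOfShape_nat_scheme
  obtain ⟨K, q, hK, hq, he⟩ := exists_resolution (W := FlatMod.IsFlat (X := X)) exists_flat_cover G
    KFlatFlat kFlatFlat_zeroD (fun φ hK hL => kFlatFlat_mappingCone φ hK hL)
    kFlatFlat_of_isColimit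
  exact ⟨K, q, hK.1, hK.2, hq, he⟩

end Groth.Agent.Lib.Helper16.Stk
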