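import Mathlib
import Groth.Agent.Lib.Helper16.Res4

/-!
# Helper16 — Res5: relative version of Res4 (cell attachment starting from a given stage)

Given `f₀ : P₀ ⟶ G` which is an epimorphism on cycles, we attach cells to `P₀` to get
`P₀ ⟶ K ⟶ G` with `K ⟶ G` a termwise epimorphic quasi-isomorphism.
-/

set_option autoImplicit false
open CategoryTheory CategoryTheory.Limits CochainComplex HomComplex

namespace Groth.Agent.Lib.Helper16.Res

namespace Rel

variable {A : Type*} [Category A] [Abelian A]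
  {W : A → Prop} (hW : ∀ M : A, ∃ (F : A) (p : F ⟶ M), W F ∧ Epi p)
  (G : CochainComplex A ℤ) (S₀ : Stage G)

/-- the stages. -/
noncomputable def stage : ℕ → Stage G
  | 0 => S₀
  | k + 1 => ⟨next hW (stage k).f, nextf hW (stage k).f⟩

/-- the transition maps. -/
noncomputable def stageι (k : ℕ) : (stage hW G S₀ k).P ⟶ (stage hW G S₀ (k + 1)).P :=
  nextι hW (stage hW G S₀ k).f

lemma stageι_f (k : ℕ) :
    stageι hW G S₀ k ≫ (stage hW G S₀ (k + 1)).f = (stage hW G S₀ k).f :=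
  nextι_nextf hW (stage hW G S₀ k).f

/-- the sequence of stages. -/
noncomputable def seqF : ℕ ⥤ CochainComplex A ℤ := Functor.ofSequence (stageι hW G S₀)

/-- the cocone over `G`. -/
noncomputable def seqCocone : Cocone (seqF hW G S₀) where
  pt := G
  ι := NatTrans.ofSequence (F := seqF hW G S₀) (G := (Functor.const ℕ).obj G)
    (fun k => (stage hW G S₀ k).f) (fun k => by
      simp only [seqF, Functor.ofSequence_map_homOfLE_succ, Functor.const_obj_obj,
        Functor.const_obj_map]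
      exact (stageι_f hW G S₀ k).trans (Category.comp_id _).symm)

lemma epi_cyclesMap_stage (h₀ : ∀ n, Epi (HomologicalComplex.cyclesMap S₀.f n)) (k : ℕ) (n : ℤ) :
    Epi (HomologicalComplex.cyclesMap (stage hW G S₀ k).f n) := by
  induction k with
  | zero => exact h₀ n
  | succ k ih =>
    haveI := ih
    exact epi_cyclesMap_nextf hW (stage hW G S₀ k).f n

lemma comp_homologyMap_stageι_eq_zero (k : ℕ) (n : ℤ) {T : A}
    (x : T ⟶ (stage hW G S₀ k).P.homology n)
    (hx : x ≫ HomologicalComplex.homologyMap (stage hW G S₀ k).f n = 0) :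
    x ≫ HomologicalComplex.homologyMap (stageι hW G S₀ k) n = 0 :=
  comp_homologyMap_nextι_eq_zero hW (stage hW G S₀ k).f n x hx

section Main

variable [HasColimitsOfShape ℕ A] [HasExactColimitsOfShape ℕ A]

/-- the resolution. -/
noncomputable abbrev res : CochainComplex A ℤ := colimit (seqF hW G S₀)

/-- the inclusions of the stages. -/
noncomputable def resι (k : ℕ) : (stage hW G S₀ k).P ⟶ res hW G S₀ :=
  colimit.ι (seqF hW G S₀) k

/-- the map to `G`. -/
noncomputable def resπ : res hW G S₀ ⟶ G := colimit.desc (seqF hW G S₀) (seqCocone hW G S₀)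

omit [HasExactColimitsOfShape ℕ A] in
lemma ι_resπ (k : ℕ) : resι hW G S₀ k ≫ resπ hW G S₀ = (stage hW G S₀ k).f :=
  colimit.ι_desc _ _

omit [HasExactColimitsOfShape ℕ A] in
lemma epi_resπ_f (h₀ : ∀ n, Epi (HomologicalComplex.cyclesMap S₀.f n)) (n : ℤ) :
    Epi ((resπ hW G S₀).f n) := by
  have h : (resι hW G S₀ 1).f n ≫ (resπ hW G S₀).f n = (stage hW G S₀ 1).f.f n := by
    rw [← HomologicalComplex.comp_f, ι_resπ]
  haveI := epi_cyclesMap_stage hW G S₀ h₀ 0 (n + 1)
  have h1 : Epi ((stage hW G S₀ 1).f.f n) := epi_nextf_f hW (stage hW G S₀ 0).f n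
  rw [← h] at h1
  exact @epi_of_epi _ _ _ _ _ _ _ h1

lemma quasiIso_resπ (h₀ : ∀ n, Epi (HomologicalComplex.cyclesMap S₀.f n)) :
    QuasiIso (resπ hW G S₀) := by
  refine ⟨fun n => ?_⟩
  rw [quasiIsoAt_iff_isIso_homologyMap]
  have hepi : Epi (HomologicalComplex.homologyMap (resπ hW G S₀) n) := by
    have h : HomologicalComplex.homologyMap (resι hW G S₀ 0) n ≫
        HomologicalComplex.homologyMap (resπ hW G S₀) n =
        HomologicalComplex.homologyMap (stage hW G S₀ 0).f n := by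
      rw [← HomologicalComplex.homologyMap_comp, ι_resπ]
    haveI := epi_cyclesMap_stage hW G S₀ h₀ 0 n
    have h1 : Epi (HomologicalComplex.homologyMap (stage hW G S₀ 0).f n) :=
      epi_homologyMap_of_epi_cyclesMap _ n
    rw [← h] at h1
    exact @epi_of_epi _ _ _ _ _ _ _ h1
  have hmono : Mono (HomologicalComplex.homologyMap (resπ hW G S₀) n) := by
    let H := HomologicalComplex.homologyFunctor A (ComplexShape.up ℤ) n
    refine mono_of_isColimit_of_kernel_dies (F := seqF hW G S₀ ⋙ H)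
      (c := H.mapCocone (colimit.cocone (seqF hW G S₀)))
      (isColimitOfPreserves H (colimit.isColimit (seqF hW G S₀)))
      (HomologicalComplex.homologyMap (resπ hW G S₀) n) (fun k T x hx => ?_)
    have h1 : x ≫ HomologicalComplex.homologyMap (stage hW G S₀ k).f n = 0 := by
      rw [← ι_resπ, HomologicalComplex.homologyMap_comp]
      exact hx
    have h2 := comp_homologyMap_stageι_eq_zero hW G S₀ k n x h1
    have h3 : (seqF hW G S₀).map (homOfLE (Nat.le_succ k)) = stageι hW G S₀ k :=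
      Functor.ofSequence_map_homOfLE_succ _ k
    change x ≫ HomologicalComplex.homologyMap ((seqF hW G S₀).map (homOfLE (Nat.le_succ k))) n = 0
    rw [h3]
    exact h2
  exact isIso_of_mono_of_epi _

include hW in
/-- **Existence of resolutions, relative version.** -/
theorem exists_resolution_rel {P₀ : CochainComplex A ℤ} (f₀ : P₀ ⟶ G)
    (h₀ : ∀ n, Epi (HomologicalComplex.cyclesMap f₀ n))
    (Q : CochainComplex A ℤ → Prop) (hP₀ : Q P₀)
    (q0 : ∀ X : ℤ → A, (∀ n, W (X n)) → Q (zeroD X))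
    (q1 : ∀ {K L : CochainComplex A ℤ} (φ : K ⟶ L), Q K → Q L → Q (mappingCone φ))
    (q2 : ∀ (F : ℕ ⥤ CochainComplex A ℤ) (c : Cocone F), IsColimit c → (∀ n, Q (F.obj n)) →
      Q c.pt) :
    ∃ (K : CochainComplex A ℤ) (i : P₀ ⟶ K) (q : K ⟶ G), i ≫ q = f₀ ∧ Q K ∧ QuasiIso q ∧
      ∀ n : ℤ, Epi (q.f n) := by
  refine ⟨res hW G ⟨P₀, f₀⟩, resι hW G ⟨P₀, f₀⟩ 0, resπ hW G ⟨P₀, f₀⟩, ι_resπ hW G ⟨P₀, f₀⟩ 0, ?_,
    quasiIso_resπ hW G ⟨P₀, f₀⟩ h₀, epi_resπ_f hW G ⟨P₀, f₀⟩ h₀⟩
  refine q2 _ _ (colimit.isColimit (seqF hW G ⟨P₀, f₀⟩)) (fun k => ?_)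
  change Q (stage hW G ⟨P₀, f₀⟩ k).P
  induction k with
  | zero => exact hP₀
  | succ k ih => exact q1 _ (q0 _ (fun n => cov_W hW _)) ih

include hW in
/-- **Factorization of a map from a `Q`-complex through a `Q`-resolution.** -/
theorem exists_factorization {K₀ : CochainComplex A ℤ} (a : K₀ ⟶ G)
    (Q : CochainComplex A ℤ → Prop) (hK₀ : Q K₀)
    (q0 : ∀ X : ℤ → A, (∀ n, W (X n)) → Q (zeroD X))
    (q1 : ∀ {K L : CochainComplex A ℤ} (φ : K ⟶ L), Q K → Q L → Q (mappingCone φ))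
    (q2 : ∀ (F : ℕ ⥤ CochainComplex A ℤ) (c : Cocone F), IsColimit c → (∀ n, Q (F.obj n)) →
      Q c.pt)
    (q3 : ∀ K L : CochainComplex A ℤ, Q K → Q L → Q (K ⊞ L)) :
    ∃ (N : CochainComplex A ℤ) (b : K₀ ⟶ N) (c : N ⟶ G), b ≫ c = a ∧ Q N ∧ QuasiIso c ∧
      ∀ n : ℤ, Epi (c.f n) := by
  let f₀ : K₀ ⊞ base hW G ⟶ G := biprod.desc a (basef hW G)
  have h₀ : ∀ n, Epi (HomologicalComplex.cyclesMap f₀ n) := by
    intro n
    have h : HomologicalComplex.cyclesMap (biprod.inr : base hW G ⟶ K₀ ⊞ base hW G) n ≫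
        HomologicalComplex.cyclesMap f₀ n = HomologicalComplex.cyclesMap (basef hW G) n := by
      rw [← HomologicalComplex.cyclesMap_comp, biprod.inr_desc]
    have h1 : Epi (HomologicalComplex.cyclesMap (basef hW G) n) := inferInstance
    rw [← h] at h1
    exact @epi_of_epi _ _ _ _ _ _ _ h1
  obtain ⟨N, i, q, hiq, hN, hq, he⟩ := exists_resolution_rel hW G f₀ h₀ Q
    (q3 _ _ hK₀ (q0 _ (fun n => cov_W hW _))) q0 q1 q2
  refine ⟨N, biprod.inl ≫ i, q, ?_, hN, hq, he⟩
  rw [Category.assoc, hiq, biprod.inl_desc]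

end Main

end Rel

end Groth.Agent.Lib.Helper16.Res
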