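import Mathlib
import Groth.Prelude.Def_DCoh4
import Groth.Prelude.Def_DerSch
import Groth.Prelude.Def_FlatMod2
import Groth.Agent.Lib.Helper16.Fl2
import Groth.Agent.Lib.Helper16.Res5

/-!
# Helper16 — Fl3: factorization of a map from a K-flat complex of `O_X`-modules through a
K-flat resolution
-/

set_option autoImplicit false
universe u
open CategoryTheory CategoryTheory.Limits TopologicalSpace Opposite AlgebraicGeometry

namespace Groth.Agent.Lib.Helper16.Stk

open Groth.Agent.Lib.Helper16.BiCx Groth.Agent.Lib.Helper16.Res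

variable {X : Scheme.{u}}

open CochainComplex in
lemma isFlat_mappingCone_X {K L : CochainComplex X.Modules ℤ} (φ : K ⟶ L)
    (hK : ∀ n, FlatMod.IsFlat (K.X n)) (hL : ∀ n, FlatMod.IsFlat (L.X n)) (n : ℤ) :
    FlatMod.IsFlat ((mappingCone φ).X n) :=
  isFlat_of_iso (HomologicalComplex.homotopyCofiber.XIsoBiprod φ n (n + 1) rfl).symm
    (isFlat_biprod _ _ (hK (n + 1)) (hL n))

lemma isFlat_biprod_X (K L : CochainComplex X.Modules ℤ)
    (hK : ∀ n, FlatMod.IsFlat (K.X n)) (hL : ∀ n, FlatMod.IsFlat (L.X n)) (n : ℤ) :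
    FlatMod.IsFlat ((K ⊞ L).X n) :=
  isFlat_of_iso ((HomologicalComplex.eval X.Modules (ComplexShape.up ℤ) n).mapBiprod K L).symm
    (isFlat_biprod _ _ (hK n) (hL n))

lemma isKFlat_of_isColimit_nat (F : ℕ ⥤ CochainComplex X.Modules ℤ) (c : Cocone F)
    (hc : IsColimit c) (h : ∀ n, DCoh.IsKFlat (F.obj n)) : DCoh.IsKFlat c.pt := by
  apply isKFlat_of_forall_stalk
  intro x
  haveI : HasExactColimitsOfShape ℕ (ModuleCat.{u} (X.presheaf.stalk x)) :=
    Groth.Agent.Lib.Helper16.KPR.hasExactColimitsOfShape_nat_moduleCat _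
  haveI : PreservesColimitsOfShape ℕ (stk x) := preservesColimitsOfShape_stalkFunctor x ℕ
  have hcx : IsColimit (((stk x).mapHomologicalComplex (ComplexShape.up ℤ)).mapCocone c) :=
    isColimitOfPreserves _ hc
  have hn : ∀ n, DRing.IsKFlat (X.presheaf.stalk x)
      ((F ⋙ (stk x).mapHomologicalComplex (ComplexShape.up ℤ)).obj n) :=
    fun n => stalk_isKFlat_of_isKFlat x _ (h n)
  exact Groth.Agent.Lib.Helper16.KF.isKFlat_of_isColimit (R := X.presheaf.stalk x)
    (F := F ⋙ (stk x).mapHomologicalComplex (ComplexShape.up ℤ))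
    (c := ((stk x).mapHomologicalComplex (ComplexShape.up ℤ)).mapCocone c) hcx hn

lemma isFlat_X_of_isColimit_nat (F : ℕ ⥤ CochainComplex X.Modules ℤ) (c : Cocone F)
    (hc : IsColimit c) (h : ∀ k n, FlatMod.IsFlat ((F.obj k).X n)) (n : ℤ) :
    FlatMod.IsFlat (c.pt.X n) := by
  intro x
  haveI : PreservesColimitsOfShape ℕ (stk x) := preservesColimitsOfShape_stalkFunctor x ℕ
  have key : IsColimit ((stk x).mapCocone
      ((HomologicalComplex.eval X.Modules (ComplexShape.up ℤ) n).mapCocone c)) :=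
    isColimitOfPreserves (stk x) (isColimitOfPreserves _ hc)
  exact Groth.Agent.Lib.Helper16.KF.flat_of_isColimit_nat key (fun k => h k n x)

/-- **Factorization through a K-flat resolution.** -/
theorem exists_kFlat_factorization {K L : CochainComplex X.Modules ℤ} (a : K ⟶ L)
    (hK : DCoh.IsKFlat K) :
    ∃ (N : CochainComplex X.Modules ℤ) (b : K ⟶ N) (c : N ⟶ L), b ≫ c = a ∧ DCoh.IsKFlat N ∧
      QuasiIso c ∧ (∀ n : ℤ, Epi (c.f n)) ∧
      ((∀ n : ℤ, FlatMod.IsFlat (K.X n)) → ∀ n : ℤ, FlatMod.IsFlat (N.X n)) := by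
  haveI : HasExactColimitsOfShape ℕ X.Modules := hasExactColimitsOfShape_nat_scheme
  let Q : CochainComplex X.Modules ℤ → Prop := fun C =>
    DCoh.IsKFlat C ∧ ((∀ n : ℤ, FlatMod.IsFlat (K.X n)) → ∀ n : ℤ, FlatMod.IsFlat (C.X n))
  obtain ⟨N, b, c, hbc, hN, hc, he⟩ := Rel.exists_factorization (W := FlatMod.IsFlat (X := X))
    exists_flat_cover L a Q ⟨hK, fun h => h⟩
    (fun Y hY => ⟨(kFlatFlat_zeroD Y hY).1, fun _ => hY⟩)
    (fun {C D} φ hC hD => ⟨(dcoh_isKFlat_mappingCone_two_out_of_three φ).1 hC.1 hD.1,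
      fun h => isFlat_mappingCone_X φ (hC.2 h) (hD.2 h)⟩)
    (fun F c hc h => ⟨isKFlat_of_isColimit_nat F c hc (fun n => (h n).1),
      fun h' => isFlat_X_of_isColimit_nat F c hc (fun k => (h k).2 h')⟩)
    (fun C D hC hD => ⟨isKFlatR_biprod (DCoh.tensorBi (X := X)) hC.1 hD.1,
      fun h => isFlat_biprod_X C D (hC.2 h) (hD.2 h)⟩)
  exact ⟨N, b, c, hbc, hN.1, hc, he, hN.2⟩

end Groth.Agent.Lib.Helper16.Stk
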