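import Mathlib
import Groth.Prelude.Def_DCoh4
import Groth.Prelude.Def_DerSch
import Groth.Prelude.Def_FlatMod2
import Groth.Agent.Lib.Helper16.Fl3
import Groth.Agent.Lib.Helper16.FRes1

/-!
# Helper16 — FRes2: functorial K-flat resolutions of complexes of `O_X`-modules
-/

set_option autoImplicit false
universe u
open CategoryTheory CategoryTheory.Limits TopologicalSpace Opposite AlgebraicGeometry

namespace Groth.Agent.Lib.Helper16.Stk

open Groth.Agent.Lib.Helper16.BiCx Groth.Agent.Lib.Helper16.Res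

variable {X : Scheme.{u}}

/-- the image of a section. -/
noncomputable def Sec.map {M N : X.Modules} (g : M ⟶ N) (i : Sec M) : Sec N :=
  ⟨i.1, (DCoh.toP.map g).app (op i.1) i.2⟩

lemma jSEquiv_symm_comp (U : X.Opens) {M N : X.Modules} (s : (DCoh.toP.obj M).obj (op U))
    (g : M ⟶ N) :
    (jSEquiv U M).symm s ≫ g = (jSEquiv U N).symm ((DCoh.toP.map g).app (op U) s) := by
  apply (jSEquiv U N).injective
  rw [jSEquiv_comp, Equiv.apply_symm_apply, Equiv.apply_symm_apply]

/-- the functorial flat cover. -/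
noncomputable def flatCoverMap {M N : X.Modules} (g : M ⟶ N) : flatCover M ⟶ flatCover N :=
  Sigma.desc fun i : Sec M => Sigma.ι (fun j : Sec N => jS j.1) (Sec.map g i)

@[reassoc]
lemma ι_flatCoverMap {M N : X.Modules} (g : M ⟶ N) (i : Sec M) :
    Sigma.ι (fun j : Sec M => jS j.1) i ≫ flatCoverMap g =
      Sigma.ι (fun j : Sec N => jS j.1) (Sec.map g i) :=
  Sigma.ι_desc _ _

@[reassoc]
lemma ι_flatCoverπ (M : X.Modules) (i : Sec M) :
    Sigma.ι (fun j : Sec M => jS j.1) i ≫ flatCoverπ M = (jSEquiv i.1 M).symm i.2 :=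
  Sigma.ι_desc _ _

lemma ι_sec_congr {M : X.Modules} (U : X.Opens) {s s' : (DCoh.toP.obj M).obj (op U)}
    (h : s = s') :
    (Sigma.ι (fun k : Sec M => jS k.1) ⟨U, s⟩ : jS U ⟶ flatCover M) =
      Sigma.ι (fun k : Sec M => jS k.1) ⟨U, s'⟩ := by
  subst h
  rfl

/-- the functorial flat cover. -/
noncomputable def flatCoverF : X.Modules ⥤ X.Modules where
  obj M := flatCover M
  map g := flatCoverMap g
  map_id M := by
    apply Sigma.hom_ext
    rintro ⟨U, s⟩
    refine (ι_flatCoverMap (𝟙 M) ⟨U, s⟩).trans (Eq.trans ?_ (Category.comp_id _).symm)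
    refine ι_sec_congr U ?_
    rw [DCoh.toP.map_id]
    rfl
  map_comp {M N P} g h := by
    apply Sigma.hom_ext
    rintro ⟨U, s⟩
    refine (ι_flatCoverMap (g ≫ h) ⟨U, s⟩).trans (Eq.trans ?_ (Category.assoc _ _ _))
    refine Eq.trans ?_ (congrArg (· ≫ flatCoverMap h) (ι_flatCoverMap g ⟨U, s⟩).symm)
    refine Eq.trans ?_ (ι_flatCoverMap h (Sec.map g ⟨U, s⟩)).symm
    refine ι_sec_congr U ?_
    rw [DCoh.toP.map_comp]
    rfl

/-- the natural covering map. -/
noncomputable def flatCoverNat : flatCoverF (X := X) ⟶ 𝟭 X.Modules where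
  app M := flatCoverπ M
  naturality M N g := by
    apply Sigma.hom_ext
    rintro ⟨U, s⟩
    change _ ≫ flatCoverMap g ≫ flatCoverπ N = _ ≫ flatCoverπ M ≫ g
    refine ((Category.assoc _ _ _).symm.trans ?_).trans (Category.assoc _ _ _)
    refine (congrArg (· ≫ flatCoverπ N) (ι_flatCoverMap g ⟨U, s⟩)).trans ?_
    refine (ι_flatCoverπ N _).trans ?_
    refine Eq.trans ?_ (congrArg (· ≫ g) (ι_flatCoverπ M ⟨U, s⟩).symm)
    exact (jSEquiv_symm_comp U s g).symm

lemma isKFlat_of_iso {K L : CochainComplex X.Modules ℤ} (e : K ≅ L) (h : DCoh.IsKFlat K) :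
    DCoh.IsKFlat L := fun M hM =>
  Acyc.of_iso (h M hM) ((funR (DCoh.tensorBi (X := X)) M).mapIso e)

lemma kFlatFlat_of_iso {K L : CochainComplex X.Modules ℤ} (e : K ≅ L) (h : KFlatFlat K) :
    KFlatFlat L :=
  ⟨isKFlat_of_iso e h.1, fun n => isFlat_of_iso
    ((HomologicalComplex.eval X.Modules (ComplexShape.up ℤ) n).mapIso e) (h.2 n)⟩

/-- **Functorial K-flat resolutions with flat terms, by termwise epimorphic
quasi-isomorphisms.** -/
theorem exists_functorial_kFlat_resolution (X : Scheme.{u}) :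
    ∃ (P : CochainComplex X.Modules ℤ ⥤ CochainComplex X.Modules ℤ)
      (ψ : P ⟶ 𝟭 (CochainComplex X.Modules ℤ)),
      ∀ C : CochainComplex X.Modules ℤ, DCoh.IsKFlat (P.obj C) ∧
        (∀ n : ℤ, FlatMod.IsFlat ((P.obj C).X n)) ∧ QuasiIso (ψ.app C) ∧
        ∀ n : ℤ, Epi ((ψ.app C).f n) := by
  haveI : HasExactColimitsOfShape ℕ X.Modules := hasExactColimitsOfShape_nat_scheme
  obtain ⟨P, ψ, h⟩ := exists_functorial_resolution (W := FlatMod.IsFlat (X := X))
    flatCoverF flatCoverNat (fun M => epi_flatCoverπ M) (fun M => isFlat_flatCover M)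
    KFlatFlat (fun e h => kFlatFlat_of_iso e h) kFlatFlat_zeroD
    (fun φ hK hL => kFlatFlat_mappingCone φ hK hL) kFlatFlat_of_isColimit
  exact ⟨P, ψ, fun C => ⟨(h C).1.1, (h C).1.2, (h C).2.1, (h C).2.2⟩⟩

end Groth.Agent.Lib.Helper16.Stk
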