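import Mathlib

/-!
# Helper16 — LD1: left derivability structures from functorial left resolutions
-/

set_option autoImplicit false
open CategoryTheory CategoryTheory.Limits

namespace Groth.Agent.Lib.Helper16.LD

universe v u

variable {C : Type u} [Category.{v} C] (P : ObjectProperty C) (W : MorphismProperty C)

/-- the localizer morphism given by the inclusion of a full subcategory. -/
def locMor : LocalizerMorphism (W.inverseImage P.ι) W where
  functor := P.ι
  map := fun _ _ _ hf => hf

instance : (locMor P W).functor.Full := inferInstanceAs P.ι.Full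
instance : (locMor P W).functor.Faithful := inferInstanceAs P.ι.Faithful

variable {P W}

/-- **Functorial left resolutions give a left derivability structure.** -/
theorem isLeftDerivabilityStructure [W.HasTwoOutOfThreeProperty] [W.IsMultiplicative]
    (ρ : C ⥤ C) (ψ : ρ ⟶ 𝟭 C) (hρ : ∀ X, P (ρ.obj X)) (hψ : ∀ X, W (ψ.app X)) :
    (locMor P W).IsLeftDerivabilityStructure := by
  rw [LocalizerMorphism.isLeftDerivabilityStructure_iff_op]
  let ρ₀ : C ⥤ P.FullSubcategory := P.lift ρ hρ
  let i : 𝟭 Cᵒᵖ ⟶ ρ₀.op ⋙ (locMor P W).op.functor :=
    { app := fun X => (ψ.app X.unop).op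
      naturality := fun X Y f => Quiver.Hom.unop_inj (ψ.naturality f.unop).symm }
  exact LocalizerMorphism.isRightDerivabilityStructure_of_functorial_resolutions
    (locMor P W).op i (fun X => hψ X.unop) rfl

end Groth.Agent.Lib.Helper16.LD
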