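import Mathlib

/-!
# Helper16 — LD2: left derived functors from left derivability structures

Dual of Mathlib's `GuitartExact/KanExtension`, `DerivabilityStructure/PointwiseRightDerived`
and `DerivabilityStructure/Derives`.
-/

set_option autoImplicit false
open CategoryTheory CategoryTheory.Limits CategoryTheory.Functor Category

namespace Groth.Agent.Lib.Helper16.LD

universe v₁ v₂ v₃ v₄ v₅ u₁ u₂ u₃ u₄ u₅

section TwoSquare

variable {C₁ : Type u₁} {C₂ : Type u₂} {C₃ : Type u₃} {C₄ : Type u₄} {D : Type u₅}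
  [Category.{v₁} C₁] [Category.{v₂} C₂] [Category.{v₃} C₃] [Category.{v₄} C₄]
  [Category.{v₅} D]
  {T : C₁ ⥤ C₂} {L : C₁ ⥤ C₃} {R : C₂ ⥤ C₄} {B : C₃ ⥤ C₄}
  {F : C₃ ⥤ D} (E : B.RightExtension F)

/-- dual of `LeftExtension.compTwoSquare`. -/
abbrev compTwoSquare (w : TwoSquare T L R B) : T.RightExtension (L ⋙ F) :=
  RightExtension.mk (R ⋙ E.left)
    ((Functor.associator _ _ _).inv ≫ whiskerRight w.natTrans _ ≫
      (Functor.associator _ _ _).hom ≫ whiskerLeft _ E.hom)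

set_option backward.isDefEq.respectTransparency.types false in
set_option backward.defeqAttrib.useBackward true in
/-- dual of `LeftExtension.isPointwiseLeftKanExtensionAtCompTwoSquareEquiv`. -/
noncomputable def isPointwiseRightKanExtensionAtCompTwoSquareEquiv
    (w : TwoSquare T L R B) (X₂ : C₂) [Initial (w.structuredArrowDownwards X₂)] :
    (compTwoSquare E w).IsPointwiseRightKanExtensionAt X₂ ≃
      E.IsPointwiseRightKanExtensionAt (R.obj X₂) := by
  refine Equiv.trans ?_ (Initial.isLimitWhiskerEquiv (w.structuredArrowDownwards X₂) _)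
  exact IsLimit.equivIsoLimit (Cone.ext (Iso.refl _))

variable {E} in
/-- dual of `IsPointwiseLeftKanExtension.compTwoSquare`. -/
noncomputable def isPointwiseRightKanExtensionCompTwoSquare
    (h : E.IsPointwiseRightKanExtension) (w : TwoSquare T L R B) [w.GuitartExact] :
    (compTwoSquare E w).IsPointwiseRightKanExtension :=
  fun X₂ ↦ (isPointwiseRightKanExtensionAtCompTwoSquareEquiv E w X₂).symm (h _)

lemma hasPointwiseRightKanExtensionAt_iff (w : TwoSquare T L R B)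
    (F : C₃ ⥤ D) (X₂ : C₂) [(w.structuredArrowDownwards X₂).Initial] :
    T.HasPointwiseRightKanExtensionAt (L ⋙ F) X₂ ↔
      B.HasPointwiseRightKanExtensionAt F (R.obj X₂) := by
  dsimp [Functor.HasPointwiseRightKanExtensionAt]
  rw [← Functor.Initial.hasLimit_comp_iff (w.structuredArrowDownwards X₂)]
  rfl

end TwoSquare

section Comparison

variable {C₁ : Type u₁} {C₂ : Type u₂} {H : Type u₃}
  [Category.{v₁} C₁] [Category.{v₂} C₂] [Category.{v₃} H]
  {D₁ : Type u₄} {D₂ : Type u₅}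
  [Category.{v₄} D₁] [Category.{v₅} D₂]
  {W₁ : MorphismProperty C₁} {W₂ : MorphismProperty C₂}
  (Φ : LocalizerMorphism W₁ W₂) (L₁ : C₁ ⥤ D₁) (L₂ : C₂ ⥤ D₂)
  [L₁.IsLocalization W₁] [L₂.IsLocalization W₂]
  (F : C₂ ⥤ H) (F₁ : D₁ ⥤ H) (α₁ : L₁ ⋙ F₁ ⟶ Φ.functor ⋙ F)
  (F₂ : D₂ ⥤ H) (α₂ : L₂ ⋙ F₂ ⟶ F)
  [F₁.IsLeftDerivedFunctor α₁ W₁]

/-- dual of `LocalizerMorphism.rightDerivedFunctorComparison`. -/
noncomputable def leftDerivedFunctorComparison :
    Φ.localizedFunctor L₁ L₂ ⋙ F₂ ⟶ F₁ :=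
  F₁.leftDerivedLift α₁ W₁ (Φ.localizedFunctor L₁ L₂ ⋙ F₂)
    ((Functor.associator _ _ _).inv ≫ whiskerRight ((Φ.catCommSq L₁ L₂).iso).inv F₂ ≫
      (Functor.associator _ _ _).hom ≫ whiskerLeft _ α₂)

@[reassoc]
lemma leftDerivedFunctorComparison_fac_app (X : C₁) :
    (leftDerivedFunctorComparison Φ L₁ L₂ F F₁ α₁ F₂ α₂).app (L₁.obj X) ≫ α₁.app X =
      F₂.map (((Φ.catCommSq L₁ L₂).iso).inv.app X) ≫ α₂.app (Φ.functor.obj X) := by
  dsimp only [leftDerivedFunctorComparison]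
  rw [Functor.leftDerived_fac_app]
  simp

variable [Φ.IsLeftDerivabilityStructure]

set_option backward.isDefEq.respectTransparency.types false in
lemma hasPointwiseLeftDerivedFunctorAt_iff_of_isLeftDerivabilityStructure (X : C₁) :
    (Φ.functor ⋙ F).HasPointwiseLeftDerivedFunctorAt W₁ X ↔
      F.HasPointwiseLeftDerivedFunctorAt W₂ (Φ.functor.obj X) := by
  let e : W₂.Q.obj _ ≅ (Φ.localizedFunctor W₁.Q W₂.Q).obj _ := ((Φ.catCommSq W₁.Q W₂.Q).iso).app X
  rw [F.hasPointwiseLeftDerivedFunctorAt_iff W₂.Q W₂ (Φ.functor.obj X),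
    (Φ.functor ⋙ F).hasPointwiseLeftDerivedFunctorAt_iff W₁.Q W₁ X,
    hasPointwiseRightKanExtensionAt_iff ((Φ.catCommSq W₁.Q W₂.Q).iso).inv,
    Functor.hasPointwiseRightKanExtensionAt_iff_of_iso W₂.Q F e]

lemma hasPointwiseLeftDerivedFunctor_iff_of_isLeftDerivabilityStructure :
    F.HasPointwiseLeftDerivedFunctor W₂ ↔
      ((Φ.functor ⋙ F).HasPointwiseLeftDerivedFunctor W₁) := by
  constructor
  · intro hF X₁
    rw [hasPointwiseLeftDerivedFunctorAt_iff_of_isLeftDerivabilityStructure]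
    apply hF
  · intro hF X₂
    have R : Φ.LeftResolution X₂ := Classical.arbitrary _
    simpa only [hasPointwiseLeftDerivedFunctorAt_iff_of_isLeftDerivabilityStructure,
      F.hasPointwiseLeftDerivedFunctorAt_iff_of_mem W₂ R.w R.hw] using hF R.X₁

section

variable [(Φ.functor ⋙ F).HasPointwiseLeftDerivedFunctor W₁]
  [F₂.IsLeftDerivedFunctor α₂ W₂]

instance : IsIso (leftDerivedFunctorComparison Φ L₁ L₂ F F₁ α₁ F₂ α₂) := by
  have : F.HasPointwiseLeftDerivedFunctor W₂ := by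
    rw [hasPointwiseLeftDerivedFunctor_iff_of_isLeftDerivabilityStructure Φ]
    infer_instance
  dsimp only [leftDerivedFunctorComparison]
  rw [← isLeftDerivedFunctor_iff_isIso_leftDerivedLift,
    isLeftDerivedFunctor_iff_isRightKanExtension]
  exact (isPointwiseRightKanExtensionCompTwoSquare
    (F₂.isPointwiseRightKanExtensionOfHasPointwiseLeftDerivedFunctor α₂ W₂)
    ((Φ.catCommSq L₁ L₂).iso).inv).isRightKanExtension

lemma isIso_iff_of_isLeftDerivabilityStructure (X : C₁) :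
    IsIso (α₁.app X) ↔ IsIso (α₂.app (Φ.functor.obj X)) := by
  rw [← isIso_comp_left_iff
    ((leftDerivedFunctorComparison Φ L₁ L₂ F F₁ α₁ F₂ α₂).app (L₁.obj X)) (α₁.app X),
    leftDerivedFunctorComparison_fac_app, isIso_comp_left_iff]

end

end Comparison

section Derives

variable {C₁ : Type u₁} {C₂ : Type u₂} {H : Type u₃}
  [Category.{v₁} C₁] [Category.{v₂} C₂] [Category.{v₃} H]
  {D₂ : Type u₄} [Category.{v₄} D₂]
  {W₁ : MorphismProperty C₁} {W₂ : MorphismProperty C₂}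
  {Φ : LocalizerMorphism W₁ W₂} {F : C₂ ⥤ H} (h : Φ.Derives F) [Φ.IsLeftDerivabilityStructure]

include h

/-- dual of `LocalizerMorphism.Derives.hasPointwiseRightDerivedFunctor`. -/
lemma hasPointwiseLeftDerivedFunctor : F.HasPointwiseLeftDerivedFunctor W₂ := by
  rw [hasPointwiseLeftDerivedFunctor_iff_of_isLeftDerivabilityStructure Φ F]
  exact Functor.hasPointwiseLeftDerivedFunctor_of_inverts _ h

lemma hasLeftDerivedFunctor : F.HasLeftDerivedFunctor W₂ :=
  haveI := hasPointwiseLeftDerivedFunctor h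
  inferInstance

variable {L₂ : C₂ ⥤ D₂} [L₂.IsLocalization W₂] {LF : D₂ ⥤ H} (α : L₂ ⋙ LF ⟶ F)

/-- dual of `LocalizerMorphism.Derives.isIso_of_isRightDerivedFunctor`. -/
lemma isIso_of_isLeftDerivedFunctor (X₁ : C₁) [LF.IsLeftDerivedFunctor α W₂] :
    IsIso (α.app (Φ.functor.obj X₁)) := by
  let G : W₁.Localization ⥤ H := Localization.lift (Φ.functor ⋙ F) h W₁.Q
  let eG := Localization.Lifting.iso W₁.Q W₁ (Φ.functor ⋙ F) G
  have := Functor.isLeftDerivedFunctor_of_inverts W₁ G eG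
  have := (Φ.functor ⋙ F).hasPointwiseLeftDerivedFunctor_of_inverts h
  rw [← isIso_iff_of_isLeftDerivabilityStructure Φ W₁.Q L₂ F G eG.hom LF α]
  infer_instance

/-- dual of `LocalizerMorphism.Derives.isRightDerivedFunctor_of_isIso`. -/
lemma isLeftDerivedFunctor_of_isIso (hα : ∀ (X₁ : C₁), IsIso (α.app (Φ.functor.obj X₁))) :
    LF.IsLeftDerivedFunctor α W₂ := by
  have := hasPointwiseLeftDerivedFunctor h
  have := isIso_of_isLeftDerivedFunctor h (F.totalLeftDerivedCounit L₂ W₂)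
  have := Φ.essSurj_of_hasLeftResolutions L₂
  let φ := (F.totalLeftDerived L₂ W₂).leftDerivedLift (F.totalLeftDerivedCounit L₂ W₂) W₂ LF α
  have hφ : Functor.whiskerLeft L₂ φ ≫ F.totalLeftDerivedCounit L₂ W₂ = α :=
    (F.totalLeftDerived L₂ W₂).leftDerived_fac (F.totalLeftDerivedCounit L₂ W₂) W₂ LF α
  have : IsIso φ := by
    rw [NatTrans.isIso_iff_isIso_app]
    intro Y₂
    rw [NatTrans.isIso_app_iff_of_iso φ ((Φ.functor ⋙ L₂).objObjPreimageIso Y₂).symm]
    dsimp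
    simp only [← hφ, NatTrans.comp_app, Functor.whiskerLeft_app, isIso_comp_right_iff] at hα
    infer_instance
  rw [Functor.isLeftDerivedFunctor_iff_of_iso (LF := LF) (LF' := F.totalLeftDerived L₂ W₂)
    (α := α) (α' := F.totalLeftDerivedCounit L₂ W₂) (W := W₂) (e := asIso φ) (comm := hφ)]
  infer_instance

lemma isLeftDerivedFunctor_iff_isIso :
    LF.IsLeftDerivedFunctor α W₂ ↔ ∀ (X₁ : C₁), IsIso (α.app (Φ.functor.obj X₁)) :=
  ⟨fun _ _ ↦ isIso_of_isLeftDerivedFunctor h α _, isLeftDerivedFunctor_of_isIso h α⟩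

end Derives

end Groth.Agent.Lib.Helper16.LD
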