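import Mathlib

/-!
# Helper16 — LD3: Kan extensions along a composite with a localization functor
-/

set_option autoImplicit false
open CategoryTheory CategoryTheory.Limits CategoryTheory.Functor Category

namespace Groth.Agent.Lib.Helper16.LD

universe v₁ v₂ v₃ v₄ u₁ u₂ u₃ u₄

variable {C : Type u₁} {K : Type u₂} {D : Type u₃} {H : Type u₄}
  [Category.{v₁} C] [Category.{v₂} K] [Category.{v₃} D] [Category.{v₄} H]

section

variable {L : K ⥤ D} {F : K ⥤ H} (LF : D ⥤ H) (α : L ⋙ LF ⟶ F)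

lemma isRightKanExtension_iff_bijective :
    LF.IsRightKanExtension α ↔
      ∀ G : D ⥤ H, Function.Bijective (fun γ : G ⟶ LF => whiskerLeft L γ ≫ α) := by
  constructor
  · intro _ G
    refine ⟨fun γ₁ γ₂ h => LF.hom_ext_of_isRightKanExtension α γ₁ γ₂ h, fun β => ?_⟩
    exact ⟨LF.liftOfIsRightKanExtension α G β, LF.liftOfIsRightKanExtension_fac α G β⟩
  · intro h
    refine ⟨⟨IsTerminal.ofUniqueHom
      (fun E => CostructuredArrow.homMk ((h E.left).2 E.hom).choose
        ((h E.left).2 E.hom).choose_spec) (fun E m => ?_)⟩⟩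
    ext1
    apply (h E.left).1
    exact (CostructuredArrow.w m).trans ((h E.left).2 E.hom).choose_spec.symm

end

section

variable (q : C ⥤ K) (Wq : MorphismProperty C) [q.IsLocalization Wq]
  {L : K ⥤ D} {F : K ⥤ H} (LF : D ⥤ H) (α : L ⋙ LF ⟶ F)

/-- whiskering `α` by `q`. -/
abbrev whiskerQ : (q ⋙ L) ⋙ LF ⟶ q ⋙ F := whiskerLeft q α

include Wq in
lemma isRightKanExtension_whiskerQ_iff :
    LF.IsRightKanExtension (whiskerQ q LF α) ↔ LF.IsRightKanExtension α := by
  rw [isRightKanExtension_iff_bijective, isRightKanExtension_iff_bijective]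
  have hq : ∀ G : D ⥤ H, Function.Bijective
      (fun β : L ⋙ G ⟶ F => (whiskerLeft q β : (q ⋙ L) ⋙ G ⟶ q ⋙ F)) := fun G =>
    (Localization.fullyFaithfulWhiskeringLeft q Wq H).map_bijective (L ⋙ G) F
  have key : ∀ G : D ⥤ H, (fun γ : G ⟶ LF => whiskerLeft (q ⋙ L) γ ≫ whiskerQ q LF α) =
      (fun β : L ⋙ G ⟶ F => (whiskerLeft q β : (q ⋙ L) ⋙ G ⟶ q ⋙ F)) ∘
        (fun γ : G ⟶ LF => whiskerLeft L γ ≫ α) := by
    intro G
    funext γ
    ext X
    rfl
  constructor
  · intro h G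
    have h' := h G
    rw [key G] at h'
    exact (Function.Bijective.of_comp_iff' (hq G) _).1 h'
  · intro h G
    rw [key G]
    exact (hq G).comp (h G)

end

section Derived

variable (q : C ⥤ K) (Wq : MorphismProperty C) [q.IsLocalization Wq]
  (L : K ⥤ D) (W : MorphismProperty K) (W' : MorphismProperty C)
  [L.IsLocalization W] [(q ⋙ L).IsLocalization W']

include Wq in
lemma isLeftDerivedFunctor_whiskerQ_iff {F : K ⥤ H} (LF : D ⥤ H) (α : L ⋙ LF ⟶ F) :
    LF.IsLeftDerivedFunctor (whiskerQ q LF α) W' ↔ LF.IsLeftDerivedFunctor α W := by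
  rw [isLeftDerivedFunctor_iff_isRightKanExtension, isLeftDerivedFunctor_iff_isRightKanExtension]
  exact isRightKanExtension_whiskerQ_iff q Wq LF α

include Wq L in
/-- a left derived functor of `q ⋙ F` along `q ⋙ L` gives a left derived functor of `F`
along `L`, when `q` is a localization functor. -/
lemma hasLeftDerivedFunctor_of_comp (F : K ⥤ H) [(q ⋙ F).HasLeftDerivedFunctor W'] :
    F.HasLeftDerivedFunctor W := by
  let LF : D ⥤ H := (q ⋙ F).totalLeftDerived (q ⋙ L) W'
  let β : (q ⋙ L) ⋙ LF ⟶ q ⋙ F := (q ⋙ F).totalLeftDerivedCounit (q ⋙ L) W'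
  let α : L ⋙ LF ⟶ F := (Localization.fullyFaithfulWhiskeringLeft q Wq H).preimage
    (X := L ⋙ LF) (Y := F) β
  have hα : whiskerQ q LF α = β :=
    (Localization.fullyFaithfulWhiskeringLeft q Wq H).map_preimage (X := L ⋙ LF) (Y := F) β
  haveI : LF.IsLeftDerivedFunctor (whiskerQ q LF α) W' := by
    rw [hα]
    infer_instance
  haveI : LF.IsLeftDerivedFunctor α W := (isLeftDerivedFunctor_whiskerQ_iff q Wq L W W' LF α).1 ‹_›
  exact HasLeftDerivedFunctor.mk' LF α

end Derived

end Groth.Agent.Lib.Helper16.LD
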