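import Mathlib
import Groth.Prelude.Def_DCoh4
import Groth.Agent.Lib.Helper16.FRes2
import Groth.Agent.Lib.Helper16.LD1
import Groth.Agent.Lib.Helper16.LD2
import Groth.Agent.Lib.Helper16.LD3

/-!
# Helper16 — KD1: the K-flat left derivability structure on complexes of `O_X`-modules

Any functor on complexes (or on the homotopy category) which sends quasi-isomorphisms between
K-flat complexes to isomorphisms has a total left derived functor, and the counit of any left
derived functor is an isomorphism on K-flat complexes.
-/

set_option autoImplicit false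
universe u v' u'
open CategoryTheory CategoryTheory.Limits AlgebraicGeometry

attribute [local instance] HasDerivedCategory.standard

namespace Groth.Agent.Lib.Helper16.KD

variable (X : Scheme.{u})

/-- the property of being K-flat. -/
def kflat : ObjectProperty (CochainComplex X.Modules ℤ) := fun K => DCoh.IsKFlat K

/-- quasi-isomorphisms of complexes. -/
abbrev qis : MorphismProperty (CochainComplex X.Modules ℤ) :=
  HomologicalComplex.quasiIso X.Modules (ComplexShape.up ℤ)

/-- the localizer morphism from K-flat complexes to all complexes. -/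
noncomputable abbrev Φ : LocalizerMorphism ((qis X).inverseImage (kflat X).ι) (qis X) :=
  LD.locMor (kflat X) (qis X)

instance isLeftDerivabilityStructure : (Φ X).IsLeftDerivabilityStructure := by
  obtain ⟨P, ψ, h⟩ := Stk.exists_functorial_kFlat_resolution X
  exact LD.isLeftDerivabilityStructure P ψ (fun C => (h C).1)
    (fun C => (HomologicalComplex.mem_quasiIso_iff _).2 (h C).2.2.1)

variable {X} {H : Type u'} [Category.{v'} H]

/-- the condition that `F` sends quasi-isomorphisms between K-flat complexes to isomorphisms. -/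
def InvertsKFlat (F : CochainComplex X.Modules ℤ ⥤ H) : Prop :=
  ∀ {P P' : CochainComplex X.Modules ℤ} (s : P ⟶ P'), DCoh.IsKFlat P → DCoh.IsKFlat P' →
    QuasiIso s → IsIso (F.map s)

lemma InvertsKFlat.derives {F : CochainComplex X.Modules ℤ ⥤ H} (hF : InvertsKFlat F) :
    (Φ X).Derives F := by
  intro P P' s hs
  exact hF s.hom P.property P'.property ((HomologicalComplex.mem_quasiIso_iff _).1 hs)

/-- **Existence of total left derived functors (on complexes).** -/
theorem hasLeftDerivedFunctor {F : CochainComplex X.Modules ℤ ⥤ H} (hF : InvertsKFlat F) :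
    F.HasLeftDerivedFunctor (qis X) :=
  LD.hasLeftDerivedFunctor hF.derives

/-- **The counit of a left derived functor is an isomorphism on K-flat complexes.** -/
theorem isIso_app_of_isKFlat {F : CochainComplex X.Modules ℤ ⥤ H} (hF : InvertsKFlat F)
    {D₂ : Type*} [Category D₂] {L₂ : CochainComplex X.Modules ℤ ⥤ D₂} [L₂.IsLocalization (qis X)]
    {LF : D₂ ⥤ H} (α : L₂ ⋙ LF ⟶ F) [LF.IsLeftDerivedFunctor α (qis X)]
    (P : CochainComplex X.Modules ℤ) (hP : DCoh.IsKFlat P) : IsIso (α.app P) :=
  LD.isIso_of_isLeftDerivedFunctor hF.derives α ⟨P, hP⟩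

/-- characterization of left derived functors. -/
theorem isLeftDerivedFunctor_of_isIso {F : CochainComplex X.Modules ℤ ⥤ H} (hF : InvertsKFlat F)
    {D₂ : Type*} [Category D₂] {L₂ : CochainComplex X.Modules ℤ ⥤ D₂} [L₂.IsLocalization (qis X)]
    {LF : D₂ ⥤ H} (α : L₂ ⋙ LF ⟶ F)
    (hα : ∀ P : CochainComplex X.Modules ℤ, DCoh.IsKFlat P → IsIso (α.app P)) :
    LF.IsLeftDerivedFunctor α (qis X) :=
  LD.isLeftDerivedFunctor_of_isIso hF.derives α (fun P => hα P.obj P.property)

section Homotopy

variable (X) in
/-- the quotient functor to the homotopy category. -/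
noncomputable abbrev quot : CochainComplex X.Modules ℤ ⥤ HomotopyCategory X.Modules (ComplexShape.up ℤ) :=
  HomotopyCategory.quotient X.Modules (ComplexShape.up ℤ)

variable (X) in
/-- quasi-isomorphisms in the homotopy category. -/
abbrev qisH : MorphismProperty (HomotopyCategory X.Modules (ComplexShape.up ℤ)) :=
  HomotopyCategory.quasiIso X.Modules (ComplexShape.up ℤ)

instance : (quot X ⋙ DerivedCategory.Qh).IsLocalization (qis X) :=
  inferInstanceAs ((HomotopyCategory.quotient X.Modules (ComplexShape.up ℤ) ⋙
    HomologicalComplexUpToQuasiIso.Qh).IsLocalization _)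

/-- **Existence of total left derived functors (on the homotopy category).** -/
theorem hasLeftDerivedFunctor_h {Fh : HomotopyCategory X.Modules (ComplexShape.up ℤ) ⥤ H}
    (hF : InvertsKFlat (quot X ⋙ Fh)) : Fh.HasLeftDerivedFunctor (qisH X) := by
  haveI := hasLeftDerivedFunctor hF
  exact LD.hasLeftDerivedFunctor_of_comp (quot X)
    (HomologicalComplex.homotopyEquivalences X.Modules (ComplexShape.up ℤ))
    DerivedCategory.Qh (qisH X) (qis X) Fh

/-- **The counit of a left derived functor (on the homotopy category) is an isomorphism on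
K-flat complexes.** -/
theorem isIso_app_h_of_isKFlat {Fh : HomotopyCategory X.Modules (ComplexShape.up ℤ) ⥤ H}
    (hF : InvertsKFlat (quot X ⋙ Fh)) {LF : DerivedCategory X.Modules ⥤ H}
    (α : DerivedCategory.Qh ⋙ LF ⟶ Fh) [LF.IsLeftDerivedFunctor α (qisH X)]
    (P : CochainComplex X.Modules ℤ) (hP : DCoh.IsKFlat P) :
    IsIso (α.app ((quot X).obj P)) := by
  haveI : LF.IsLeftDerivedFunctor (LD.whiskerQ (quot X) LF α) (qis X) :=
    (LD.isLeftDerivedFunctor_whiskerQ_iff (quot X)
      (HomologicalComplex.homotopyEquivalences X.Modules (ComplexShape.up ℤ))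
      DerivedCategory.Qh (qisH X) (qis X) LF α).2 inferInstance
  exact isIso_app_of_isKFlat hF (LD.whiskerQ (quot X) LF α) P hP

/-- characterization of left derived functors (on the homotopy category). -/
theorem isLeftDerivedFunctor_h_of_isIso
    {Fh : HomotopyCategory X.Modules (ComplexShape.up ℤ) ⥤ H}
    (hF : InvertsKFlat (quot X ⋙ Fh)) {LF : DerivedCategory X.Modules ⥤ H}
    (α : DerivedCategory.Qh ⋙ LF ⟶ Fh)
    (hα : ∀ P : CochainComplex X.Modules ℤ, DCoh.IsKFlat P → IsIso (α.app ((quot X).obj P))) :
    LF.IsLeftDerivedFunctor α (qisH X) := by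
  refine (LD.isLeftDerivedFunctor_whiskerQ_iff (quot X)
    (HomologicalComplex.homotopyEquivalences X.Modules (ComplexShape.up ℤ))
    DerivedCategory.Qh (qisH X) (qis X) LF α).1 ?_
  exact isLeftDerivedFunctor_of_isIso hF (LD.whiskerQ (quot X) LF α) hα

end Homotopy

end Groth.Agent.Lib.Helper16.KD
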