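import Mathlib
import Groth.Prelude.Def_KFlatSite
import Groth.Agent.Lib.Helper16.KF14
import Groth.Agent.Lib.Helper16.KF12

/-!
# Helper16 — KF15: exactness after tensoring with finitely presented modules suffices
-/

set_option autoImplicit false
universe u
open CategoryTheory CategoryTheory.Limits MonoidalCategory

namespace Groth.Agent.Lib.Helper16.KF

variable {R : Type u} [CommRing R]

section FP

open TensorProduct

variable {A B C : Type u} [AddCommGroup A] [AddCommGroup B] [AddCommGroup C]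
  [Module R A] [Module R B] [Module R C] (d₁ : A →ₗ[R] B) (d₂ : B →ₗ[R] C)

lemma lr_comm {M P N Q : Type*} [AddCommGroup M] [AddCommGroup P] [AddCommGroup N]
    [AddCommGroup Q] [Module R M] [Module R P] [Module R N] [Module R Q]
    (f : M →ₗ[R] P) (g : N →ₗ[R] Q) (x : M ⊗[R] N) :
    f.rTensor Q (g.lTensor M x) = g.lTensor P (f.rTensor N x) := by
  rw [← LinearMap.comp_apply, ← LinearMap.comp_apply, LinearMap.rTensor_comp_lTensor,
    LinearMap.lTensor_comp_rTensor]

/-- the property that `A ⊗ M → B ⊗ M → C ⊗ M` has no homology at `B ⊗ M`. -/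
def KerLeRange (M : Type u) [AddCommGroup M] [Module R M] : Prop :=
  ∀ z : B ⊗[R] M, d₂.rTensor M z = 0 → ∃ w, d₁.rTensor M w = z

variable (h : ∀ (M : Type u) [AddCommGroup M] [Module R M], Module.FinitePresentation R M →
  KerLeRange d₁ d₂ M)

include h in
lemma kerLeRange_of_finite (M : Type u) [AddCommGroup M] [Module R M] [Module.Finite R M] :
    KerLeRange d₁ d₂ M := by
  intro z hz
  obtain ⟨k, π, hπ⟩ := Module.Finite.exists_fin' R M
  obtain ⟨zt, rfl⟩ := LinearMap.lTensor_surjective B hπ z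
  have h1 : π.lTensor C (d₂.rTensor _ zt) = 0 := by
    rw [← hz, lr_comm]
  have hex : Function.Exact ((LinearMap.ker π).subtype.lTensor C) (π.lTensor C) :=
    lTensor_exact C (LinearMap.exact_subtype_ker_map π) hπ
  obtain ⟨y, hy⟩ := (hex _).1 h1
  obtain ⟨l, c, n, rfl⟩ := TensorProduct.exists_sum_tmul_eq y
  let N' : Submodule R (Fin k → R) :=
    Submodule.span R (Set.range (fun j => ((n j : LinearMap.ker π) : Fin k → R)))
  have hN'fg : N'.FG := Submodule.fg_span (Set.finite_range _)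
  have hN'le : N' ≤ LinearMap.ker π :=
    Submodule.span_le.2 (by rintro _ ⟨j, rfl⟩; exact (n j).2)
  have hfp : Module.FinitePresentation R ((Fin k → R) ⧸ N') :=
    Module.finitePresentation_of_surjective N'.mkQ (Submodule.mkQ_surjective _)
      (by rw [Submodule.ker_mkQ]; exact hN'fg)
  let g : ((Fin k → R) ⧸ N') →ₗ[R] M := N'.liftQ π hN'le
  have hg : g ∘ₗ N'.mkQ = π := Submodule.liftQ_mkQ _ _ _
  have hz' : d₂.rTensor ((Fin k → R) ⧸ N') (N'.mkQ.lTensor B zt) = 0 := by
    rw [lr_comm, ← hy, map_sum, map_sum]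
    apply Finset.sum_eq_zero
    intro j _
    rw [LinearMap.lTensor_tmul, LinearMap.lTensor_tmul, Submodule.subtype_apply,
      Submodule.mkQ_apply,
      (Submodule.Quotient.mk_eq_zero N').2 (Submodule.subset_span (Set.mem_range_self j)),
      tmul_zero]
  obtain ⟨w', hw'⟩ := h _ hfp _ hz'
  refine ⟨g.lTensor A w', ?_⟩
  rw [lr_comm, hw', ← LinearMap.comp_apply, ← LinearMap.lTensor_comp, hg]

include h in
lemma kerLeRange_of_fp (M : Type u) [AddCommGroup M] [Module R M] : KerLeRange d₁ d₂ M := by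
  intro z hz
  obtain ⟨M₁, hM₁, hz₁⟩ := exists_finite_submodule_right_of_setFinite {z} (Set.finite_singleton z)
  obtain ⟨z₁, rfl⟩ := hz₁ (Set.mem_singleton z)
  have hM₁fg : M₁.FG := Module.Finite.iff_fg.1 hM₁
  have ht : M₁.subtype.lTensor C (d₂.rTensor M₁ z₁) = 0 := by
    rw [← hz, lr_comm]
  have ht' : (M₁.subtype.rTensor C) (TensorProduct.comm R C M₁ (d₂.rTensor M₁ z₁)) = 0 := by
    have : (M₁.subtype.rTensor C) (TensorProduct.comm R C M₁ (d₂.rTensor M₁ z₁)) =
        TensorProduct.comm R C M (M₁.subtype.lTensor C (d₂.rTensor M₁ z₁)) := by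
      generalize d₂.rTensor M₁ z₁ = t
      induction t with
      | zero => simp
      | tmul x y => simp
      | add x y hx hy => simp only [map_add, hx, hy]
    rw [this, ht, map_zero]
  obtain ⟨M₂, h12, hM₂fg, ht2⟩ := TensorProduct.eq_zero_of_fg_of_subtype_eq_zero hM₁fg ht'
  haveI : Module.Finite R M₂ := Module.Finite.iff_fg.2 hM₂fg
  have hz₂ : d₂.rTensor M₂ ((Submodule.inclusion h12).lTensor B z₁) = 0 := by
    rw [lr_comm]
    have : TensorProduct.comm R C M₂ ((Submodule.inclusion h12).lTensor C (d₂.rTensor M₁ z₁)) =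
        ((Submodule.inclusion h12).rTensor C) (TensorProduct.comm R C M₁ (d₂.rTensor M₁ z₁)) := by
      generalize d₂.rTensor M₁ z₁ = t
      induction t with
      | zero => simp
      | tmul x y => simp
      | add x y hx hy => simp only [map_add, hx, hy]
    apply (TensorProduct.comm R C M₂).injective
    rw [this, ht2, map_zero]
  obtain ⟨w₂, hw₂⟩ := kerLeRange_of_finite d₁ d₂ h M₂ _ hz₂
  refine ⟨M₂.subtype.lTensor A w₂, ?_⟩
  rw [lr_comm, hw₂, ← LinearMap.comp_apply, ← LinearMap.lTensor_comp]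
  rfl

end FP

/-- `L ⊗ Q` is acyclic when `Q` is concentrated in degree `k` and `L ⊗ Q^k` (termwise) is. -/
theorem acyc_tensor_concentrated (L Q : Cx R) (k : ℤ) (hQ : ∀ i, i ≠ k → IsZero (Q.X i))
    (hx : ∀ p : ℤ, ((L.sc' p (p + 1) (p + 1 + 1)).map (tensorRight (Q.X k))).Exact) :
    Acyc (L ⊗ Q) := by
  apply acyc_of_forall_exact_sc'
  intro n
  obtain ⟨p, rfl⟩ : ∃ p, n = p + k := ⟨n - k, by omega⟩
  have h1 := isIso_ι_of_concentrated L Q k hQ p (p + k) rfl
  have h2 := isIso_ι_of_concentrated L Q k hQ (p + 1) (p + k + 1) (by omega)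
  have h3 := isIso_ι_of_concentrated L Q k hQ (p + 1 + 1) (p + k + 1 + 1) (by omega)
  have hd : Q.d k (k + 1) = 0 := (hQ (k + 1) (by omega)).eq_of_tgt _ _
  refine (ShortComplex.exact_iff_of_iso (ShortComplex.isoMk
    (@asIso _ _ _ _ _ h1) (@asIso _ _ _ _ _ h2) (@asIso _ _ _ _ _ h3) ?_ ?_)).1 (hx p)
  · change HomologicalComplex.ιTensorObj L Q p k (p + k) rfl ≫ (L ⊗ Q).d (p + k) (p + k + 1) =
      (L.d p (p + 1) ▷ Q.X k) ≫ HomologicalComplex.ιTensorObj L Q (p + 1) k (p + k + 1) _
    rw [ι_d, hd]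
    simp
  · change HomologicalComplex.ιTensorObj L Q (p + 1) k (p + k + 1) _ ≫
        (L ⊗ Q).d (p + k + 1) (p + k + 1 + 1) =
      (L.d (p + 1) (p + 1 + 1) ▷ Q.X k) ≫
        HomologicalComplex.ιTensorObj L Q (p + 1 + 1) k (p + k + 1 + 1) _
    rw [ι_d, hd]
    simp

lemma exact_sc'_tensorRight_of_fp (K : Cx R)
    (hK : ∀ (M : Type u) [AddCommGroup M] [Module R M], Module.FinitePresentation R M →
      Acyc (DRing.tensorCx K (ModuleCat.of R M)))
    (M : ModuleCat.{u} R) (p : ℤ) :
    ((K.sc' p (p + 1) (p + 1 + 1)).map (tensorRight M)).Exact := by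
  rw [ShortComplex.moduleCat_exact_iff]
  exact kerLeRange_of_fp (K.d p (p + 1)).hom (K.d (p + 1) (p + 1 + 1)).hom (fun M' _ _ hfp => by
    have h1 := exact_sc'_of_acyc _ (hK M' hfp) p
    rw [ShortComplex.moduleCat_exact_iff] at h1
    exact h1) M

/-- **K-flatness can be tested on finitely presented modules**: if `K ⊗ M` is acyclic for all
finitely presented modules `M`, then `K ⊗ L` and `L ⊗ K` are acyclic for every complex `L`. -/
theorem acyc_tensor_of_fp (K : Cx R)
    (hK : ∀ (M : Type u) [AddCommGroup M] [Module R M], Module.FinitePresentation R M →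
      Acyc (DRing.tensorCx K (ModuleCat.of R M))) (L : Cx R) : Acyc (K ⊗ L) := by
  haveI : HasExactColimitsOfShape ℕ (ModuleCat.{u} R) :=
    KPR.hasExactColimitsOfShape_nat_moduleCat R
  refine devissage (fun L => Acyc (K ⊗ L)) (fun Q k hQ => ?_) (fun S hS h1 h3 => ?_)
    (fun F c hc hF => ?_) L
  · exact acyc_tensor_concentrated K Q k hQ (fun p => exact_sc'_tensorRight_of_fp K hK _ p)
  · exact acyc_X₂ (shortExact_whiskerLeft_of_split K hS) h1 h3
  · exact acyc_of_isColimit (isColimitTensorLeft K hc) hF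

/-- **K-flatness can be tested on finitely presented modules.** -/
theorem isKFlat_of_fp (K : Cx R)
    (hK : ∀ (M : Type u) [AddCommGroup M] [Module R M], Module.FinitePresentation R M →
      Acyc (DRing.tensorCx K (ModuleCat.of R M))) : DRing.IsKFlat R K := fun L _ =>
  Acyc.of_iso (acyc_tensor_of_fp K hK L) (DTen.braidCx K L)

end Groth.Agent.Lib.Helper16.KF
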