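import Mathlib
import Groth.Prelude.Def_KFlatSite
import Groth.Agent.Lib.Helper16.KF11
import Groth.Agent.Lib.Helper16.FlatProd

/-!
# Helper16 — KF13: homotopy pushouts of complexes and K-flat factorizations
-/

set_option autoImplicit false
universe u
open CategoryTheory CategoryTheory.Limits MonoidalCategory

namespace Groth.Agent.Lib.Helper16.KF

variable {R : Type u} [CommRing R]

attribute [local instance] HasDerivedCategory.standard

lemma homotopy_of_Q_map_eq {A M : Cx R} [A.IsKProjective] (f g : A ⟶ M)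
    (h : DerivedCategory.Q.map f = DerivedCategory.Q.map g) : Nonempty (Homotopy f g) := by
  have h1 := (DerivedCategory.quotientCompQhIso (ModuleCat.{u} R)).hom.naturality f
  have h2 := (DerivedCategory.quotientCompQhIso (ModuleCat.{u} R)).hom.naturality g
  simp only [Functor.comp_map] at h1 h2
  rw [h] at h1
  have h3 : DerivedCategory.Qh.map ((HomotopyCategory.quotient _ _).map f) =
      DerivedCategory.Qh.map ((HomotopyCategory.quotient _ _).map g) := by
    rw [← cancel_mono ((DerivedCategory.quotientCompQhIso (ModuleCat.{u} R)).hom.app M), h1, h2]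
  exact ⟨HomotopyCategory.homotopyOfEq _ _
    ((CochainComplex.IsKProjective.Qh_map_bijective A _).injective h3)⟩

/-- the split short complex `K → K ⊞ M → M`. -/
noncomputable def biprodSC (K M : Cx R) : ShortComplex (Cx R) :=
  ShortComplex.mk (biprod.inl : K ⟶ K ⊞ M) biprod.snd (by simp)

lemma degreewiseSplit_biprodSC (K M : Cx R) : DegreewiseSplit (biprodSC K M) := fun p =>
  ⟨(ShortComplex.Splitting.ofHasBinaryBiproduct K M).map (HomologicalComplex.eval _ _ p)⟩

lemma isKFlat_biprod {K M : Cx R} (hK : DRing.IsKFlat R K) (hM : DRing.IsKFlat R M) :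
    DRing.IsKFlat R (K ⊞ M) := fun L hL =>
  acyc_X₂ (shortExact_whiskerLeft_of_split L (degreewiseSplit_biprodSC K M)) (hK L hL) (hM L hL)

section HPO

open CochainComplex HomComplex

variable {A K M : Cx R} (u : A ⟶ K) (v : A ⟶ M)

/-- the map `(u, -v) : A ⟶ K ⊞ M`. -/
noncomputable def hpoφ : A ⟶ K ⊞ M := biprod.lift u (-v)

/-- the homotopy pushout of `K ← A → M`. -/
noncomputable abbrev hpo : Cx R := mappingCone (hpoφ u v)

/-- the inclusion of `K` in the homotopy pushout. -/
noncomputable def hpoInl : K ⟶ hpo u v := biprod.inl ≫ mappingCone.inr (hpoφ u v)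

/-- the inclusion of `M` in the homotopy pushout. -/
noncomputable def hpoInr : M ⟶ hpo u v := biprod.inr ≫ mappingCone.inr (hpoφ u v)

/-- the projection of the homotopy pushout to the cone of `u`. -/
noncomputable def hpoπ : hpo u v ⟶ mappingCone u :=
  mappingCone.map (hpoφ u v) u (𝟙 A) biprod.fst (by simp [hpoφ])

@[reassoc (attr := simp)]
lemma hpoInr_hpoπ : hpoInr u v ≫ hpoπ u v = 0 := by
  simp [hpoInr, hpoπ, mappingCone.map]

/-- the short complex `M → hpo → cone u`. -/
noncomputable def hpoSC : ShortComplex (Cx R) :=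
  ShortComplex.mk (hpoInr u v) (hpoπ u v) (hpoInr_hpoπ u v)

lemma hpoInr_f (n : ℤ) : (hpoInr u v).f n =
    (biprod.inr : M ⟶ K ⊞ M).f n ≫ (mappingCone.inr (hpoφ u v)).f n := by
  simp [hpoInr]

@[reassoc]
lemma inl_v_hpoπ_f (p q : ℤ) (hpq : p + (-1) = q) :
    (mappingCone.inl (hpoφ u v)).v p q hpq ≫ (hpoπ u v).f q = (mappingCone.inl u).v p q hpq := by
  simp [hpoπ, mappingCone.map]

@[reassoc]
lemma inr_f_hpoπ_f (n : ℤ) :
    (mappingCone.inr (hpoφ u v)).f n ≫ (hpoπ u v).f n =
      (biprod.fst : K ⊞ M ⟶ K).f n ≫ (mappingCone.inr u).f n := by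
  simp [hpoπ, mappingCone.map]

/-- the degreewise splitting of `M → hpo → cone u`. -/
noncomputable def hpoSplitting (n : ℤ) :
    ((hpoSC u v).map (HomologicalComplex.eval _ _ n)).Splitting where
  r := (mappingCone.snd (hpoφ u v)).v n n (add_zero n) ≫ (biprod.snd : K ⊞ M ⟶ M).f n
  s := (mappingCone.fst u).1.v n (n + 1) rfl ≫ (mappingCone.inl (hpoφ u v)).v (n + 1) n (by omega) +
    (mappingCone.snd u).v n n (add_zero n) ≫ (biprod.inl : K ⟶ K ⊞ M).f n ≫
      (mappingCone.inr (hpoφ u v)).f n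
  f_r := by
    change (hpoInr u v).f n ≫ (mappingCone.snd (hpoφ u v)).v n n (add_zero n) ≫
      (biprod.snd : K ⊞ M ⟶ M).f n = 𝟙 (M.X n)
    rw [hpoInr_f, Category.assoc, mappingCone.inr_f_snd_v_assoc, ← HomologicalComplex.comp_f,
      biprod.inr_snd, HomologicalComplex.id_f]
  s_g := by
    change ((mappingCone.fst u).1.v n (n + 1) rfl ≫
      (mappingCone.inl (hpoφ u v)).v (n + 1) n (by omega) +
      (mappingCone.snd u).v n n (add_zero n) ≫ (biprod.inl : K ⟶ K ⊞ M).f n ≫
      (mappingCone.inr (hpoφ u v)).f n) ≫ (hpoπ u v).f n = 𝟙 ((mappingCone u).X n)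
    simp only [Preadditive.add_comp, Category.assoc, inl_v_hpoπ_f, inr_f_hpoπ_f]
    rw [← HomologicalComplex.comp_f_assoc, biprod.inl_fst, HomologicalComplex.id_f,
      Category.id_comp]
    exact mappingCone.id_X u n (n + 1) rfl
  id := by
    change ((mappingCone.snd (hpoφ u v)).v n n (add_zero n) ≫ (biprod.snd : K ⊞ M ⟶ M).f n) ≫
      (hpoInr u v).f n + (hpoπ u v).f n ≫ ((mappingCone.fst u).1.v n (n + 1) rfl ≫
      (mappingCone.inl (hpoφ u v)).v (n + 1) n (by omega) +
      (mappingCone.snd u).v n n (add_zero n) ≫ (biprod.inl : K ⟶ K ⊞ M).f n ≫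
      (mappingCone.inr (hpoφ u v)).f n) = 𝟙 ((hpo u v).X n)
    rw [mappingCone.ext_from_iff _ (n + 1) n rfl]
    constructor
    · simp only [Preadditive.comp_add, Category.assoc,
        mappingCone.inl_v_snd_v_assoc, zero_comp, zero_add, inl_v_hpoπ_f_assoc,
        mappingCone.inl_v_fst_v_assoc, mappingCone.inl_v_snd_v_assoc, add_zero, Category.comp_id]
    · simp only [Preadditive.comp_add, Category.assoc, hpoInr_f,
        mappingCone.inr_f_snd_v_assoc, inr_f_hpoπ_f_assoc,
        mappingCone.inr_f_fst_v_assoc, zero_comp, comp_zero, zero_add, Category.comp_id]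
      have h := congr_arg (fun t => t.f n ≫ (mappingCone.inr (hpoφ u v)).f n)
        (biprod.total (X := K) (Y := M))
      simp only [HomologicalComplex.add_f_apply, HomologicalComplex.comp_f,
        HomologicalComplex.id_f, Preadditive.add_comp, Category.assoc, Category.id_comp] at h
      rw [add_comm]
      exact h

lemma degreewiseSplit_hpoSC : DegreewiseSplit (hpoSC u v) := fun n => ⟨hpoSplitting u v n⟩

lemma acyc_mappingCone_of_quasiIso {K I : Cx R} (i : K ⟶ I) [QuasiIso i] :
    Acyc (mappingCone i) := by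
  intro n
  have h1 : HomotopyCategory.quasiIso (ModuleCat.{u} R) (.up ℤ)
      ((HomotopyCategory.quotient (ModuleCat.{u} R) (.up ℤ)).map i) := by
    rw [HomotopyCategory.quotient_map_mem_quasiIso_iff]
    exact (HomologicalComplex.mem_quasiIso_iff i).2 inferInstance
  rw [HomotopyCategory.quasiIso_eq_trW_subcategoryAcyclic] at h1
  have h2 := ((HomotopyCategory.subcategoryAcyclic (ModuleCat.{u} R)).trW_iff_of_distinguished _
    (HomotopyCategory.mappingCone_triangleh_distinguished i)).1 h1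
  have h3 := (HomotopyCategory.quotient_obj_mem_subcategoryAcyclic_iff_exactAt _).1 h2 n
  exact (HomologicalComplex.exactAt_iff_isZero_homology _ _).1 h3

/-- the inclusion `M → hpo` is a quasi-isomorphism when `u` is. -/
lemma quasiIso_hpoInr [QuasiIso u] : QuasiIso (hpoInr u v) :=
  quasiIso_f_of_acyc_X₃ (S := hpoSC u v) (degreewiseSplit_hpoSC u v).shortExact
    (acyc_mappingCone_of_quasiIso u)

variable {L : Cx R} (a : K ⟶ L) (d : M ⟶ L) (h : Homotopy (u ≫ a) (v ≫ d))

/-- the map from the homotopy pushout induced by a homotopy commutative square. -/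
noncomputable def hpoDesc : hpo u v ⟶ L :=
  mappingCone.desc (hpoφ u v) (Cochain.ofHomotopy h) (biprod.desc a d) (by
    rw [δ_ofHomotopy]
    simp [hpoφ, sub_eq_add_neg])

@[reassoc (attr := simp)]
lemma hpoInl_hpoDesc : hpoInl u v ≫ hpoDesc u v a d h = a := by
  simp [hpoInl, hpoDesc]

@[reassoc (attr := simp)]
lemma hpoInr_hpoDesc : hpoInr u v ≫ hpoDesc u v a d h = d := by
  simp [hpoInr, hpoDesc]

lemma quasiIso_hpoDesc [QuasiIso u] [QuasiIso d] : QuasiIso (hpoDesc u v a d h) := by
  haveI := quasiIso_hpoInr u v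
  haveI : QuasiIso (hpoInr u v ≫ hpoDesc u v a d h) := by
    rw [hpoInr_hpoDesc]; infer_instance
  exact quasiIso_of_comp_left (hpoInr u v) (hpoDesc u v a d h)

lemma isKFlat_hpo (hA : DRing.IsKFlat R A) (hK : DRing.IsKFlat R K) (hM : DRing.IsKFlat R M) :
    DRing.IsKFlat R (hpo u v) :=
  isKFlat_mappingCone _ hA (isKFlat_biprod hK hM)

lemma termwiseFlat_hpo (hA : DRing.TermwiseFlat A) (hK : DRing.TermwiseFlat K)
    (hM : DRing.TermwiseFlat M) : DRing.TermwiseFlat (hpo u v) := by
  intro q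
  have e : (hpo u v).X q ≅ A.X (q + 1) ⊞ (K ⊞ M).X q :=
    HomologicalComplex.homotopyCofiber.XIsoBiprod (hpoφ u v) q (q + 1) rfl
  have e2 : (K ⊞ M).X q ≅ K.X q ⊞ M.X q := (HomologicalComplex.eval _ _ q).mapBiprod _ _
  have e' := e ≪≫ ModuleCat.biprodIsoProd _ _
  have e2' := e2 ≪≫ ModuleCat.biprodIsoProd _ _
  haveI := hA (q + 1)
  haveI := hK q
  haveI := hM q
  haveI : Module.Flat R (K.X q × M.X q) := FlatKer.flat_prod _ _
  haveI : Module.Flat R ((K ⊞ M).X q) := Module.Flat.of_linearEquiv e2'.toLinearEquiv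
  haveI : Module.Flat R (A.X (q + 1) × (K ⊞ M).X q) := FlatKer.flat_prod _ _
  exact Module.Flat.of_linearEquiv e'.toLinearEquiv

end HPO

/-- **K-flat factorization** (Stacks 06Y4-type): a map from a K-flat complex factors, strictly,
through a quasi-isomorphism from a K-flat complex. -/
theorem exists_kflat_factorization {K L : Cx R} (a : K ⟶ L) (hK : DRing.IsKFlat R K) :
    ∃ (N : Cx R) (b : K ⟶ N) (c : N ⟶ L), DRing.IsKFlat R N ∧ QuasiIso c ∧ b ≫ c = a ∧
      (DRing.TermwiseFlat K → DRing.TermwiseFlat N) := by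
  obtain ⟨M, d, _, hMp, hMf, hd⟩ := exists_kprojective_kflat_quasiIso L
  obtain ⟨A, u, hA, hAp, hAf, hu⟩ := exists_kprojective_kflat_quasiIso K
  haveI := hA
  -- lift `u ≫ a` through `d` in the derived category
  haveI : IsIso (DerivedCategory.Q.map d) := by
    rw [DerivedCategory.isIso_Q_map_iff_quasiIso]; exact hd
  obtain ⟨v, hv⟩ := KPR.exists_map_of_isKProjective A M
    (DerivedCategory.Q.map (u ≫ a) ≫ inv (DerivedCategory.Q.map d))
  have hv' : DerivedCategory.Q.map (u ≫ a) = DerivedCategory.Q.map (v ≫ d) := by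
    rw [DerivedCategory.Q.map_comp v d, hv, Category.assoc, IsIso.inv_hom_id, Category.comp_id]
  obtain ⟨h⟩ := homotopy_of_Q_map_eq _ _ hv'
  refine ⟨hpo u v, hpoInl u v, hpoDesc u v a d h, isKFlat_hpo u v hAf hK hMf,
    quasiIso_hpoDesc u v a d h, hpoInl_hpoDesc u v a d h, fun hKf => ?_⟩
  exact termwiseFlat_hpo u v (KPR.termwiseFlat_of_projective A hAp) hKf
    (KPR.termwiseFlat_of_projective M hMp)

end Groth.Agent.Lib.Helper16.KF
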