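import Mathlib
import Groth.Prelude.Def_KFlatSite
import Groth.Prelude.Def_DRing4
import Groth.Agent.Lib.Helper16.LDer4
import Groth.Agent.Lib.Helper16.KF13
import Groth.Agent.Lib.Helper16.KF12

/-!
# Helper16 — LTC1: the derived tensor product `- ⊗^L E` with a complex is computed on
K-projective complexes
-/

set_option autoImplicit false

open CategoryTheory CategoryTheory.Limits MonoidalCategory

namespace Groth.Agent.Lib.Helper16.LDer

universe w v₁ v₂ v₃ u₁ u₂ u₃

variable {C : Type u₁} {D : Type u₂} {H : Type u₃}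
  [Category.{v₁} C] [Category.{v₂} D] [Category.{v₃} H]

variable {L : C ⥤ D} {F : C ⥤ H} {LF : D ⥤ H} (α : L ⋙ LF ⟶ F) (P : C)

/-- variant of `isIso_app_of_bijective`: it suffices that `Hom(P, Y) → Hom(L P, L Y)` is
surjective and that `F` identifies maps out of `P` identified by `L`. -/
theorem isIso_app_of_surjective [LF.IsRightKanExtension α] [HasCoproducts.{w} H]
    [∀ d : D, Small.{w} (L.obj P ⟶ d)]
    (hP : ∀ Y : C, Function.Surjective (fun f : P ⟶ Y => L.map f))
    (hF : ∀ (Y : C) (f g : P ⟶ Y), L.map f = L.map g → F.map f = F.map g) :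
    IsIso (α.app P) := by
  classical
  -- preimages
  let pre : ∀ {Y : C}, (L.obj P ⟶ L.obj Y) → (P ⟶ Y) := fun {Y} φ => (hP Y φ).choose
  have hpre : ∀ {Y : C} (φ : L.obj P ⟶ L.obj Y), L.map (pre φ) = φ :=
    fun {Y} φ => (hP Y φ).choose_spec
  have hpre' : ∀ {Y : C} (f : P ⟶ Y), F.map (pre (L.map f)) = F.map f := fun {Y} f =>
    hF Y _ _ (hpre (L.map f))
  have hpre_comp : ∀ {Y Y' : C} (φ : L.obj P ⟶ L.obj Y) (g : Y ⟶ Y'),
      F.map (pre (φ ≫ L.map g)) = F.map (pre φ) ≫ F.map g := by
    intro Y Y' φ g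
    rw [← F.map_comp]
    apply hF
    rw [hpre, L.map_comp, hpre]
  -- the natural transformation associated to `z`
  let β : ∀ (Z : H) (z : Z ⟶ F.obj P), L ⋙ copow.{w} (L.obj P) Z ⟶ F := fun Z z =>
    { app := fun Y => copowDesc _ _ (fun φ => z ≫ F.map (pre φ))
      naturality := by
        intro Y Y' g
        apply copow_hom_ext
        intro φ
        simp only [Functor.comp_obj, Functor.comp_map, copowι_map_assoc, copowι_desc,
          copowι_desc_assoc, Category.assoc, hpre_comp] }
  -- the section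
  let γ := LF.liftOfIsRightKanExtension α (copow.{w} (L.obj P) (F.obj P)) (β _ (𝟙 _))
  let s : F.obj P ⟶ LF.obj (L.obj P) := copowι _ _ (𝟙 (L.obj P)) ≫ γ.app (L.obj P)
  have hs : s ≫ α.app P = 𝟙 _ := by
    have := LF.liftOfIsRightKanExtension_fac_app α (copow.{w} (L.obj P) (F.obj P)) (β _ (𝟙 _)) P
    simp only [s, Category.assoc]
    change _ ≫ γ.app (L.obj P) ≫ α.app P = _
    rw [this]
    simp only [β, copowι_desc, Category.id_comp]
    have h1 : F.map (pre (𝟙 (L.obj P))) = 𝟙 _ := by
      have := hpre' (𝟙 P)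
      rwa [L.map_id, F.map_id] at this
    rw [h1]
  -- uniqueness
  let γ₁ : copow.{w} (L.obj P) (LF.obj (L.obj P)) ⟶ LF :=
    { app := fun d => copowDesc _ _ (fun φ => LF.map φ)
      naturality := by
        intro d d' g
        apply copow_hom_ext
        intro φ
        simp }
  let γ₂ : copow.{w} (L.obj P) (LF.obj (L.obj P)) ⟶ LF :=
    { app := fun d => copowDesc _ _ (fun φ => α.app P ≫ s ≫ LF.map φ)
      naturality := by
        intro d d' g
        apply copow_hom_ext
        intro φ
        simp }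
  have hγ : γ₁ = γ₂ := by
    apply LF.hom_ext_of_isRightKanExtension α
    ext Y
    apply copow_hom_ext
    intro φ
    have hnat := α.naturality (pre φ)
    simp only [Functor.comp_obj, Functor.comp_map, hpre] at hnat
    simp only [γ₁, γ₂, Functor.comp_obj, NatTrans.comp_app, Functor.whiskerLeft_app,
      copowι_desc_assoc, Category.assoc, hnat, reassoc_of% hs]
  have h2 : α.app P ≫ s = 𝟙 _ := by
    have := congr_arg (fun γ => copowι.{w} (L.obj P) (LF.obj (L.obj P)) (𝟙 _) ≫ γ.app (L.obj P)) hγ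
    simp only [γ₁, γ₂, copowι_desc] at this
    rw [LF.map_id, Category.comp_id] at this
    exact this.symm
  exact ⟨s, h2, hs⟩

end Groth.Agent.Lib.Helper16.LDer

namespace Groth.Agent.Lib.Helper16.KF

universe u

open DerivedCategory

attribute [local instance] HasDerivedCategory.standard

variable {R : Type u} [CommRing R]

lemma small_Q_hom (P : Cx R) [P.IsKProjective] (d : Dual.D R) : Small.{u} (Q.obj P ⟶ d) := by
  have := LDer.small_Qh_hom P d
  exact small_of_surjective
    (f := fun g : Qh.obj ((HomotopyCategory.quotient _ _).obj P) ⟶ d =>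
      (quotientCompQhIso (ModuleCat.{u} R)).inv.app P ≫ g)
    (fun φ => ⟨(quotientCompQhIso (ModuleCat.{u} R)).hom.app P ≫ φ, by simp⟩)

variable (E : Cx R) [DRing.HasLTensorCx R E]

/-- the counit `(Q P) ⊗^L E ⟶ Q (P ⊗ E)` is an isomorphism for `P` K-projective. -/
theorem isIso_counit_LTensorCx (P : Cx R) [P.IsKProjective] :
    IsIso (((DRing.tensorCxQ R E).totalLeftDerivedCounit Q
      (HomologicalComplex.quasiIso (ModuleCat.{u} R) (ComplexShape.up ℤ))).app P) := by
  have : ∀ d : Dual.D R, Small.{u} (Q.obj P ⟶ d) := small_Q_hom P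
  have := Functor.IsLeftDerivedFunctor.isRightKanExtension
    ((DRing.tensorCxQ R E).totalLeftDerived Q
      (HomologicalComplex.quasiIso (ModuleCat.{u} R) (ComplexShape.up ℤ)))
    ((DRing.tensorCxQ R E).totalLeftDerivedCounit Q
      (HomologicalComplex.quasiIso (ModuleCat.{u} R) (ComplexShape.up ℤ)))
    (HomologicalComplex.quasiIso (ModuleCat.{u} R) (ComplexShape.up ℤ))
  refine LDer.isIso_app_of_surjective.{u} _ _
    (fun Y φ => KPR.exists_map_of_isKProjective P Y φ) (fun Y f g hfg => ?_)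
  obtain ⟨h⟩ := homotopy_of_Q_map_eq f g hfg
  exact Q_map_eq_of_homotopy _ (whiskerRightHomotopy h E)

/-- `(Q P) ⊗^L E ≅ Q (P ⊗ E)` for `P` K-projective. -/
noncomputable def lTensorCxIso (P : Cx R) [P.IsKProjective] :
    (DRing.LTensorCx R E).obj (Q.obj P) ≅ Q.obj (P ⊗ E) :=
  @asIso _ _ _ _ _ (isIso_counit_LTensorCx E P)

end Groth.Agent.Lib.Helper16.KF
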