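import Mathlib
import Groth.Prelude.Def_KFlatSite
import Groth.Prelude.Def_DRing4
import Groth.Agent.Lib.Helper16.LTC1
import Groth.Agent.Lib.Helper16.KF15
import Groth.Agent.Lib.Helper16.TorAmp6

/-!
# Helper16 — LTC2: tensoring with a complex concentrated in degree `0`, balance of the tensor
product on K-flat resolutions, cohomology of `- ⊗^L E`
-/

set_option autoImplicit false

open CategoryTheory CategoryTheory.Limits MonoidalCategory

namespace Groth.Agent.Lib.Helper16.KF

universe u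

open DerivedCategory

attribute [local instance] HasDerivedCategory.standard

variable {R : Type u} [CommRing R]

section Conc

variable (L Q : Cx R) (hQ : ∀ i, i ≠ 0 → IsZero (Q.X i))

/-- for `Q` concentrated in degree `0`, `L ⊗ Q` is the termwise tensor product `L ⊗ Q⁰`. -/
noncomputable def tensorConcIso : (TorAmp.tensCx (Q.X 0)).obj L ≅ L ⊗ Q :=
  HomologicalComplex.Hom.isoOfComponents
    (fun n => @asIso _ _ _ _ (HomologicalComplex.ιTensorObj L Q n 0 n (add_zero n))
      (isIso_ι_of_concentrated L Q 0 hQ n n (add_zero n)))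
    (fun i j hij => by
      have hij' : i + 1 = j := hij
      subst hij'
      have hd : Q.d 0 (0 + 1) = 0 := (hQ (0 + 1) (by omega)).eq_of_tgt _ _
      change HomologicalComplex.ιTensorObj L Q i 0 i (add_zero i) ≫ (L ⊗ Q).d i (i + 1) =
        (L.d i (i + 1) ▷ Q.X 0) ≫ HomologicalComplex.ιTensorObj L Q (i + 1) 0 (i + 1) _
      rw [ι_d, hd]
      simp)

@[simp]
lemma tensorConcIso_hom_f (n : ℤ) : (tensorConcIso L Q hQ).hom.f n =
    HomologicalComplex.ιTensorObj L Q n 0 n (add_zero n) := rfl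

variable {L} in
lemma tensorConcIso_hom_naturality {L' : Cx R} (f : L ⟶ L') :
    (TorAmp.tensCx (Q.X 0)).map f ≫ (tensorConcIso L' Q hQ).hom =
      (tensorConcIso L Q hQ).hom ≫ (f ▷ Q) := by
  ext n : 1
  change (f.f n ▷ Q.X 0) ≫ HomologicalComplex.ιTensorObj L' Q n 0 n (add_zero n) =
    HomologicalComplex.ιTensorObj L Q n 0 n (add_zero n) ≫ (f ▷ Q).f n
  rw [ι_whiskerRight]

end Conc

section Conc'

variable (L S : Cx R) (hS : ∀ i, i ≠ 0 → IsZero (S.X i)) {M : ModuleCat.{u} R} (e : M ≅ S.X 0)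

/-- for `S` concentrated in degree `0` with `S⁰ ≅ M`, `L ⊗ S` is the termwise tensor product
`L ⊗ M`. -/
noncomputable def tensorConcIso' : (TorAmp.tensCx M).obj L ≅ L ⊗ S :=
  (NatIso.mapHomologicalComplex ((tensoringRight (ModuleCat.{u} R)).mapIso e)
    (ComplexShape.up ℤ)).app L ≪≫ tensorConcIso L S hS

lemma tensorConcIso'_hom_f (n : ℤ) :
    (tensorConcIso' L S hS e).hom.f n =
      (L.X n ◁ e.hom) ≫ HomologicalComplex.ιTensorObj L S n 0 n (add_zero n) := rfl

variable {L} in
lemma tensorConcIso'_hom_naturality {L' : Cx R} (f : L ⟶ L') :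
    (TorAmp.tensCx M).map f ≫ (tensorConcIso' L' S hS e).hom =
      (tensorConcIso' L S hS e).hom ≫ (f ▷ S) := by
  ext n : 1
  change (f.f n ▷ M) ≫ (L'.X n ◁ e.hom) ≫ HomologicalComplex.ιTensorObj L' S n 0 n (add_zero n) =
    ((L.X n ◁ e.hom) ≫ HomologicalComplex.ιTensorObj L S n 0 n (add_zero n)) ≫ (f ▷ S).f n
  rw [Category.assoc, ι_whiskerRight, ← Category.assoc, ← Category.assoc, whisker_exchange]

end Conc'

/-- `L ⊗ M[0]` is the termwise tensor product. -/
noncomputable def tensorSingleIso (L : Cx R) (M : ModuleCat.{u} R) :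
    (TorAmp.tensCx M).obj L ≅ L ⊗ (CochainComplex.singleFunctor (ModuleCat.{u} R) 0).obj M :=
  tensorConcIso' L _ (fun _ hi => HomologicalComplex.isZero_single_obj_X _ _ _ _ hi)
    (HomologicalComplex.singleObjXSelf (ComplexShape.up ℤ) 0 M).symm

lemma tensorSingleIso_hom_naturality {L L' : Cx R} (f : L ⟶ L') (M : ModuleCat.{u} R) :
    (TorAmp.tensCx M).map f ≫ (tensorSingleIso L' M).hom =
      (tensorSingleIso L M).hom ≫
        (f ▷ (CochainComplex.singleFunctor (ModuleCat.{u} R) 0).obj M) :=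
  tensorConcIso'_hom_naturality _ _ _ f

/-- a term of a tensor product of complexes vanishes if all its summands do. -/
lemma isZero_tensor_X (L K : Cx R) (n : ℤ)
    (h : ∀ p q : ℤ, p + q = n → IsZero (L.X p) ∨ IsZero (K.X q)) : IsZero ((L ⊗ K).X n) := by
  rw [IsZero.iff_id_eq_zero]
  apply tensor_hom_ext
  intro p q hpq
  have hz : IsZero (L.X p ⊗ K.X q) := by
    rcases h p q hpq with h | h
    · exact (tensorRight (K.X q)).map_isZero h
    · exact (tensorLeft (L.X p)).map_isZero h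
  exact hz.eq_of_src _ _

lemma exactAt_of_isZero_X (K : Cx R) (i : ℤ) (h : IsZero (K.X i)) : K.ExactAt i := by
  rw [HomologicalComplex.exactAt_iff_isZero_homology]
  exact ShortComplex.isZero_homology_of_isZero_X₂ _ h

/-- **balance**: `P ⊗ E` and `X ⊗ F` have the same cohomology for K-flat resolutions
`P → X`, `F → E`. -/
lemma exactAt_tensor_iff_of_resolutions {P X F E : Cx R} (p : P ⟶ X) [QuasiIso p]
    (hP : DRing.IsKFlat R P) (f : F ⟶ E) [QuasiIso f] (hF : DRing.IsKFlat R F) (i : ℤ) :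
    (P ⊗ E).ExactAt i ↔ (X ⊗ F).ExactAt i := by
  haveI := quasiIso_whiskerLeft_of_isKFlat hP f
  haveI := quasiIso_whiskerRight_of_isKFlat hF p
  rw [← _root_.exactAt_iff_of_quasiIsoAt (P ◁ f) i,
    _root_.exactAt_iff_of_quasiIsoAt (p ▷ F) i]

lemma exactAt_iff_of_iso {K K' : Cx R} (e : K ≅ K') (i : ℤ) : K.ExactAt i ↔ K'.ExactAt i :=
  _root_.exactAt_iff_of_quasiIsoAt e.hom i

variable (E : Cx R) [DRing.HasLTensorCx R E]

/-- the cohomology of `X ⊗^L E` is computed by a K-projective resolution of `X`. -/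
lemma subsingleton_HD_LTensorCx_iff {P X : Cx R} [P.IsKProjective] (p : P ⟶ X) [QuasiIso p]
    (i : ℤ) :
    Subsingleton (Dual.HD R ((DRing.LTensorCx R E).obj (DRing.toD X)) i) ↔
      (P ⊗ E).ExactAt i := by
  haveI : IsIso (Q.map p) := by rw [isIso_Q_map_iff_quasiIso]; infer_instance
  exact TorAmp.subsingleton_HD_iff_exactAt (P ⊗ E)
    ((DRing.LTensorCx R E).mapIso (asIso (Q.map p)).symm ≪≫ lTensorCxIso E P) i

end Groth.Agent.Lib.Helper16.KF
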