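import Mathlib
import Groth.Prelude.Def_KFlatSite
import Groth.Prelude.Def_DRing4
import Groth.Prelude.Def_DDual2
import Groth.Agent.Lib.Helper16.BiCx7
import Groth.Agent.Lib.Helper16.KF3

/-!
# Helper16 — BC1: K-flatness is stable under base change (rings)
-/

set_option autoImplicit false
universe u
open CategoryTheory CategoryTheory.Limits MonoidalCategory TensorProduct

namespace Groth.Agent.Lib.Helper16.BC

section Unbundled

variable {R S : Type u} [CommRing R] [CommRing S] [Algebra R S]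
  (N N' : Type u) [AddCommGroup N] [Module S N] [Module R N] [IsScalarTower R S N]
  [AddCommGroup N'] [Module S N'] [Module R N'] [IsScalarTower R S N']
  (X Y : Type u) [AddCommGroup X] [Module R X] [AddCommGroup Y] [Module R Y]

/-- `N ⊗[S] (S ⊗[R] X) ≃ N ⊗[R] X`. -/
noncomputable def cbc : (N ⊗[S] (S ⊗[R] X)) ≃ₗ[S] (N ⊗[R] X) :=
  TensorProduct.AlgebraTensorModule.cancelBaseChange R S S N X

lemma cbc_tmul (n : N) (s : S) (x : X) : cbc N X (n ⊗ₜ[S] (s ⊗ₜ[R] x)) = (s • n) ⊗ₜ[R] x := rfl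

lemma cbc_symm_tmul (n : N) (x : X) : (cbc N X).symm (n ⊗ₜ[R] x) = n ⊗ₜ[S] ((1 : S) ⊗ₜ[R] x) := rfl

lemma cbc_smul (r : R) (t : N ⊗[S] (S ⊗[R] X)) :
    cbc N X (algebraMap R S r • t) = r • cbc N X t := by
  rw [map_smul]
  induction cbc N X t using TensorProduct.induction_on with
  | zero => simp
  | tmul n x => rw [TensorProduct.smul_tmul', TensorProduct.smul_tmul', algebraMap_smul]
  | add a b ha hb => rw [smul_add, smul_add, ha, hb]

end Unbundled


section Bundled

variable {R S : Type u} [CommRing R] [CommRing S] (φ : R →+* S)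

/-- the `R`-linear equivalence `res N ⊗_R M ≃ res (N ⊗_S ext M)`. -/
noncomputable def μEquiv (N : ModuleCat.{u} S) (M : ModuleCat.{u} R) :
    ((ModuleCat.restrictScalars.{u} φ).obj N ⊗ M : ModuleCat.{u} R) ≃ₗ[R]
      (ModuleCat.restrictScalars.{u} φ).obj (N ⊗ (ModuleCat.extendScalars.{u, u, u} φ).obj M) :=
  letI := φ.toAlgebra
  letI : Module R N := Module.compHom N φ
  haveI : IsScalarTower R S N := ⟨fun r s n => by
    change (φ r * s) • n = φ r • s • n; rw [mul_smul]⟩
  { (cbc (R := R) (S := S) N M).symm.toAddEquiv with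
    map_smul' := fun r t => by
      have h1 := cbc_smul (R := R) (S := S) N M r ((cbc (R := R) (S := S) N M).symm t)
      have h2 : cbc (R := R) (S := S) N M ((cbc (R := R) (S := S) N M).symm t) = t :=
        LinearEquiv.apply_symm_apply _ _
      exact (LinearEquiv.symm_apply_eq _).2 ((h1.trans (congrArg (r • ·) h2)).symm) }

/-- `res N ⊗_R M ≅ res (N ⊗_S ext M)`. -/
noncomputable def μ (N : ModuleCat.{u} S) (M : ModuleCat.{u} R) :
    ((ModuleCat.restrictScalars.{u} φ).obj N ⊗ M : ModuleCat.{u} R) ≅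
      (ModuleCat.restrictScalars.{u} φ).obj (N ⊗ (ModuleCat.extendScalars.{u, u, u} φ).obj M) :=
  (μEquiv φ N M).toModuleIso

lemma μ_natL {N N' : ModuleCat.{u} S} (f : N ⟶ N') (M : ModuleCat.{u} R) :
    ((ModuleCat.restrictScalars.{u} φ).map f ▷ M) ≫ (μ φ N' M).hom =
      (μ φ N M).hom ≫ (ModuleCat.restrictScalars.{u} φ).map
        (f ▷ (ModuleCat.extendScalars.{u, u, u} φ).obj M) := by
  apply ModuleCat.MonoidalCategory.tensor_ext
  intro n m
  rfl

lemma μ_natR (N : ModuleCat.{u} S) {M M' : ModuleCat.{u} R} (g : M ⟶ M') :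
    ((ModuleCat.restrictScalars.{u} φ).obj N ◁ g) ≫ (μ φ N M').hom =
      (μ φ N M).hom ≫ (ModuleCat.restrictScalars.{u} φ).map
        (N ◁ (ModuleCat.extendScalars.{u, u, u} φ).map g) := by
  apply ModuleCat.MonoidalCategory.tensor_ext
  intro n m
  rfl

end Bundled


section Cx

open Groth.Agent.Lib.Helper16.BiCx

variable {R S : Type u} [CommRing R] [CommRing S] (φ : R →+* S)

/-- the bifunctor `(N, M) ↦ N ⊗_S (S ⊗_R M)`. -/
noncomputable def Fext : ModuleCat.{u} S ⥤ ModuleCat.{u} R ⥤ ModuleCat.{u} S :=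
  curriedTensor (ModuleCat.{u} S) ⋙
    (Functor.whiskeringLeft _ _ _).obj (ModuleCat.extendScalars.{u, u, u} φ)

instance : (Fext φ).Additive where
  map_add {N N' f g} := by
    ext M : 2
    change (f + g) ▷ _ = f ▷ _ + g ▷ _
    exact MonoidalPreadditive.add_whiskerRight _ _

instance (N : ModuleCat.{u} S) : ((Fext φ).obj N).Additive where
  map_add {M M' f g} := by
    change N ◁ (ModuleCat.extendScalars.{u, u, u} φ).map (f + g) = _
    rw [Functor.map_add, MonoidalPreadditive.whiskerLeft_add]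
    rfl

instance (K₁ : CochainComplex (ModuleCat.{u} S) ℤ) (K₂ : CochainComplex (ModuleCat.{u} R) ℤ) :
    HomologicalComplex.HasMapBifunctor K₁ K₂ (Fext φ) (ComplexShape.up ℤ) :=
  fun _ => inferInstance

lemma acyc_restrict_iff (L : CochainComplex (ModuleCat.{u} S) ℤ) :
    Acyc (((ModuleCat.restrictScalars.{u} φ).mapHomologicalComplex (ComplexShape.up ℤ)).obj L) ↔
      Acyc L := by
  constructor
  · intro h i
    have e := (L.sc i).mapHomologyIso (ModuleCat.restrictScalars.{u} φ)
    have h1 : IsZero ((ModuleCat.restrictScalars.{u} φ).obj (L.homology i)) :=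
      IsZero.of_iso (h i) e.symm
    rw [ModuleCat.isZero_iff_subsingleton] at h1 ⊢
    exact h1
  · intro h i
    have e := (L.sc i).mapHomologyIso (ModuleCat.restrictScalars.{u} φ)
    exact IsZero.of_iso ((ModuleCat.restrictScalars.{u} φ).map_isZero (h i)) e


instance (n : ℤ) : PreservesColimitsOfShape (Discrete (Groth.Agent.Lib.Helper16.KF.Idx n))
    (ModuleCat.restrictScalars.{u} φ) := inferInstance

/-- `res (Tot (L ⊗_S ext K)) ≅ Tot (res L ⊗_R K)`. -/
noncomputable def resTensorExtIso (L : CochainComplex (ModuleCat.{u} S) ℤ)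
    (K : CochainComplex (ModuleCat.{u} R) ℤ) :
    T (curriedTensor (ModuleCat.{u} R))
      (((ModuleCat.restrictScalars.{u} φ).mapHomologicalComplex (ComplexShape.up ℤ)).obj L)
      (((𝟭 (ModuleCat.{u} R)).mapHomologicalComplex (ComplexShape.up ℤ)).obj K) ≅
    ((ModuleCat.restrictScalars.{u} φ).mapHomologicalComplex (ComplexShape.up ℤ)).obj
      (T (Fext φ) L K) :=
  cmpIso (Fext φ) (curriedTensor (ModuleCat.{u} R)) (ModuleCat.restrictScalars.{u} φ)
    (𝟭 (ModuleCat.{u} R)) (ModuleCat.restrictScalars.{u} φ) (μ φ)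
    (fun f M => μ_natL φ f M) (fun N _ _ g => μ_natR φ N g) L K

/-- `Tot (L ⊗_S ext K)`, in the form of the monoidal structure on complexes. -/
noncomputable def tensorExtIso (L : CochainComplex (ModuleCat.{u} S) ℤ)
    (K : CochainComplex (ModuleCat.{u} R) ℤ) :
    T (curriedTensor (ModuleCat.{u} S))
      (((𝟭 (ModuleCat.{u} S)).mapHomologicalComplex (ComplexShape.up ℤ)).obj L)
      (((ModuleCat.extendScalars.{u, u, u} φ).mapHomologicalComplex (ComplexShape.up ℤ)).obj K) ≅
    ((𝟭 (ModuleCat.{u} S)).mapHomologicalComplex (ComplexShape.up ℤ)).obj (T (Fext φ) L K) :=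
  cmpIso (Fext φ) (curriedTensor (ModuleCat.{u} S)) (𝟭 (ModuleCat.{u} S))
    (ModuleCat.extendScalars.{u, u, u} φ) (𝟭 (ModuleCat.{u} S)) (fun _ _ => Iso.refl _)
    (fun f M => (Category.comp_id _).trans (Category.id_comp _).symm)
    (fun N _ _ g => (Category.comp_id _).trans (Category.id_comp _).symm) L K

/-- **K-flatness is stable under base change.** -/
theorem isKFlat_extendScalars (K : DRing.Cx R) (hK : DRing.IsKFlat R K) :
    DRing.IsKFlat S
      (((ModuleCat.extendScalars.{u, u, u} φ).mapHomologicalComplex (ComplexShape.up ℤ)).obj K) := by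
  intro L hL
  have hL' : Acyc (((ModuleCat.restrictScalars.{u} φ).mapHomologicalComplex
      (ComplexShape.up ℤ)).obj L) := (acyc_restrict_iff φ L).2 hL
  have hK' : DRing.IsKFlat R (((𝟭 (ModuleCat.{u} R)).mapHomologicalComplex
      (ComplexShape.up ℤ)).obj K) := hK
  have h1 : Acyc (T (curriedTensor (ModuleCat.{u} R))
      (((ModuleCat.restrictScalars.{u} φ).mapHomologicalComplex (ComplexShape.up ℤ)).obj L)
      (((𝟭 (ModuleCat.{u} R)).mapHomologicalComplex (ComplexShape.up ℤ)).obj K)) := hK' _ hL'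
  have h2 := (acyc_restrict_iff φ _).1 (Acyc.of_iso h1 (resTensorExtIso φ L K))
  have h3 : Acyc (((𝟭 (ModuleCat.{u} S)).mapHomologicalComplex (ComplexShape.up ℤ)).obj
      (T (Fext φ) L K)) := h2
  exact Acyc.of_iso h3 (tensorExtIso φ L K).symm

end Cx

end Groth.Agent.Lib.Helper16.BC
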