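import Mathlib
import Groth.Prelude.Def_DCoh4
import Groth.Prelude.Def_DerSch
import Groth.Prelude.Def_DDual2
import Groth.Agent.Lib.Helper16.Sky6
import Groth.Agent.Lib.Helper16.BC1

/-!
# Helper16 — PB1: the stalks of the pullback of an `O_Y`-module; pullback of K-flat is K-flat
-/

set_option autoImplicit false
universe u
open CategoryTheory CategoryTheory.Limits TopologicalSpace Opposite AlgebraicGeometry

namespace Groth.Agent.Lib.Helper16.Stk

variable {X Y : Scheme.{u}} (f : X ⟶ Y) (x : X)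

/-- the stalk map as a ring homomorphism. -/
noncomputable def φs : Y.presheaf.stalk (f x) →+* X.presheaf.stalk x := (f.stalkMap x).hom

/-- the underlying presheaf of modules of `f_* (sky_x N)`. -/
noncomputable abbrev pushSkyP (N : ModuleCat.{u} (X.presheaf.stalk x)) : CohB1.PMod Y :=
  DCoh.toP.obj ((Scheme.Modules.pushforward f).obj ((skyFunctor x).obj N))

/-- the presheaf of modules `sky_{f x} (N|_{O_{Y, f x}})`. -/
noncomputable abbrev skyResP (N : ModuleCat.{u} (X.presheaf.stalk x)) : CohB1.PMod Y :=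
  skyP (R := Y.presheaf) (f x) ((ModuleCat.restrictScalars.{u} (φs f x)).obj N)

lemma pushSkyP_smul_apply (N : ModuleCat.{u} (X.presheaf.stalk x)) (V : Y.Opens)
    (s : (Y.sheaf.obj ⋙ forget₂ CommRingCat RingCat.{u}).obj (op V))
    (g : (pushSkyP f x N).obj (op V)) (h : PLift (x ∈ f ⁻¹ᵁ V)) :
    (show (skyP (R := X.presheaf) x N).obj (op (f ⁻¹ᵁ V)) from (s • g)) h =
      gr (R := X.presheaf) x (f ⁻¹ᵁ V) h.down ((f.app V).hom s) •
        (show (skyP (R := X.presheaf) x N).obj (op (f ⁻¹ᵁ V)) from g) h := rfl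

lemma skyResP_smul_apply (N : ModuleCat.{u} (X.presheaf.stalk x)) (V : Y.Opens)
    (s : (Y.sheaf.obj ⋙ forget₂ CommRingCat RingCat.{u}).obj (op V))
    (g : (skyResP f x N).obj (op V)) (h : PLift (f x ∈ V)) :
    (s • g) h = φs f x (gr (R := Y.presheaf) (f x) V h.down s) • (show N from g h) := rfl

lemma φs_gr (V : Y.Opens) (hx : f x ∈ V) (s : Y.presheaf.obj (op V)) :
    φs f x (gr (R := Y.presheaf) (f x) V hx s) =
      gr (R := X.presheaf) x (f ⁻¹ᵁ V) hx ((f.app V).hom s) :=
  Scheme.Hom.germ_stalkMap_apply f V x hx s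

/-- sections of `f_* (sky_x N)` and of `sky_{f x} N` agree. -/
noncomputable def pushSkyEquiv (N : ModuleCat.{u} (X.presheaf.stalk x)) (V : Y.Opens) :
    (pushSkyP f x N).obj (op V) ≃ₗ[((Y.sheaf.obj ⋙ forget₂ CommRingCat RingCat.{u}).obj (op V))]
      (skyResP f x N).obj (op V) where
  toFun g := fun h => (show (skyP (R := X.presheaf) x N).obj (op (f ⁻¹ᵁ V)) from g) ⟨h.down⟩
  invFun g := (show (skyP (R := X.presheaf) x N).obj (op (f ⁻¹ᵁ V)) from fun h => g ⟨h.down⟩)
  left_inv _ := rfl
  right_inv _ := rfl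
  map_add' _ _ := rfl
  map_smul' s g := by
    funext h
    exact (congrArg (· • (show N from
      (show (skyP (R := X.presheaf) x N).obj (op (f ⁻¹ᵁ V)) from g) ⟨h.down⟩))
      (φs_gr f x V h.down s)).symm

/-- `f_* (sky_x N) ≅ sky_{f x} N` as presheaves of modules. -/
noncomputable def pushSkyPIso (N : ModuleCat.{u} (X.presheaf.stalk x)) :
    pushSkyP f x N ≅ skyResP f x N :=
  PresheafOfModules.isoMk (fun V => (pushSkyEquiv f x N V.unop).toModuleIso)
    (fun _ _ _ => rfl)

/-- `f_* (sky_x N) ≅ sky_{f x} N`. -/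
noncomputable def pushSkyIso (N : ModuleCat.{u} (X.presheaf.stalk x)) :
    (Scheme.Modules.pushforward f).obj ((skyFunctor x).obj N) ≅
      (skyFunctor (f x)).obj ((ModuleCat.restrictScalars.{u} (φs f x)).obj N) :=
  (Functor.FullyFaithful.ofFullyFaithful (DCoh.toP (X := Y))).preimageIso (pushSkyPIso f x N)

lemma toP_map_pushSkyIso_hom (N : ModuleCat.{u} (X.presheaf.stalk x)) :
    DCoh.toP.map (pushSkyIso f x N).hom = (pushSkyPIso f x N).hom :=
  (Functor.FullyFaithful.ofFullyFaithful (DCoh.toP (X := Y))).map_preimage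
    (X := (Scheme.Modules.pushforward f).obj ((skyFunctor x).obj N))
    (Y := (skyFunctor (f x)).obj ((ModuleCat.restrictScalars.{u} (φs f x)).obj N))
    (pushSkyPIso f x N).hom

/-- the right adjoint of `M ↦ (f^* M)_x`, in two ways. -/
noncomputable def pushSkyNatIso :
    skyFunctor x ⋙ Scheme.Modules.pushforward f ≅
      ModuleCat.restrictScalars.{u} (φs f x) ⋙ skyFunctor (f x) :=
  NatIso.ofComponents (fun N => pushSkyIso f x N) (fun {N N'} g => by
    apply (DCoh.toP (X := Y)).map_injective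
    refine (Functor.map_comp _ _ _).trans ?_
    refine Eq.trans ?_ (Functor.map_comp _ _ _).symm
    refine (congrArg (_ ≫ ·) (toP_map_pushSkyIso_hom f x N')).trans ?_
    refine Eq.trans ?_ (congrArg (· ≫ _) (toP_map_pushSkyIso_hom f x N)).symm
    rfl)

/-- **the stalk of `f^* M` at `x` is `M_{f x} ⊗ O_{X,x}`, naturally in `M`.** -/
noncomputable def pullbackStkIso :
    Scheme.Modules.pullback f ⋙ stk x ≅
      stk (f x) ⋙ ModuleCat.extendScalars.{u, u, u} (φs f x) :=
  (((Scheme.Modules.pullbackPushforwardAdjunction f).comp (stkSkyAdj x)).ofNatIsoRight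
    (pushSkyNatIso f x)).leftAdjointUniq
    ((stkSkyAdj (f x)).comp (ModuleCat.extendRestrictScalarsAdj (φs f x)))

/-- the complex of stalks of `f^* K`. -/
noncomputable def pullbackStkCxIso (K : CochainComplex Y.Modules ℤ) :
    stkCx x (((Scheme.Modules.pullback f).mapHomologicalComplex (ComplexShape.up ℤ)).obj K) ≅
      ((ModuleCat.extendScalars.{u, u, u} (φs f x)).mapHomologicalComplex (ComplexShape.up ℤ)).obj
        (stkCx (f x) K) :=
  (NatIso.mapHomologicalComplex (pullbackStkIso f x) (ComplexShape.up ℤ)).app K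

/-- **the pullback of a K-flat complex is K-flat.** -/
theorem pullback_isKFlat (K : CochainComplex Y.Modules ℤ) (hK : DCoh.IsKFlat K) :
    DCoh.IsKFlat (((Scheme.Modules.pullback f).mapHomologicalComplex (ComplexShape.up ℤ)).obj K) := by
  apply isKFlat_of_forall_stalk
  intro x
  exact Groth.Agent.Lib.Helper16.KF.isKFlat_of_iso (pullbackStkCxIso f x K).symm
    (Groth.Agent.Lib.Helper16.BC.isKFlat_extendScalars (φs f x) _
      (stalk_isKFlat_of_isKFlat (f x) K hK))

end Groth.Agent.Lib.Helper16.Stk
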