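import Mathlib
import Groth.Prelude.Def_DCoh4
import Groth.Agent.Lib.Helper16.PB1
import Groth.Agent.Lib.Helper16.BiCx8
import Groth.Agent.Lib.Helper16.KPR5
import Groth.Agent.Lib.Helper16.LTC2
import Groth.Agent.Lib.Helper16.Sky6

/-!
# Helper16 — PB2: pullback preserves quasi-isomorphisms between K-flat complexes
-/

set_option autoImplicit false
universe u
open CategoryTheory CategoryTheory.Limits TopologicalSpace Opposite AlgebraicGeometry
  MonoidalCategory

namespace Groth.Agent.Lib.Helper16.BiCx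

section

variable {A B : Type*} [Category A] [Abelian A] [Category B] [Abelian B]
  (Φ : A ⥤ B) [Φ.Additive]

lemma shortExact_mapHC_of_dSplit (S : ShortComplex (CochainComplex A ℤ)) (hS : DSplit S) :
    (S.map (Φ.mapHomologicalComplex (ComplexShape.up ℤ))).ShortExact := by
  refine HomologicalComplex.shortExact_of_degreewise_shortExact _ (fun n => ?_)
  obtain ⟨s⟩ := hS n
  exact (s.map Φ).shortExact

/-- an additive functor (applied termwise) sends `f` to a quasi-isomorphism as soon as it sends
the cokernel of the cylinder inclusion of `f` to an acyclic complex. -/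
theorem quasiIso_mapHC_of_acyc_cylSC {L₁ L₂ : CochainComplex A ℤ} (f : L₁ ⟶ L₂)
    (ha : Acyc ((Φ.mapHomologicalComplex (ComplexShape.up ℤ)).obj (cylSC f).X₃)) :
    QuasiIso ((Φ.mapHomologicalComplex (ComplexShape.up ℤ)).map f) :=
  quasiIso_map_of_acyc_cylSC (Φ.mapHomologicalComplex (ComplexShape.up ℤ))
    (fun e => (Φ.mapHomotopyEquiv e).quasiIso_hom)
    (fun S hS => shortExact_mapHC_of_dSplit Φ S hS) f ha

end

end Groth.Agent.Lib.Helper16.BiCx

namespace Groth.Agent.Lib.Helper16.Stk

open Groth.Agent.Lib.Helper16.BiCx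

section Ring

variable {R S : Type u} [CommRing R] [CommRing S]

/-- ring level: an acyclic K-flat complex tensored (termwise) with any module is acyclic. -/
lemma ring_acyc_tensCx_of_acyc_of_isKFlat (C : DRing.Cx R) (hC : Acyc C)
    (hK : DRing.IsKFlat R C) (M : ModuleCat.{u} R) :
    Acyc ((Groth.Agent.Lib.Helper16.TorAmp.tensCx M).obj C) :=
  Acyc.of_iso (Acyc.of_iso (ring_acyc_tensor_of_acyc_of_isKFlat C hC hK
    ((CochainComplex.singleFunctor (ModuleCat.{u} R) 0).obj M)) (DTen.braidCx _ C))
    (Groth.Agent.Lib.Helper16.KF.tensorSingleIso C M).symm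

/-- ring level: the base change of an acyclic K-flat complex is acyclic. -/
lemma ring_acyc_extCx_of_acyc_of_isKFlat (φ : R →+* S) (C : DRing.Cx R) (hC : Acyc C)
    (hK : DRing.IsKFlat R C) :
    Acyc (((ModuleCat.extendScalars.{u, u, u} φ).mapHomologicalComplex
      (ComplexShape.up ℤ)).obj C) := by
  intro i
  rw [← HomologicalComplex.exactAt_iff_isZero_homology]
  refine (Groth.Agent.Lib.Helper16.KPR.exactAt_extCx_iff φ C i).2 ?_
  rw [HomologicalComplex.exactAt_iff_isZero_homology]
  exact ring_acyc_tensCx_of_acyc_of_isKFlat C hC hK _ i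

end Ring

variable {X Y : Scheme.{u}} (f : X ⟶ Y)

/-- **the pullback of an acyclic K-flat complex is acyclic.** -/
theorem acyc_pullback_of_acyc_of_isKFlat (C : CochainComplex Y.Modules ℤ) (hC : Acyc C)
    (hK : DCoh.IsKFlat C) :
    Acyc (((Scheme.Modules.pullback f).mapHomologicalComplex (ComplexShape.up ℤ)).obj C) := by
  rw [acyc_iff_forall_stalk]
  intro x
  refine Acyc.of_iso ?_ (pullbackStkCxIso f x C).symm
  exact ring_acyc_extCx_of_acyc_of_isKFlat (φs f x) _ ((acyc_iff_forall_stalk C).1 hC (f x))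
    (stalk_isKFlat_of_isKFlat (f x) C hK)

/-- **the pullback functor sends quasi-isomorphisms between K-flat complexes to
quasi-isomorphisms.** -/
theorem quasiIso_pullback_map_of_isKFlat {P Q : CochainComplex Y.Modules ℤ} (α : P ⟶ Q)
    [QuasiIso α] (hP : DCoh.IsKFlat P) (hQ : DCoh.IsKFlat Q) :
    QuasiIso (((Scheme.Modules.pullback f).mapHomologicalComplex (ComplexShape.up ℤ)).map α) :=
  quasiIso_mapHC_of_acyc_cylSC (Scheme.Modules.pullback f) α
    (acyc_pullback_of_acyc_of_isKFlat f _ (acyc_cylSC_X₃ α)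
      (isKFlatR_cylSC_X₃ (DCoh.tensorBi (X := Y)) α hP hQ))

end Groth.Agent.Lib.Helper16.Stk
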