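import Mathlib
import Groth.Prelude.Def_DCoh4
import Groth.Agent.Lib.Helper16.KD1
import Groth.Agent.Lib.Helper16.PB2

/-!
# Helper16 — KD2: the derived pullback exists and is computed on K-flat complexes
-/

set_option autoImplicit false
universe u
open CategoryTheory CategoryTheory.Limits AlgebraicGeometry

attribute [local instance] HasDerivedCategory.standard

namespace Groth.Agent.Lib.Helper16.KD

variable {X Y : Scheme.{u}} (f : X ⟶ Y)

lemma isIso_Qh_quot_map {X : Scheme.{u}} {K L : CochainComplex X.Modules ℤ} (t : K ⟶ L)
    [QuasiIso t] : IsIso (DerivedCategory.Qh.map ((quot X).map t)) :=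
  Localization.inverts DerivedCategory.Qh (qisH X) _
    ((HomotopyCategory.quotient_map_mem_quasiIso_iff t).2
      ((HomologicalComplex.mem_quasiIso_iff t).2 inferInstance))

lemma invertsKFlat_pullKh : InvertsKFlat (quot Y ⋙ DCoh.pullKh f) := by
  intro P P' s hP hP' hs
  haveI := hs
  haveI := Stk.quasiIso_pullback_map_of_isKFlat f s hP hP'
  exact isIso_Qh_quot_map
    (((Scheme.Modules.pullback f).mapHomologicalComplex (ComplexShape.up ℤ)).map s)

/-- **the derived pullback exists.** -/
theorem hasLpull : DCoh.HasLpull f := hasLeftDerivedFunctor_h (invertsKFlat_pullKh f)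

end Groth.Agent.Lib.Helper16.KD
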