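import Mathlib
import Groth.Prelude.Def_DCoh4
import Groth.Agent.Lib.Helper16.KD2

/-!
# Helper16 — KD3: values of the derived pullback on K-flat complexes; composition
-/

set_option autoImplicit false
universe u
open CategoryTheory CategoryTheory.Limits AlgebraicGeometry

attribute [local instance] HasDerivedCategory.standard

namespace Groth.Agent.Lib.Helper16.KD

section Value

variable {X Y : Scheme.{u}} (f : X ⟶ Y) [DCoh.HasLpull f]

/-- termwise pullback of complexes. -/
noncomputable abbrev pullCx : CochainComplex Y.Modules ℤ ⥤ CochainComplex X.Modules ℤ :=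
  (Scheme.Modules.pullback f).mapHomologicalComplex (ComplexShape.up ℤ)

/-- the counit of the derived pullback. -/
noncomputable abbrev LpullCounit : DerivedCategory.Qh ⋙ DCoh.Lpull f ⟶ DCoh.pullKh f :=
  (DCoh.pullKh f).totalLeftDerivedCounit DerivedCategory.Qh (qisH Y)

lemma isIso_LpullCounit_app (P : CochainComplex Y.Modules ℤ) (hP : DCoh.IsKFlat P) :
    IsIso ((LpullCounit f).app ((quot Y).obj P)) :=
  isIso_app_h_of_isKFlat (invertsKFlat_pullKh f) (LpullCounit f) P hP

/-- **the derived pullback of a K-flat complex is its termwise pullback.** -/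
noncomputable def LpullIso (P : CochainComplex Y.Modules ℤ) (hP : DCoh.IsKFlat P) :
    (DCoh.Lpull f).obj (DerivedCategory.Q.obj P) ≅ DerivedCategory.Q.obj ((pullCx f).obj P) :=
  @asIso _ _ _ _ ((LpullCounit f).app ((quot Y).obj P)) (isIso_LpullCounit_app f P hP)

end Value

section Comp

variable {X Y Z : Scheme.{u}} (f : X ⟶ Y) (g : Y ⟶ Z)

/-- `f^* g^* P ≅ (f ≫ g)^* P` on complexes. -/
noncomputable def pullCompIso (P : CochainComplex Z.Modules ℤ) :
    (pullCx f).obj ((pullCx g).obj P) ≅ (pullCx (f ≫ g)).obj P :=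
  (NatIso.mapHomologicalComplex (Scheme.Modules.pullbackComp f g) (ComplexShape.up ℤ)).app P

lemma pullCompIso_naturality {P P' : CochainComplex Z.Modules ℤ} (s : P ⟶ P') :
    (pullCx f).map ((pullCx g).map s) ≫ (pullCompIso f g P').hom =
      (pullCompIso f g P).hom ≫ (pullCx (f ≫ g)).map s :=
  (NatIso.mapHomologicalComplex (Scheme.Modules.pullbackComp f g) (ComplexShape.up ℤ)).hom.naturality s

/-- the comparison `quot ⋙ (g^*)_h ⋙ (f^*)_h ⋙ Qh ≅ quot ⋙ ((f ≫ g)^*)_h ⋙ Qh`. -/
noncomputable def pullKhCompIso :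
    quot Z ⋙ (Scheme.Modules.pullback g).mapHomotopyCategory (ComplexShape.up ℤ) ⋙ DCoh.pullKh f ≅
      quot Z ⋙ DCoh.pullKh (f ≫ g) :=
  NatIso.ofComponents (fun P => DerivedCategory.Q.mapIso (pullCompIso f g P)) (fun {P P'} s => by
    change DerivedCategory.Q.map ((pullCx f).map ((pullCx g).map s)) ≫
      DerivedCategory.Q.map (pullCompIso f g P').hom =
        DerivedCategory.Q.map (pullCompIso f g P).hom ≫
          DerivedCategory.Q.map ((pullCx (f ≫ g)).map s)
    rw [← Functor.map_comp, ← Functor.map_comp, pullCompIso_naturality])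

variable [DCoh.HasLpull f] [DCoh.HasLpull g]

/-- the natural transformation exhibiting `Lg^* ⋙ Lf^*` as a left derived functor of
`(f ≫ g)^*`. -/
noncomputable def LpullCompCounit :
    (quot Z ⋙ DerivedCategory.Qh) ⋙ (DCoh.Lpull g ⋙ DCoh.Lpull f) ⟶
      quot Z ⋙ DCoh.pullKh (f ≫ g) :=
  Functor.whiskerLeft (quot Z)
    ((Functor.whiskerRight (LpullCounit g) (DCoh.Lpull f) :
        (DerivedCategory.Qh ⋙ DCoh.Lpull g) ⋙ DCoh.Lpull f ⟶ DCoh.pullKh g ⋙ DCoh.Lpull f) ≫
      (Functor.whiskerLeft ((Scheme.Modules.pullback g).mapHomotopyCategory (ComplexShape.up ℤ))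
        (LpullCounit f))) ≫ (pullKhCompIso f g).hom

lemma LpullCompCounit_app (P : CochainComplex Z.Modules ℤ) :
    (LpullCompCounit f g).app P =
      ((DCoh.Lpull f).map ((LpullCounit g).app ((quot Z).obj P)) ≫
        (LpullCounit f).app ((quot Y).obj ((pullCx g).obj P))) ≫
          DerivedCategory.Q.map (pullCompIso f g P).hom := rfl

lemma isIso_LpullCompCounit_app (P : CochainComplex Z.Modules ℤ) (hP : DCoh.IsKFlat P) :
    IsIso ((LpullCompCounit f g).app P) := by
  rw [LpullCompCounit_app]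
  haveI h0 := isIso_LpullCounit_app g P hP
  have h1 : IsIso ((DCoh.Lpull f).map ((LpullCounit g).app ((quot Z).obj P))) :=
    Functor.map_isIso _ _
  have h2 := isIso_LpullCounit_app f ((pullCx g).obj P) (Stk.pullback_isKFlat g P hP)
  have h3 : IsIso (DerivedCategory.Q.map (pullCompIso f g P).hom) := inferInstance
  exact @IsIso.comp_isIso _ _ _ _ _ _ _ (@IsIso.comp_isIso _ _ _ _ _ _ _ h1 h2) h3

variable [DCoh.HasLpull (f ≫ g)]

/-- **`Lf^* ∘ Lg^* ≅ L(f ≫ g)^*`.** -/
noncomputable def LpullCompIso : DCoh.Lpull g ⋙ DCoh.Lpull f ≅ DCoh.Lpull (f ≫ g) := by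
  haveI h1 : (DCoh.Lpull g ⋙ DCoh.Lpull f).IsLeftDerivedFunctor (LpullCompCounit f g) (qis Z) :=
    isLeftDerivedFunctor_of_isIso (invertsKFlat_pullKh (f ≫ g)) (LpullCompCounit f g)
      (fun P hP => isIso_LpullCompCounit_app f g P hP)
  haveI h2 : (DCoh.Lpull (f ≫ g)).IsLeftDerivedFunctor
      (LD.whiskerQ (quot Z) (DCoh.Lpull (f ≫ g)) (LpullCounit (f ≫ g))) (qis Z) :=
    (LD.isLeftDerivedFunctor_whiskerQ_iff (quot Z)
      (HomologicalComplex.homotopyEquivalences Z.Modules (ComplexShape.up ℤ))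
      DerivedCategory.Qh (qisH Z) (qis Z) (DCoh.Lpull (f ≫ g)) (LpullCounit (f ≫ g))).2
      inferInstance
  exact Functor.leftDerivedUnique (DCoh.Lpull (f ≫ g)) (DCoh.Lpull g ⋙ DCoh.Lpull f)
    (LpullCompCounit f g)
    (LD.whiskerQ (quot Z) (DCoh.Lpull (f ≫ g)) (LpullCounit (f ≫ g))) (qis Z)

end Comp

end Groth.Agent.Lib.Helper16.KD
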