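import Mathlib
import Groth.Prelude.Def_DCoh4
import Groth.Agent.Lib.Helper16.KD3

/-!
# Helper16 — KD4: `- ⊗^L M` for a module `M`: existence and values on K-flat complexes
-/

set_option autoImplicit false
universe u
open CategoryTheory CategoryTheory.Limits AlgebraicGeometry MonoidalCategory

attribute [local instance] HasDerivedCategory.standard

namespace Groth.Agent.Lib.Helper16.KD

open Groth.Agent.Lib.Helper16.BiCx Groth.Agent.Lib.Helper16.Stk

variable {X : Scheme.{u}} (M : X.Modules)

/-- termwise `- ⊗ M` on complexes. -/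
noncomputable abbrev tensModCx : CochainComplex X.Modules ℤ ⥤ CochainComplex X.Modules ℤ :=
  (DCoh.tensorRightMod M).mapHomologicalComplex (ComplexShape.up ℤ)

/-- the stalk of `N ⊗ M`, naturally in `N`. -/
noncomputable def tensorRightModStkIso (x : X) :
    DCoh.tensorRightMod M ⋙ stk x ≅ stk x ⋙ tensorRight ((stk x).obj M) :=
  NatIso.ofComponents (fun N => (stalkTensorIso x N M).symm) (fun {N N'} g => by
    change (stk x).map ((DCoh.tensorBi.map g).app M) ≫ (stalkTensorIso x N' M).inv =
      (stalkTensorIso x N M).inv ≫ ((stk x).map g ▷ (stk x).obj M)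
    rw [Iso.comp_inv_eq, Category.assoc, Iso.eq_inv_comp]
    exact (stalkTensorIso_natL x g M).symm)

/-- the complex of stalks of `C ⊗ M`. -/
noncomputable def tensModCxStkIso (x : X) (C : CochainComplex X.Modules ℤ) :
    stkCx x ((tensModCx M).obj C) ≅
      (Groth.Agent.Lib.Helper16.TorAmp.tensCx ((stk x).obj M)).obj (stkCx x C) :=
  (NatIso.mapHomologicalComplex (tensorRightModStkIso M x) (ComplexShape.up ℤ)).app C

/-- **an acyclic K-flat complex tensored (termwise) with a module is acyclic.** -/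
theorem acyc_tensModCx_of_acyc_of_isKFlat (C : CochainComplex X.Modules ℤ) (hC : Acyc C)
    (hK : DCoh.IsKFlat C) : Acyc ((tensModCx M).obj C) := by
  rw [acyc_iff_forall_stalk]
  intro x
  refine Acyc.of_iso ?_ (tensModCxStkIso M x C).symm
  exact ring_acyc_tensCx_of_acyc_of_isKFlat _ ((acyc_iff_forall_stalk C).1 hC x)
    (stalk_isKFlat_of_isKFlat x C hK) _

/-- **termwise `- ⊗ M` sends quasi-isomorphisms between K-flat complexes to
quasi-isomorphisms.** -/
theorem quasiIso_tensModCx_map_of_isKFlat {P Q : CochainComplex X.Modules ℤ} (α : P ⟶ Q)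
    [QuasiIso α] (hP : DCoh.IsKFlat P) (hQ : DCoh.IsKFlat Q) :
    QuasiIso ((tensModCx M).map α) :=
  quasiIso_mapHC_of_acyc_cylSC (DCoh.tensorRightMod M) α
    (acyc_tensModCx_of_acyc_of_isKFlat M _ (acyc_cylSC_X₃ α)
      (isKFlatR_cylSC_X₃ (DCoh.tensorBi (X := X)) α hP hQ))

lemma invertsKFlat_tensorModKh : InvertsKFlat (quot X ⋙ DCoh.tensorModKh M) := by
  intro P P' s hP hP' hs
  haveI := hs
  haveI := quasiIso_tensModCx_map_of_isKFlat M s hP hP'
  exact isIso_Qh_quot_map ((tensModCx M).map s)

/-- **`- ⊗^L M` exists.** -/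
theorem hasLTensorMod : DCoh.HasLTensorMod M := hasLeftDerivedFunctor_h (invertsKFlat_tensorModKh M)

variable [DCoh.HasLTensorMod M]

/-- the counit of `- ⊗^L M`. -/
noncomputable abbrev LTensorModCounit : DerivedCategory.Qh ⋙ DCoh.LTensorMod M ⟶ DCoh.tensorModKh M :=
  (DCoh.tensorModKh M).totalLeftDerivedCounit DerivedCategory.Qh (qisH X)

lemma isIso_LTensorModCounit_app (P : CochainComplex X.Modules ℤ) (hP : DCoh.IsKFlat P) :
    IsIso ((LTensorModCounit M).app ((quot X).obj P)) :=
  isIso_app_h_of_isKFlat (invertsKFlat_tensorModKh M) (LTensorModCounit M) P hP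

/-- **`P ⊗^L M` is the termwise tensor product for K-flat `P`.** -/
noncomputable def LTensorModIso (P : CochainComplex X.Modules ℤ) (hP : DCoh.IsKFlat P) :
    (DCoh.LTensorMod M).obj (DerivedCategory.Q.obj P) ≅
      DerivedCategory.Q.obj ((tensModCx M).obj P) :=
  @asIso _ _ _ _ ((LTensorModCounit M).app ((quot X).obj P)) (isIso_LTensorModCounit_app M P hP)

end Groth.Agent.Lib.Helper16.KD
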