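import Mathlib
import Groth.Prelude.Def_DCoh4
import Groth.Prelude.Def_DerSch
import Groth.Prelude.Def_KFlatSite
import Groth.Prelude.Def_FlatMod2
import Groth.Agent.Lib.Helper16.Stk5
import Groth.Agent.Lib.Helper16.KF8

/-!
# Helper16 — Stk6: bounded above complexes of flat `O_X`-modules are K-flat
-/

set_option autoImplicit false
universe u
open CategoryTheory CategoryTheory.Limits TopologicalSpace Opposite AlgebraicGeometry
  MonoidalCategory

namespace Groth.Agent.Lib.Helper16.Stk

variable {X : Scheme.{u}}

theorem isKFlat_of_boundedAbove_flat (K : CochainComplex X.Modules ℤ) (b : ℤ)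
    (hb : K.IsStrictlyLE b) (hflat : ∀ n : ℤ, FlatMod.IsFlat (K.X n)) : DCoh.IsKFlat K := by
  apply isKFlat_of_forall_stalk
  intro x
  refine Groth.Agent.Lib.Helper16.KF.isKFlat_of_boundedAbove (stkCx x K) b (fun i hi => ?_)
    (fun i => hflat i x)
  exact (stk x).map_isZero (K.isZero_of_isStrictlyLE b i hi)

end Groth.Agent.Lib.Helper16.Stk
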