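import Mathlib
import Groth.Prelude.Def_DTor2
import Groth.Agent.Lib.Helper16.KD4
import Groth.Agent.Lib.Helper16.Stk6

/-!
# Helper16 — KD5: tor-amplitude of bounded flat complexes
-/

set_option autoImplicit false
universe u
open CategoryTheory CategoryTheory.Limits AlgebraicGeometry MonoidalCategory

attribute [local instance] HasDerivedCategory.standard

namespace Groth.Agent.Lib.Helper16.KD

open Groth.Agent.Lib.Helper16.BiCx Groth.Agent.Lib.Helper16.Stk

variable {X : Scheme.{u}}

/-- `H^i(Q K) ≅ H^i(K)`. -/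
noncomputable def HDQIso (K : CochainComplex X.Modules ℤ) (i : ℤ) :
    DCoh.HD (DerivedCategory.Q.obj K) i ≅ K.homology i :=
  (DerivedCategory.homologyFunctorFactors X.Modules i).app K

lemma isZero_HD_Q_of_isZero_X (K : CochainComplex X.Modules ℤ) (i : ℤ) (h : IsZero (K.X i)) :
    IsZero (DCoh.HD (DerivedCategory.Q.obj K) i) :=
  IsZero.of_iso ((HomologicalComplex.exactAt_iff_isZero_homology K i).1
    (HomologicalComplex.ExactAt.of_isZero h)) (HDQIso K i)

/-- a complex of flat modules vanishing outside `[a, b]` is K-flat. -/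
lemma isKFlat_of_vanishesOutside_flat (E : CochainComplex X.Modules ℤ) (a b : ℤ)
    (hv : DCoh.VanishesOutside E a b) (hfl : ∀ i : ℤ, FlatMod.IsFlat (E.X i)) : DCoh.IsKFlat E :=
  isKFlat_of_boundedAbove_flat E b
    ((CochainComplex.isStrictlyLE_iff E b).2 (fun i hi => hv i (Or.inr hi))) hfl

/-- **a K-flat complex vanishing outside `[a, b]` has tor-amplitude in `[a, b]`.** -/
theorem hasTorAmplitudeIn_of_isKFlat_of_vanishesOutside (E : CochainComplex X.Modules ℤ) (a b : ℤ)
    (hv : DCoh.VanishesOutside E a b) (hK : DCoh.IsKFlat E) {K : DCoh.D X}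
    (e : DCoh.toD X E ≅ K) : DCoh.HasTorAmplitudeIn a b K := by
  intro F _ i hi
  refine IsZero.of_iso ?_ ((DerivedCategory.homologyFunctor _ i).mapIso
    ((DCoh.LTensorMod F).mapIso e.symm ≪≫ LTensorModIso F E hK))
  exact isZero_HD_Q_of_isZero_X _ i ((DCoh.tensorRightMod F).map_isZero (hv i hi))

/-- **flat amplitude implies tor-amplitude.** -/
theorem hasTorAmplitudeIn_of_hasFlatAmplitudeIn {K : DCoh.D X} (a b : ℤ)
    (h : DCoh.HasFlatAmplitudeIn a b K) : DCoh.HasTorAmplitudeIn a b K := by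
  obtain ⟨E, hv, hfl, ⟨e⟩⟩ := h
  exact hasTorAmplitudeIn_of_isKFlat_of_vanishesOutside E a b hv
    (isKFlat_of_vanishesOutside_flat E a b hv hfl) e

end Groth.Agent.Lib.Helper16.KD
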