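import Mathlib
import Groth.Prelude.Def_DTor2
import Groth.Agent.Lib.Helper16.KD5
import Groth.Agent.Lib.Helper16.TorAmp4
import Groth.Agent.Lib.Helper16.KPR5

/-!
# Helper16 — KD6: flatness of cokernels from vanishing of Tor
-/

set_option autoImplicit false
universe u
open CategoryTheory CategoryTheory.Limits AlgebraicGeometry MonoidalCategory

attribute [local instance] HasDerivedCategory.standard

namespace Groth.Agent.Lib.Helper16.KD

open Groth.Agent.Lib.Helper16.BiCx Groth.Agent.Lib.Helper16.Stk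

lemma exactAt_mapHC {A B : Type*} [Category A] [Abelian A] [Category B] [Abelian B]
    (F : A ⥤ B) [F.Additive] [F.PreservesHomology] (K : CochainComplex A ℤ) (i : ℤ)
    (h : K.ExactAt i) : ((F.mapHomologicalComplex (ComplexShape.up ℤ)).obj K).ExactAt i := by
  rw [HomologicalComplex.exactAt_iff_isZero_homology] at h ⊢
  exact IsZero.of_iso (F.map_isZero h) ((K.sc i).mapHomologyIso F)

variable {X : Scheme.{u}}

/-- **flatness of the cokernel of `E^(a-1) → E^a` from exactness of all `E ⊗ G` in degree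
`a - 1`.** -/
theorem isFlat_cokernel_of_exactAt (E : CochainComplex X.Modules ℤ) (a : ℤ)
    (hfl : FlatMod.IsFlat (E.X a))
    (h : ∀ G : X.Modules, ((tensModCx G).obj E).ExactAt (a - 1)) :
    FlatMod.IsFlat (cokernel (E.d (a - 1) a)) := by
  intro x
  have hN : ∀ N : ModuleCat.{u} (X.presheaf.stalk x),
      ((Groth.Agent.Lib.Helper16.TorAmp.tensCx N).obj (stkCx x E)).ExactAt (a - 1) := by
    intro N
    have h1 := h ((skyFunctor x).obj N)
    have h2 := exactAt_mapHC (stk x) _ (a - 1) h1
    have h3 := h2.of_iso (tensModCxStkIso ((skyFunctor x).obj N) x E)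
    exact (Groth.Agent.Lib.Helper16.KPR.exactAt_tensCx_of_iso ((skyStalkIso x).app N) _ _).1 h3
  have key := Groth.Agent.Lib.Helper16.TorAmp.flat_coker_of_exactAt_tensCx (stkCx x E) a (hfl x)
    ((hN (𝟙_ _)).of_iso (Groth.Agent.Lib.Helper16.TorAmp.tensCxUnitIso _)) hN
  let e1 : (stk x).obj (cokernel (E.d (a - 1) a)) ≅ cokernel ((stk x).map (E.d (a - 1) a)) :=
    PreservesCokernel.iso (stk x) (E.d (a - 1) a)
  let e2 := ModuleCat.cokernelIsoRangeQuotient ((stk x).map (E.d (a - 1) a))
  change Module.Flat (X.presheaf.stalk x) ((stk x).obj (cokernel (E.d (a - 1) a)))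
  haveI : Module.Flat (X.presheaf.stalk x)
      (ModuleCat.of (X.presheaf.stalk x) ((stk x).obj (E.X a) ⧸
        (ModuleCat.Hom.hom ((stk x).map (E.d (a - 1) a))).range)) := key
  exact Module.Flat.of_linearEquiv (e1 ≪≫ e2).toLinearEquiv

end Groth.Agent.Lib.Helper16.KD
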