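import Mathlib
import Groth.Prelude.Def_KFlatSite
import Groth.Prelude.Def_DRing4
import Groth.Agent.Lib.Helper16.LTC2
import Groth.Agent.Lib.Helper16.TorAmp4
import Groth.Agent.Lib.Helper16.FlatKer

/-!
# Helper16 — LTC3: tor amplitude `≥ a` and K-flat representatives vanishing below `a`
-/

set_option autoImplicit false

open CategoryTheory CategoryTheory.Limits MonoidalCategory

namespace Groth.Agent.Lib.Helper16.KF

universe u

open DerivedCategory

attribute [local instance] HasDerivedCategory.standard

variable {R : Type u} [CommRing R]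

/-- a quasi-isomorphism between K-flat complexes stays one after tensoring (termwise) with a
module. -/
lemma quasiIso_tensCx_map_of_isKFlat {P Q : Cx R} (hP : DRing.IsKFlat R P) (hQ : DRing.IsKFlat R Q)
    (α : P ⟶ Q) [QuasiIso α] (M : ModuleCat.{u} R) : QuasiIso ((TorAmp.tensCx M).map α) := by
  haveI := quasiIso_whiskerRight_of_isKFlat_of_isKFlat hP hQ α
    ((CochainComplex.singleFunctor (ModuleCat.{u} R) 0).obj M)
  have h := tensorSingleIso_hom_naturality α M
  have h' : (TorAmp.tensCx M).map α = (tensorSingleIso P M).hom ≫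
      (α ▷ (CochainComplex.singleFunctor (ModuleCat.{u} R) 0).obj M) ≫
        (tensorSingleIso Q M).inv := by
    rw [← Category.assoc, ← h, Category.assoc, Iso.hom_inv_id, Category.comp_id]
  rw [h']
  infer_instance

/-- the cohomology of `M ⊗^L K` is computed termwise on a K-flat resolution of `K`. -/
lemma subsingleton_HD_LTensorCx_single_iff (K : Cx R) [DRing.HasLTensorCx R K] {F : Cx R}
    (f : F ⟶ K) [QuasiIso f] (hF : DRing.IsKFlat R F) (M : ModuleCat.{u} R) (i : ℤ) :
    Subsingleton (Dual.HD R ((DRing.LTensorCx R K).obj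
      (DRing.toD ((CochainComplex.singleFunctor (ModuleCat.{u} R) 0).obj M))) i) ↔
      ((TorAmp.tensCx M).obj F).ExactAt i := by
  obtain ⟨P, p, hPproj, -, hPflat, hp⟩ := exists_kprojective_kflat_quasiIso
    ((CochainComplex.singleFunctor (ModuleCat.{u} R) 0).obj M)
  haveI := hPproj
  haveI := hp
  rw [subsingleton_HD_LTensorCx_iff K p i, exactAt_tensor_iff_of_resolutions p hPflat f hF i,
    exactAt_iff_of_iso (DTen.braidCx _ F) i, ← exactAt_iff_of_iso (tensorSingleIso F M) i]

namespace SubCx

/-- the kernel of `F → τ_{≥ a} F`: everything below `a`, the boundaries in degree `a`. -/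
noncomputable def bdT (F : Cx R) (a : ℤ) : SubCx F where
  S i := if i < a then ⊤ else if i = a then LinearMap.range (F.d (i - 1) i).hom else ⊥
  d_mem i j x hx := by
    by_cases hij : i + 1 = j
    · subst hij
      by_cases h1 : i + 1 < a
      · rw [if_pos h1]; trivial
      · by_cases h2 : i + 1 = a
        · rw [if_neg h1, if_pos h2]
          have h3 : i + 1 - 1 = i := by omega
          rw [h3]
          exact ⟨x, rfl⟩
        · by_cases h4 : i = a
          · rw [if_neg (by omega), if_pos h4] at hx
            obtain ⟨y, rfl⟩ := hx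
            rw [← ModuleCat.comp_apply, F.d_comp_d]
            exact Submodule.zero_mem _
          · rw [if_neg (by omega), if_neg h4] at hx
            rw [(Submodule.mem_bot R).1 hx, map_zero]
            exact Submodule.zero_mem _
    · have : ¬ (ComplexShape.up ℤ).Rel i j := by
        simp only [ComplexShape.up_Rel]
        exact hij
      rw [F.shape i j this]
      exact Submodule.zero_mem _

lemma bdT_S_of_lt (F : Cx R) (a i : ℤ) (h : i < a) : (bdT F a).S i = ⊤ := if_pos h

lemma bdT_S_of_gt (F : Cx R) (a i : ℤ) (h : a < i) : (bdT F a).S i = ⊥ := by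
  change (if i < a then ⊤ else if i = a then LinearMap.range (F.d (i - 1) i).hom else ⊥) = ⊥
  rw [if_neg (by omega), if_neg (by omega)]

lemma bdT_S_self (F : Cx R) (a : ℤ) : (bdT F a).S a = LinearMap.range (F.d (a - 1) a).hom := by
  change (if a < a then ⊤ else if a = a then LinearMap.range (F.d (a - 1) a).hom else ⊥) = _
  rw [if_neg (by omega), if_pos rfl]

/-- the kernel of `F → τ_{≥ a} F` is acyclic when `F` is exact below `a`. -/
lemma acyc_bdT_cx (F : Cx R) (a : ℤ) (hF : ∀ i, i < a → F.ExactAt i) : Acyc (bdT F a).cx := by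
  intro j
  rw [← HomologicalComplex.exactAt_iff_isZero_homology,
    TorAmp.exactAt_iff_function_exact _ (j - 1) j (j + 1) (by omega) rfl]
  intro y
  constructor
  · intro hy
    have hy' : (F.d j (j + 1)).hom y.1 = 0 := congr_arg Subtype.val hy
    by_cases h1 : j < a
    · have hex := (TorAmp.exactAt_iff_function_exact F (j - 1) j (j + 1) (by omega) rfl).1 (hF j h1)
      obtain ⟨x, hx⟩ := (hex y.1).1 hy'
      exact ⟨⟨x, by rw [bdT_S_of_lt F a (j - 1) (by omega)]; trivial⟩, Subtype.ext hx⟩
    · by_cases h2 : j = a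
      · subst h2
        have hy2 : y.1 ∈ LinearMap.range (F.d (j - 1) j).hom := bdT_S_self F j ▸ y.2
        obtain ⟨x, hx⟩ := hy2
        exact ⟨⟨x, by rw [bdT_S_of_lt F j (j - 1) (by omega)]; trivial⟩, Subtype.ext hx⟩
      · have hy2 : y.1 ∈ (⊥ : Submodule R (F.X j)) := bdT_S_of_gt F a j (by omega) ▸ y.2
        exact ⟨0, by rw [map_zero]; exact Subtype.ext ((Submodule.mem_bot R).1 hy2).symm⟩
  · rintro ⟨x, rfl⟩
    rw [← LinearMap.comp_apply, ← ModuleCat.hom_comp, (bdT F a).cx.d_comp_d]
    rfl

end SubCx

/-- **Tor amplitude in `[a, ∞)`** is equivalent to the existence of a K-flat representative with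
flat terms vanishing below `a`. -/
theorem torAmp_ge_iff_exists_kflat (a : ℤ) (K : Cx R) [DRing.HasLTensorCx R K] :
    (∀ (M : ModuleCat.{u} R) (i : ℤ), i < a →
        Subsingleton (Dual.HD R ((DRing.LTensorCx R K).obj
          (DRing.toD ((CochainComplex.singleFunctor (ModuleCat.{u} R) 0).obj M))) i)) ↔
      ∃ E : Cx R, DRing.IsKFlat R E ∧ DRing.TermwiseFlat E ∧ (∀ i : ℤ, i < a → IsZero (E.X i)) ∧
        Nonempty (DRing.toD E ≅ DRing.toD K) := by
  constructor
  · intro h
    obtain ⟨F, f, hFproj, hFp, hFflat, hf⟩ := exists_kprojective_kflat_quasiIso K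
    haveI := hf
    have hFt : DRing.TermwiseFlat F := KPR.termwiseFlat_of_projective F hFp
    -- exactness of `F ⊗ M` below `a`
    have hex : ∀ (M : ModuleCat.{u} R) (i : ℤ), i < a → ((TorAmp.tensCx M).obj F).ExactAt i :=
      fun M i hi => (subsingleton_HD_LTensorCx_single_iff K f hFflat M i).1 (h M i hi)
    have hex0 : ∀ i, i < a → F.ExactAt i := fun i hi =>
      (exactAt_iff_of_iso (TorAmp.tensCxUnitIso F) i).1 (hex _ i hi)
    let T := SubCx.bdT F a
    have hacyc : Acyc T.cx := SubCx.acyc_bdT_cx F a hex0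
    -- flatness of the quotient
    have hEflat : DRing.TermwiseFlat T.quot := by
      intro i
      by_cases h1 : i < a
      · haveI := hFt i
        exact SubCx.flat_quot_X T i (Or.inl (SubCx.bdT_S_of_lt F a i h1))
      · by_cases h2 : i = a
        · subst h2
          haveI := TorAmp.flat_coker_of_exactAt_tensCx F i (hFt i) (hex0 (i - 1) (by omega))
            (fun M => hex M (i - 1) (by omega))
          exact Module.Flat.of_linearEquiv
            (Submodule.quotEquivOfEq _ _ (SubCx.bdT_S_self F i))
        · haveI := hFt i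
          exact SubCx.flat_quot_X T i (Or.inr (SubCx.bdT_S_of_gt F a i (by omega)))
    -- flatness of the terms of the subcomplex
    have hTflat : DRing.TermwiseFlat T.cx := by
      intro i
      by_cases h2 : i = a
      · subst h2
        haveI := hFt i
        haveI : Module.Flat R (F.X i ⧸ T.S i) := hEflat i
        exact FlatKer.flat_of_exact (T.S i).subtype (T.S i).mkQ (Submodule.injective_subtype _)
          (Submodule.mkQ_surjective _) (LinearMap.exact_subtype_mkQ _)
      · haveI := hFt i
        refine SubCx.flat_cx_X T i ?_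
        by_cases h1 : i < a
        · exact Or.inl (SubCx.bdT_S_of_lt F a i h1)
        · exact Or.inr (SubCx.bdT_S_of_gt F a i (by omega))
    have hTK : DRing.IsKFlat R T.cx := isKFlat_of_boundedAbove T.cx a
      (fun i hi => SubCx.isZero_cx_X T i (SubCx.bdT_S_of_gt F a i hi)) hTflat
    have hEK : DRing.IsKFlat R T.quot := fun L hL =>
      acyc_X₃ (shortExact_whiskerLeft_of_flat₃ L T.sc_shortExact hEflat) (hTK L hL) (hFflat L hL)
    haveI : QuasiIso T.π := quasiIso_g_of_acyc_X₁ (S := T.sc) T.sc_shortExact hacyc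
    haveI : IsIso (Q.map T.π) := by rw [isIso_Q_map_iff_quasiIso]; infer_instance
    haveI : IsIso (Q.map f) := by rw [isIso_Q_map_iff_quasiIso]; infer_instance
    exact ⟨T.quot, hEK, hEflat,
      fun i hi => SubCx.isZero_quot_X T i (SubCx.bdT_S_of_lt F a i hi),
      ⟨(asIso (Q.map T.π)).symm ≪≫ asIso (Q.map f)⟩⟩
  · rintro ⟨E, hEK, hEflat, hEz, ⟨e⟩⟩ M i hi
    obtain ⟨E', e', hE'proj, -, hE'flat, he'⟩ := exists_kprojective_kflat_quasiIso E
    haveI := hE'proj
    haveI := he'
    obtain ⟨g, hg⟩ := KPR.exists_map_of_isKProjective E' K (Q.map e' ≫ e.hom)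
    haveI : IsIso (Q.map e') := by rw [isIso_Q_map_iff_quasiIso]; infer_instance
    haveI : QuasiIso g := by rw [← isIso_Q_map_iff_quasiIso, hg]; infer_instance
    rw [subsingleton_HD_LTensorCx_single_iff K g hE'flat M i]
    have hq := quasiIso_tensCx_map_of_isKFlat hE'flat hEK e' M
    haveI : QuasiIsoAt ((TorAmp.tensCx M).map e') i := hq.quasiIsoAt i
    rw [exactAt_iff_of_quasiIsoAt ((TorAmp.tensCx M).map e') i]
    apply exactAt_of_isZero_X
    exact (tensorRight M).map_isZero (hEz i hi)

end Groth.Agent.Lib.Helper16.KF
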