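import Mathlib
import Groth.Prelude.Def_DTor2
import Groth.Agent.Lib.Helper16.KD6
import Groth.Agent.Lib.Helper16.GlobPerf
import Groth.Agent.Lib.Helper16.LTC3
import Groth.Agent.Lib.Helper16.FlatKer
import Groth.Agent.Lib.Helper16.CycProp

/-!
# Helper16 — KD7: bounded above flat resolutions of cohomologically bounded above complexes
-/

set_option autoImplicit false
universe u
open CategoryTheory CategoryTheory.Limits AlgebraicGeometry MonoidalCategory

attribute [local instance] HasDerivedCategory.standard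

namespace Groth.Agent.Lib.Helper16.KD

open Groth.Agent.Lib.Helper16.BiCx Groth.Agent.Lib.Helper16.Stk

section Ring

variable {R : Type u} [CommRing R]

/-- ring level: if a K-flat complex is exact in degrees `> b`, so are its tensor products with
all modules. -/
lemma ring_exactAt_tensCx_of_isKFlat (C : DRing.Cx R) (hC : DRing.IsKFlat R C) (b : ℤ)
    (hex : ∀ i : ℤ, b < i → C.ExactAt i) (N : ModuleCat.{u} R) (i : ℤ) (hi : b < i) :
    ((Groth.Agent.Lib.Helper16.TorAmp.tensCx N).obj C).ExactAt i := by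
  obtain ⟨L, p, hLproj, -, hLflat, hp⟩ :=
    Groth.Agent.Lib.Helper16.KF.exists_kprojective_kflat_quasiIso C
  haveI := hLproj
  haveI := hp
  have hb : (DerivedCategory.Q.obj L).IsLE b := by
    rw [DerivedCategory.isLE_Q_obj_iff, CochainComplex.isLE_iff]
    intro j hj
    haveI : QuasiIsoAt p j := hp.quasiIsoAt j
    exact (exactAt_iff_of_quasiIsoAt p j).2 (hex j hj)
  have h1 := Groth.Agent.Lib.Helper16.KPR.exactAt_tensCx_of_isLE L b hb N i hi
  have hq := Groth.Agent.Lib.Helper16.KF.quasiIso_tensCx_map_of_isKFlat hLflat hC p N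
  haveI : QuasiIsoAt ((Groth.Agent.Lib.Helper16.TorAmp.tensCx N).map p) i := hq.quasiIsoAt i
  exact (exactAt_iff_of_quasiIsoAt ((Groth.Agent.Lib.Helper16.TorAmp.tensCx N).map p) i).1 h1

end Ring

variable {X : Scheme.{u}}

lemma exactAt_iff_forall_stalk (K : CochainComplex X.Modules ℤ) (i : ℤ) :
    K.ExactAt i ↔ ∀ x : X, (stkCx x K).ExactAt i := by
  have e : ∀ x : X, (stkCx x K).homology i ≅ (stk x).obj (K.homology i) :=
    fun x => (K.sc i).mapHomologyIso (stk x)
  simp only [HomologicalComplex.exactAt_iff_isZero_homology]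
  constructor
  · intro h x
    exact IsZero.of_iso ((stk x).map_isZero h) (e x)
  · intro h
    exact isZero_of_forall_isZero_stalk _ (fun x => IsZero.of_iso (h x) (e x).symm)

/-- **if a K-flat complex of `O_X`-modules is exact in degrees `> b`, so are its tensor products
with all modules.** -/
theorem exactAt_tensModCx_of_isKFlat (P : CochainComplex X.Modules ℤ) (hP : DCoh.IsKFlat P)
    (b : ℤ) (hex : ∀ i : ℤ, b < i → P.ExactAt i) (G : X.Modules) (i : ℤ) (hi : b < i) :
    ((tensModCx G).obj P).ExactAt i := by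
  rw [exactAt_iff_forall_stalk]
  intro x
  refine HomologicalComplex.ExactAt.of_iso ?_ (tensModCxStkIso G x P).symm
  exact ring_exactAt_tensCx_of_isKFlat _ (stalk_isKFlat_of_isKFlat x P hP) b
    (fun j hj => (exactAt_iff_forall_stalk P j).1 (hex j hj) x) _ i hi

lemma isFlat_cokernel_of_exactAt' (E : CochainComplex X.Modules ℤ) (i j : ℤ) (hij : i + 1 = j)
    (hfl : FlatMod.IsFlat (E.X j))
    (h : ∀ G : X.Modules, ((tensModCx G).obj E).ExactAt i) :
    FlatMod.IsFlat (cokernel (E.d i j)) := by
  obtain rfl : i = j - 1 := by omega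
  exact isFlat_cokernel_of_exactAt E j hfl h

/-- the kernel of an epimorphism between flat modules is flat. -/
lemma isFlat_kernel_of_epi {E F : X.Modules} (u : E ⟶ F) [Epi u] (hE : FlatMod.IsFlat E)
    (hF : FlatMod.IsFlat F) : FlatMod.IsFlat (kernel u) := by
  intro x
  haveI : Module.Flat (X.presheaf.stalk x) (kernel ((stk x).map u) : ModuleCat _) :=
    Groth.Agent.Lib.Helper16.FlatKer.flatProp_kernel _ _ ((stk x).map u) inferInstance (hE x) (hF x)
  change Module.Flat (X.presheaf.stalk x) ((stk x).obj (kernel u))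
  exact Module.Flat.of_linearEquiv (PreservesKernel.iso (stk x) u).toLinearEquiv

/-- step A: the cycles are flat if the cokernel of the incoming differential is. -/
lemma isFlat_cycles_of_flat_cokernel (E : CochainComplex X.Modules ℤ) (i j k : ℤ)
    (hij : i + 1 = j) (hjk : j + 1 = k) (hex : E.ExactAt j) (hj : FlatMod.IsFlat (E.X j))
    (hc : FlatMod.IsFlat (cokernel (E.d i j))) : FlatMod.IsFlat (E.cycles j) := by
  have hS := (E.exactAt_iff' i j k (by simp [← hij]) (by simp [← hjk])).1 hex
  haveI hm : Mono (cokernel.desc (E.d i j) (E.d j k) (E.d_comp_d i j k)) :=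
    (ShortComplex.exact_iff_mono_cokernel_desc (E.sc' i j k)).1 hS
  have h1 : FlatMod.IsFlat (kernel (cokernel.π (E.d i j))) := isFlat_kernel_of_epi _ hj hc
  have h2 : FlatMod.IsFlat (kernel (cokernel.π (E.d i j) ≫
      cokernel.desc (E.d i j) (E.d j k) (E.d_comp_d i j k))) :=
    isFlat_of_iso (kernelCompMono _ _).symm h1
  have h3 : FlatMod.IsFlat (kernel (E.d j k)) := by
    have e : cokernel.π (E.d i j) ≫ cokernel.desc (E.d i j) (E.d j k) (E.d_comp_d i j k) =
        E.d j k := cokernel.π_desc _ _ _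
    exact isFlat_of_iso (kernelIsoOfEq e) h2
  exact isFlat_of_iso (IsLimit.conePointUniqueUpToIso (kernelIsKernel (E.d j k))
    (E.cyclesIsKernel j k (by simp [← hjk]))) h3

/-- step B: descent of flatness of cycles. -/
lemma isFlat_cycles_pred (E : CochainComplex X.Modules ℤ) (i : ℤ) (hex : E.ExactAt (i + 1))
    (hi : FlatMod.IsFlat (E.X i)) (hc : FlatMod.IsFlat (E.cycles (i + 1))) :
    FlatMod.IsFlat (E.cycles i) := by
  haveI := Groth.Agent.Lib.Helper16.CycProp.epi_toCycles_of_exactAt E i (i + 1) rfl hex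
  exact isFlat_of_iso (Groth.Agent.Lib.Helper16.CycProp.kernelToCyclesIso E i (i + 1) rfl)
    (isFlat_kernel_of_epi (E.toCycles i (i + 1)) hi hc)

/-- **the cycles in degree `b` of a complex of flat modules which is universally exact in
degrees `> b` are flat.** -/
theorem isFlat_cycles_of_exactAt (E : CochainComplex X.Modules ℤ) (b : ℤ)
    (hfl : ∀ i : ℤ, FlatMod.IsFlat (E.X i)) (hex : ∀ i : ℤ, b < i → E.ExactAt i)
    (hexG : ∀ (G : X.Modules) (i : ℤ), b < i → ((tensModCx G).obj E).ExactAt i) :
    FlatMod.IsFlat (E.cycles b) := by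
  have hc : FlatMod.IsFlat (cokernel (E.d (b + 1) (b + 2))) :=
    isFlat_cokernel_of_exactAt' E (b + 1) (b + 2) (by omega) (hfl _)
      (fun G => hexG G (b + 1) (by omega))
  have h2 : FlatMod.IsFlat (E.cycles (b + 2)) :=
    isFlat_cycles_of_flat_cokernel E (b + 1) (b + 2) (b + 3) (by omega) (by omega)
      (hex _ (by omega)) (hfl _) hc
  have h1 : FlatMod.IsFlat (E.cycles (b + 1)) :=
    isFlat_cycles_pred E (b + 1) (by
      have : b + 1 + 1 = b + 2 := by omega
      rw [this]
      exact hex _ (by omega)) (hfl _) (by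
      have : b + 1 + 1 = b + 2 := by omega
      rw [this]
      exact h2)
  exact isFlat_cycles_pred E b (hex _ (by omega)) (hfl _) h1

lemma isFlat_of_isZero {M : X.Modules} (h : IsZero M) : FlatMod.IsFlat M := by
  intro x
  exact Groth.Agent.Lib.Helper16.FlatKer.flatProp_zero _ ((stk x).map_isZero h)

/-- **bounded above flat resolutions of cohomologically bounded above complexes.** -/
theorem exists_boundedAbove_flat_resolution (K : CochainComplex X.Modules ℤ) (b : ℤ)
    (hex : ∀ i : ℤ, b < i → K.ExactAt i) :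
    ∃ (E : CochainComplex X.Modules ℤ) (q : E ⟶ K), E.IsStrictlyLE b ∧
      (∀ i : ℤ, FlatMod.IsFlat (E.X i)) ∧ QuasiIso q := by
  obtain ⟨P, p, hP, hPfl, hp, -⟩ := exists_kFlat_resolution K
  haveI := hp
  have hexP : ∀ i : ℤ, b < i → P.ExactAt i := fun i hi => by
    haveI : QuasiIsoAt p i := hp.quasiIsoAt i
    exact (exactAt_iff_of_quasiIsoAt p i).2 (hex i hi)
  have hZ : FlatMod.IsFlat (P.cycles b) := isFlat_cycles_of_exactAt P b hPfl hexP
    (fun G i hi => exactAt_tensModCx_of_isKFlat P hP b hexP G i hi)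
  haveI : P.IsLE b := (CochainComplex.isLE_iff P b).2 hexP
  haveI : QuasiIso (P.ιTruncLE b) := (CochainComplex.quasiIso_ιTruncLE_iff P b).2 inferInstance
  refine ⟨P.truncLE b, P.ιTruncLE b ≫ p, inferInstance, fun i => ?_, inferInstance⟩
  rcases lt_trichotomy i b with h | h | h
  · exact isFlat_of_iso (P.truncLEXIso b i h).symm (hPfl i)
  · subst h
    exact isFlat_of_iso (P.truncLEXIsoCycles i).symm hZ
  · exact isFlat_of_isZero ((P.truncLE b).isZero_of_isStrictlyLE b i h)

end Groth.Agent.Lib.Helper16.KD
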