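import Mathlib
import Groth.Prelude.Def_CxOX
import Groth.Agent.Lib.Helper16.RS3

/-!
# Helper16 — RS6: pullback of modules vs restriction to opens; pullback of finite locally free
modules
-/

set_option autoImplicit false
universe u
open CategoryTheory CategoryTheory.Limits AlgebraicGeometry

namespace Groth.Agent.Lib.Helper16.RS

variable {X Y U V : Scheme.{u}}

instance final_opensMap (f : X ⟶ Y) : (TopologicalSpace.Opens.map f.base).Final where
  out d := by
    let T : StructuredArrow d (TopologicalSpace.Opens.map f.base) :=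
      StructuredArrow.mk (Y := ⊤) (homOfLE le_top)
    have hT : IsTerminal T := by
      refine IsTerminal.ofUniqueHom (fun A => StructuredArrow.homMk (homOfLE le_top) (Subsingleton.elim _ _)) ?_
      intro A m
      apply StructuredArrow.ext
      exact Subsingleton.elim _ _
    haveI : HasTerminal (StructuredArrow d (TopologicalSpace.Opens.map f.base)) := hT.hasTerminal
    exact isConnected_of_hasTerminal _

set_option backward.isDefEq.respectTransparency.types false in
/-- the pullback of the structure sheaf is the structure sheaf. -/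
noncomputable def pullbackUnitIso (f : X ⟶ Y) :
    (Scheme.Modules.pullback f).obj (Coh.structureModule Y) ≅ Coh.structureModule X :=
  @asIso _ _ _ _ (SheafOfModules.pullbackObjUnitToUnit f.toRingCatSheafHom)
    (SheafOfModules.instIsIsoPullbackObjUnitToUnitOfFinal _)

/-- the pullback of a free module is free. -/
noncomputable def pullbackFreeModIso (f : X ⟶ Y) (n : ℕ) :
    (Scheme.Modules.pullback f).obj (FlatMod.freeMod Y n) ≅ FlatMod.freeMod X n :=
  PreservesCoproduct.iso (Scheme.Modules.pullback f) _ ≪≫
    Sigma.mapIso (fun _ => pullbackUnitIso f)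

/-- base change for restriction: for a commutative square with open immersions `j`, `j'`. -/
noncomputable def pullbackRestrictIso (f : X ⟶ Y) (j : U ⟶ X) [IsOpenImmersion j]
    (j' : V ⟶ Y) [IsOpenImmersion j'] (g : U ⟶ V) (h : j ≫ f = g ≫ j') :
    Scheme.Modules.pullback f ⋙ Scheme.Modules.restrictFunctor j ≅
      Scheme.Modules.restrictFunctor j' ⋙ Scheme.Modules.pullback g :=
  Functor.isoWhiskerLeft _ (Scheme.Modules.restrictFunctorIsoPullback j) ≪≫
    Scheme.Modules.pullbackComp j f ≪≫ Scheme.Modules.pullbackCongr h ≪≫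
    (Scheme.Modules.pullbackComp g j').symm ≪≫
    Functor.isoWhiskerRight (Scheme.Modules.restrictFunctorIsoPullback j').symm _

theorem isFinLocFree_pullback (f : X ⟶ Y) (M : Y.Modules) (hM : FlatMod.IsFinLocFree M) :
    FlatMod.IsFinLocFree ((Scheme.Modules.pullback f).obj M) := by
  intro x
  obtain ⟨V₀, n, hx, ⟨e⟩⟩ := hM (f x)
  refine ⟨f ⁻¹ᵁ V₀, n, hx, ⟨?_⟩⟩
  exact (pullbackRestrictIso f (f ⁻¹ᵁ V₀).ι V₀.ι (f ∣_ V₀) (morphismRestrict_ι f V₀).symm).app M ≪≫
    (Scheme.Modules.pullback (f ∣_ V₀)).mapIso e ≪≫ pullbackFreeModIso (f ∣_ V₀) n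

end Groth.Agent.Lib.Helper16.RS
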