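import Mathlib
import Groth.Prelude.Def_CxOX
import Groth.Prelude.Def_DDual2
import Groth.Agent.Lib.Helper16.RS6
import Groth.Agent.Lib.Helper16.KD3
import Groth.Agent.Lib.Helper16.FRes2
import Groth.Agent.Lib.Helper16.Stk6
import Groth.Agent.Lib.Helper16.PB1
import Groth.Agent.Lib.Helper29.FreeIso3

/-!
# Helper16 — RS7: strictly perfect complexes are K-flat; restriction and pullback;
the derived pullback of a perfect object is perfect
-/

set_option autoImplicit false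
universe u
open CategoryTheory CategoryTheory.Limits AlgebraicGeometry

attribute [local instance] HasDerivedCategory.standard

namespace Groth.Agent.Lib.Helper16.RS

open Groth.Agent.Lib.Helper16.Stk Groth.Agent.Lib.Helper16.KD

variable {X Y U V : Scheme.{u}}

theorem isFlat_of_isFinLocFree (M : X.Modules) (h : FlatMod.IsFinLocFree M) : FlatMod.IsFlat M := by
  intro x
  obtain ⟨W, n, hx, ⟨e⟩⟩ := h x
  obtain ⟨τ, hτ⟩ := Groth.Agent.Lib.Helper29.FreeIso.exists_isBasisOn_of_iso M W n e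
  haveI := hτ.free_stalk x hx
  exact Module.Flat.of_free

theorem isKFlat_of_isStrictlyPerfect (E : CochainComplex X.Modules ℤ)
    (hE : DCoh.IsStrictlyPerfect E) : DCoh.IsKFlat E := by
  obtain ⟨⟨a, b, hab⟩, hfree⟩ := hE
  exact isKFlat_of_boundedAbove_flat E b
    ((CochainComplex.isStrictlyLE_iff _ _).2 (fun i hi => hab i (Or.inr hi)))
    (fun n => isFlat_of_isFinLocFree _ (hfree n))

/-- restriction as a pullback, on complexes. -/
noncomputable def RCxIsoPullCx (j : U ⟶ X) [IsOpenImmersion j] : RCx j ≅ pullCx j :=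
  NatIso.mapHomologicalComplex (Scheme.Modules.restrictFunctorIsoPullback j) _

theorem isKFlat_RCx (j : U ⟶ X) [IsOpenImmersion j] (K : CochainComplex X.Modules ℤ)
    (hK : DCoh.IsKFlat K) : DCoh.IsKFlat ((RCx j).obj K) :=
  isKFlat_of_iso ((RCxIsoPullCx j).app K).symm (pullback_isKFlat j K hK)

/-- base change for restriction, on complexes. -/
noncomputable def pullCxRCxIso (f : X ⟶ Y) (j : U ⟶ X) [IsOpenImmersion j]
    (j' : V ⟶ Y) [IsOpenImmersion j'] (g : U ⟶ V) (h : j ≫ f = g ≫ j') :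
    pullCx f ⋙ RCx j ≅ RCx j' ⋙ pullCx g :=
  Functor.mapHomologicalComplexCompIso (pullbackRestrictIso f j j' g h) _ ≪≫
    (Functor.mapHomologicalComplexCompIso (Iso.refl _) _).symm

theorem isStrictlyPerfect_pullCx (f : X ⟶ Y) (E : CochainComplex Y.Modules ℤ)
    (hE : DCoh.IsStrictlyPerfect E) : DCoh.IsStrictlyPerfect ((pullCx f).obj E) := by
  obtain ⟨⟨a, b, hab⟩, hfree⟩ := hE
  refine ⟨⟨a, b, fun i hi => ?_⟩, fun i => isFinLocFree_pullback f _ (hfree i)⟩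
  exact (Scheme.Modules.pullback f).map_isZero (hab i hi)

/-- **the derived pullback of a perfect object is perfect.** -/
theorem isPerfect_Lpull (f : X ⟶ Y) [DCoh.HasLpull f] (E : DCoh.D Y) (hE : DCoh.IsPerfect E) :
    DCoh.IsPerfect ((DCoh.Lpull f).obj E) := by
  intro x
  obtain ⟨V, hfx, hV⟩ := hE (f x)
  refine ⟨f ⁻¹ᵁ V, hfx, ?_⟩
  rintro F' ⟨eF'⟩
  -- a K-flat representative of `E`
  obtain ⟨P, ψ, hP⟩ := exists_functorial_kFlat_resolution Y
  let F₀ := DerivedCategory.Q.objPreimage E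
  let e₀ : DerivedCategory.Q.obj F₀ ≅ E := DerivedCategory.Q.objObjPreimageIso E
  let P₀ := P.obj F₀
  have hP₀ : DCoh.IsKFlat P₀ := (hP F₀).1
  haveI : QuasiIso (ψ.app F₀) := (hP F₀).2.2.1
  have hs : IsIso (DerivedCategory.Q.map (ψ.app F₀)) := by
    rw [DerivedCategory.isIso_Q_map_iff_quasiIso]; infer_instance
  let e₁ : DerivedCategory.Q.obj P₀ ≅ E := @asIso _ _ _ _ (DerivedCategory.Q.map (ψ.app F₀)) hs ≪≫ e₀
  obtain ⟨E₀, hE₀, ⟨eE₀⟩⟩ := hV P₀ ⟨e₁⟩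
  -- the morphism `f⁻¹ V ⟶ V`
  let g := f ∣_ V
  haveI : DCoh.HasLpull g := hasLpull g
  refine ⟨(pullCx g).obj E₀, isStrictlyPerfect_pullCx g E₀ hE₀, ?_⟩
  -- `Q F' ≅ Q (f^* P₀)`
  let i₁ : DerivedCategory.Q.obj F' ≅ DerivedCategory.Q.obj ((pullCx f).obj P₀) :=
    eF' ≪≫ (DCoh.Lpull f).mapIso e₁.symm ≪≫ LpullIso f P₀ hP₀
  obtain ⟨i₂⟩ := nonempty_iso_Q_RCx (f ⁻¹ᵁ V).ι i₁
  let i₃ : (RCx (f ⁻¹ᵁ V).ι).obj ((pullCx f).obj P₀) ≅ (pullCx g).obj ((RCx V.ι).obj P₀) :=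
    (pullCxRCxIso f (f ⁻¹ᵁ V).ι V.ι g (morphismRestrict_ι f V).symm).app P₀
  have hPV : DCoh.IsKFlat ((RCx V.ι).obj P₀) := isKFlat_RCx V.ι P₀ hP₀
  have hE₀K : DCoh.IsKFlat E₀ := isKFlat_of_isStrictlyPerfect E₀ hE₀
  exact ⟨i₂ ≪≫ DerivedCategory.Q.mapIso i₃ ≪≫ (LpullIso g _ hPV).symm ≪≫
    (DCoh.Lpull g).mapIso eE₀ ≪≫ LpullIso g E₀ hE₀K⟩

end Groth.Agent.Lib.Helper16.RS
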