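import Mathlib
import Groth.Prelude.Def_CxOX
import Groth.Prelude.Def_DDual2
import Groth.Agent.Lib.Helper16.RS7
import Groth.Agent.Lib.Helper16.RS5
import Groth.Agent.Lib.Helper16.KD7
import Groth.Agent.Lib.Helper16.PB2

/-!
# Helper16 — RS8: the derived pullback and maps which are isomorphisms on `H^i`, `i > m`, and
epimorphisms on `H^m`
-/

set_option autoImplicit false
universe u
open CategoryTheory CategoryTheory.Limits AlgebraicGeometry CategoryTheory.Pretriangulated

namespace Groth.Agent.Lib.Helper16.RS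

open CochainComplex

section Abelian

variable {A : Type*} [Category A] [Abelian A] [HasDerivedCategory A]

/-- converse of `isZero_homology_mappingCone_of_ge`. -/
theorem homologyMap_of_isZero_homology_mappingCone {G F : CochainComplex A ℤ} (f : G ⟶ F) (a : ℤ)
    (h : ∀ i : ℤ, a ≤ i → IsZero ((mappingCone f).homology i)) :
    (∀ j : ℤ, a < j → IsIso (HomologicalComplex.homologyMap f j)) ∧
      Epi (HomologicalComplex.homologyMap f a) := by
  let T := DerivedCategory.Q.mapTriangle.obj (mappingCone.triangle f)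
  have hT : T ∈ distTriang (DerivedCategory A) :=
    DerivedCategory.mappingCone_triangle_distinguished f
  have h3 : ∀ i : ℤ, a ≤ i → IsZero ((DerivedCategory.homologyFunctor A i).obj T.obj₃) :=
    fun i hi => IsZero.of_iso (h i hi) ((DerivedCategory.homologyFunctorFactors A i).app _)
  have hepi : ∀ j : ℤ, a ≤ j →
      Epi ((DerivedCategory.homologyFunctor A j).map (DerivedCategory.Q.map f)) := fun j hj =>
    (DerivedCategory.HomologySequence.exact₂ T hT j).epi_f ((h3 j hj).eq_of_tgt _ _)
  have hmono : ∀ j : ℤ, a < j →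
      Mono ((DerivedCategory.homologyFunctor A j).map (DerivedCategory.Q.map f)) := fun j hj =>
    (DerivedCategory.HomologySequence.exact₁ T hT (j - 1) j (by omega)).mono_g
      ((h3 (j - 1) (by omega)).eq_of_src _ _)
  refine ⟨fun j hj => ?_, ?_⟩
  · haveI := hepi j hj.le
    haveI := hmono j hj
    have : IsIso ((DerivedCategory.homologyFunctor A j).map (DerivedCategory.Q.map f)) :=
      isIso_of_mono_of_epi _
    exact (NatIso.isIso_map_iff (DerivedCategory.homologyFunctorFactors A j) f).1 this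
  · exact (epi_map_iff_of_natIso (DerivedCategory.homologyFunctorFactors A a) f).1 (hepi a le_rfl)

end Abelian

attribute [local instance] HasDerivedCategory.standard

open Groth.Agent.Lib.Helper16.Stk Groth.Agent.Lib.Helper16.KD

variable {U V : Scheme.{u}}

/-- the pullback of a K-flat complex which is exact in degrees `> b` is exact in degrees `> b`. -/
theorem exactAt_pullCx_of_isKFlat (g : U ⟶ V) (C : CochainComplex V.Modules ℤ)
    (hC : DCoh.IsKFlat C) (b : ℤ) (hex : ∀ i : ℤ, b < i → C.ExactAt i) (i : ℤ) (hi : b < i) :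
    ((pullCx g).obj C).ExactAt i := by
  obtain ⟨E, q, hEle, hEfl, hq⟩ := exists_boundedAbove_flat_resolution C b hex
  have hEK : DCoh.IsKFlat E := isKFlat_of_boundedAbove_flat E b hEle hEfl
  haveI := hq
  haveI : QuasiIso ((pullCx g).map q) := quasiIso_pullback_map_of_isKFlat g q hEK hC
  haveI : QuasiIsoAt ((pullCx g).map q) i := inferInstance
  refine (_root_.exactAt_iff_of_quasiIsoAt ((pullCx g).map q) i).1 ?_
  refine ShortComplex.exact_of_isZero_X₂ _ ?_
  exact (Scheme.Modules.pullback g).map_isZero (E.isZero_of_isStrictlyLE b i hi)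


section HW

variable {X : Scheme.{u}}

/-- `α` is an isomorphism on `H^i` for `i > m` and an epimorphism on `H^m`. -/
def HW (m : ℤ) {A B : DCoh.D X} (α : A ⟶ B) : Prop :=
  (∀ i : ℤ, m < i → IsIso ((DerivedCategory.homologyFunctor X.Modules i).map α)) ∧
    Epi ((DerivedCategory.homologyFunctor X.Modules m).map α)

lemma HW_of_iso (m : ℤ) {A B A' B' : DCoh.D X} {α : A ⟶ B} {α' : A' ⟶ B'} (eA : A ≅ A')
    (eB : B ≅ B') (comm : α ≫ eB.hom = eA.hom ≫ α') (h : HW m α) : HW m α' := by
  have e : α' = eA.inv ≫ α ≫ eB.hom := by rw [comm, Iso.inv_hom_id_assoc]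
  refine ⟨fun i hi => ?_, ?_⟩
  · haveI := h.1 i hi
    rw [e, Functor.map_comp, Functor.map_comp]
    infer_instance
  · haveI := h.2
    rw [e, Functor.map_comp, Functor.map_comp]
    infer_instance

lemma HW_Q_map_iff (m : ℤ) {K L : CochainComplex X.Modules ℤ} (φ : K ⟶ L) :
    HW m (DerivedCategory.Q.map φ) ↔
      (∀ j : ℤ, m < j → IsIso (HomologicalComplex.homologyMap φ j)) ∧
        Epi (HomologicalComplex.homologyMap φ m) := by
  constructor
  · intro h
    exact ⟨fun j hj => (NatIso.isIso_map_iff (DerivedCategory.homologyFunctorFactors _ j) φ).1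
      (h.1 j hj), (epi_map_iff_of_natIso (DerivedCategory.homologyFunctorFactors _ m) φ).1 h.2⟩
  · intro h
    exact ⟨fun j hj => (NatIso.isIso_map_iff (DerivedCategory.homologyFunctorFactors _ j) φ).2
      (h.1 j hj), (epi_map_iff_of_natIso (DerivedCategory.homologyFunctorFactors _ m) φ).2 h.2⟩

/-- every morphism of `D(O_X)` is modelled by a chain map between K-flat complexes. -/
theorem exists_kFlat_model_of_hom {A B : DCoh.D X} (α : A ⟶ B) :
    ∃ (K L : CochainComplex X.Modules ℤ) (φ : K ⟶ L) (eA : A ≅ DerivedCategory.Q.obj K)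
      (eB : B ≅ DerivedCategory.Q.obj L), DCoh.IsKFlat K ∧ DCoh.IsKFlat L ∧
      α ≫ eB.hom = eA.hom ≫ DerivedCategory.Q.map φ := by
  obtain ⟨P, ψ, hP⟩ := exists_functorial_kFlat_resolution X
  let KA := DerivedCategory.Q.objPreimage A
  let eA : DerivedCategory.Q.obj KA ≅ A := DerivedCategory.Q.objObjPreimageIso A
  let KB := DerivedCategory.Q.objPreimage B
  let eB : DerivedCategory.Q.obj KB ≅ B := DerivedCategory.Q.objObjPreimageIso B
  obtain ⟨L, φ, s, hs, hα⟩ := DerivedCategory.left_fac (eA.hom ≫ α ≫ eB.inv)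
  have hψ : ∀ C, IsIso (DerivedCategory.Q.map (ψ.app C)) := fun C => by
    haveI : QuasiIso (ψ.app C) := (hP C).2.2.1
    rw [DerivedCategory.isIso_Q_map_iff_quasiIso]; infer_instance
  haveI := hψ KA
  haveI := hψ L
  haveI := hs
  refine ⟨P.obj KA, P.obj L, P.map φ,
    eA.symm ≪≫ (asIso (DerivedCategory.Q.map (ψ.app KA))).symm,
    eB.symm ≪≫ asIso (DerivedCategory.Q.map s) ≪≫ (asIso (DerivedCategory.Q.map (ψ.app L))).symm,
    (hP KA).1, (hP L).1, ?_⟩
  have h1 : α ≫ eB.inv = eA.inv ≫ DerivedCategory.Q.map φ ≫ inv (DerivedCategory.Q.map s) := by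
    rw [← hα, Iso.inv_hom_id_assoc]
  have h2 : inv (DerivedCategory.Q.map (ψ.app KA)) ≫ DerivedCategory.Q.map (P.map φ) =
      DerivedCategory.Q.map φ ≫ inv (DerivedCategory.Q.map (ψ.app L)) := by
    rw [IsIso.inv_comp_eq, ← Category.assoc, IsIso.eq_comp_inv, ← Functor.map_comp,
      ← Functor.map_comp]
    exact congrArg _ (ψ.naturality φ)
  simp only [Iso.trans_hom, Iso.symm_hom, asIso_hom, asIso_inv, Category.assoc]
  rw [reassoc_of% h1, IsIso.inv_hom_id_assoc, h2]

end HW

section Lpull

variable {U V : Scheme.{u}} (g : U ⟶ V) [DCoh.HasLpull g]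

/-- naturality of `LpullIso`. -/
lemma Lpull_map_Q_map {K L : CochainComplex V.Modules ℤ} (φ : K ⟶ L) (hK : DCoh.IsKFlat K)
    (hL : DCoh.IsKFlat L) :
    (DCoh.Lpull g).map (DerivedCategory.Q.map φ) ≫ (LpullIso g L hL).hom =
      (LpullIso g K hK).hom ≫ DerivedCategory.Q.map ((pullCx g).map φ) :=
  (LpullCounit g).naturality ((quot V).map φ)

/-- **the derived pullback preserves the maps which are isomorphisms on `H^i`, `i > m`, and
epimorphisms on `H^m`.** -/
theorem HW_Lpull_map (m : ℤ) {A B : DCoh.D V} (α : A ⟶ B) (h : HW m α) :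
    HW m ((DCoh.Lpull g).map α) := by
  obtain ⟨K, L, φ, eA, eB, hK, hL, comm⟩ := exists_kFlat_model_of_hom α
  have h1 : HW m (DerivedCategory.Q.map φ) := HW_of_iso m eA eB comm h
  obtain ⟨h1i, h1e⟩ := (HW_Q_map_iff m φ).1 h1
  have hc : ∀ i : ℤ, m ≤ i → IsZero ((mappingCone φ).homology i) :=
    isZero_homology_mappingCone_of_ge φ m h1i h1e
  have hcK : DCoh.IsKFlat (mappingCone φ) :=
    (Groth.Agent.Lib.Helper16.BiCx.dcoh_isKFlat_mappingCone_two_out_of_three φ).1 hK hL
  have hc' : ∀ i : ℤ, m ≤ i → IsZero ((mappingCone ((pullCx g).map φ)).homology i) := by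
    intro i hi
    have hex := exactAt_pullCx_of_isKFlat g (mappingCone φ) hcK (m - 1)
      (fun j hj => (HomologicalComplex.exactAt_iff_isZero_homology _ _).2 (hc j (by omega))) i
      (by omega)
    rw [HomologicalComplex.exactAt_iff_isZero_homology] at hex
    exact IsZero.of_iso hex ((HomologicalComplex.homologyFunctor _ _ i).mapIso
      (mappingCone.mapHomologicalComplexIso φ (Scheme.Modules.pullback g)).symm)
  have h2 : HW m (DerivedCategory.Q.map ((pullCx g).map φ)) :=
    (HW_Q_map_iff m _).2 (homologyMap_of_isZero_homology_mappingCone _ m hc')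
  have h3 : HW m ((DCoh.Lpull g).map (DerivedCategory.Q.map φ)) :=
    HW_of_iso m (LpullIso g K hK).symm (LpullIso g L hL).symm (by
      simp only [Iso.symm_hom]
      rw [Iso.comp_inv_eq, Category.assoc, Lpull_map_Q_map g φ hK hL, Iso.inv_hom_id_assoc]) h2
  refine HW_of_iso m ((DCoh.Lpull g).mapIso eA.symm) ((DCoh.Lpull g).mapIso eB.symm) ?_ h3
  simp only [Functor.mapIso_hom, Iso.symm_hom, ← Functor.map_comp]
  congr 1
  rw [Iso.comp_inv_eq, Category.assoc, comm, Iso.inv_hom_id_assoc]

end Lpull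

end Groth.Agent.Lib.Helper16.RS
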