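import Mathlib
import Groth.Agent.Lib.Helper16.RestrictD

/-!
# Helper16 — RestrictD2: restriction of scalars and pseudo-coherence (`B` pseudo-coherent over `A`).
-/

open CategoryTheory CategoryTheory.Limits DerivedCategory CategoryTheory.Pretriangulated

namespace Groth.Agent.Lib.Helper16.RestrictD

open Groth.Agent.Lib.Helper16.PC

universe u

attribute [local instance] HasDerivedCategory.standard

variable {A B : Type u} [CommRing A] [CommRing B] (φ : A →+* B)

/-- `X ↦ (restrict X)[0]`. -/
noncomputable abbrev G : ModuleCat.{u} B ⥤ Dual.D A :=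
  ModuleCat.restrictScalars.{u} φ ⋙ singleFunctor (ModuleCat.{u} A) 0

lemma pc_biprod (m : ℤ) (K L : Dual.D A) (hK : DRing.IsPseudoCoherent A m K)
    (hL : DRing.IsPseudoCoherent A m L) : DRing.IsPseudoCoherent A m (K ⊞ L) :=
  (isPseudoCoherent_two_of_three _ (binaryBiproductTriangle_distinguished K L) m).2.1 hK hL

attribute [local instance] preservesBinaryBiproducts_of_preservesBiproducts in
/-- if `B[0]` is `m`-pseudo-coherent over `A`, so is `(B^k)[0]`. -/
lemma pc_G_pi (m : ℤ) (hB : DRing.IsPseudoCoherent A m ((G φ).obj (ModuleCat.of B B))) :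
    ∀ k : ℕ, DRing.IsPseudoCoherent A m ((G φ).obj (ModuleCat.of B (Fin k → B))) := by
  intro k
  induction k with
  | zero =>
    have hz : IsZero ((G φ).obj (ModuleCat.of B (Fin 0 → B))) :=
      Functor.map_isZero _ (ModuleCat.isZero_of_subsingleton _)
    exact (isPseudoCoherent_iff _ _).2 (isPC_of_isZero finFree_zero _ hz m)
  | succ k ih =>
    have e1 : ModuleCat.of B (Fin (k + 1) → B) ≅ ModuleCat.of B B ⊞ ModuleCat.of B (Fin k → B) :=
      (Fin.consLinearEquiv B (fun _ : Fin (k + 1) => B)).symm.toModuleIso ≪≫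
        (ModuleCat.biprodIsoProd (ModuleCat.of B B) (ModuleCat.of B (Fin k → B))).symm
    have e2 := (G φ).mapIso e1 ≪≫ (G φ).mapBiprod _ _
    exact pc_of_iso (pc_biprod m _ _ hB ih) e2.symm

lemma pc_G_finFree (m : ℤ) (hB : DRing.IsPseudoCoherent A m ((G φ).obj (ModuleCat.of B B)))
    (X : ModuleCat.{u} B) (hX : FinFree X) : DRing.IsPseudoCoherent A m ((G φ).obj X) := by
  have := hX.1
  have := hX.2
  rcases subsingleton_or_nontrivial B with hB' | hB'
  · have : Subsingleton X := Module.subsingleton B X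
    have hz : IsZero ((G φ).obj X) := Functor.map_isZero _ (ModuleCat.isZero_of_subsingleton _)
    exact (isPseudoCoherent_iff _ _).2 (isPC_of_isZero finFree_zero _ hz m)
  · let e : X ≅ ModuleCat.of B (Fin (Module.finrank B X) → B) :=
      (Module.finBasis B X).equivFun.toModuleIso
    exact pc_of_iso (pc_G_pi φ m hB _) ((G φ).mapIso e).symm

end Groth.Agent.Lib.Helper16.RestrictD
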