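import Mathlib
import Groth.Agent.Lib.Helper16.RestrictD2
import Groth.Agent.Lib.Helper16.PC7e

/-!
# Helper16 — RestrictD3: pseudo-coherence and restriction of scalars along `A → B` with `B`
pseudo-coherent over `A` (S6940).
-/

open CategoryTheory CategoryTheory.Limits DerivedCategory CategoryTheory.Pretriangulated

namespace Groth.Agent.Lib.Helper16.RestrictD

open Groth.Agent.Lib.Helper16.PC Groth.Agent.Lib.Helper8.PAmp

universe u

attribute [local instance] HasDerivedCategory.standard

variable {A B : Type u} [CommRing A] [CommRing B] [Algebra A B]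

/-- `B` as an `A`-module is the restriction of `B` as a `B`-module. -/
noncomputable def restrictLinearEquiv :
    B ≃ₗ[A] ((ModuleCat.restrictScalars.{u} (algebraMap A B)).obj (ModuleCat.of B B)) where
  toFun := fun x => x
  invFun := fun x => x
  left_inv := fun _ => rfl
  right_inv := fun _ => rfl
  map_add' := fun _ _ => rfl
  map_smul' := fun a x => Algebra.smul_def a x

/-- `B` as an `A`-module is the restriction of `B` as a `B`-module. -/
noncomputable def ofIsoRestrict : ModuleCat.of A B ≅
    (ModuleCat.restrictScalars.{u} (algebraMap A B)).obj (ModuleCat.of B B) :=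
  LinearEquiv.toModuleIso restrictLinearEquiv

variable (hB : ∀ m : ℤ, DRing.IsPseudoCoherent A m (Dual.inD A B))

include hB

lemma hB' (m : ℤ) : DRing.IsPseudoCoherent A m ((G (algebraMap A B)).obj (ModuleCat.of B B)) :=
  pc_of_iso (hB m) ((singleFunctor (ModuleCat.{u} A) 0).mapIso ofIsoRestrict)

theorem pc_restrict_of_pc (K : Dual.D B) (m : ℤ) (h : DRing.IsPseudoCoherent B m K) :
    DRing.IsPseudoCoherent A m ((DRing.restrictD (algebraMap A B)).obj K) := by
  obtain ⟨E, a, b, α, hE, hff, hgood⟩ := (isPseudoCoherent_iff _ _).1 h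
  have hg := restrict_good (algebraMap A B) α hgood
  have h1 : DRing.IsPseudoCoherent A m ((DRing.restrictD (algebraMap A B)).obj (Q.obj E)) := by
    refine pc_of_iso ?_ (restrictQIso (algebraMap A B) E).symm
    refine pc_of_termwise m _ b (fun i hi => ?_) (fun i => ?_)
    · exact Functor.map_isZero (ModuleCat.restrictScalars.{u} (algebraMap A B)) (hE i (Or.inr hi))
    · exact pc_G_finFree (algebraMap A B) (m - i) (hB' hB (m - i)) (E.X i) (hff i)
  obtain ⟨C, g, w, hT⟩ := distinguished_cocone_triangle ((DRing.restrictD (algebraMap A B)).map α)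
  have hC : C.IsLE (m - 1) := (good_iff_isLE _ hT m (m - 1) (by omega)).1 hg
  exact (isPseudoCoherent_two_of_three _ hT m).2.1 h1 (pc_of_isLE C m (m - 1) hC (by omega))

theorem pc_of_pc_restrict_aux (m : ℤ) : ∀ (n : ℕ) (K : Dual.D B) (b : ℤ), K.IsLE b →
    b + 1 - m ≤ n → DRing.IsPseudoCoherent A m ((DRing.restrictD (algebraMap A B)).obj K) →
    DRing.IsPseudoCoherent B m K := by
  intro n
  induction n with
  | zero =>
    intro K b hK hn _
    exact pc_of_isLE K m b hK (by simp at hn; omega)
  | succ n ih =>
    intro K b hK hn h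
    by_cases hbm : b < m
    · exact pc_of_isLE K m b hK hbm
    · have hρle := restrict_isLE (algebraMap A B) K b hK
      have hfinA : Module.Finite A ((homologyFunctor (ModuleCat.{u} A) b).obj
          ((DRing.restrictD (algebraMap A B)).obj K)) :=
        (Groth.Agent.S2068.result _ b (pc_of_le (by omega) h)).1
          (fun i hi => (isLE_iff _ b).1 hρle i hi)
      have hfinB := finite_homology_of_restrict (algebraMap A B) K b hfinA
      obtain ⟨k, f, hf⟩ :=
        Module.Finite.exists_fin' B ((homologyFunctor (ModuleCat.{u} B) b).obj K)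
      let F₀ : ModuleCat.{u} B := ModuleCat.of B (Fin k → B)
      have hF₀ : FinFree F₀ := ⟨(inferInstance : Module.Finite B (Fin k → B)),
        (inferInstance : Module.Free B (Fin k → B))⟩
      have : Projective F₀ := finFree_proj F₀ hF₀
      have hπ : Epi (ModuleCat.ofHom f) := (ModuleCat.epi_iff_surjective _).2 hf
      obtain ⟨β, hβ⟩ := exists_lift_of_projective b F₀ K (ModuleCat.ofHom f)
      have hβgood : Good b β := by
        refine ⟨fun i hi => ?_, ?_⟩
        · have h1 : IsZero ((homologyFunctor (ModuleCat.{u} B) i).obj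
              ((singleFunctor (ModuleCat.{u} B) b).obj F₀)) :=
            isZero_homology_single b F₀ i (by omega)
          have h2 : IsZero ((homologyFunctor (ModuleCat.{u} B) i).obj K) :=
            (isLE_iff K b).1 hK i hi
          exact ⟨⟨0, h1.eq_of_src _ _, h2.eq_of_src _ _⟩⟩
        · rw [hβ]
          infer_instance
      obtain ⟨C, g, w, hT⟩ := distinguished_cocone_triangle β
      have hC : C.IsLE (b - 1) := (good_iff_isLE _ hT b (b - 1) (by omega)).1 hβgood
      have hSB : ∀ m' : ℤ, DRing.IsPseudoCoherent B m'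
          ((singleFunctor (ModuleCat.{u} B) b).obj F₀) := fun m' =>
        (isPseudoCoherent_iff _ _).2 (isPC_single finFree_zero finFree_iso F₀ hF₀ b m')
      have hSA := pc_restrict_of_pc hB _ (m + 1) (hSB (m + 1))
      have hT' := (DRing.restrictD (algebraMap A B)).map_distinguished _ hT
      have hCA : DRing.IsPseudoCoherent A m ((DRing.restrictD (algebraMap A B)).obj C) :=
        (isPseudoCoherent_two_of_three _ hT' m).1 hSA h
      have hCB := ih C (b - 1) hC (by push_cast at hn; omega) hCA
      exact (isPseudoCoherent_two_of_three _ hT m).2.1 (hSB m) hCB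

theorem pc_of_pc_restrict (K : Dual.D B) (m : ℤ)
    (h : DRing.IsPseudoCoherent A m ((DRing.restrictD (algebraMap A B)).obj K)) :
    DRing.IsPseudoCoherent B m K := by
  obtain ⟨b, hb⟩ := ((isPseudoCoherent_iff _ _).1 h).exists_isLE
  have hK := isLE_of_restrict_isLE (algebraMap A B) K b hb
  exact pc_of_pc_restrict_aux hB m (b + 1 - m).toNat K b hK (Int.self_le_toNat _) h

end Groth.Agent.Lib.Helper16.RestrictD
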