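import Mathlib
import Groth.Agent.Lib.Helper16.RestrictD3

/-!
# Helper16 — RelPC1: ring maps `A → B` making `B` a pseudo-coherent `A`-module, composition of
restriction of scalars on derived categories.
-/

open CategoryTheory CategoryTheory.Limits DerivedCategory CategoryTheory.Pretriangulated

namespace Groth.Agent.Lib.Helper16.RelPC

open Groth.Agent.Lib.Helper16.PC Groth.Agent.Lib.Helper16.RestrictD

universe u

attribute [local instance] HasDerivedCategory.standard

section comp

variable {A B C : Type u} [CommRing A] [CommRing B] [CommRing C] (φ : A →+* B) (ψ : B →+* C)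

/-- restriction of scalars of complexes along a composition. -/
noncomputable def restrictCxCompIso (L : CochainComplex (ModuleCat.{u} C) ℤ) :
    ((ModuleCat.restrictScalars.{u} (ψ.comp φ)).mapHomologicalComplex (ComplexShape.up ℤ)).obj L ≅
      ((ModuleCat.restrictScalars.{u} φ).mapHomologicalComplex (ComplexShape.up ℤ)).obj
        (((ModuleCat.restrictScalars.{u} ψ).mapHomologicalComplex (ComplexShape.up ℤ)).obj L) :=
  HomologicalComplex.Hom.isoOfComponents
    (fun i => ModuleCat.restrictScalarsComp'App φ ψ (ψ.comp φ) rfl (L.X i))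
    (fun i j _ => by
      exact ModuleCat.restrictScalarsComp'App_hom_naturality φ ψ (ψ.comp φ) rfl (L.d i j))

/-- restriction of scalars on derived categories along a composition (objectwise). -/
noncomputable def restrictDCompIso (K : Dual.D C) :
    (DRing.restrictD (ψ.comp φ)).obj K ≅ (DRing.restrictD φ).obj ((DRing.restrictD ψ).obj K) :=
  let L := Q.objPreimage K
  let e : Q.obj L ≅ K := Q.objObjPreimageIso K
  (DRing.restrictD (ψ.comp φ)).mapIso e.symm ≪≫ restrictQIso (ψ.comp φ) L ≪≫
    Q.mapIso (restrictCxCompIso φ ψ L) ≪≫ (restrictQIso φ _).symm ≪≫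
    (DRing.restrictD φ).mapIso ((restrictQIso ψ L).symm ≪≫ (DRing.restrictD ψ).mapIso e)

end comp

variable {A B : Type u} [CommRing A] [CommRing B]

/-- `φ : A → B` makes `B` a pseudo-coherent `A`-module. -/
def PCHom (φ : A →+* B) : Prop :=
  ∀ m : ℤ, DRing.IsPseudoCoherent A m ((DRing.restrictD φ).obj (Dual.inD B B))

/-- `B` restricted to `A`, as an object of `D(A)`. -/
noncomputable def restrictInDIso (φ : A →+* B) :
    letI := φ.toAlgebra
    (DRing.restrictD φ).obj (Dual.inD B B) ≅ Dual.inD A B :=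
  letI := φ.toAlgebra
  ((ModuleCat.restrictScalars.{u} φ).mapDerivedCategorySingleFunctor 0).app (ModuleCat.of B B) ≪≫
    (singleFunctor (ModuleCat.{u} A) 0).mapIso (ofIsoRestrict (A := A) (B := B)).symm

lemma pcHom_iff (φ : A →+* B) :
    letI := φ.toAlgebra
    PCHom φ ↔ ∀ m : ℤ, DRing.IsPseudoCoherent A m (Dual.inD A B) := by
  letI := φ.toAlgebra
  exact ⟨fun h m => pc_of_iso (h m) (restrictInDIso φ), fun h m => pc_of_iso (h m) (restrictInDIso φ).symm⟩

theorem pc_iff_of_pcHom {φ : A →+* B} (h : PCHom φ) (K : Dual.D B) (m : ℤ) :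
    DRing.IsPseudoCoherent B m K ↔ DRing.IsPseudoCoherent A m ((DRing.restrictD φ).obj K) := by
  letI := φ.toAlgebra
  have hB := (pcHom_iff φ).1 h
  exact ⟨pc_restrict_of_pc hB K m, pc_of_pc_restrict hB K m⟩

theorem PCHom.comp {C : Type u} [CommRing C] {φ : A →+* B} {ψ : B →+* C} (hφ : PCHom φ)
    (hψ : PCHom ψ) : PCHom (ψ.comp φ) := by
  intro m
  exact pc_of_iso ((pc_iff_of_pcHom hφ _ m).1 (hψ m)) (restrictDCompIso φ ψ _).symm

theorem pcHom_of_finite_free (φ : A →+* B)
    (h : letI := φ.toAlgebra; Module.Finite A B ∧ Module.Free A B) : PCHom φ := by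
  letI := φ.toAlgebra
  rw [pcHom_iff]
  intro m
  exact (isPseudoCoherent_iff _ _).2 (isPC_single finFree_zero finFree_iso (ModuleCat.of A B) h 0 m)

theorem pcHom_of_bijective (φ : A →+* B) (h : Function.Bijective φ) : PCHom φ := by
  refine pcHom_of_finite_free φ ?_
  letI := φ.toAlgebra
  let e : A ≃ₗ[A] B := LinearEquiv.ofBijective (Algebra.linearMap A B) h
  exact ⟨Module.Finite.equiv e, Module.Free.of_equiv e⟩

end Groth.Agent.Lib.Helper16.RelPC
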