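import Mathlib
import Groth.Agent.Lib.Helper16.RelPC1

/-!
# Helper16 — RelPC2: evaluation maps `S[y₁, …, y_k] → S` make `S` pseudo-coherent.
-/

open CategoryTheory CategoryTheory.Limits DerivedCategory CategoryTheory.Pretriangulated

namespace Groth.Agent.Lib.Helper16.RelPC

open Groth.Agent.Lib.Helper16.PC Groth.Agent.Lib.Helper16.RestrictD Polynomial

universe u

attribute [local instance] HasDerivedCategory.standard

/-- `U[X] → U`, `X ↦ u`, makes `U` pseudo-coherent over `U[X]`. -/
theorem pcHom_evalRingHom (U : Type u) [CommRing U] (a : U) :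
    PCHom (Polynomial.evalRingHom a) := by
  letI : Algebra (Polynomial U) U := (Polynomial.evalRingHom a).toAlgebra
  rw [pcHom_iff]
  intro m
  let f : Polynomial U →ₗ[Polynomial U] Polynomial U := LinearMap.mulLeft (Polynomial U) (X - C a)
  let g : Polynomial U →ₗ[Polynomial U] U := Algebra.linearMap (Polynomial U) U
  have hg : ∀ p : Polynomial U, g p = p.eval a := fun p => rfl
  let S : ShortComplex (ModuleCat.{u} (Polynomial U)) :=
    ShortComplex.mk (ModuleCat.ofHom f) (ModuleCat.ofHom g) (by
      ext p
      simp [f, hg])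
  have hS : S.ShortExact := by
    refine ShortComplex.ShortExact.mk' ?_ ?_ ?_
    · rw [ShortComplex.ShortExact.moduleCat_exact_iff_function_exact]
      intro p
      change g p = 0 ↔ p ∈ Set.range f
      rw [hg, ← Polynomial.IsRoot.def, ← Polynomial.dvd_iff_isRoot]
      constructor
      · rintro ⟨q, rfl⟩
        exact ⟨q, rfl⟩
      · rintro ⟨q, rfl⟩
        exact ⟨q, rfl⟩
    · rw [ModuleCat.mono_iff_injective]
      exact (Polynomial.monic_X_sub_C a).isRegular.left
    · rw [ModuleCat.epi_iff_surjective]
      intro r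
      exact ⟨C r, by change g (C r) = r; rw [hg, eval_C]⟩
  have hT := hS.singleTriangle_distinguished
  have h1 : ∀ m' : ℤ, DRing.IsPseudoCoherent (Polynomial U) m'
      ((singleFunctor (ModuleCat.{u} (Polynomial U)) 0).obj
        (ModuleCat.of (Polynomial U) (Polynomial U))) :=
    fun m' => (isPseudoCoherent_iff _ _).2
      (isPC_single finFree_zero finFree_iso _
        ⟨(inferInstance : Module.Finite (Polynomial U) (Polynomial U)),
          (inferInstance : Module.Free (Polynomial U) (Polynomial U))⟩ 0 m')
  exact (isPseudoCoherent_two_of_three _ hT m).1 (h1 (m + 1)) (h1 m)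

/-- `S[y₁, …, y_k] → S`, `y_j ↦ f_j`, makes `S` pseudo-coherent over `S[y₁, …, y_k]`. -/
theorem pcHom_aeval (S : Type u) [CommRing S] : ∀ (k : ℕ) (f : Fin k → S),
    PCHom ((MvPolynomial.aeval f : MvPolynomial (Fin k) S →ₐ[S] S) : MvPolynomial (Fin k) S →+* S) := by
  intro k
  induction k with
  | zero =>
    intro f
    apply pcHom_of_bijective
    have h : (MvPolynomial.aeval f : MvPolynomial (Fin 0) S →ₐ[S] S) =
        (MvPolynomial.isEmptyAlgEquiv S (Fin 0)).toAlgHom := by
      apply MvPolynomial.algHom_ext
      intro i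
      exact i.elim0
    rw [h]
    exact (MvPolynomial.isEmptyAlgEquiv S (Fin 0)).bijective
  | succ k ih =>
    intro f
    let U := MvPolynomial (Fin k) S
    have h1 : PCHom ((MvPolynomial.finSuccEquiv S k : MvPolynomial (Fin (k + 1)) S ≃ₐ[S]
        Polynomial U) : MvPolynomial (Fin (k + 1)) S →+* Polynomial U) :=
      pcHom_of_bijective _ (MvPolynomial.finSuccEquiv S k).bijective
    have h2 : PCHom (Polynomial.evalRingHom (MvPolynomial.C (f 0) : U)) := pcHom_evalRingHom U _
    have h3 := ih (fun j => f j.succ)
    have h := (h1.comp h2).comp h3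
    have heq : ((MvPolynomial.aeval (fun j : Fin k => f j.succ) : U →ₐ[S] S) : U →+* S).comp
        ((Polynomial.evalRingHom (MvPolynomial.C (f 0) : U)).comp
          ((MvPolynomial.finSuccEquiv S k : MvPolynomial (Fin (k + 1)) S ≃ₐ[S] Polynomial U) :
            MvPolynomial (Fin (k + 1)) S →+* Polynomial U)) =
        ((MvPolynomial.aeval f : MvPolynomial (Fin (k + 1)) S →ₐ[S] S) :
          MvPolynomial (Fin (k + 1)) S →+* S) := by
      apply MvPolynomial.ringHom_ext
      · intro s
        simp [MvPolynomial.finSuccEquiv_apply]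
        exact (MvPolynomial.aeval_C _ s).trans rfl
      · intro i
        refine Fin.cases ?_ (fun j => ?_) i
        · simp [MvPolynomial.finSuccEquiv_X_zero]
          exact (MvPolynomial.aeval_C _ (f 0)).trans rfl
        · simp [MvPolynomial.finSuccEquiv_X_succ]
          exact MvPolynomial.aeval_X _ j
    rw [← heq]
    exact h

end Groth.Agent.Lib.Helper16.RelPC
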