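import Mathlib
import Groth.Agent.S6983

/-!
# Helper16 — RelPC3: relative pseudo-coherence via a fixed presentation.
-/

open CategoryTheory CategoryTheory.Limits DerivedCategory CategoryTheory.Pretriangulated

namespace Groth.Agent.Lib.Helper16.RelPC

universe u

attribute [local instance] HasDerivedCategory.standard

variable {R A : Type u} [CommRing R] [CommRing A] [Algebra R A]

lemma exists_presentation (R A : Type u) [CommRing R] [CommRing A] [Algebra R A]
    [Algebra.FiniteType R A] :
    ∃ (n : ℕ) (α : MvPolynomial (Fin n) R →ₐ[R] A), Function.Surjective α :=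
  Algebra.FiniteType.iff_quotient_mvPolynomial''.1 inferInstance

lemma rel_iff_via {n : ℕ} (α : MvPolynomial (Fin n) R →ₐ[R] A) (hα : Function.Surjective α)
    (m : ℤ) (K : Dual.D A) :
    DerCA.IsRelPseudoCoherent R A m K ↔ DerCA.IsRelPseudoCoherentVia α m K := by
  constructor
  · rintro ⟨k, β, hβ, h⟩
    exact (Groth.Agent.S6983.result β hβ α hα K m).1 h
  · intro h
    exact ⟨n, α, hα, h⟩

lemma relAll_iff_via {n : ℕ} (α : MvPolynomial (Fin n) R →ₐ[R] A) (hα : Function.Surjective α)
    (K : Dual.D A) :
    DerCA.IsRelPseudoCoherentAll R A K ↔ ∀ m : ℤ, DerCA.IsRelPseudoCoherentVia α m K :=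
  forall_congr' (fun m => rel_iff_via α hα m K)

end Groth.Agent.Lib.Helper16.RelPC
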