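import Mathlib
import Groth.Agent.Lib.Helper16.LDer3
import Groth.Agent.Lib.Helper16.PC9

/-!
# Helper16 — FlatBC1: flat base change `D(A) ⥤ D(B)` (induced by the exact functor `B ⊗_A -`).
-/

open CategoryTheory CategoryTheory.Limits DerivedCategory CategoryTheory.Pretriangulated

namespace Groth.Agent.Lib.Helper16.FlatBC

open Groth.Agent.Lib.Helper16.PC Groth.Agent.Lib.Helper16.LDer

universe u

attribute [local instance] HasDerivedCategory.standard

variable {A B : Type u} [CommRing A] [CommRing B] (φ : A →+* B)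

/-- the hypothesis that `φ` is flat, as a class. -/
class FlatHom : Prop where
  flat : φ.Flat

variable [hφ : FlatHom φ]

instance : PreservesFiniteLimits (ModuleCat.extendScalars.{u, u, u} φ) :=
  ModuleCat.preservesFiniteLimits_extendScalars_of_flat hφ.flat

instance : PreservesFiniteColimits (ModuleCat.extendScalars.{u, u, u} φ) := by
  have := (ModuleCat.extendRestrictScalarsAdj.{u, u, u} φ).leftAdjoint_preservesColimits
  infer_instance

/-- flat base change on derived categories. -/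
noncomputable abbrev ε : Dual.D A ⥤ Dual.D B := (ModuleCat.extendScalars.{u, u, u} φ).mapDerivedCategory

/-- `ε (Q L) ≅ Q (L ⊗ B)`. -/
noncomputable def εQIso (L : DRing.Cx A) : (ε φ).obj (Q.obj L) ≅ Q.obj ((extCx φ).obj L) :=
  (ModuleCat.extendScalars.{u, u, u} φ).mapDerivedCategoryFactors.app L

/-- `ε (M[0]) ≅ (M ⊗ B)[0]`. -/
noncomputable def εSingleIso (M : ModuleCat.{u} A) :
    (ε φ).obj ((singleFunctor (ModuleCat.{u} A) 0).obj M) ≅
      (singleFunctor (ModuleCat.{u} B) 0).obj ((ModuleCat.extendScalars.{u, u, u} φ).obj M) :=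
  ((ModuleCat.extendScalars.{u, u, u} φ).mapDerivedCategorySingleFunctor 0).app M

lemma ε_isLE (K : Dual.D A) (b : ℤ) (hK : K.IsLE b) : ((ε φ).obj K).IsLE b := by
  obtain ⟨L, hL, ⟨e⟩⟩ := K.exists_iso_Q_obj_of_isLE b
  have e' := (ε φ).mapIso e ≪≫ εQIso φ L
  have : CochainComplex.IsStrictlyLE ((extCx φ).obj L) b := by
    rw [CochainComplex.isStrictlyLE_iff]
    intro i hi
    exact extCx_isZero φ L i (L.isZero_of_isStrictlyLE b i hi)
  have h2 : (Q.obj ((extCx φ).obj L)).IsLE b := by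
    rw [isLE_Q_obj_iff]
    infer_instance
  exact (TStructure.t).isLE_of_iso e'.symm b

lemma ε_good {m : ℤ} {X Y : Dual.D A} (α : X ⟶ Y) (h : Good m α) : Good m ((ε φ).map α) := by
  obtain ⟨C, g, w, hT⟩ := distinguished_cocone_triangle α
  have hC : C.IsLE (m - 1) := (good_iff_isLE _ hT m (m - 1) (by omega)).1 h
  have hT' := (ε φ).map_distinguished _ hT
  exact (good_iff_isLE _ hT' m (m - 1) (by omega)).2 (ε_isLE φ C (m - 1) hC)

theorem pc_ε (K : Dual.D A) (m : ℤ) (h : DRing.IsPseudoCoherent A m K) :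
    DRing.IsPseudoCoherent B m ((ε φ).obj K) := by
  rw [isPseudoCoherent_iff] at h ⊢
  obtain ⟨E, a, b, α, hE, hff, hgood⟩ := h
  refine ⟨(extCx φ).obj E, a, b, (εQIso φ E).inv ≫ (ε φ).map α,
    fun i hi => extCx_isZero φ E i (hE i hi), fun i => ?_, ?_⟩
  · have h1 := (hff i).1
    have h2 := (hff i).2
    exact ⟨ext_finite φ (E.X i), ext_free φ (E.X i)⟩
  · exact (good_of_isIso m _).comp (ε_good φ α hgood)

theorem pc'_ε (K : Dual.D A) (h : DRing.IsPseudoCoherent' A K) :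
    DRing.IsPseudoCoherent' B ((ε φ).obj K) := by
  obtain ⟨E, b, hE, hff, ⟨e⟩⟩ := h
  refine ⟨(extCx φ).obj E, b, fun i hi => extCx_isZero φ E i (hE i hi), fun i => ?_,
    ⟨(εQIso φ E).symm ≪≫ (ε φ).mapIso e⟩⟩
  have h1 := (hff i).1
  have h2 := (hff i).2
  exact ⟨ext_finite φ (E.X i), ext_free φ (E.X i)⟩

theorem perfect_ε (K : Dual.D A) (h : DRing.IsPerfect A K) : DRing.IsPerfect B ((ε φ).obj K) := by
  obtain ⟨E, a, b, hE, hfp, ⟨e⟩⟩ := h
  refine ⟨(extCx φ).obj E, a, b, fun i hi => extCx_isZero φ E i (hE i hi), fun i => ?_,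
    ⟨(εQIso φ E).symm ≪≫ (ε φ).mapIso e⟩⟩
  have h1 := (hfp i).1
  have h2 := (hfp i).2
  exact ⟨ext_finite φ (E.X i), ext_projective φ (E.X i)⟩

theorem torAmp_ε (K : Dual.D A) (a b : ℤ) (h : DRing.HasTorAmplitudeIn A a b K) :
    DRing.HasTorAmplitudeIn B a b ((ε φ).obj K) := by
  obtain ⟨E, hE, hfl, ⟨e⟩⟩ := h
  refine ⟨(extCx φ).obj E, fun i hi => extCx_isZero φ E i (hE i hi), fun i => ?_,
    ⟨(εQIso φ E).symm ≪≫ (ε φ).mapIso e⟩⟩
  have h1 := hfl i
  exact ext_flat φ (E.X i)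

end Groth.Agent.Lib.Helper16.FlatBC
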