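import Mathlib
import Groth.Agent.Lib.Helper16.FlatBC1

/-!
# Helper16 — FlatBC2: comparison of `B ⊗[A] M` with `ModuleCat.extendScalars`.
-/

open CategoryTheory CategoryTheory.Limits DerivedCategory TensorProduct

namespace Groth.Agent.Lib.Helper16.FlatBC

universe u

attribute [local instance] HasDerivedCategory.standard

variable {A B : Type u} [CommRing A] [CommRing B] [Algebra A B]

instance flatHom_algebraMap [Module.Flat A B] : FlatHom (algebraMap A B) :=
  ⟨RingHom.flat_algebraMap_iff.2 inferInstance⟩

variable (M : Type u) [AddCommGroup M] [Module A M]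

/-- `B` with its `A`-module structure through `algebraMap`. -/
noncomputable def bEquiv :
    B ≃ₗ[A] ((ModuleCat.restrictScalars.{u} (algebraMap A B)).obj (ModuleCat.of B B)) where
  toFun := fun x => x
  invFun := fun x => x
  left_inv := fun _ => rfl
  right_inv := fun _ => rfl
  map_add' := fun _ _ => rfl
  map_smul' := fun a x => Algebra.smul_def a x

/-- the underlying `A`-linear equivalence. -/
noncomputable def extEquivA :
    (B ⊗[A] M) ≃ₗ[A] (((ModuleCat.restrictScalars.{u} (algebraMap A B)).obj (ModuleCat.of B B)) ⊗[A] M) :=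
  TensorProduct.congr (bEquiv (A := A) (B := B)) (LinearEquiv.refl A M)

/-- `B ⊗[A] M ≃ extendScalars M`, `B`-linearly. -/
noncomputable def extEquiv :
    (B ⊗[A] M) ≃ₗ[B]
      ((ModuleCat.extendScalars.{u, u, u} (algebraMap A B)).obj (ModuleCat.of A M)) where
  toFun := extEquivA M
  invFun := (extEquivA M).symm
  left_inv := (extEquivA M).left_inv
  right_inv := (extEquivA M).right_inv
  map_add' := (extEquivA M).map_add
  map_smul' := by
    intro b x
    induction x using TensorProduct.induction_on with
    | zero =>
      simp only [smul_zero, map_zero, RingHom.id_apply]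
      exact (smul_zero (A := ((ModuleCat.extendScalars.{u, u, u} (algebraMap A B)).obj
        (ModuleCat.of A M))) b).symm
    | tmul b₁ m =>
      simp only [RingHom.id_apply]
      rfl
    | add x y hx hy =>
      simp only [smul_add, map_add, RingHom.id_apply] at hx hy ⊢
      rw [hx, hy]
      exact (smul_add (A := ((ModuleCat.extendScalars.{u, u, u} (algebraMap A B)).obj
        (ModuleCat.of A M))) b _ _).symm

/-- `B ⊗[A] M ≅ extendScalars M` in `ModuleCat B`. -/
noncomputable def extIso : ModuleCat.of B (B ⊗[A] M) ≅
    (ModuleCat.extendScalars.{u, u, u} (algebraMap A B)).obj (ModuleCat.of A M) :=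
  (extEquiv M).toModuleIso

variable [Module.Flat A B]

/-- `(B ⊗ M)[0] ≅ ε (M[0])`. -/
noncomputable def inDExtIso :
    Dual.inD B (B ⊗[A] M) ≅ (ε (algebraMap A B)).obj (Dual.inD A M) :=
  (singleFunctor (ModuleCat.{u} B) 0).mapIso (extIso M) ≪≫
    (εSingleIso (algebraMap A B) (ModuleCat.of A M)).symm

end Groth.Agent.Lib.Helper16.FlatBC
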