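import Mathlib
import Groth.Agent.Lib.Helper16.RelPC2
import Groth.Agent.Lib.Helper16.FlatBC2

/-!
# Helper16 — RelPC4: if `P → A` makes `A` pseudo-coherent, so does `P[y] → A[y]`.
-/

open CategoryTheory CategoryTheory.Limits DerivedCategory TensorProduct

namespace Groth.Agent.Lib.Helper16.RelPC

open Groth.Agent.Lib.Helper16.PC Groth.Agent.Lib.Helper16.RestrictD Groth.Agent.Lib.Helper16.FlatBC

universe u

attribute [local instance] HasDerivedCategory.standard

section

variable {P A : Type u} [CommRing P] [CommRing A] [Algebra P A] (σ : Type) 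

/-- the ring map `P[y] → A[y]`. -/
noncomputable abbrev mapHom : MvPolynomial σ P →+* MvPolynomial σ A :=
  MvPolynomial.map (algebraMap P A)

/-- the `P`-linear equivalence `P[y] ⊗[P] A ≃ A[y]`. -/
noncomputable def tensorEquivP : ((MvPolynomial σ P) ⊗[P] A) ≃ₗ[P] MvPolynomial σ A :=
  (TensorProduct.comm P (MvPolynomial σ P) A) ≪≫ₗ
    ((MvPolynomial.algebraTensorAlgEquiv (σ := σ) P A).toLinearEquiv.restrictScalars P)

lemma tensorEquivP_tmul (x : MvPolynomial σ P) (a : A) :
    tensorEquivP (P := P) (A := A) σ (x ⊗ₜ[P] a) = a • MvPolynomial.map (algebraMap P A) x := by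
  simp [tensorEquivP]

/-- `P[y] ⊗[P] A ≃ A[y]` as `P[y]`-modules. -/
noncomputable def tensorEquiv' :
    ((MvPolynomial σ P) ⊗[P] A) ≃ₗ[MvPolynomial σ P]
    ((ModuleCat.restrictScalars.{u} (mapHom (P := P) (A := A) σ)).obj
      (ModuleCat.of (MvPolynomial σ A) (MvPolynomial σ A))) where
  toFun := tensorEquivP σ
  invFun := (tensorEquivP σ).symm
  left_inv := (tensorEquivP σ).left_inv
  right_inv := (tensorEquivP σ).right_inv
  map_add' := (tensorEquivP σ).map_add
  map_smul' := by
    intro s x
    induction x using TensorProduct.induction_on with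
    | zero =>
      simp only [smul_zero, map_zero, RingHom.id_apply]
      exact (smul_zero (A := ((ModuleCat.restrictScalars.{u} (mapHom (P := P) (A := A) σ)).obj
        (ModuleCat.of (MvPolynomial σ A) (MvPolynomial σ A)))) s).symm
    | tmul x a =>
      simp only [RingHom.id_apply, TensorProduct.smul_tmul', smul_eq_mul]
      rw [tensorEquivP_tmul, tensorEquivP_tmul]
      change _ = MvPolynomial.map (algebraMap P A) s * _
      rw [map_mul, mul_smul_comm]
    | add x y hx hy =>
      simp only [smul_add, map_add, RingHom.id_apply] at hx hy ⊢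
      rw [hx, hy]
      exact (smul_add (A := ((ModuleCat.restrictScalars.{u} (mapHom (P := P) (A := A) σ)).obj
        (ModuleCat.of (MvPolynomial σ A) (MvPolynomial σ A)))) s _ _).symm

/-- `P[y] ⊗[P] A ≃ A[y]` as `P[y]`-modules. -/
noncomputable def tensorEquiv :
    ((ModuleCat.extendScalars.{u, u, u} (algebraMap P (MvPolynomial σ P))).obj (ModuleCat.of P A))
      ≃ₗ[MvPolynomial σ P]
    ((ModuleCat.restrictScalars.{u} (mapHom (P := P) (A := A) σ)).obj
      (ModuleCat.of (MvPolynomial σ A) (MvPolynomial σ A))) :=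
  (extEquiv (A := P) (B := MvPolynomial σ P) A).symm ≪≫ₗ tensorEquiv' σ

end

theorem pcHom_mvPolynomial_map {P A : Type u} [CommRing P] [CommRing A] (α : P →+* A)
    (h : PCHom α) (σ : Type) :
    PCHom (MvPolynomial.map α : MvPolynomial σ P →+* MvPolynomial σ A) := by
  letI : Algebra P A := α.toAlgebra
  have hA := (pcHom_iff α).1 h
  intro m
  have h1 := pc_ε (algebraMap P (MvPolynomial σ P)) _ m (hA m)
  refine pc_of_iso h1 ?_
  exact εSingleIso (algebraMap P (MvPolynomial σ P)) (ModuleCat.of P A) ≪≫
    (singleFunctor (ModuleCat.{u} (MvPolynomial σ P)) 0).mapIso (tensorEquiv σ).toModuleIso ≪≫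
    (((ModuleCat.restrictScalars.{u} (mapHom (P := P) (A := A) σ)).mapDerivedCategorySingleFunctor
      0).app (ModuleCat.of (MvPolynomial σ A) (MvPolynomial σ A))).symm

end Groth.Agent.Lib.Helper16.RelPC
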