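import Mathlib
import Groth.Agent.Lib.Helper16.FlatBC2
import Groth.Agent.Lib.Helper16.PC7e
import Groth.Agent.S2068

/-!
# Helper16 — FlatBC3: faithfully flat descent of pseudo-coherence.
-/

open CategoryTheory CategoryTheory.Limits DerivedCategory CategoryTheory.Pretriangulated TensorProduct

namespace Groth.Agent.Lib.Helper16.FlatBC

open Groth.Agent.Lib.Helper16.PC Groth.Agent.Lib.Helper16.LDer Groth.Agent.Lib.Helper8.PAmp

universe u

attribute [local instance] HasDerivedCategory.standard

section

variable {A B : Type u} [CommRing A] [CommRing B] (φ : A →+* B) [FlatHom φ]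

/-- homology of a base changed complex. -/
noncomputable def extHomologyIso (L : DRing.Cx A) (i : ℤ) :
    ((extCx φ).obj L).homology i ≅ (ModuleCat.extendScalars.{u, u, u} φ).obj (L.homology i) :=
  (L.sc i).mapHomologyIso (ModuleCat.extendScalars.{u, u, u} φ)

lemma nonempty_εHomologyIso (K : Dual.D A) (i : ℤ) :
    Nonempty ((homologyFunctor (ModuleCat.{u} B) i).obj ((ε φ).obj K) ≅
      (ModuleCat.extendScalars.{u, u, u} φ).obj ((homologyFunctor (ModuleCat.{u} A) i).obj K)) := by
  have e : Q.obj (Q.objPreimage K) ≅ K := Q.objObjPreimageIso K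
  set L := Q.objPreimage K
  exact ⟨(homologyFunctor (ModuleCat.{u} B) i).mapIso ((ε φ).mapIso e.symm ≪≫ εQIso φ L) ≪≫
      (homologyFunctorFactors (ModuleCat.{u} B) i).app _ ≪≫ extHomologyIso φ L i ≪≫
      (ModuleCat.extendScalars.{u, u, u} φ).mapIso
        ((homologyFunctorFactors (ModuleCat.{u} A) i).app L).symm ≪≫
      (ModuleCat.extendScalars.{u, u, u} φ).mapIso
        ((homologyFunctor (ModuleCat.{u} A) i).mapIso e)⟩

end

variable {A B : Type u} [CommRing A] [CommRing B] [Algebra A B] [Module.FaithfullyFlat A B]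

lemma subsingleton_of_ext (N : ModuleCat.{u} A)
    (h : Subsingleton ((ModuleCat.extendScalars.{u, u, u} (algebraMap A B)).obj N)) :
    Subsingleton N := by
  have h1 : Subsingleton (B ⊗[A] N) := (extEquiv (B := B) N).toEquiv.subsingleton
  exact (Module.FaithfullyFlat.subsingleton_tensorProduct_iff_right A B).1 h1

lemma finite_of_ext (N : ModuleCat.{u} A)
    (h : Module.Finite B ((ModuleCat.extendScalars.{u, u, u} (algebraMap A B)).obj N)) :
    Module.Finite A N := by
  have h1 : Module.Finite B (B ⊗[A] N) := Module.Finite.equiv (extEquiv (B := B) N).symm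
  exact Module.Finite.of_finite_tensorProduct_of_faithfullyFlat B

lemma isLE_of_ε_isLE (K : Dual.D A) (b : ℤ) (h : ((ε (algebraMap A B)).obj K).IsLE b) :
    K.IsLE b := by
  rw [isLE_iff] at h ⊢
  intro i hi
  obtain ⟨e⟩ := nonempty_εHomologyIso (algebraMap A B) K i
  have h1 := ModuleCat.subsingleton_of_isZero ((h i hi).of_iso e.symm)
  have := subsingleton_of_ext (B := B) _ h1
  exact ModuleCat.isZero_of_subsingleton _

theorem pc_of_pc_ε_aux (m : ℤ) : ∀ (n : ℕ) (K : Dual.D A) (b : ℤ), K.IsLE b →
    b + 1 - m ≤ n → DRing.IsPseudoCoherent B m ((ε (algebraMap A B)).obj K) →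
    DRing.IsPseudoCoherent A m K := by
  intro n
  induction n with
  | zero =>
    intro K b hK hn _
    exact pc_of_isLE K m b hK (by simp at hn; omega)
  | succ n ih =>
    intro K b hK hn h
    by_cases hbm : b < m
    · exact pc_of_isLE K m b hK hbm
    · have hεle := ε_isLE (algebraMap A B) K b hK
      have hfinB : Module.Finite B ((homologyFunctor (ModuleCat.{u} B) b).obj
          ((ε (algebraMap A B)).obj K)) :=
        (Groth.Agent.S2068.result _ b (pc_of_le (by omega) h)).1
          (fun i hi => (isLE_iff _ b).1 hεle i hi)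
      obtain ⟨e⟩ := nonempty_εHomologyIso (algebraMap A B) K b
      have hfinA : Module.Finite A ((homologyFunctor (ModuleCat.{u} A) b).obj K) :=
        finite_of_ext (B := B) _ (Module.Finite.equiv e.toLinearEquiv)
      obtain ⟨k, f, hf⟩ :=
        Module.Finite.exists_fin' A ((homologyFunctor (ModuleCat.{u} A) b).obj K)
      let F₀ : ModuleCat.{u} A := ModuleCat.of A (Fin k → A)
      have hF₀ : FinFree F₀ := ⟨(inferInstance : Module.Finite A (Fin k → A)),
        (inferInstance : Module.Free A (Fin k → A))⟩
      have : Projective F₀ := finFree_proj F₀ hF₀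
      have hπ : Epi (ModuleCat.ofHom f) := (ModuleCat.epi_iff_surjective _).2 hf
      obtain ⟨β, hβ⟩ := exists_lift_of_projective b F₀ K (ModuleCat.ofHom f)
      have hβgood : Good b β := by
        refine ⟨fun i hi => ?_, ?_⟩
        · have h1 : IsZero ((homologyFunctor (ModuleCat.{u} A) i).obj
              ((singleFunctor (ModuleCat.{u} A) b).obj F₀)) :=
            isZero_homology_single b F₀ i (by omega)
          have h2 : IsZero ((homologyFunctor (ModuleCat.{u} A) i).obj K) :=
            (isLE_iff K b).1 hK i hi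
          exact ⟨⟨0, h1.eq_of_src _ _, h2.eq_of_src _ _⟩⟩
        · rw [hβ]
          infer_instance
      obtain ⟨C, g, w, hT⟩ := distinguished_cocone_triangle β
      have hC : C.IsLE (b - 1) := (good_iff_isLE _ hT b (b - 1) (by omega)).1 hβgood
      have hSA : ∀ m' : ℤ, DRing.IsPseudoCoherent A m'
          ((singleFunctor (ModuleCat.{u} A) b).obj F₀) := fun m' =>
        (isPseudoCoherent_iff _ _).2 (isPC_single finFree_zero finFree_iso F₀ hF₀ b m')
      have hSB := pc_ε (algebraMap A B) _ (m + 1) (hSA (m + 1))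
      have hT' := (ε (algebraMap A B)).map_distinguished _ hT
      have hCB : DRing.IsPseudoCoherent B m ((ε (algebraMap A B)).obj C) :=
        (isPseudoCoherent_two_of_three _ hT' m).1 hSB h
      have hCA := ih C (b - 1) hC (by push_cast at hn; omega) hCB
      exact (isPseudoCoherent_two_of_three _ hT m).2.1 (hSA m) hCA

theorem pc_of_pc_ε (K : Dual.D A) (m : ℤ)
    (h : DRing.IsPseudoCoherent B m ((ε (algebraMap A B)).obj K)) :
    DRing.IsPseudoCoherent A m K := by
  obtain ⟨b, hb⟩ := ((isPseudoCoherent_iff _ _).1 h).exists_isLE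
  have hK := isLE_of_ε_isLE (B := B) K b hb
  exact pc_of_pc_ε_aux m (b + 1 - m).toNat K b hK (Int.self_le_toNat _) h

end Groth.Agent.Lib.Helper16.FlatBC
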