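import Mathlib
import Groth.Agent.Lib.Helper16.TorAmp4
import Groth.Agent.Lib.Helper16.FlatBC3

/-!
# Helper16 — TorAmp5: faithfully flat descent of tor amplitude.
-/

open CategoryTheory CategoryTheory.Limits DerivedCategory CategoryTheory.Pretriangulated ZeroObject
  MonoidalCategory TensorProduct

namespace Groth.Agent.Lib.Helper16.TorAmp

open Groth.Agent.Lib.Helper16.FlatKer Groth.Agent.Lib.Helper16.LDer Groth.Agent.Lib.Helper16.PC
  Groth.Agent.Lib.Helper16.FlatAcyc Groth.Agent.Lib.Helper16.FlatBC

universe u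

attribute [local instance] HasDerivedCategory.standard

section

variable {A B : Type u} [CommRing A] [CommRing B] (φ : A →+* B)

/-- the cokernel of `ext d` as `ext` of the cokernel of `d`. -/
noncomputable def extCokerIso {X Y : ModuleCat.{u} A} (d : X ⟶ Y) :
    (ModuleCat.extendScalars.{u, u, u} φ).obj (ModuleCat.of A (Y ⧸ LinearMap.range d.hom)) ≅
      ModuleCat.of B (((ModuleCat.extendScalars.{u, u, u} φ).obj Y) ⧸
        LinearMap.range ((ModuleCat.extendScalars.{u, u, u} φ).map d).hom) :=
  (ModuleCat.extendScalars.{u, u, u} φ).mapIso (ModuleCat.cokernelIsoRangeQuotient d).symm ≪≫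
    PreservesCokernel.iso (ModuleCat.extendScalars.{u, u, u} φ) d ≪≫
    ModuleCat.cokernelIsoRangeQuotient _

end

variable {A B : Type u} [CommRing A] [CommRing B] [Algebra A B] [Module.FaithfullyFlat A B]

lemma flat_coker_descent {X Y : ModuleCat.{u} A} (d : X ⟶ Y)
    (h : Module.Flat B (((ModuleCat.extendScalars.{u, u, u} (algebraMap A B)).obj Y) ⧸
      LinearMap.range ((ModuleCat.extendScalars.{u, u, u} (algebraMap A B)).map d).hom)) :
    Module.Flat A (Y ⧸ LinearMap.range d.hom) := by
  have h1 : Module.Flat B ((ModuleCat.extendScalars.{u, u, u} (algebraMap A B)).obj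
      (ModuleCat.of A (Y ⧸ LinearMap.range d.hom))) :=
    Module.Flat.of_linearEquiv (extCokerIso (algebraMap A B) d).toLinearEquiv
  have h2 : Module.Flat B (B ⊗[A] (Y ⧸ LinearMap.range d.hom)) :=
    Module.Flat.of_linearEquiv (extEquiv (B := B) (Y ⧸ LinearMap.range d.hom))
  exact Module.Flat.of_flat_tensorProduct A _ B

lemma exactAt_descent (P : DRing.Cx A) (i : ℤ)
    (h : ((extCx (algebraMap A B)).obj P).ExactAt i) : P.ExactAt i := by
  rw [HomologicalComplex.exactAt_iff_isZero_homology] at h ⊢
  have h1 := ModuleCat.subsingleton_of_isZero (h.of_iso (extHomologyIso (algebraMap A B) P i).symm)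
  have := subsingleton_of_ext (B := B) _ h1
  exact ModuleCat.isZero_of_subsingleton _

/-- S6950: faithfully flat descent of tor amplitude. -/
theorem torAmp_descent (K : DRing.Cx A) (a b : ℤ)
    (hK : DRing.HasTorAmplitudeIn B a b (DRing.toD ((extCx (algebraMap A B)).obj K))) :
    DRing.HasTorAmplitudeIn A a b (DRing.toD K) := by
  have hLE : (Q.obj K).IsLE b := by
    apply isLE_of_ε_isLE (B := B)
    obtain ⟨F, hF, -, ⟨e⟩⟩ := hK
    have hFle : F.IsStrictlyLE b :=
      (CochainComplex.isStrictlyLE_iff _ _).2 (fun i hi => hF i (Or.inr hi))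
    have : (Q.obj F).IsLE b := by
      rw [isLE_Q_obj_iff]
      infer_instance
    exact (TStructure.t).isLE_of_iso (e ≪≫ (εQIso (algebraMap A B) K).symm) b
  obtain ⟨P, p, hP, hproj, hp⟩ := exists_projective_resolution K b hLE
  have hproj' : ∀ i, Module.Projective A (P.X i) := fun i =>
    haveI := hproj i
    ModuleCat.projective_of_module_projective (P.X i)
  have hPflat : DRing.TermwiseFlat P := fun i => by
    have := hproj' i
    infer_instance
  have hp' : IsIso (Q.map p) := by
    rw [isIso_Q_map_iff_quasiIso]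
    exact hp
  have e1 : Q.obj ((extCx (algebraMap A B)).obj K) ≅ Q.obj ((extCx (algebraMap A B)).obj P) :=
    (εQIso (algebraMap A B) K).symm ≪≫ (ε (algebraMap A B)).mapIso (asIso (Q.map p)).symm ≪≫
      εQIso (algebraMap A B) P
  have hampP := hasTorAmplitudeIn_of_iso e1 a b hK
  have hPb : DRing.VanishesAbove ((extCx (algebraMap A B)).obj P) b :=
    fun i hi => extCx_isZero _ P i (hP i hi)
  have hPfl : DRing.TermwiseFlat ((extCx (algebraMap A B)).obj P) := fun i => by
    have := hPflat i
    exact ext_flat _ (P.X i)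
  have hc' := flat_coker_of_torAmp _ b hPb hPfl a b hampP
  have hexP : ∀ i : ℤ, i < a → P.ExactAt i := fun i hi =>
    exactAt_descent (B := B) P i (exactAt_of_torAmp _ a b hampP i (Or.inl hi))
  have hc : Module.Flat A (P.X a ⧸ LinearMap.range (P.d (a - 1) a).hom) :=
    flat_coker_descent (B := B) (P.d (a - 1) a) hc'
  exact hasTorAmplitudeIn_of_iso (asIso (Q.map p)) a b
    (torAmp_of_flat_coker P a b hP hPflat hexP hc)

end Groth.Agent.Lib.Helper16.TorAmp
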