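import Mathlib
import Groth.Agent.Lib.Helper16.FlatBC3
import Groth.Agent.Lib.Helper16.TorAmp5

/-!
# Helper16 — FlatBC4: descent of pseudo-coherence and tor amplitude along a finite jointly
faithfully flat family of flat ring maps.
-/

open CategoryTheory CategoryTheory.Limits DerivedCategory CategoryTheory.Pretriangulated TensorProduct

namespace Groth.Agent.Lib.Helper16.FlatBC

open Groth.Agent.Lib.Helper16.PC Groth.Agent.Lib.Helper16.LDer Groth.Agent.Lib.Helper8.PAmp
  Groth.Agent.Lib.Helper16.TorAmp

universe u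

attribute [local instance] HasDerivedCategory.standard

variable {A : Type u} [CommRing A] {ι : Type} {B : ι → Type u} [∀ i, CommRing (B i)]
  (φ : ∀ i, A →+* B i)

/-- a jointly faithfully flat family of flat ring maps (in the form needed for descent). -/
structure JFF : Prop where
  flat : ∀ i, FlatHom (φ i)
  sub : ∀ N : ModuleCat.{u} A,
    (∀ i, Subsingleton ((ModuleCat.extendScalars.{u, u, u} (φ i)).obj N)) → Subsingleton N
  fin : ∀ N : ModuleCat.{u} A,
    (∀ i, Module.Finite (B i) ((ModuleCat.extendScalars.{u, u, u} (φ i)).obj N)) →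
      Module.Finite A N
  flatd : ∀ N : ModuleCat.{u} A,
    (∀ i, Module.Flat (B i) ((ModuleCat.extendScalars.{u, u, u} (φ i)).obj N)) →
      Module.Flat A N

variable {φ} (h : JFF φ)

include h

lemma JFF.isLE (K : Dual.D A) (b : ℤ)
    (hK : ∀ i, haveI := h.flat i; ((ε (φ i)).obj K).IsLE b) : K.IsLE b := by
  rw [isLE_iff]
  intro j hj
  have : Subsingleton ((homologyFunctor (ModuleCat.{u} A) j).obj K) := by
    apply h.sub
    intro i
    haveI := h.flat i
    obtain ⟨e⟩ := nonempty_εHomologyIso (φ i) K j
    have h2 := (isLE_iff _ b).1 (hK i) j hj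
    exact ModuleCat.subsingleton_of_isZero (h2.of_iso e.symm)
  exact ModuleCat.isZero_of_subsingleton _

lemma JFF.exactAt (P : DRing.Cx A) (j : ℤ)
    (hP : ∀ i, ((extCx (φ i)).obj P).ExactAt j) : P.ExactAt j := by
  rw [HomologicalComplex.exactAt_iff_isZero_homology]
  have : Subsingleton (P.homology j) := by
    apply h.sub
    intro i
    haveI := h.flat i
    have h1 := (HomologicalComplex.exactAt_iff_isZero_homology _ _).1 (hP i)
    exact ModuleCat.subsingleton_of_isZero (h1.of_iso (extHomologyIso (φ i) P j).symm)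
  exact ModuleCat.isZero_of_subsingleton _

lemma JFF.flat_coker {X Y : ModuleCat.{u} A} (d : X ⟶ Y)
    (hd : ∀ i, Module.Flat (B i) (((ModuleCat.extendScalars.{u, u, u} (φ i)).obj Y) ⧸
      LinearMap.range ((ModuleCat.extendScalars.{u, u, u} (φ i)).map d).hom)) :
    Module.Flat A (Y ⧸ LinearMap.range d.hom) := by
  have := h.flatd (ModuleCat.of A (Y ⧸ LinearMap.range d.hom)) (fun i => by
    have := hd i
    exact Module.Flat.of_linearEquiv (extCokerIso (φ i) d).toLinearEquiv)
  exact this

theorem JFF.pc_aux (m : ℤ) : ∀ (n : ℕ) (K : Dual.D A) (b : ℤ), K.IsLE b →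
    b + 1 - m ≤ n →
    (∀ i, haveI := h.flat i; DRing.IsPseudoCoherent (B i) m ((ε (φ i)).obj K)) →
    DRing.IsPseudoCoherent A m K := by
  intro n
  induction n with
  | zero =>
    intro K b hK hn _
    exact pc_of_isLE K m b hK (by simp at hn; omega)
  | succ n ih =>
    intro K b hK hn hpc
    by_cases hbm : b < m
    · exact pc_of_isLE K m b hK hbm
    · have hfinA : Module.Finite A ((homologyFunctor (ModuleCat.{u} A) b).obj K) := by
        apply h.fin
        intro i
        haveI := h.flat i
        have hεle := ε_isLE (φ i) K b hK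
        have hfinB : Module.Finite (B i) ((homologyFunctor (ModuleCat.{u} (B i)) b).obj
            ((ε (φ i)).obj K)) :=
          (Groth.Agent.S2068.result _ b (pc_of_le (by omega) (hpc i))).1
            (fun j hj => (isLE_iff _ b).1 hεle j hj)
        obtain ⟨e⟩ := nonempty_εHomologyIso (φ i) K b
        exact Module.Finite.equiv e.toLinearEquiv
      obtain ⟨k, f, hf⟩ :=
        Module.Finite.exists_fin' A ((homologyFunctor (ModuleCat.{u} A) b).obj K)
      let F₀ : ModuleCat.{u} A := ModuleCat.of A (Fin k → A)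
      have hF₀ : FinFree F₀ := ⟨(inferInstance : Module.Finite A (Fin k → A)),
        (inferInstance : Module.Free A (Fin k → A))⟩
      have : Projective F₀ := finFree_proj F₀ hF₀
      have hπ : Epi (ModuleCat.ofHom f) := (ModuleCat.epi_iff_surjective _).2 hf
      obtain ⟨β, hβ⟩ := exists_lift_of_projective b F₀ K (ModuleCat.ofHom f)
      have hβgood : Good b β := by
        refine ⟨fun i hi => ?_, ?_⟩
        · have h1 : IsZero ((homologyFunctor (ModuleCat.{u} A) i).obj
              ((singleFunctor (ModuleCat.{u} A) b).obj F₀)) :=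
            isZero_homology_single b F₀ i (by omega)
          have h2 : IsZero ((homologyFunctor (ModuleCat.{u} A) i).obj K) :=
            (isLE_iff K b).1 hK i hi
          exact ⟨⟨0, h1.eq_of_src _ _, h2.eq_of_src _ _⟩⟩
        · rw [hβ]
          infer_instance
      obtain ⟨C, g, w, hT⟩ := distinguished_cocone_triangle β
      have hC : C.IsLE (b - 1) := (good_iff_isLE _ hT b (b - 1) (by omega)).1 hβgood
      have hSA : ∀ m' : ℤ, DRing.IsPseudoCoherent A m'
          ((singleFunctor (ModuleCat.{u} A) b).obj F₀) := fun m' =>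
        (isPseudoCoherent_iff _ _).2 (isPC_single finFree_zero finFree_iso F₀ hF₀ b m')
      have hCA := ih C (b - 1) hC (by push_cast at hn; omega) (fun i => by
        haveI := h.flat i
        have hSB := pc_ε (φ i) _ (m + 1) (hSA (m + 1))
        have hT' := (ε (φ i)).map_distinguished _ hT
        exact (isPseudoCoherent_two_of_three _ hT' m).1 hSB (hpc i))
      exact (isPseudoCoherent_two_of_three _ hT m).2.1 (hSA m) hCA

theorem JFF.pc [Finite ι] (K : Dual.D A) (m : ℤ)
    (hpc : ∀ i, haveI := h.flat i; DRing.IsPseudoCoherent (B i) m ((ε (φ i)).obj K)) :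
    DRing.IsPseudoCoherent A m K := by
  have hb : ∀ i, ∃ b : ℤ, haveI := h.flat i; ((ε (φ i)).obj K).IsLE b := fun i =>
    haveI := h.flat i
    ((isPseudoCoherent_iff _ _).1 (hpc i)).exists_isLE
  choose bi hbi using hb
  obtain ⟨b, hb⟩ := Finite.exists_le bi
  have hK : K.IsLE b := h.isLE K b (fun i => by
    haveI := h.flat i
    haveI := hbi i
    exact (TStructure.t).isLE_of_le _ (bi i) b (hb i))
  exact h.pc_aux m (b + 1 - m).toNat K b hK (Int.self_le_toNat _) hpc

/-- descent of tor amplitude along a jointly faithfully flat family. -/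
theorem JFF.torAmp [Finite ι] (K : DRing.Cx A) (a b : ℤ)
    (hK : ∀ i, DRing.HasTorAmplitudeIn (B i) a b (DRing.toD ((extCx (φ i)).obj K))) :
    DRing.HasTorAmplitudeIn A a b (DRing.toD K) := by
  have hLE : (Q.obj K).IsLE b := by
    apply h.isLE
    intro i
    haveI := h.flat i
    obtain ⟨F, hF, -, ⟨e⟩⟩ := hK i
    have hFle : F.IsStrictlyLE b :=
      (CochainComplex.isStrictlyLE_iff _ _).2 (fun i hi => hF i (Or.inr hi))
    have : (Q.obj F).IsLE b := by
      rw [isLE_Q_obj_iff]
      infer_instance
    exact (TStructure.t).isLE_of_iso (e ≪≫ (εQIso (φ i) K).symm) b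
  obtain ⟨P, p, hP, hproj, hp⟩ := exists_projective_resolution K b hLE
  have hproj' : ∀ i, Module.Projective A (P.X i) := fun i =>
    haveI := hproj i
    ModuleCat.projective_of_module_projective (P.X i)
  have hPflat : DRing.TermwiseFlat P := fun i => by
    have := hproj' i
    infer_instance
  have hp' : IsIso (Q.map p) := by
    rw [isIso_Q_map_iff_quasiIso]
    exact hp
  have hampP : ∀ i, DRing.HasTorAmplitudeIn (B i) a b (DRing.toD ((extCx (φ i)).obj P)) := by
    intro i
    haveI := h.flat i
    have e1 : Q.obj ((extCx (φ i)).obj K) ≅ Q.obj ((extCx (φ i)).obj P) :=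
      (εQIso (φ i) K).symm ≪≫ (ε (φ i)).mapIso (asIso (Q.map p)).symm ≪≫ εQIso (φ i) P
    exact hasTorAmplitudeIn_of_iso e1 a b (hK i)
  have hPb : ∀ i, DRing.VanishesAbove ((extCx (φ i)).obj P) b :=
    fun i j hj => extCx_isZero _ P j (hP j hj)
  have hPfl : ∀ i, DRing.TermwiseFlat ((extCx (φ i)).obj P) := fun i j => by
    have := hPflat j
    exact ext_flat _ (P.X j)
  have hexP : ∀ j : ℤ, j < a → P.ExactAt j := fun j hj =>
    h.exactAt P j (fun i => exactAt_of_torAmp _ a b (hampP i) j (Or.inl hj))
  have hc : Module.Flat A (P.X a ⧸ LinearMap.range (P.d (a - 1) a).hom) :=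
    h.flat_coker (P.d (a - 1) a)
      (fun i => flat_coker_of_torAmp _ b (hPb i) (hPfl i) a b (hampP i))
  exact hasTorAmplitudeIn_of_iso (asIso (Q.map p)) a b
    (torAmp_of_flat_coker P a b hP hPflat hexP hc)

end Groth.Agent.Lib.Helper16.FlatBC
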