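import Mathlib
import Groth.Agent.Lib.Helper16.FlatBC4

/-!
# Helper16 — FlatBC5: the localizations `R → R_{f_i}` for `(f_1, …, f_r) = R` form a jointly
faithfully flat family.
-/

open CategoryTheory CategoryTheory.Limits DerivedCategory CategoryTheory.Pretriangulated TensorProduct

namespace Groth.Agent.Lib.Helper16.FlatBC

universe u

attribute [local instance] HasDerivedCategory.standard

variable {R : Type u} [CommRing R]

instance isLocalizedModule_mk (g : R) (N : Type u) [AddCommGroup N] [Module R N] :
    IsLocalizedModule.Away g (TensorProduct.mk R (Localization.Away g) N 1) :=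
  (isLocalizedModule_iff_isBaseChange (Submonoid.powers g) (Localization.Away g) _).2
    (TensorProduct.isBaseChange R N (Localization.Away g))

theorem jff_localizationAway {r : ℕ} (f : Fin r → R) (hf : Ideal.span (Set.range f) = ⊤) :
    JFF (fun i => algebraMap R (Localization.Away (f i))) where
  flat := fun i => inferInstance
  sub := fun N hN => by
    refine ⟨fun x y => ?_⟩
    refine Module.eq_of_isLocalized_span (Set.range f) hf
      (fun g => Localization.Away g.1 ⊗[R] N)
      (fun g => TensorProduct.mk R (Localization.Away g.1) N 1) x y (fun g => ?_)
    obtain ⟨_, i, rfl⟩ := g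
    have := hN i
    have : Subsingleton (Localization.Away (f i) ⊗[R] N) :=
      (extEquiv (A := R) (B := Localization.Away (f i)) N).toEquiv.subsingleton
    exact Subsingleton.elim _ _
  fin := fun N hN => by
    refine Module.Finite.of_localizationSpan' (Set.range f) hf
      (Rₚ := fun g => Localization.Away g.1)
      (Mₚ := fun g => Localization.Away g.1 ⊗[R] N)
      (fun g => TensorProduct.mk R (Localization.Away g.1) N 1) (fun g => ?_)
    obtain ⟨_, i, rfl⟩ := g
    have := hN i
    exact Module.Finite.equiv (extEquiv (A := R) (B := Localization.Away (f i)) N).symm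
  flatd := fun N hN => by
    refine Module.flat_of_isLocalized_span R N (Set.range f) hf
      (fun g => Localization.Away g.1 ⊗[R] N)
      (fun g => TensorProduct.mk R (Localization.Away g.1) N 1) (fun g => ?_)
    obtain ⟨_, i, rfl⟩ := g
    have := hN i
    have : Module.Flat (Localization.Away (f i)) (Localization.Away (f i) ⊗[R] N) :=
      Module.Flat.of_linearEquiv (extEquiv (A := R) (B := Localization.Away (f i)) N)
    exact Module.Flat.trans R (Localization.Away (f i)) _

end Groth.Agent.Lib.Helper16.FlatBC
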