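import Mathlib

/-!
# Helper16 — TermInd: dévissage of bounded complexes by their terms.
-/

open CategoryTheory CategoryTheory.Limits DerivedCategory CategoryTheory.Pretriangulated

namespace Groth.Agent.Lib.Helper16.TermInd

universe w v u

variable {C : Type u} [Category.{v} C] [Abelian C]

/-- the projection of a complex vanishing below `c` to its bottom term. -/
noncomputable def πBottom (K : CochainComplex C ℤ) (c : ℤ) (hK : ∀ i : ℤ, i < c → IsZero (K.X i)) :
    K ⟶ (HomologicalComplex.single C (ComplexShape.up ℤ) c).obj (K.X c) :=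
  HomologicalComplex.mkHomToSingle (𝟙 _) (fun i hi => by
    have : i < c := by
      simp only [ComplexShape.up_Rel] at hi
      omega
    exact (hK i this).eq_of_src _ _)

lemma epi_πBottom (K : CochainComplex C ℤ) (c : ℤ) (hK : ∀ i : ℤ, i < c → IsZero (K.X i)) :
    Epi (πBottom K c hK) := by
  have : ∀ i, Epi ((πBottom K c hK).f i) := fun i => by
    by_cases hi : i = c
    · subst hi
      simp only [πBottom, HomologicalComplex.mkHomToSingle_f]
      infer_instance
    · exact ⟨fun g h _ => (HomologicalComplex.isZero_single_obj_X (ComplexShape.up ℤ) c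
        (K.X c) i hi).eq_of_src _ _⟩
  exact HomologicalComplex.epi_of_epi_f _ this

/-- the "stupid truncation" `σ_{> c} K` as the kernel of `πBottom`. -/
noncomputable def above (K : CochainComplex C ℤ) (c : ℤ) (hK : ∀ i : ℤ, i < c → IsZero (K.X i)) :
    CochainComplex C ℤ := kernel (πBottom K c hK)

noncomputable def aboveXIsoKernel (K : CochainComplex C ℤ) (c : ℤ)
    (hK : ∀ i : ℤ, i < c → IsZero (K.X i)) (i : ℤ) :
    (above K c hK).X i ≅ kernel ((πBottom K c hK).f i) :=
  PreservesKernel.iso (HomologicalComplex.eval C (ComplexShape.up ℤ) i) (πBottom K c hK)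

noncomputable def aboveXIso (K : CochainComplex C ℤ) (c : ℤ)
    (hK : ∀ i : ℤ, i < c → IsZero (K.X i)) (i : ℤ) (hi : i ≠ c) :
    (above K c hK).X i ≅ K.X i :=
  aboveXIsoKernel K c hK i ≪≫
    kernelIsoOfEq ((HomologicalComplex.isZero_single_obj_X (ComplexShape.up ℤ) c
        (K.X c) i hi).eq_of_tgt _ 0) ≪≫ kernelZeroIsoSource

lemma isZero_above_X (K : CochainComplex C ℤ) (c : ℤ)
    (hK : ∀ i : ℤ, i < c → IsZero (K.X i)) (i : ℤ) (hi : i ≤ c) :
    IsZero ((above K c hK).X i) := by
  rcases hi.lt_or_eq with hi | hi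
  · exact (hK i hi).of_iso (aboveXIso K c hK i (by omega))
  · subst hi
    have : Mono ((πBottom K i hK).f i) := by
      simp only [πBottom, HomologicalComplex.mkHomToSingle_f]
      infer_instance
    exact (isZero_kernel_of_mono _).of_iso (aboveXIsoKernel K i hK i)

/-- the short exact sequence `0 → σ_{>c} K → K → K^c[-c] → 0`. -/
noncomputable def aboveSC (K : CochainComplex C ℤ) (c : ℤ)
    (hK : ∀ i : ℤ, i < c → IsZero (K.X i)) : ShortComplex (CochainComplex C ℤ) :=
  ShortComplex.mk (kernel.ι (πBottom K c hK)) (πBottom K c hK) (kernel.condition _)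

lemma aboveSC_shortExact (K : CochainComplex C ℤ) (c : ℤ)
    (hK : ∀ i : ℤ, i < c → IsZero (K.X i)) : (aboveSC K c hK).ShortExact := by
  haveI := epi_πBottom K c hK
  exact ShortComplex.ShortExact.mk'
    (ShortComplex.exact_of_f_is_kernel _ (kernelIsKernel _))
    (inferInstanceAs (Mono (kernel.ι (πBottom K c hK))))
    (inferInstanceAs (Epi (πBottom K c hK)))

variable [HasDerivedCategory.{w} C]

/-- **Dévissage of bounded complexes by their terms.** -/
theorem bounded_termwise_induction (S : DerivedCategory C → Prop)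
    (hiso : ∀ X Y : DerivedCategory C, (X ≅ Y) → S X → S Y)
    (hzero : ∀ X : DerivedCategory C, IsZero X → S X)
    (hext : ∀ T ∈ distTriang (DerivedCategory C), S T.obj₁ → S T.obj₃ → S T.obj₂)
    (n : ℕ) : ∀ (c d : ℤ) (_ : d + 1 = c + n) (K : CochainComplex C ℤ)
      (_ : ∀ i : ℤ, i < c ∨ d < i → IsZero (K.X i)),
      (∀ j, c ≤ j → j ≤ d → S ((singleFunctor C j).obj (K.X j))) → S (Q.obj K) := by
  induction n with
  | zero =>
    intro c d hcd K hK _
    apply hzero
    have hz : IsZero K := by
      rw [IsZero.iff_id_eq_zero]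
      ext i
      exact (hK i (by omega)).eq_of_src _ _
    exact Functor.map_isZero Q hz
  | succ n ih =>
    intro c d hcd K hK hS
    have hKc : ∀ i : ℤ, i < c → IsZero (K.X i) := fun i hi => hK i (Or.inl hi)
    have hT := triangleOfSES_distinguished (aboveSC_shortExact K c hKc)
    refine hext _ hT ?_ ?_
    · show S (Q.obj (above K c hKc))
      refine ih (c + 1) d (by push_cast at hcd; omega) (above K c hKc) (fun i hi => ?_)
        (fun j hj1 hj2 => ?_)
      · rcases hi with hi | hi
        · exact isZero_above_X K c hKc i (by omega)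
        · by_cases hic : i = c
          · exact isZero_above_X K c hKc i (by omega)
          · exact (hK i (Or.inr hi)).of_iso (aboveXIso K c hKc i hic)
      · exact hiso _ _ ((singleFunctor C j).mapIso (aboveXIso K c hKc j (by omega)).symm)
          (hS j (by omega) hj2)
    · show S (Q.obj ((HomologicalComplex.single C (ComplexShape.up ℤ) c).obj (K.X c)))
      exact hS c le_rfl (by push_cast at hcd; omega)

end Groth.Agent.Lib.Helper16.TermInd
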