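import Mathlib
import Groth.Agent.Lib.Helper16.TorAmp7
import Groth.Agent.Lib.Helper16.TermInd
import Groth.Agent.Lib.Helper16.DerTrunc2

/-!
# Helper16 — TorAmp8: tor amplitude of bounded complexes from their terms / cohomology modules.
-/

open CategoryTheory CategoryTheory.Limits DerivedCategory CategoryTheory.Pretriangulated ZeroObject
  MonoidalCategory

namespace Groth.Agent.Lib.Helper16.TorAmp

open Groth.Agent.Lib.Helper16.FlatKer Groth.Agent.Lib.Helper16.LDer Groth.Agent.Lib.Helper16.PC
  Groth.Agent.Lib.Helper16.FlatAcyc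

universe u

attribute [local instance] HasDerivedCategory.standard

variable {R : Type u} [CommRing R]

lemma torAmp_of_isZero (X : Dual.D R) (hX : IsZero X) (a b : ℤ) :
    DRing.HasTorAmplitudeIn R a b X := by
  refine ⟨0, fun i _ => ?_, fun i => ?_, ⟨(Functor.map_isZero Q (isZero_zero _)).iso hX⟩⟩
  · exact Functor.map_isZero (HomologicalComplex.eval _ _ i) (isZero_zero _)
  · have hz : IsZero ((0 : DRing.Cx R).X i) :=
      Functor.map_isZero (HomologicalComplex.eval _ _ i) (isZero_zero _)
    have := ModuleCat.subsingleton_of_isZero hz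
    infer_instance

lemma torAmp_single (M : ModuleCat.{u} R) (a b j : ℤ)
    (h : DRing.HasTorAmplitudeIn R (a - j) (b - j) ((singleFunctor (ModuleCat.{u} R) 0).obj M)) :
    DRing.HasTorAmplitudeIn R a b ((singleFunctor (ModuleCat.{u} R) j).obj M) := by
  have h1 := torAmp_shift _ _ _ (-j) h
  have ha : a - j - -j = a := by omega
  have hb : b - j - -j = b := by omega
  rw [ha, hb] at h1
  exact hasTorAmplitudeIn_of_iso
    (((DerivedCategory.singleFunctors (ModuleCat.{u} R)).shiftIso (-j) j 0 (by omega)).app M) a b h1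

/-- S7032. -/
theorem torAmp_of_bounded_termwise (a b : ℤ) (K : DRing.Cx R)
    (c d : ℤ) (hcd : DRing.VanishesOutside K c d)
    (hK : ∀ i : ℤ, DRing.HasTorAmplitudeIn R (a - i) (b - i) (Dual.inD R (K.X i))) :
    DRing.HasTorAmplitudeIn R a b (DRing.toD K) := by
  refine Groth.Agent.Lib.Helper16.TermInd.bounded_termwise_induction
    (fun X => DRing.HasTorAmplitudeIn R a b X)
    (fun X Y e h => hasTorAmplitudeIn_of_iso e a b h)
    (fun X hX => torAmp_of_isZero X hX a b)
    (fun T hT h1 h3 => torAmp_obj₂ T hT a b h1 h3)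
    (max d (c - 1) + 1 - c).toNat c (max d (c - 1)) ?_ K (fun i hi => hcd i (by omega))
    (fun j _ _ => torAmp_single (K.X j) a b j (hK j))
  have : 0 ≤ max d (c - 1) + 1 - c := by omega
  omega

/-- S7033. -/
theorem torAmp_of_bounded_homology (a b : ℤ) (K : Dual.D R)
    (hb : ∃ c d : ℤ, ∀ i : ℤ, (i < c ∨ d < i) → Subsingleton (Dual.HD R K i))
    (hK : ∀ i : ℤ, DRing.HasTorAmplitudeIn R (a - i) (b - i) (Dual.inD R (Dual.HD R K i))) :
    DRing.HasTorAmplitudeIn R a b K := by
  obtain ⟨c, d, hcd⟩ := hb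
  haveI : K.IsGE c := by
    rw [isGE_iff]
    intro i hi
    have := hcd i (Or.inl hi)
    exact ModuleCat.isZero_of_subsingleton _
  haveI : K.IsLE (max d (c - 1)) := by
    rw [isLE_iff]
    intro i hi
    have := hcd i (Or.inr (by omega))
    exact ModuleCat.isZero_of_subsingleton _
  refine Groth.Agent.Lib.Helper16.DerT.bounded_induction
    (fun X => DRing.HasTorAmplitudeIn R a b X)
    (fun X Y e h => hasTorAmplitudeIn_of_iso e a b h)
    (fun X hX => torAmp_of_isZero X hX a b)
    (fun T hT h1 h3 => torAmp_obj₂ T hT a b h1 h3)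
    (max d (c - 1) + 1 - c).toNat c (max d (c - 1)) ?_ K
    (fun j _ _ => torAmp_single _ a b j (hK j))
  have : 0 ≤ max d (c - 1) + 1 - c := by omega
  omega

end Groth.Agent.Lib.Helper16.TorAmp
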