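import Mathlib
import Groth.Agent.Lib.Helper16.TorAmp8
import Groth.Agent.Lib.Helper8.PAmp6

/-!
# Helper16 — TorAmp9: tor amplitude over rings of finite global dimension.
-/

open CategoryTheory CategoryTheory.Limits DerivedCategory CategoryTheory.Pretriangulated ZeroObject

namespace Groth.Agent.Lib.Helper16.TorAmp

open Groth.Agent.Lib.Helper8.PAmp

universe u

attribute [local instance] HasDerivedCategory.standard

variable {R : Type u} [CommRing R]

lemma hom_eq_zero_of_projDim (M N : ModuleCat.{u} R) (d : ℕ)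
    [HasProjectiveDimensionLT M (d + 1)] (n : ℤ) (hn : n = ((d + 1 : ℕ) : ℤ))
    (ξ : (singleFunctor (ModuleCat.{u} R) 0).obj M ⟶
      ((singleFunctor (ModuleCat.{u} R) 0).obj N)⟦n⟧) : ξ = 0 := by
  subst hn
  letI : HasExt.{u + 1} (ModuleCat.{u} R) := HasExt.standard _
  have h1 : (Abelian.Ext.homAddEquiv (X := M) (Y := N) (n := d + 1)).symm ξ = 0 :=
    Abelian.Ext.eq_zero_of_hasProjectiveDimensionLT _ (d + 1) le_rfl
  have h2 := congrArg (Abelian.Ext.homAddEquiv (X := M) (Y := N) (n := d + 1)) h1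
  simpa using h2

lemma torAmp_mono (K : Dual.D R) (a b a' b' : ℤ) (ha : a' ≤ a) (hb : b ≤ b')
    (h : DRing.HasTorAmplitudeIn R a b K) : DRing.HasTorAmplitudeIn R a' b' K := by
  obtain ⟨F, hF, hfl, he⟩ := h
  exact ⟨F, fun i hi => hF i (by omega), hfl, he⟩

/-- a module of projective dimension `≤ d` has tor amplitude in `[-d, 0]`. -/
theorem torAmp_of_projDim (M : ModuleCat.{u} R) (d : ℕ) [HasProjectiveDimensionLT M (d + 1)] :
    DRing.HasTorAmplitudeIn R (-(d : ℤ)) 0 ((singleFunctor (ModuleCat.{u} R) 0).obj M) := by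
  haveI : ((singleFunctor (ModuleCat.{u} R) 0).obj M).IsGE (-(d : ℤ) - 1) :=
    (TStructure.t).isGE_of_ge _ (-(d : ℤ) - 1) 0 (by omega)
  have h := hasProjAmp_of_ext_vanishing (-(d : ℤ)) 0 ((singleFunctor (ModuleCat.{u} R) 0).obj M)
    (fun N ξ => hom_eq_zero_of_projDim M N d _ (by push_cast; ring) ξ)
  obtain ⟨P, hP, hproj, he⟩ := (hasProjAmp_iff _ _ _).2 h
  exact ⟨P, hP, fun i => by
    have := hproj i
    infer_instance, he⟩

/-- S7034 (2). -/
theorem torAmp_of_globalDim (d : ℕ)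
    (hgl : ∀ (M : Type u) [AddCommGroup M] [Module R M],
      HasProjectiveDimensionLT (ModuleCat.of R M) (d + 1))
    (K : Dual.D R) (a b : ℤ)
    (hK : ∀ i : ℤ, (i < a ∨ b < i) → Subsingleton (Dual.HD R K i)) :
    DRing.HasTorAmplitudeIn R (a - d) b K := by
  refine torAmp_of_bounded_homology (a - d) b K ⟨a, b, hK⟩ (fun i => ?_)
  by_cases hi : i < a ∨ b < i
  · have := hK i hi
    apply torAmp_of_isZero
    exact Functor.map_isZero _ (ModuleCat.isZero_of_subsingleton _)
  · haveI := hgl (Dual.HD R K i)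
    exact torAmp_mono _ (-(d : ℤ)) 0 _ _ (by omega) (by omega)
      (torAmp_of_projDim (ModuleCat.of R (Dual.HD R K i)) d)

end Groth.Agent.Lib.Helper16.TorAmp
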