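import Mathlib
import Groth.Agent.Lib.Helper16.TorAmp2

/-!
# Helper16 — TorBal2: module-level lemmas for balancing `Tor₁`.
-/

open TensorProduct

namespace Groth.Agent.Lib.Helper16.TorBal

universe u

variable {R : Type u} [CommRing R]

/-- converse of `rTensor_range_subtype_injective`. -/
theorem exact_rTensor_of_range_subtype_injective {K0 K1 K2 M : Type*} [AddCommGroup K0]
    [Module R K0] [AddCommGroup K1] [Module R K1] [AddCommGroup K2] [Module R K2] [AddCommGroup M]
    [Module R M] (d1 : K0 →ₗ[R] K1) (d2 : K1 →ₗ[R] K2) (h0 : Function.Exact d1 d2)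
    (hinj : Function.Injective ((LinearMap.range d2).subtype.rTensor M)) :
    Function.Exact (d1.rTensor M) (d2.rTensor M) := by
  have hsurj : Function.Surjective d2.rangeRestrict := LinearMap.surjective_rangeRestrict d2
  have hex : Function.Exact d1 d2.rangeRestrict := by
    intro x
    rw [← h0 x]
    constructor
    · intro hx
      have := congrArg Subtype.val hx
      simpa using this
    · intro hx
      ext
      simpa using hx
  have hex' : Function.Exact (d1.rTensor M) (d2.rangeRestrict.rTensor M) :=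
    rTensor_exact M hex hsurj
  have hcomp : (LinearMap.range d2).subtype ∘ₗ d2.rangeRestrict = d2 := by
    ext x
    simp
  intro y
  rw [← hex' y]
  constructor
  · intro hy
    apply hinj
    rw [← LinearMap.comp_apply, ← LinearMap.rTensor_comp, hcomp, hy, map_zero]
  · intro hy
    rw [← hcomp, LinearMap.rTensor_comp, LinearMap.comp_apply, hy, map_zero]

theorem exact_rTensor_iff {K0 K1 K2 M : Type*} [AddCommGroup K0]
    [Module R K0] [AddCommGroup K1] [Module R K1] [AddCommGroup K2] [Module R K2] [AddCommGroup M]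
    [Module R M] (d1 : K0 →ₗ[R] K1) (d2 : K1 →ₗ[R] K2) (h0 : Function.Exact d1 d2) :
    Function.Exact (d1.rTensor M) (d2.rTensor M) ↔
      Function.Injective ((LinearMap.range d2).subtype.rTensor M) :=
  ⟨fun h => Groth.Agent.Lib.Helper16.TorAmp.rTensor_range_subtype_injective d1 d2 h0 h,
    exact_rTensor_of_range_subtype_injective d1 d2 h0⟩

/-- one direction of the `3 × 3` lemma computing `Tor₁` in two ways. -/
theorem three_by_three {A B : Type u} [AddCommGroup A] [Module R A] [AddCommGroup B] [Module R B]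
    [Module.Flat R A] [Module.Flat R B] (ZA : Submodule R A) (ZB : Submodule R B)
    (h : Function.Injective (ZB.subtype.lTensor (A ⧸ ZA))) :
    Function.Injective (ZA.subtype.rTensor (B ⧸ ZB)) := by
  rw [injective_iff_map_eq_zero]
  intro x hx
  -- lift `x` to `y ∈ ZA ⊗ B`
  obtain ⟨y, rfl⟩ := LinearMap.lTensor_surjective ZA (Submodule.mkQ_surjective ZB) x
  -- the image `y₁` of `y` in `A ⊗ B` dies in `A ⊗ B/ZB`
  have hc1 : ∀ t, (ZA.subtype.rTensor (B ⧸ ZB)) ((ZB.mkQ.lTensor ZA) t) =
      (ZB.mkQ.lTensor A) ((ZA.subtype.rTensor B) t) := fun t => by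
    rw [← LinearMap.comp_apply, ← LinearMap.comp_apply, LinearMap.lTensor_comp_rTensor,
      LinearMap.rTensor_comp_lTensor]
  rw [hc1] at hx
  have hexA : Function.Exact (ZB.subtype.lTensor A) (ZB.mkQ.lTensor A) :=
    lTensor_exact A (LinearMap.exact_subtype_mkQ ZB) (Submodule.mkQ_surjective ZB)
  obtain ⟨z, hz⟩ := (hexA _).1 hx
  -- the image of `z` in `A/ZA ⊗ ZB` vanishes
  have hc2 : ∀ t, (ZB.subtype.lTensor (A ⧸ ZA)) ((ZA.mkQ.rTensor ZB) t) =
      (ZA.mkQ.rTensor B) ((ZB.subtype.lTensor A) t) := fun t => by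
    rw [← LinearMap.comp_apply, ← LinearMap.comp_apply, LinearMap.lTensor_comp_rTensor,
      LinearMap.rTensor_comp_lTensor]
  have hz0 : (ZA.mkQ.rTensor ZB) z = 0 := by
    apply h
    rw [hc2, hz, map_zero, ← LinearMap.comp_apply, ← LinearMap.rTensor_comp]
    have : ZA.mkQ ∘ₗ ZA.subtype = 0 := by
      ext t
      simp
    rw [this, LinearMap.rTensor_zero, LinearMap.zero_apply]
  have hexZ : Function.Exact (ZA.subtype.rTensor ZB) (ZA.mkQ.rTensor ZB) :=
    rTensor_exact ZB (LinearMap.exact_subtype_mkQ ZA) (Submodule.mkQ_surjective ZA)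
  obtain ⟨w, hw⟩ := (hexZ _).1 hz0
  -- `y` is the image of `w`
  have hc3 : ∀ t, (ZA.subtype.rTensor B) ((ZB.subtype.lTensor ZA) t) =
      (ZB.subtype.lTensor A) ((ZA.subtype.rTensor ZB) t) := fun t => by
    rw [← LinearMap.comp_apply, ← LinearMap.comp_apply, LinearMap.lTensor_comp_rTensor,
      LinearMap.rTensor_comp_lTensor]
  have hy : y = (ZB.subtype.lTensor ZA) w := by
    apply Module.Flat.rTensor_preserves_injective_linearMap (M := B) ZA.subtype
      ZA.injective_subtype
    rw [hc3, hw, hz]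
  rw [hy, ← LinearMap.comp_apply, ← LinearMap.lTensor_comp]
  have : ZB.mkQ ∘ₗ ZB.subtype = 0 := by
    ext t
    simp
  rw [this, LinearMap.lTensor_zero, LinearMap.zero_apply]

/-- symmetric form: `Tor₁(A/ZA, B/ZB)` computed in both ways. -/
theorem tor1_symm {A B : Type u} [AddCommGroup A] [Module R A] [AddCommGroup B] [Module R B]
    [Module.Flat R A] [Module.Flat R B] (ZA : Submodule R A) (ZB : Submodule R B) :
    Function.Injective (ZA.subtype.rTensor (B ⧸ ZB)) ↔
      Function.Injective (ZB.subtype.rTensor (A ⧸ ZA)) := by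
  constructor
  · intro h
    exact three_by_three ZB ZA ((LinearMap.lTensor_inj_iff_rTensor_inj _ _).2 h)
  · intro h
    exact three_by_three ZA ZB ((LinearMap.lTensor_inj_iff_rTensor_inj _ _).2 h)

end Groth.Agent.Lib.Helper16.TorBal
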