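import Mathlib
import Groth.Agent.Lib.Helper16.TorBal1
import Groth.Agent.Lib.Helper16.TorBal2

/-!
# Helper16 — TorBal3: dimension shifting in the first variable and the symmetry of Tor vanishing.
-/

open CategoryTheory CategoryTheory.Limits DerivedCategory CategoryTheory.Pretriangulated ZeroObject
  MonoidalCategory

namespace Groth.Agent.Lib.Helper16.TorBal

open Groth.Agent.Lib.Helper16.FlatKer Groth.Agent.Lib.Helper16.LDer Groth.Agent.Lib.Helper16.PC
  Groth.Agent.Lib.Helper16.FlatAcyc Groth.Agent.Lib.Helper16.TorAmp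

universe u

attribute [local instance] HasDerivedCategory.standard

variable {R : Type u} [CommRing R]

lemma isZero_homology_single' (M : ModuleCat.{u} R) (i : ℤ) (h : i ≠ 0) :
    IsZero ((homologyFunctor (ModuleCat.{u} R) i).obj
      ((singleFunctor (ModuleCat.{u} R) 0).obj M)) := by
  rcases lt_or_gt_of_ne h with h | h
  · exact isZero_of_isGE _ 0 i h
  · exact isZero_of_isLE _ 0 i h

lemma exactAt_of_iso_single (P : DRing.Cx R) (M : ModuleCat.{u} R)
    (e : Q.obj P ≅ (singleFunctor (ModuleCat.{u} R) 0).obj M) (j : ℤ) (hj : j ≠ 0) :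
    P.ExactAt j := by
  rw [exactAt_iff_isZero_Q]
  exact (isZero_homology_single' M j hj).of_iso ((homologyFunctor _ j).mapIso e)

lemma torVan_of_iso₁ {M M' : ModuleCat.{u} R} (e : M ≅ M') (N : ModuleCat.{u} R) (i : ℤ)
    (h : TorVan M N i) : TorVan M' N i := by
  intro P n hP hproj ⟨e'⟩
  exact h P n hP hproj ⟨e' ≪≫ (singleFunctor _ 0).mapIso e.symm⟩

lemma exactAt_tensCx_of_iso {N N' : ModuleCat.{u} R} (e : N ≅ N') (P : DRing.Cx R) (i : ℤ)
    (h : ((tensCx N).obj P).ExactAt i) : ((tensCx N').obj P).ExactAt i :=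
  h.of_iso ((NatIso.mapHomologicalComplex ((tensoringRight (ModuleCat.{u} R)).mapIso e)
    (ComplexShape.up ℤ)).app P)

lemma torVan_of_iso₂ {N N' : ModuleCat.{u} R} (e : N ≅ N') (M : ModuleCat.{u} R) (i : ℤ)
    (h : TorVan M N i) : TorVan M N' i := by
  intro P n hP hproj he
  exact exactAt_tensCx_of_iso e P i (h P n hP hproj he)

/-- dimension shifting in the second variable. -/
theorem torVan_shift₂ (S : ShortComplex (ModuleCat.{u} R)) (hS : S.ShortExact)
    [Module.Flat R S.X₂] (M : ModuleCat.{u} R) (i : ℤ) (hi : i + 1 < 0) :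
    TorVan M S.X₃ i ↔ TorVan M S.X₁ (i + 1) := by
  obtain ⟨P, hP, hproj, ⟨e⟩⟩ := exists_resolution M
  rw [torVan_iff M S.X₃ i P 0 hP hproj e, torVan_iff M S.X₁ (i + 1) P 0 hP hproj e]
  exact exactAt_tens_shift₂ S hS P (termwiseFlat_of_projective P hproj)
    (fun j hj => exactAt_of_iso_single P M e j (by omega)) i hi

/-- dimension shifting in the first variable. -/
theorem torVan_shift₁ (S : ShortComplex (ModuleCat.{u} R)) (hS : S.ShortExact)
    [Module.Projective R S.X₂] (N : ModuleCat.{u} R) (i : ℤ) (hi : i + 1 < 0) :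
    TorVan S.X₃ N i ↔ TorVan S.X₁ N (i + 1) := by
  obtain ⟨P', hP', hproj', ⟨e'⟩⟩ := exists_resolution S.X₁
  haveI : P'.IsKProjective := isKProjective_of_bddAbove_projective P' _ hP' hproj'
  let F0 : DRing.Cx R := (CochainComplex.singleFunctor (ModuleCat.{u} R) 0).obj S.X₂
  let eF : Q.obj F0 ≅ (singleFunctor (ModuleCat.{u} R) 0).obj S.X₂ :=
    ((singleFunctorIsoCompQ (ModuleCat.{u} R) 0).app S.X₂).symm
  obtain ⟨φ, hφ⟩ := Groth.Agent.Lib.Helper8.PAmp.exists_Q_map_of_isKProjective P' F0
    (e'.hom ≫ (singleFunctor (ModuleCat.{u} R) 0).map S.f ≫ eF.inv)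
  have hF0 : ∀ j : ℤ, j ≠ 0 → IsZero (F0.X j) := fun j hj =>
    HomologicalComplex.isZero_single_obj_X (ComplexShape.up ℤ) 0 S.X₂ j hj
  -- the cone is a resolution of `S.X₃`
  have hC0 : DRing.VanishesAbove (CochainComplex.mappingCone φ) 0 := fun j hj =>
    Groth.Agent.Lib.Helper8.DRing2.isZero_mappingCone_X φ j (hP' _ (by omega)) (hF0 j (by omega))
  have hCproj : ∀ j, Module.Projective R ((CochainComplex.mappingCone φ).X j) := by
    intro j
    have h1 : Projective (P'.X (j + 1)) := by
      have := hproj' (j + 1)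
      exact ModuleCat.projective_of_categoryTheory_projective _
    have h2 : Projective (F0.X j) := by
      by_cases hj : j = 0
      · subst hj
        have : Projective S.X₂ := ModuleCat.projective_of_categoryTheory_projective _
        exact Projective.of_iso (HomologicalComplex.singleObjXSelf (ComplexShape.up ℤ) 0 S.X₂).symm
          inferInstance
      · exact (hF0 j hj).projective
    have h3 : Projective ((CochainComplex.mappingCone φ).X j) :=
      Projective.of_iso (HomologicalComplex.homotopyCofiber.XIsoBiprod φ j (j + 1) (by simp)).symm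
        inferInstance
    exact ModuleCat.projective_of_module_projective _
  have hT' := mappingCone_triangle_distinguished φ
  have hT := hS.singleTriangle_distinguished
  have eT := isoTriangleOfIso₁₂ _ _ hT' hT e' eF (by
    change Q.map φ ≫ eF.hom = e'.hom ≫ (singleFunctor (ModuleCat.{u} R) 0).map S.f
    rw [← hφ]
    simp)
  have eC : Q.obj (CochainComplex.mappingCone φ) ≅ (singleFunctor (ModuleCat.{u} R) 0).obj S.X₃ :=
    Triangle.π₃.mapIso eT
  rw [torVan_iff S.X₃ N i _ 0 hC0 hCproj eC, torVan_iff S.X₁ N (i + 1) P' 0 hP' hproj' e']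
  -- the long exact sequence of the cone
  let G' : HomotopyCategory (ModuleCat.{u} R) (ComplexShape.up ℤ) ⥤ Dual.D R :=
    (tensorRight N).mapHomotopyCategory (ComplexShape.up ℤ) ⋙ DerivedCategory.Qh
  have hTG := G'.map_distinguished _ (HomotopyCategory.mappingCone_triangleh_distinguished φ)
  have hz : ∀ j : ℤ, j ≠ 0 → IsZero ((homologyFunctor _ j).obj (Q.obj ((tensCx N).obj F0))) :=
    fun j hj => (exactAt_iff_isZero_Q _ _).1
      (HomologicalComplex.ExactAt.of_isZero (Functor.map_isZero (tensorRight N) (hF0 j hj)))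
  rw [exactAt_iff_isZero_Q, exactAt_iff_isZero_Q]
  exact isZero_homology_obj₃_iff _ hTG i (hz i (by omega)) (hz (i + 1) (by omega))

end Groth.Agent.Lib.Helper16.TorBal
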