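import Mathlib
import Groth.Agent.Lib.Helper16.TorBal3

/-!
# Helper16 — TorBal4: `Tor` vanishing is symmetric (balancing).
-/

open CategoryTheory CategoryTheory.Limits DerivedCategory CategoryTheory.Pretriangulated ZeroObject
  MonoidalCategory

namespace Groth.Agent.Lib.Helper16.TorBal

open Groth.Agent.Lib.Helper16.FlatKer Groth.Agent.Lib.Helper16.LDer Groth.Agent.Lib.Helper16.PC
  Groth.Agent.Lib.Helper16.FlatAcyc Groth.Agent.Lib.Helper16.TorAmp

universe u

attribute [local instance] HasDerivedCategory.standard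

variable {R : Type u} [CommRing R]

/-- the presentation attached to a resolution. -/
lemma nonempty_iso_quot (P : DRing.Cx R) (hP : DRing.VanishesAbove P 0) (M : ModuleCat.{u} R)
    (e : Q.obj P ≅ (singleFunctor (ModuleCat.{u} R) 0).obj M) :
    Nonempty (M ≅ ModuleCat.of R (P.X 0 ⧸ LinearMap.range (P.d (-1) 0).hom)) := by
  have hd : P.d 0 1 = 0 := (hP 1 (by omega)).eq_of_tgt _ _
  exact ⟨((singleFunctorCompHomologyFunctorIso (ModuleCat.{u} R) 0).app M).symm ≪≫
    (homologyFunctor _ 0).mapIso e.symm ≪≫ (homologyFunctorFactors _ 0).app P ≪≫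
    P.isoHomologyι 0 1 (by simp) hd ≪≫ opcyclesIsoQuotient P (-1) 0 (by omega)⟩

lemma torVan_neg_one_iff (P : DRing.Cx R) (hP : DRing.VanishesAbove P 0)
    (hproj : ∀ j, Module.Projective R (P.X j)) (M : ModuleCat.{u} R)
    (e : Q.obj P ≅ (singleFunctor (ModuleCat.{u} R) 0).obj M) (N : ModuleCat.{u} R) :
    TorVan M N (-1) ↔
      Function.Injective ((LinearMap.range (P.d (-1) 0).hom).subtype.rTensor N) := by
  rw [torVan_iff M N (-1) P 0 hP hproj e,
    exactAt_tensCx_iff N P (-2) (-1) 0 (by omega) (by omega)]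
  exact exact_rTensor_iff _ _ ((exactAt_iff_function_exact P (-2) (-1) 0 (by omega) (by omega)).1
    (exactAt_of_iso_single P M e (-1) (by omega)))

theorem torVan_neg_one_symm (M N : ModuleCat.{u} R) : TorVan M N (-1) ↔ TorVan N M (-1) := by
  obtain ⟨P, hP, hprojP, ⟨eP⟩⟩ := exists_resolution M
  obtain ⟨Y, hY, hprojY, ⟨eY⟩⟩ := exists_resolution N
  obtain ⟨eM⟩ := nonempty_iso_quot P hP M eP
  obtain ⟨eN⟩ := nonempty_iso_quot Y hY N eY
  have := hprojP 0
  have := hprojY 0
  have h1 : TorVan M N (-1) ↔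
      TorVan M (ModuleCat.of R (Y.X 0 ⧸ LinearMap.range (Y.d (-1) 0).hom)) (-1) :=
    ⟨torVan_of_iso₂ eN M _, torVan_of_iso₂ eN.symm M _⟩
  have h2 : TorVan N M (-1) ↔
      TorVan N (ModuleCat.of R (P.X 0 ⧸ LinearMap.range (P.d (-1) 0).hom)) (-1) :=
    ⟨torVan_of_iso₂ eM N _, torVan_of_iso₂ eM.symm N _⟩
  rw [h1, h2, torVan_neg_one_iff P hP hprojP M eP, torVan_neg_one_iff Y hY hprojY N eY]
  exact tor1_symm (LinearMap.range (P.d (-1) 0).hom) (LinearMap.range (Y.d (-1) 0).hom)

/-- a presentation `0 → M' → F → M → 0` with `F` projective. -/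
lemma exists_presentation (M : ModuleCat.{u} R) :
    ∃ S : ShortComplex (ModuleCat.{u} R), S.ShortExact ∧ Module.Projective R S.X₂ ∧ S.X₃ = M := by
  refine ⟨ShortComplex.mk (kernel.ι (Projective.π M)) (Projective.π M) (kernel.condition _),
    ?_, ?_, rfl⟩
  · exact ShortComplex.ShortExact.mk' (ShortComplex.exact_of_f_is_kernel _ (kernelIsKernel _))
      (inferInstanceAs (Mono (kernel.ι (Projective.π M))))
      (inferInstanceAs (Epi (Projective.π M)))
  · exact ModuleCat.projective_of_module_projective (Projective.over M)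

/-- **Balancing**: vanishing of `Tor_p(M, N)` is symmetric in `M` and `N`. -/
theorem torVan_symm (p : ℕ) : ∀ M N : ModuleCat.{u} R,
    TorVan M N (-((p : ℤ) + 1)) ↔ TorVan N M (-((p : ℤ) + 1)) := by
  induction p with
  | zero =>
    intro M N
    simpa using torVan_neg_one_symm M N
  | succ p ih =>
    intro M N
    obtain ⟨S, hS, hproj, rfl⟩ := exists_presentation M
    haveI := hproj
    haveI : Module.Flat R S.X₂ := inferInstance
    have e1 := torVan_shift₁ S hS N (-(((p + 1 : ℕ) : ℤ) + 1)) (by push_cast; omega)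
    have e2 := torVan_shift₂ S hS N (-(((p + 1 : ℕ) : ℤ) + 1)) (by push_cast; omega)
    have hidx : -(((p + 1 : ℕ) : ℤ) + 1) + 1 = -((p : ℤ) + 1) := by push_cast; ring
    rw [hidx] at e1 e2
    rw [e1, e2]
    exact ih S.X₁ N

end Groth.Agent.Lib.Helper16.TorBal
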