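import Mathlib
import Groth.Agent.Lib.Helper16.TorBal4

/-!
# Helper16 — TorBal5: bridge between Mathlib's `Tor` and `TorVan`.
-/

open CategoryTheory CategoryTheory.Limits DerivedCategory CategoryTheory.Pretriangulated ZeroObject
  MonoidalCategory

namespace Groth.Agent.Lib.Helper16.TorBal

open Groth.Agent.Lib.Helper16.TorAmp

universe u

attribute [local instance] HasDerivedCategory.standard

variable {R : Type u} [CommRing R]

lemma exactAt_chain_iff {X : ModuleCat.{u} R} (Y : ProjectiveResolution X)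
    (G : ModuleCat.{u} R ⥤ ModuleCat.{u} R) [G.Additive] (q : ℕ) :
    ((G.mapHomologicalComplex _).obj Y.complex).ExactAt (q + 1) ↔
      ((G.mapHomologicalComplex _).obj Y.cochainComplex).ExactAt (-((q + 1 : ℕ) : ℤ)) := by
  rw [HomologicalComplex.exactAt_iff' _ (q + 2) (q + 1) q (by simp) (by simp),
    HomologicalComplex.exactAt_iff' _ (-((q + 2 : ℕ) : ℤ)) (-((q + 1 : ℕ) : ℤ)) (-((q : ℕ) : ℤ))
      (by simp; omega) (by simp)]
  symm
  have h1 : G.map (Y.cochainComplexXIso (-((q + 2 : ℕ) : ℤ)) (q + 2) rfl).hom ≫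
      G.map (Y.complex.d (q + 2) (q + 1)) =
      G.map (Y.cochainComplex.d (-((q + 2 : ℕ) : ℤ)) (-((q + 1 : ℕ) : ℤ))) ≫
        G.map (Y.cochainComplexXIso (-((q + 1 : ℕ) : ℤ)) (q + 1) rfl).hom := by
    rw [← G.map_comp, ← G.map_comp,
      Y.cochainComplex_d (-((q + 2 : ℕ) : ℤ)) (-((q + 1 : ℕ) : ℤ)) (q + 2) (q + 1) rfl rfl]
    simp
  have h2 : G.map (Y.cochainComplexXIso (-((q + 1 : ℕ) : ℤ)) (q + 1) rfl).hom ≫
      G.map (Y.complex.d (q + 1) q) =
      G.map (Y.cochainComplex.d (-((q + 1 : ℕ) : ℤ)) (-((q : ℕ) : ℤ))) ≫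
        G.map (Y.cochainComplexXIso (-((q : ℕ) : ℤ)) q rfl).hom := by
    rw [← G.map_comp, ← G.map_comp,
      Y.cochainComplex_d (-((q + 1 : ℕ) : ℤ)) (-((q : ℕ) : ℤ)) (q + 1) q rfl rfl]
    simp
  exact ShortComplex.exact_iff_of_iso (ShortComplex.isoMk
    (G.mapIso (Y.cochainComplexXIso (-((q + 2 : ℕ) : ℤ)) (q + 2) rfl))
    (G.mapIso (Y.cochainComplexXIso (-((q + 1 : ℕ) : ℤ)) (q + 1) rfl))
    (G.mapIso (Y.cochainComplexXIso (-((q : ℕ) : ℤ)) q rfl)) h1 h2)

/-- Mathlib's `Tor_{q+1}(M, N)` vanishes iff `TorVan N M (-(q+1))`. -/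
theorem subsingleton_Tor_iff (M N : Type u) [AddCommGroup M] [Module R M] [AddCommGroup N]
    [Module R N] (q : ℕ) :
    Subsingleton (DRing.Tor R (q + 1) M N) ↔
      TorVan (ModuleCat.of R N) (ModuleCat.of R M) (-((q + 1 : ℕ) : ℤ)) := by
  let Y := ProjectiveResolution.of (ModuleCat.of R N)
  let F : ModuleCat.{u} R ⥤ ModuleCat.{u} R := (tensoringLeft (ModuleCat.{u} R)).obj (ModuleCat.of R M)
  have e : Q.obj Y.cochainComplex ≅ (singleFunctor (ModuleCat.{u} R) 0).obj (ModuleCat.of R N) :=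
    asIso (Q.map Y.π') ≪≫ ((singleFunctorIsoCompQ (ModuleCat.{u} R) 0).symm.app _)
  have hproj : ∀ j, Module.Projective R (Y.cochainComplex.X j) := fun j =>
by
    have hp : Projective (Y.cochainComplex.X j) := inferInstance
    exact (IsProjective.iff_projective _).2 hp
  have hva : DRing.VanishesAbove Y.cochainComplex 0 := fun i hi =>
    CochainComplex.isZero_of_isStrictlyLE _ 0 _ hi
  rw [torVan_iff _ _ _ Y.cochainComplex 0 hva hproj e]
  have e1 := Y.isoLeftDerivedObj F (q + 1)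
  have h0 : Subsingleton (DRing.Tor R (q + 1) M N) ↔ IsZero ((F.leftDerived (q + 1)).obj (ModuleCat.of R N)) :=
    (ModuleCat.isZero_iff_subsingleton).symm
  rw [h0, e1.isZero_iff]
  change IsZero (((F.mapHomologicalComplex _).obj Y.complex).homology (q + 1)) ↔ _
  rw [← HomologicalComplex.exactAt_iff_isZero_homology, exactAt_chain_iff Y F q]
  have e2 : F ≅ tensorRight (ModuleCat.of R M) :=
    NatIso.ofComponents (fun X => β_ _ _) (by intros; simp [F])
  have e3 := (NatIso.mapHomologicalComplex e2 (ComplexShape.up ℤ)).app Y.cochainComplex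
  constructor
  · intro h; exact h.of_iso e3
  · intro h; exact h.of_iso e3.symm

end Groth.Agent.Lib.Helper16.TorBal
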