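import Mathlib
import Groth.Agent.Lib.Helper16.TorBal5
import Groth.Agent.Lib.Helper16.TorAmp9

/-!
# Helper16 — TorBal6: tor dimension of a module (Mathlib's `Tor`) versus tor amplitude of `M[0]`.
-/

open CategoryTheory CategoryTheory.Limits DerivedCategory CategoryTheory.Pretriangulated ZeroObject
  MonoidalCategory

namespace Groth.Agent.Lib.Helper16.TorBal

open Groth.Agent.Lib.Helper16.TorAmp

universe u

attribute [local instance] HasDerivedCategory.standard

variable {R : Type u} [CommRing R]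

theorem hasTorDimLE_iff_torVan (M : Type u) [AddCommGroup M] [Module R M] (d : ℕ) :
    DRing.HasTorDimLE R d M ↔ ∀ (N : ModuleCat.{u} R) (p : ℕ), d < p →
      TorVan (ModuleCat.of R M) N (-(p : ℤ)) := by
  constructor
  · intro h N p hp
    obtain ⟨q, rfl⟩ : ∃ q, p = q + 1 := ⟨p - 1, by omega⟩
    have h1 := (subsingleton_Tor_iff M N q).1 (h N (q + 1) hp)
    have hq : (-((q + 1 : ℕ) : ℤ)) = -((q : ℤ) + 1) := by push_cast; ring
    rw [hq] at h1 ⊢
    exact (torVan_symm q _ _).2 h1
  · intro h N _ _ p hp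
    obtain ⟨q, rfl⟩ : ∃ q, p = q + 1 := ⟨p - 1, by omega⟩
    rw [subsingleton_Tor_iff M N q]
    have h1 := h (ModuleCat.of R N) (q + 1) hp
    have hq : (-((q + 1 : ℕ) : ℤ)) = -((q : ℤ) + 1) := by push_cast; ring
    rw [hq] at h1 ⊢
    exact (torVan_symm q _ _).1 h1

theorem hasTorDimLE_iff_torAmp (M : Type u) [AddCommGroup M] [Module R M] (d : ℕ) :
    DRing.HasTorDimLE R d M ↔ DRing.HasTorAmplitudeIn R (-(d : ℤ)) 0 (Dual.inD R M) := by
  obtain ⟨P, hP, hproj, ⟨e⟩⟩ := exists_resolution (ModuleCat.of R M)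
  have hflat := termwiseFlat_of_projective P hproj
  have h1 : DRing.HasTorAmplitudeIn R (-(d : ℤ)) 0 (Dual.inD R M) ↔
      DRing.HasTorAmplitudeIn R (-(d : ℤ)) 0 (DRing.toD P) :=
    ⟨hasTorAmplitudeIn_of_iso e.symm _ _, hasTorAmplitudeIn_of_iso e _ _⟩
  rw [h1, torAmp_iff_exactAt_tensCx P 0 hP hflat, hasTorDimLE_iff_torVan]
  constructor
  · intro h N i hi
    rcases hi with hi | hi
    · obtain ⟨p, rfl⟩ : ∃ p : ℕ, i = -(p : ℤ) := ⟨(-i).toNat, by omega⟩
      exact (torVan_iff _ N _ P 0 hP hproj e).1 (h N p (by omega))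
    · exact HomologicalComplex.ExactAt.of_isZero (Functor.map_isZero (tensorRight N) (hP i hi))
  · intro h N p hp
    exact (torVan_iff _ N _ P 0 hP hproj e).2 (h N _ (Or.inl (by omega)))

theorem torAmp_zero_iff_flat (M : Type u) [AddCommGroup M] [Module R M] :
    DRing.HasTorAmplitudeIn R 0 0 (Dual.inD R M) ↔ Module.Flat R M := by
  constructor
  · intro h
    obtain ⟨P, hP, hproj, ⟨e⟩⟩ := exists_resolution (ModuleCat.of R M)
    have hflat := termwiseFlat_of_projective P hproj
    have hamp : DRing.HasTorAmplitudeIn R 0 0 (DRing.toD P) := hasTorAmplitudeIn_of_iso e.symm _ _ h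
    have hfl := flat_coker_of_torAmp P 0 hP hflat 0 0 hamp
    obtain ⟨e'⟩ := nonempty_iso_quot P hP _ e
    have h01 : (0 : ℤ) - 1 = -1 := by norm_num
    rw [h01] at hfl
    exact Module.Flat.of_linearEquiv e'.toLinearEquiv
  · intro h
    refine ⟨(HomologicalComplex.single _ _ 0).obj (ModuleCat.of R M), fun i hi => ?_, fun i => ?_,
      ⟨((singleFunctorIsoCompQ (ModuleCat.{u} R) 0).symm.app _)⟩⟩
    · exact HomologicalComplex.isZero_single_obj_X _ _ _ _ (by omega)
    · by_cases hi : i = 0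
      · subst hi
        exact Module.Flat.of_linearEquiv
          (HomologicalComplex.singleObjXSelf (ComplexShape.up ℤ) 0 (ModuleCat.of R M)).toLinearEquiv
      · have hz : IsZero (((HomologicalComplex.single (ModuleCat.{u} R) (ComplexShape.up ℤ) 0).obj
            (ModuleCat.of R M)).X i) := HomologicalComplex.isZero_single_obj_X _ _ _ _ hi
        have := ModuleCat.subsingleton_of_isZero hz
        infer_instance

end Groth.Agent.Lib.Helper16.TorBal
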