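import Mathlib

/-!
# Helper16 — TorBal7: exactness of `- ⊗_A N` for `N` flat over an `A`-algebra `B`, from exactness of
`- ⊗_A B`.
-/

namespace Groth.Agent.Lib.Helper16.TorBal

open TensorProduct

universe u

/-- transport of exactness along a ladder of additive bijections (function level). -/
lemma exact_of_ladder {M N P M' N' P' : Type*} [AddCommGroup P] [AddCommGroup P']
    (f : M → N) (g : N → P) (f' : M' → N') (g' : N' → P')
    (e₁ : M ≃ M') (e₂ : N ≃ N') (e₃ : P ≃+ P')
    (h₁ : ∀ x, e₂ (f x) = f' (e₁ x)) (h₂ : ∀ x, e₃ (g x) = g' (e₂ x))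
    (H : Function.Exact f g) : Function.Exact f' g' := by
  intro y'
  obtain ⟨y, rfl⟩ := e₂.surjective y'
  rw [← h₂, map_eq_zero_iff _ e₃.injective, H y]
  constructor
  · rintro ⟨x, rfl⟩
    exact ⟨e₁ x, (h₁ x).symm⟩
  · rintro ⟨x', hx'⟩
    obtain ⟨x, rfl⟩ := e₁.surjective x'
    rw [← h₁] at hx'
    exact ⟨x, (e₂.injective hx').symm ▸ rfl⟩

variable {A B : Type u} [CommRing A] [CommRing B] [Algebra A B]

lemma cancelBaseChange_comm {X Y : Type u} [AddCommGroup X] [Module A X] [AddCommGroup Y]
    [Module A Y] (f : X →ₗ[A] Y)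
    (N : Type u) [AddCommGroup N] [Module A N] [Module B N] [IsScalarTower A B N]
    (x : N ⊗[B] (B ⊗[A] X)) :
    TensorProduct.AlgebraTensorModule.cancelBaseChange A B B N Y
      ((f.baseChange B).lTensor N x) =
    f.lTensor N (TensorProduct.AlgebraTensorModule.cancelBaseChange A B B N X x) := by
  induction x using TensorProduct.induction_on with
  | zero => simp
  | tmul n y =>
    induction y using TensorProduct.induction_on with
    | zero => simp
    | tmul b x => simp
    | add y y' hy hy' =>
      simp only [tmul_add, map_add, hy, hy']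
  | add x x' hx hx' =>
    simp only [map_add, hx, hx']

lemma comm_rTensor {X Y : Type u} [AddCommGroup X] [Module A X] [AddCommGroup Y]
    [Module A Y] (f : X →ₗ[A] Y) (N : Type u) [AddCommGroup N] [Module A N]
    (x : X ⊗[A] N) :
    TensorProduct.comm A Y N (f.rTensor N x) = f.lTensor N (TensorProduct.comm A X N x) := by
  induction x using TensorProduct.induction_on with
  | zero => simp
  | tmul x b => simp
  | add x x' hx hx' => simp only [map_add, hx, hx']

lemma comm_lTensor {X Y : Type u} [AddCommGroup X] [Module A X] [AddCommGroup Y]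
    [Module A Y] (f : X →ₗ[A] Y) (N : Type u) [AddCommGroup N] [Module A N]
    (x : N ⊗[A] X) :
    TensorProduct.comm A N Y (f.lTensor N x) = f.rTensor N (TensorProduct.comm A N X x) := by
  induction x using TensorProduct.induction_on with
  | zero => simp
  | tmul x b => simp
  | add x x' hx hx' => simp only [map_add, hx, hx']

theorem exact_lTensor_of_flat_baseChange
    {X Y Z : Type u} [AddCommGroup X] [Module A X] [AddCommGroup Y] [Module A Y]
    [AddCommGroup Z] [Module A Z] (f : X →ₗ[A] Y) (g : Y →ₗ[A] Z)
    (N : Type u) [AddCommGroup N] [Module A N] [Module B N] [IsScalarTower A B N]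
    [Module.Flat B N]
    (h : Function.Exact (f.lTensor B) (g.lTensor B)) :
    Function.Exact (f.lTensor N) (g.lTensor N) := by
  have h1 : Function.Exact (f.baseChange B) (g.baseChange B) := h
  have h2 : Function.Exact ((f.baseChange B).lTensor N) ((g.baseChange B).lTensor N) :=
    Module.Flat.lTensor_exact N h1
  exact exact_of_ladder _ _ _ _
    (TensorProduct.AlgebraTensorModule.cancelBaseChange A B B N X).toEquiv
    (TensorProduct.AlgebraTensorModule.cancelBaseChange A B B N Y).toEquiv
    (TensorProduct.AlgebraTensorModule.cancelBaseChange A B B N Z).toAddEquiv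
    (fun x => cancelBaseChange_comm f N x) (fun x => cancelBaseChange_comm g N x) h2

theorem exact_rTensor_of_flat_baseChange
    {X Y Z : Type u} [AddCommGroup X] [Module A X] [AddCommGroup Y] [Module A Y]
    [AddCommGroup Z] [Module A Z] (f : X →ₗ[A] Y) (g : Y →ₗ[A] Z)
    (N : Type u) [AddCommGroup N] [Module A N] [Module B N] [IsScalarTower A B N]
    [Module.Flat B N]
    (h : Function.Exact (f.rTensor B) (g.rTensor B)) :
    Function.Exact (f.rTensor N) (g.rTensor N) := by
  have h1 : Function.Exact (f.lTensor B) (g.lTensor B) :=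
    exact_of_ladder _ _ _ _ (TensorProduct.comm A X B).toEquiv (TensorProduct.comm A Y B).toEquiv
      (TensorProduct.comm A Z B).toAddEquiv
      (fun x => comm_rTensor f B x) (fun x => comm_rTensor g B x) h
  have h2 := exact_lTensor_of_flat_baseChange f g N h1
  exact exact_of_ladder _ _ _ _ (TensorProduct.comm A N X).toEquiv (TensorProduct.comm A N Y).toEquiv
      (TensorProduct.comm A N Z).toAddEquiv
      (fun x => comm_lTensor f N x) (fun x => comm_lTensor g N x) h2

end Groth.Agent.Lib.Helper16.TorBal
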