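import Mathlib
import Groth.Agent.Lib.Helper16.TorBal6
import Groth.Agent.Lib.Helper16.TorBal7
import Groth.Agent.Lib.Helper16.RestrictD

/-!
# Helper16 — TorBal8: tor amplitude under restriction of scalars along a map of finite tor dimension.
-/

open CategoryTheory CategoryTheory.Limits DerivedCategory CategoryTheory.Pretriangulated ZeroObject
  MonoidalCategory

namespace Groth.Agent.Lib.Helper16.TorBal

open Groth.Agent.Lib.Helper16.TorAmp

universe u

attribute [local instance] HasDerivedCategory.standard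

variable {A B : Type u} [CommRing A] [CommRing B] [Algebra A B]

instance isScalarTower_restrict (N : ModuleCat.{u} B) :
    IsScalarTower A B ((ModuleCat.restrictScalars.{u} (algebraMap A B)).obj N) :=
  ⟨fun a b n => by
    change (a • b) • (show N from n) = algebraMap A B a • (b • (show N from n))
    rw [Algebra.smul_def, mul_smul]⟩

instance flat_restrict (N : ModuleCat.{u} B) [h : Module.Flat B N] :
    Module.Flat B ((ModuleCat.restrictScalars.{u} (algebraMap A B)).obj N) := h

/-- a flat `B`-module has tor dimension `≤ d` over `A` when `B` has. -/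
theorem torAmp_restrict_of_flat (d : ℕ)
    (hB : DRing.HasTorAmplitudeIn A (-(d : ℤ)) 0 (Dual.inD A B)) (N : ModuleCat.{u} B)
    [Module.Flat B N] :
    DRing.HasTorAmplitudeIn A (-(d : ℤ)) 0
      ((singleFunctor (ModuleCat.{u} A) 0).obj
        ((ModuleCat.restrictScalars.{u} (algebraMap A B)).obj N)) := by
  refine (hasTorDimLE_iff_torAmp
    (R := A) ((ModuleCat.restrictScalars.{u} (algebraMap A B)).obj N) d).1 ?_
  rw [hasTorDimLE_iff_torVan]
  intro M p hp
  obtain ⟨q, rfl⟩ : ∃ q, p = q + 1 := ⟨p - 1, by omega⟩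
  have hBd : DRing.HasTorDimLE A d B := (hasTorDimLE_iff_torAmp B d).2 hB
  have h1 := (hasTorDimLE_iff_torVan B d).1 hBd M (q + 1) hp
  have hq : (-((q + 1 : ℕ) : ℤ)) = -((q : ℤ) + 1) := by push_cast; ring
  rw [hq] at h1 ⊢
  rw [torVan_symm q] at h1 ⊢
  obtain ⟨Y, hY, hproj, ⟨e⟩⟩ := exists_resolution M
  rw [torVan_iff M _ _ Y 0 hY hproj e,
    exactAt_tensCx_iff _ Y (-((q : ℤ) + 1) - 1) _ (-((q : ℤ) + 1) + 1) (by omega) (by omega)] at h1 ⊢
  exact exact_rTensor_of_flat_baseChange _ _
    ((ModuleCat.restrictScalars.{u} (algebraMap A B)).obj N) h1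

/-- S6947. -/
theorem torAmp_restrict (d : ℕ)
    (hB : DRing.HasTorAmplitudeIn A (-(d : ℤ)) 0 (Dual.inD A B)) (K : Dual.D B)
    (a b : ℤ) (hK : DRing.HasTorAmplitudeIn B a b K) :
    DRing.HasTorAmplitudeIn A (a - d) b ((DRing.restrictD (algebraMap A B)).obj K) := by
  obtain ⟨F, hF, hfl, ⟨e⟩⟩ := hK
  have e' := (DRing.restrictD (algebraMap A B)).mapIso e.symm ≪≫
    Groth.Agent.Lib.Helper16.RestrictD.restrictQIso (algebraMap A B) F
  refine hasTorAmplitudeIn_of_iso e'.symm _ _ ?_
  refine torAmp_of_bounded_termwise (a - d) b _ a b ?_ ?_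
  · intro i hi
    exact Functor.map_isZero (ModuleCat.restrictScalars _) (hF i hi)
  · intro i
    by_cases hi : i < a ∨ b < i
    · apply torAmp_of_isZero
      exact Functor.map_isZero _ (Functor.map_isZero (ModuleCat.restrictScalars _) (hF i hi))
    · have := hfl i
      exact torAmp_mono _ (-(d : ℤ)) 0 _ _ (by omega) (by omega)
        (torAmp_restrict_of_flat d hB (F.X i))

end Groth.Agent.Lib.Helper16.TorBal
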