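import Mathlib
import Groth.Prelude.Def_ega3

/-!
# Helper16 — Kos3: top Koszul cohomology of `CohIII.koszulCx` is `M / (xs) M`.
-/

open CategoryTheory CategoryTheory.Limits CochainComplex HomComplex
open scoped Pointwise

set_option linter.unusedSimpArgs false

namespace Groth.Agent.Lib.Helper16.Kos

universe u
variable {A : Type u} [CommRing A]

attribute [local instance] HasDerivedCategory.standard

lemma homologyMap_smul_id (K : CochainComplex (ModuleCat.{u} A) ℤ) (x : A) (n : ℤ) :
    HomologicalComplex.homologyMap (x • 𝟙 K) n = x • 𝟙 (K.homology n) := by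
  have h : (HomologicalComplex.shortComplexFunctor (ModuleCat.{u} A) (ComplexShape.up ℤ) n).map
      (x • 𝟙 K) = x • 𝟙 _ := by
    ext <;> rfl
  change ShortComplex.homologyMap _ = _
  rw [h, ShortComplex.homologyMap_smul, ShortComplex.homologyMap_id]
  rfl

lemma isZero_koszulCx_X_pos (M : ModuleCat.{u} A) : ∀ (fs : List A) (n : ℤ), 0 < n →
    IsZero ((CohIII.koszulCx M fs).X n)
  | [], n, hn => HomologicalComplex.isZero_single_obj_X (ComplexShape.up ℤ) 0 M n (by omega)
  | f :: fs, n, hn => by
    change IsZero ((mappingCone (f • 𝟙 (CohIII.koszulCx M fs))).X n)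
    rw [mappingCone.isZero_X_iff]
    exact ⟨isZero_koszulCx_X_pos M fs (n + 1) (by omega), isZero_koszulCx_X_pos M fs n hn⟩

/-- `H^0(cone(x on K)) = H^0(K) / x H^0(K)` when `K^1 = 0`. -/
lemma cone_top (K : CochainComplex (ModuleCat.{u} A) ℤ) (hK : IsZero (K.X 1)) (x : A) :
    Nonempty (((mappingCone (x • 𝟙 K)).homology 0) ≃ₗ[A] QuotSMulTop x (K.homology 0)) := by
  set φ : K ⟶ K := x • 𝟙 K with hφ
  let T := mappingCone.triangle φ
  have hT : DerivedCategory.Q.mapTriangle.obj T ∈ distTriang _ :=
    DerivedCategory.mappingCone_triangle_distinguished φ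
  have h2 := CochainComplex.homologyMap_exact₂_of_distTriang T hT 0
  have h3 := CochainComplex.homologyMap_exact₃_of_distTriang T hT 0 1 (by omega)
  have hz : IsZero (K.homology 1) := by
    rw [← HomologicalComplex.exactAt_iff_isZero_homology]
    exact HomologicalComplex.ExactAt.of_isZero hK
  have hepi : Epi (HomologicalComplex.homologyMap (mappingCone.inr φ) 0) :=
    h3.epi_f (hz.eq_of_tgt _ _)
  have hφ0 : HomologicalComplex.homologyMap φ 0 = x • 𝟙 (K.homology 0) := homologyMap_smul_id K x 0
  have hzero : HomologicalComplex.homologyMap φ 0 ≫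
      HomologicalComplex.homologyMap (mappingCone.inr φ) 0 = 0 :=
    CochainComplex.homologyMap_comp_eq_zero_of_distTriang T hT 0
  let p : K.homology 0 →ₗ[A] (mappingCone φ).homology 0 :=
    (HomologicalComplex.homologyMap (mappingCone.inr φ) 0).hom
  have hsurj : Function.Surjective p := (ModuleCat.epi_iff_surjective _).1 hepi
  have hφapp : ∀ z : K.homology 0, (HomologicalComplex.homologyMap φ 0).hom z = x • z := by
    intro z
    rw [hφ0]
    rfl
  have hker : LinearMap.ker p = x • (⊤ : Submodule A (K.homology 0)) := by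
    ext y
    rw [LinearMap.mem_ker]
    constructor
    · intro hy
      rw [ShortComplex.moduleCat_exact_iff] at h2
      obtain ⟨z, hz⟩ := h2 y hy
      have hz' : x • (show K.homology 0 from z) = y := (hφapp _).symm.trans hz
      rw [← hz']
      exact Submodule.smul_mem_pointwise_smul _ x ⊤ Submodule.mem_top
    · rintro ⟨z, -, rfl⟩
      have := congr($(hzero).hom z)
      rw [ModuleCat.hom_comp, LinearMap.comp_apply, hφapp] at this
      exact this
  exact ⟨((Submodule.quotEquivOfEq _ _ hker.symm) ≪≫ₗ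
    LinearMap.quotKerEquivOfSurjective p hsurj).symm⟩

/-- S11917 in cohomological degree form. -/
theorem koszul_top (M : Type u) [AddCommGroup M] [Module A M] : ∀ xs : List A,
    Nonempty (((CohIII.koszulCx (ModuleCat.of A M) xs).homology 0) ≃ₗ[A]
      (M ⧸ (Ideal.ofList xs • (⊤ : Submodule A M))))
  | [] => by
    have e1 : ((CohIII.koszulCx (ModuleCat.of A M) []).homology 0) ≅ ModuleCat.of A M :=
      HomologicalComplex.singleObjHomologySelfIso (ComplexShape.up ℤ) 0 (ModuleCat.of A M)
    have hbot : (Ideal.ofList ([] : List A) • (⊤ : Submodule A M)) = ⊥ := by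
      rw [Ideal.ofList_nil, Submodule.bot_smul]
    exact ⟨e1.toLinearEquiv ≪≫ₗ (Submodule.quotEquivOfEqBot _ hbot).symm⟩
  | x :: xs => by
    obtain ⟨e⟩ := koszul_top M xs
    obtain ⟨e1⟩ := cone_top (CohIII.koszulCx (ModuleCat.of A M) xs)
      (isZero_koszulCx_X_pos _ xs 1 (by norm_num)) x
    exact ⟨e1 ≪≫ₗ QuotSMulTop.congr x e ≪≫ₗ
      (Submodule.quotOfListConsSMulTopEquivQuotSMulTopOuter M x xs).symm⟩

end Groth.Agent.Lib.Helper16.Kos
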