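import Mathlib
import Groth.Prelude.Def_ega3

/-!
# Helper16 — Kos1: Koszul complexes by iterated cones (`CohIII.koszulCx`): null-homotopies
-/

open CategoryTheory CategoryTheory.Limits CochainComplex HomComplex

namespace Groth.Agent.Lib.Helper16.Kos

universe u
variable {A : Type u} [CommRing A]

/-- multiplication by `x` is null-homotopic on the cone of multiplication by `x`. -/
noncomputable def homotopyHead (K : CochainComplex (ModuleCat.{u} A) ℤ) (x : A) :
    Homotopy (x • 𝟙 (mappingCone (x • 𝟙 K))) 0 :=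
  mappingCone.descHomotopy (x • 𝟙 K) _ _ 0 (mappingCone.inl _) (by
    ext p q hpq
    simp) (by
    rw [mappingCone.δ_inl]
    ext p
    simp)

/-- a null-homotopy of `a • 𝟙 K` induces one on the cone of `x • 𝟙 K`. -/
noncomputable def homotopyTail (K : CochainComplex (ModuleCat.{u} A) ℤ) (x a : A)
    (H : Homotopy (a • 𝟙 K) 0) :
    Homotopy (a • 𝟙 (mappingCone (x • 𝟙 K))) 0 :=
  mappingCone.descHomotopy (x • 𝟙 K) _ _
    (-((Cochain.ofHomotopy H).comp (mappingCone.inl (x • 𝟙 K)) (by norm_num : (-1 : ℤ) + (-1) = -2)))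
    ((Cochain.ofHomotopy H).comp (Cochain.ofHom (mappingCone.inr (x • 𝟙 K))) (add_zero (-1))) (by
    rw [δ_neg, δ_comp _ _ (by norm_num : (-1 : ℤ) + (-1) = -2) 0 0 (-1) (by norm_num) (by norm_num)
      (by norm_num), mappingCone.δ_inl, δ_ofHomotopy]
    ext p q hpq
    simp) (by
    rw [δ_comp_ofHom, δ_ofHomotopy]
    ext p
    simp)

/-- S14433 -/
theorem smul_homotopic_zero (M : ModuleCat.{u} A) (xs : List A) :
    ∀ (a : A), a ∈ Ideal.span {x | x ∈ xs} →
      Nonempty (Homotopy (a • 𝟙 (CohIII.koszulCx M xs)) 0) := by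
  induction xs with
  | nil =>
    intro a ha
    have h0 : a = 0 := by simpa using ha
    subst h0
    exact ⟨Homotopy.ofEq (zero_smul _ _)⟩
  | cons x xs ih =>
    intro a ha
    have hset : {y | y ∈ x :: xs} = insert x {y | y ∈ xs} := by
      ext y; simp
    rw [hset, Ideal.mem_span_insert] at ha
    obtain ⟨c, z, hz, rfl⟩ := ha
    obtain ⟨H⟩ := ih z hz
    have e : (c * x + z) • 𝟙 (CohIII.koszulCx M (x :: xs)) =
        c • (x • 𝟙 (CohIII.koszulCx M (x :: xs))) + z • 𝟙 (CohIII.koszulCx M (x :: xs)) := by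
      rw [add_smul, mul_smul]
    rw [e]
    have h1 : Homotopy (x • 𝟙 (CohIII.koszulCx M (x :: xs))) 0 :=
      homotopyHead (CohIII.koszulCx M xs) x
    have h2 : Homotopy (z • 𝟙 (CohIII.koszulCx M (x :: xs))) 0 :=
      homotopyTail (CohIII.koszulCx M xs) x z H
    exact ⟨((h1.smul c).add h2).trans (Homotopy.ofEq (by simp))⟩

/-- S2424 -/
theorem koszulH_isZero_of_span_eq_top (fs : List A) (hfs : Ideal.span {a | a ∈ fs} = ⊤)
    (M : ModuleCat.{u} A) (n : ℤ) : IsZero ((CohIII.koszulCx M fs).homology n) := by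
  obtain ⟨H⟩ := smul_homotopic_zero M fs 1 (by rw [hfs]; trivial)
  rw [one_smul] at H
  rw [IsZero.iff_id_eq_zero, ← HomologicalComplex.homologyMap_id, H.homologyMap_eq n,
    HomologicalComplex.homologyMap_zero]

end Groth.Agent.Lib.Helper16.Kos
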