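import Mathlib
import Groth.Agent.Lib.Helper5.LciB
import Groth.Agent.Lib.Helper5.KosRegA
import Groth.Agent.Lib.Helper21.DepthKit14
import Groth.Agent.Lib.helper11.ExtKoszul

/-!
# Helper16 — FLI1: Koszul-regular ideals in Noetherian rings are locally generated by regular
sequences; `Ext^i_T(T/(xs), T)` for a regular sequence `xs` in a Noetherian ring.
-/

set_option autoImplicit false
universe u

open CategoryTheory RingTheory.Sequence CategoryTheory.Abelian

namespace Groth.Agent.Lib.Helper16.FLI

section Spread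

variable {A : Type u} [CommRing A] [IsNoetherianRing A]

open Groth.Agent.Lib.Helper21.DepthKit Groth.Agent.Lib.Helper7.RegSpread in
/-- spreading out a weakly regular sequence to all sufficiently small basic opens -/
theorem exists_isWeaklyRegular_away_dvd (xs : List A) (M : Type u) [AddCommGroup M]
    [Module A M] [Module.Finite A M] (p : Ideal A) [p.IsPrime]
    (h : IsWeaklyRegular (LocalizedModule p.primeCompl M)
      (xs.map (algebraMap A (Localization.AtPrime p)))) :
    ∃ g ∉ p, ∀ h : A, g ∣ h → IsWeaklyRegular (LocalizedModule (Submonoid.powers h) M)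
        (xs.map (algebraMap A (Localization (Submonoid.powers h)))) := by
  classical
  rw [isWeaklyRegular_localization_iff] at h
  have key : ∀ i : Fin xs.length, ∃ g ∉ p, ∀ h : A, g ∣ h →
      IsSMulRegular (LocalizedModule (Submonoid.powers h)
        (M ⧸ (Ideal.ofList (xs.take i) • ⊤ : Submodule A M)))
        (algebraMap A (Localization (Submonoid.powers h)) xs[i]) := by
    intro i
    exact exists_isSMulRegular_away xs[i] _ p (h i i.2)
  choose g hgp hg using key
  refine ⟨∏ i : Fin xs.length, g i, ?_, ?_⟩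
  · intro hmem
    obtain ⟨i, -, hi⟩ := (Ideal.IsPrime.prod_mem_iff (hp := inferInstance)).1 hmem
    exact hgp i hi
  · intro h' hdvd
    rw [isWeaklyRegular_localization_iff']
    intro i hi
    exact hg ⟨i, hi⟩ _ (dvd_trans (Finset.dvd_prod_of_mem _ (Finset.mem_univ _)) hdvd)

omit [IsNoetherianRing A] in
/-- transfer of weak regularity from the localized module `S⁻¹A` to the ring `S⁻¹A` -/
theorem isWeaklyRegular_localization_ring (S : Submonoid A) (xs : List A) :
    IsWeaklyRegular (LocalizedModule S A) (xs.map (algebraMap A (Localization S))) ↔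
      IsWeaklyRegular (Localization S) (xs.map (algebraMap A (Localization S))) := by
  let e : LocalizedModule S A ≃ₗ[A] Localization S :=
    IsLocalizedModule.iso S (Algebra.linearMap A (Localization S))
  refine e.toAddEquiv.isWeaklyRegular_congr ?_
  rw [List.forall₂_same]
  intro r hr x
  obtain ⟨a, -, rfl⟩ := List.mem_map.1 hr
  change e (algebraMap A (Localization S) a • x) = algebraMap A (Localization S) a • e x
  rw [algebraMap_smul, algebraMap_smul, map_smul]

end Spread

section Gens

variable {P : Type u} [CommRing P] [IsNoetherianRing P]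

/-- A Koszul-regular ideal in a Noetherian ring is, near each prime containing it, generated by
a regular sequence (of global elements of the ideal). -/
theorem exists_regular_gens (I : Ideal P) (hI : LCI.IsKoszulRegularIdeal I)
    (q : Ideal P) [hq : q.IsPrime] (hIq : I ≤ q) :
    ∃ g : P, g ∉ q ∧ ∃ a : List P,
      IsRegular (Localization.Away g) (a.map (algebraMap P (Localization.Away g))) ∧
      I.map (algebraMap P (Localization.Away g)) =
        Ideal.ofList (a.map (algebraMap P (Localization.Away g))) := by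
  obtain ⟨g₁, hg₁, a, haI, hKR, hspan⟩ :=
    Groth.Agent.Lib.Helper5.Lci.exists_global_gens I hI q hIq
  have hKRq := Groth.Agent.Lib.Helper5.Lci.kr_atPrime_of_kr_away a g₁ hKR q hg₁
  have hmem : ∀ x ∈ a.map (algebraMap P (Localization.AtPrime q)),
      x ∈ IsLocalRing.maximalIdeal (Localization.AtPrime q) := by
    intro x hx
    obtain ⟨y, hy, rfl⟩ := List.mem_map.1 hx
    rw [← Localization.AtPrime.map_eq_maximalIdeal]
    exact Ideal.mem_map_of_mem _ (hIq (haI y hy))
  have hreg : IsRegular (Localization.AtPrime q) (a.map (algebraMap P (Localization.AtPrime q))) :=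
    Groth.Agent.Lib.Helper5.KosReg.isRegular_of_koszulRegular _ hmem hKRq
  have hw : IsWeaklyRegular (LocalizedModule q.primeCompl P)
      (a.map (algebraMap P (Localization.AtPrime q))) :=
    (isWeaklyRegular_localization_ring q.primeCompl a).2 hreg.toIsWeaklyRegular
  obtain ⟨g₂, hg₂, hdvd⟩ := exists_isWeaklyRegular_away_dvd a P q hw
  refine ⟨g₁ * g₂, fun h => (hq.mem_or_mem h).elim hg₁ hg₂, a, ?_, ?_⟩
  · have hspan' : I.map (algebraMap P (Localization.Away (g₁ * g₂))) =
        Ideal.ofList (a.map (algebraMap P (Localization.Away (g₁ * g₂)))) := by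
      refine Groth.Agent.Lib.Helper5.Lci.map_eq_ofList_of_isUnit I a g₁ hspan _ ?_
      have h1 : IsUnit (algebraMap P (Localization.Away (g₁ * g₂)) (g₁ * g₂)) :=
        IsLocalization.Away.algebraMap_isUnit _
      rw [map_mul] at h1
      exact isUnit_of_mul_isUnit_left h1
    refine ⟨(isWeaklyRegular_localization_ring (Submonoid.powers (g₁ * g₂)) a).1
      (hdvd (g₁ * g₂) (dvd_mul_left g₂ g₁)), ?_⟩
    rw [smul_eq_mul, Ideal.mul_top, ← hspan']
    refine Ne.symm ?_
    rw [IsLocalization.map_algebraMap_ne_top_iff_disjoint (Submonoid.powers (g₁ * g₂))]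
    rw [Set.disjoint_left]
    rintro x ⟨k, rfl⟩ hx
    exact (fun h => (hq.mem_or_mem h).elim hg₁ hg₂) (hq.mem_of_pow_mem k (hIq hx))
  · refine Groth.Agent.Lib.Helper5.Lci.map_eq_ofList_of_isUnit I a g₁ hspan _ ?_
    have h1 : IsUnit (algebraMap P (Localization.Away (g₁ * g₂)) (g₁ * g₂)) :=
      IsLocalization.Away.algebraMap_isUnit _
    rw [map_mul] at h1
    exact isUnit_of_mul_isUnit_left h1

end Gens

section ExtReg

variable {T : Type u} [CommRing T] [IsNoetherianRing T]

/-- `Ext^i_T(T/(xs), T) = 0` for `i ≠ length xs`, for a regular sequence `xs`. -/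
theorem subsingleton_ext_quotient_regular (xs : List T) (h : IsRegular T xs) (i : ℕ)
    (hi : i ≠ xs.length) :
    Subsingleton (Ext (ModuleCat.of T (T ⧸ Ideal.ofList xs)) (ModuleCat.of T T) i) := by
  rcases lt_or_gt_of_ne hi with hlt | hgt
  · have htop : Ideal.ofList xs • (⊤ : Submodule T (ModuleCat.of T T)) < ⊤ :=
      lt_of_le_of_ne le_top h.top_ne_smul.symm
    have hsupp : Module.support T (ModuleCat.of T (T ⧸ Ideal.ofList xs)) ⊆
        PrimeSpectrum.zeroLocus (Ideal.ofList xs) := by
      change Module.support T (T ⧸ Ideal.ofList xs) ⊆ _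
      rw [Module.support_eq_zeroLocus, Ideal.annihilator_quotient]
    exact ModuleCat.subsingleton_ext_of_exists_isRegular (Ideal.ofList xs)
      (ModuleCat.of T (T ⧸ Ideal.ofList xs)) hsupp (ModuleCat.of T T) htop xs
      (fun r hr => Ideal.subset_span hr) h i hlt
  · refine ⟨fun e e' => ?_⟩
    rw [(Groth.Agent.Lib.helper11.ExtKoszul.claim_ofList T xs h.toIsWeaklyRegular).1 T i hgt e,
      (Groth.Agent.Lib.helper11.ExtKoszul.claim_ofList T xs h.toIsWeaklyRegular).1 T i hgt e']

omit [IsNoetherianRing T] in
/-- `Ext^c_T(T/(xs), T) ≃ T/(xs)` for `c = length xs`, for a weakly regular sequence `xs`. -/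
theorem nonempty_ext_quotient_regular (xs : List T) (h : IsWeaklyRegular T xs) :
    Nonempty (Ext (ModuleCat.of T (T ⧸ Ideal.ofList xs)) (ModuleCat.of T T) xs.length ≃ₗ[T]
      (T ⧸ Ideal.ofList xs)) := by
  obtain ⟨e⟩ := Groth.Agent.Lib.helper11.ExtKoszul.ext_quotient_top T xs h T
  have h4 : (Ideal.ofList xs • ⊤ : Submodule T T) = Ideal.ofList xs := by
    rw [smul_eq_mul, Ideal.mul_top]
  exact ⟨e ≪≫ₗ Submodule.quotEquivOfEq _ _ h4⟩

end ExtReg

end Groth.Agent.Lib.Helper16.FLI
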