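import Mathlib

/-!
# Helper16 — FLJ1: a comparison lemma for two "fibres" of the same morphism in a linear
pretriangulated category.
-/

set_option autoImplicit false
universe v u

open CategoryTheory CategoryTheory.Limits CategoryTheory.Pretriangulated

namespace Groth.Agent.Lib.Helper16.FLJ

variable {C : Type u} [Category.{v} C] [Preadditive C] [HasZeroObject C] [HasShift C ℤ]
  [∀ n : ℤ, (shiftFunctor C n).Additive] [Pretriangulated C]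
  {R : Type*} [CommRing R] [Linear R C] [∀ n : ℤ, (shiftFunctor C n).Linear R]

/-- Let `T₁`, `T₂` be distinguished triangles whose second morphisms agree up to isomorphisms
`b`, `c` of the last two vertices.  Let `r : T₁.obj₁ ⟶ T₂.obj₁` be any morphism compatible with
the first morphisms.  If `x` kills `T₁.obj₁` and the endomorphisms of `T₂.obj₃` have no
`x`-torsion, then `r` is an isomorphism. -/
theorem isIso_of_fibres (T₁ T₂ : Triangle C) (h₁ : T₁ ∈ distTriang C) (h₂ : T₂ ∈ distTriang C)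
    (b : T₁.obj₂ ≅ T₂.obj₂) (c : T₁.obj₃ ≅ T₂.obj₃) (comm : T₁.mor₂ ≫ c.hom = b.hom ≫ T₂.mor₂)
    (x : R) (hN : x • 𝟙 T₁.obj₁ = 0)
    (hL : ∀ s : T₂.obj₃ ⟶ T₂.obj₃, x • s = 0 → s = 0)
    (r : T₁.obj₁ ⟶ T₂.obj₁) (hr : r ≫ T₂.mor₁ = T₁.mor₁ ≫ b.hom) : IsIso r := by
  -- the comparison isomorphism from the axioms
  obtain ⟨w₀, hw₁, hw₂⟩ :=
    complete_distinguished_triangle_morphism₁ T₁ T₂ h₁ h₂ b.hom c.hom comm
  let φ : T₁ ⟶ T₂ :=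
    { hom₁ := w₀, hom₂ := b.hom, hom₃ := c.hom, comm₁ := hw₁, comm₂ := comm, comm₃ := hw₂ }
  have hφ₂ : IsIso φ.hom₂ := by dsimp [φ]; infer_instance
  have hφ₃ : IsIso φ.hom₃ := by dsimp [φ]; infer_instance
  haveI hw₀ : IsIso w₀ := isIso₁_of_isIso₂₃ φ h₁ h₂ hφ₂ hφ₃
  -- the difference factors through the connecting morphism
  have hd : ((r - w₀)⟦(1 : ℤ)⟧') ≫ T₂.mor₁⟦(1 : ℤ)⟧' = 0 := by
    rw [← Functor.map_comp, Preadditive.sub_comp, hr, hw₁, sub_self, Functor.map_zero]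
  obtain ⟨g, hg⟩ := Triangle.coyoneda_exact₁ T₂ h₂ ((r - w₀)⟦(1 : ℤ)⟧') hd
  -- the nilpotent endomorphism
  let n : T₁.obj₁⟦(1 : ℤ)⟧ ⟶ T₁.obj₁⟦(1 : ℤ)⟧ := g ≫ T₂.mor₃ ≫ (inv w₀)⟦(1 : ℤ)⟧'
  have hxg : x • g = 0 := by
    have h1 : x • g = (x • 𝟙 (T₁.obj₁⟦(1 : ℤ)⟧)) ≫ g := by
      rw [Linear.smul_comp, Category.id_comp]
    have h2 : x • 𝟙 (T₁.obj₁⟦(1 : ℤ)⟧) = (x • 𝟙 T₁.obj₁)⟦(1 : ℤ)⟧' := by
      rw [Functor.map_smul, CategoryTheory.Functor.map_id]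
    rw [h1, h2, hN, Functor.map_zero, zero_comp]
  have hs : T₂.mor₃ ≫ (inv w₀)⟦(1 : ℤ)⟧' ≫ g = 0 := by
    apply hL
    rw [← Linear.comp_smul, ← Linear.comp_smul, hxg, comp_zero, comp_zero]
  have hnn : n ≫ n = 0 := by
    change (g ≫ T₂.mor₃ ≫ (inv w₀)⟦(1 : ℤ)⟧') ≫ g ≫ T₂.mor₃ ≫ (inv w₀)⟦(1 : ℤ)⟧' = 0
    have : (g ≫ T₂.mor₃ ≫ (inv w₀)⟦(1 : ℤ)⟧') ≫ g ≫ T₂.mor₃ ≫ (inv w₀)⟦(1 : ℤ)⟧' =
        g ≫ (T₂.mor₃ ≫ (inv w₀)⟦(1 : ℤ)⟧' ≫ g) ≫ T₂.mor₃ ≫ (inv w₀)⟦(1 : ℤ)⟧' := by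
      simp only [Category.assoc]
    rw [this, hs, zero_comp, comp_zero]
  have hr1 : r⟦(1 : ℤ)⟧' = (𝟙 _ + n) ≫ w₀⟦(1 : ℤ)⟧' := by
    have h3 : r⟦(1 : ℤ)⟧' = w₀⟦(1 : ℤ)⟧' + (r - w₀)⟦(1 : ℤ)⟧' := by
      rw [← Functor.map_add, add_sub_cancel]
    rw [h3, hg, Preadditive.add_comp, Category.id_comp]
    congr 1
    change _ = (g ≫ T₂.mor₃ ≫ (inv w₀)⟦(1 : ℤ)⟧') ≫ w₀⟦(1 : ℤ)⟧'
    rw [Category.assoc, Category.assoc, ← Functor.map_comp, IsIso.inv_hom_id,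
      CategoryTheory.Functor.map_id, Category.comp_id]
  haveI : IsIso (𝟙 (T₁.obj₁⟦(1 : ℤ)⟧) + n) :=
    ⟨⟨𝟙 _ - n, by
      rw [Preadditive.add_comp, Preadditive.comp_sub, Preadditive.comp_sub, hnn]; simp,
      by rw [Preadditive.sub_comp, Preadditive.comp_add, Preadditive.comp_add, hnn]; simp⟩⟩
  haveI : IsIso (r⟦(1 : ℤ)⟧') := by rw [hr1]; infer_instance
  exact isIso_of_reflects_iso r (shiftFunctor C (1 : ℤ))

end Groth.Agent.Lib.Helper16.FLJ
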