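import Mathlib

/-!
# Elementary theory of "derived `r`-complete" modules

`DCf r M`: the map `Φ_r : M^ℕ → M^ℕ`, `(m_n) ↦ (m_n - r m_{n+1})` is bijective
(equivalently `Hom(R_r, M) = 0 = Ext¹(R_r, M)`).
-/

namespace Groth.Agent.Lib.Helper16.DComp

universe u v w

variable {R : Type u} [CommRing R]

section Basic

variable (r : R) (M : Type v) [AddCommGroup M] [Module R M]

/-- `Φ_r : (m_n) ↦ (m_n - r m_{n+1})`. -/
def Phi : (ℕ → M) →ₗ[R] (ℕ → M) where
  toFun m n := m n - r • m (n + 1)
  map_add' m m' := by
    funext n
    simp only [Pi.add_apply, smul_add]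
    abel
  map_smul' a m := by
    funext n
    simp only [Pi.smul_apply, RingHom.id_apply, smul_sub, smul_comm a r]

@[simp] lemma Phi_apply (m : ℕ → M) (n : ℕ) : Phi r M m n = m n - r • m (n + 1) := rfl

/-- the shift operator on sequences -/
def shift (R : Type u) [CommRing R] (M : Type v) [AddCommGroup M] [Module R M] :
    (ℕ → M) →ₗ[R] (ℕ → M) where
  toFun m n := m (n + 1)
  map_add' _ _ := rfl
  map_smul' _ _ := rfl

@[simp] lemma shift_apply (m : ℕ → M) (n : ℕ) : shift R M m n = m (n + 1) := rfl

lemma Phi_shift (m : ℕ → M) : Phi r M (shift R M m) = shift R M (Phi r M m) := rfl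

lemma Phi_comm (a b : R) (m : ℕ → M) : Phi a M (Phi b M m) = Phi b M (Phi a M m) := by
  funext n
  simp only [Phi_apply, smul_sub, smul_smul, mul_comm a b]
  abel

/-- `M` is derived complete with respect to `r`. -/
def DCf : Prop := Function.Bijective (Phi r M)

variable {M} in
lemma Phi_map {N : Type w} [AddCommGroup N] [Module R N] (u : M →ₗ[R] N) (m : ℕ → M) :
    Phi r N (fun n => u (m n)) = fun n => u (Phi r M m n) := by
  funext n
  simp [Phi_apply]

end Basic

namespace DCf

variable {r : R} {M : Type v} [AddCommGroup M] [Module R M]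

lemma zero (M : Type v) [AddCommGroup M] [Module R M] : DCf (0 : R) M := by
  have : Phi (0 : R) M = LinearMap.id := by
    ext m n; simp
  rw [DCf, this]
  exact Function.bijective_id

/-- the inverse of `Φ`. -/
noncomputable def inv (h : DCf r M) : (ℕ → M) →ₗ[R] (ℕ → M) :=
  (LinearEquiv.ofBijective (Phi r M) h).symm.toLinearMap

lemma Phi_inv (h : DCf r M) (c : ℕ → M) : Phi r M (h.inv c) = c :=
  (LinearEquiv.ofBijective (Phi r M) h).apply_symm_apply c

lemma inv_Phi (h : DCf r M) (m : ℕ → M) : h.inv (Phi r M m) = m :=
  (LinearEquiv.ofBijective (Phi r M) h).symm_apply_apply m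

lemma inv_apply_sub (h : DCf r M) (c : ℕ → M) (n : ℕ) :
    h.inv c n - r • h.inv c (n + 1) = c n :=
  congrFun (h.Phi_inv c) n

lemma eq_zero_of_forall (h : DCf r M) (m : ℕ → M) (hm : ∀ n, m n = r • m (n + 1)) : m = 0 := by
  apply h.1
  rw [map_zero]
  funext n
  simp [Phi_apply, ← hm n]

lemma inv_shift (h : DCf r M) (c : ℕ → M) : h.inv (shift R M c) = shift R M (h.inv c) := by
  apply h.1
  rw [h.Phi_inv, Phi_shift, h.Phi_inv]

/-- `Σ_r c = "∑ r^n c_n"`. -/
noncomputable def sigma (h : DCf r M) : (ℕ → M) →ₗ[R] M := (LinearMap.proj 0).comp h.inv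

lemma sigma_eq (h : DCf r M) (c : ℕ → M) : h.sigma c = c 0 + r • h.sigma (shift R M c) := by
  have := h.inv_apply_sub c 0
  change h.inv c 0 = c 0 + r • h.inv (shift R M c) 0
  rw [h.inv_shift]
  change h.inv c 0 = c 0 + r • h.inv c (0 + 1)
  rw [← this]; abel

lemma sigma_eq_partial (h : DCf r M) (c : ℕ → M) (n : ℕ) :
    h.sigma c = (∑ k ∈ Finset.range n, r ^ k • c k) + r ^ n • h.sigma ((shift R M)^[n] c) := by
  induction n generalizing c with
  | zero => simp
  | succ n ih =>
    rw [ih, h.sigma_eq ((shift R M)^[n] c), Finset.sum_range_succ, smul_add, smul_smul,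
      ← pow_succ, Function.iterate_succ_apply', add_assoc]
    congr 2
    have : ∀ (n : ℕ) (c : ℕ → M) (k : ℕ), (shift R M)^[n] c k = c (k + n) := by
      intro n
      induction n with
      | zero => intro c k; rfl
      | succ n ih =>
        intro c k
        rw [Function.iterate_succ_apply', shift_apply, ih]
        congr 1
        omega
    rw [this]; simp

/-- `(1 - r)` acts bijectively on an `r`-derived complete module. -/
lemma one_sub_bijective (h : DCf r M) : Function.Bijective (fun m : M => m - r • m) := by
  constructor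
  · intro a b hab
    have : a - b = 0 := by
      have h0 := h.eq_zero_of_forall (fun _ => a - b) (fun _ => by
        simp only at hab ⊢
        rw [smul_sub]
        have : a - b - (r • a - r • b) = 0 := by
          have := sub_eq_zero.mpr hab
          rw [← this]; abel
        exact (sub_eq_zero.mp this))
      exact congrFun h0 0
    exact sub_eq_zero.mp this
  · intro e
    let m := h.inv (fun _ => e)
    have hs : shift R M m = m := by
      rw [← h.inv_shift]
      rfl
    refine ⟨m 0, ?_⟩
    have h1 := h.inv_apply_sub (fun _ => e) 0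
    have h2 : m (0 + 1) = m 0 := congrFun hs 0
    change m 0 - r • m (0 + 1) = e at h1
    rw [h2] at h1
    exact h1

/-- If `r` acts surjectively on an `r`-derived complete module then the module is zero. -/
lemma subsingleton_of_surjective (h : DCf r M) (hs : Function.Surjective (fun m : M => r • m)) :
    Subsingleton M := by
  refine subsingleton_of_forall_eq 0 (fun e => ?_)
  let m : ℕ → M := fun n => Nat.rec e (fun _ x => Classical.choose (hs x)) n
  have hm : ∀ n, m n = r • m (n + 1) := fun n => (Classical.choose_spec (hs (m n))).symm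
  have := h.eq_zero_of_forall m hm
  exact congrFun this 0

section Maps

variable {N : Type w} [AddCommGroup N] [Module R N]

lemma injective_of_injective (hN : DCf r N) (u : M →ₗ[R] N) (hu : Function.Injective u) :
    Function.Injective (Phi r M) := by
  rw [injective_iff_map_eq_zero]
  intro m hm
  have : (fun n => u (m n)) = 0 := by
    apply hN.1
    rw [Phi_map, hm, map_zero]
    funext n; simp
  funext n
  exact hu (by simpa using congrFun this n)

lemma surjective_of_surjective (hM : DCf r M) (u : M →ₗ[R] N) (hu : Function.Surjective u) :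
    Function.Surjective (Phi r N) := by
  intro c
  choose c' hc' using fun n => hu (c n)
  refine ⟨fun n => u (hM.inv c' n), ?_⟩
  rw [Phi_map]
  funext n
  rw [hM.Phi_inv, hc']

lemma of_equiv (hM : DCf r M) (e : M ≃ₗ[R] N) : DCf r N :=
  ⟨hM.injective_of_injective e.symm.toLinearMap e.symm.injective,
    hM.surjective_of_surjective e.toLinearMap e.surjective⟩

lemma range (hM : DCf r M) (hN : DCf r N) (u : M →ₗ[R] N) : DCf r (LinearMap.range u) :=
  ⟨hN.injective_of_injective (LinearMap.range u).subtype (Submodule.subtype_injective _),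
    hM.surjective_of_surjective u.rangeRestrict u.surjective_rangeRestrict⟩

lemma sub_iff_quotient (hN : DCf r N) (P : Submodule R N) : DCf r P ↔ DCf r (N ⧸ P) := by
  constructor
  · intro hP
    refine ⟨?_, hN.surjective_of_surjective P.mkQ P.mkQ_surjective⟩
    rw [injective_iff_map_eq_zero]
    intro c hc
    choose n hn using fun k => P.mkQ_surjective (c k)
    have h1 : ∀ k, Phi r N n k ∈ P := by
      intro k
      have := congrFun hc k
      rw [← (funext hn : (fun k => P.mkQ (n k)) = c), Phi_map] at this
      simpa only [Pi.zero_apply, Submodule.mkQ_apply, Submodule.Quotient.mk_eq_zero] using this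
    obtain ⟨p, hp⟩ := hP.2 (fun k => ⟨Phi r N n k, h1 k⟩)
    have h2 : n = fun k => (p k : N) := by
      apply hN.1
      have := Phi_map r P.subtype p
      simp only [Submodule.subtype_apply] at this
      rw [this, hp]
    funext k
    rw [← hn k, h2]
    simp
  · intro hQ
    refine ⟨hN.injective_of_injective P.subtype P.subtype_injective, ?_⟩
    intro c
    let n := hN.inv (fun k => (c k : N))
    have h1 : (fun k => P.mkQ (n k)) = 0 := by
      apply hQ.1
      rw [Phi_map, map_zero]
      funext k
      rw [hN.Phi_inv]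
      simp
    have h2 : ∀ k, n k ∈ P := fun k => by
      have := congrFun h1 k
      simpa using this
    refine ⟨fun k => ⟨n k, h2 k⟩, ?_⟩
    funext k
    apply Subtype.ext
    have := hN.inv_apply_sub (fun k => (c k : N)) k
    simpa [Phi_apply] using this

lemma ker (hM : DCf r M) (hN : DCf r N) (u : M →ₗ[R] N) : DCf r (LinearMap.ker u) :=
  (hM.sub_iff_quotient _).mpr ((hM.range hN u).of_equiv u.quotKerEquivRange.symm)

lemma coker (hM : DCf r M) (hN : DCf r N) (u : M →ₗ[R] N) : DCf r (N ⧸ LinearMap.range u) :=
  (hN.sub_iff_quotient _).mp (hM.range hN u)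

lemma pi (hM : DCf r M) (ι : Type*) : DCf r (ι → M) := by
  constructor
  · rw [injective_iff_map_eq_zero]
    intro m hm
    funext n i
    have : (fun n => m n i) = 0 := by
      apply hM.1
      rw [map_zero]
      funext n
      simpa using congrFun (congrFun hm n) i
    exact congrFun this n
  · intro c
    refine ⟨fun n i => hM.inv (fun k => c k i) n, ?_⟩
    funext n i
    exact hM.inv_apply_sub (fun k => c k i) n

end Maps

/-- Key criterion: if `N` is `g`-derived complete and `g` acts surjectively on the kernel and
cokernel of `Φ_a` then `N` is `a`-derived complete. -/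
lemma of_surjective_on_ker_coker {g a : R} {N : Type v} [AddCommGroup N] [Module R N]
    (hg : DCf g N)
    (h1 : ∀ w, Phi a N w = 0 → ∃ w', Phi a N w' = 0 ∧ w = g • w')
    (h2 : ∀ w, ∃ w' z, w = g • w' + Phi a N z) : DCf a N := by
  have hW : DCf g (ℕ → N) := hg.pi ℕ
  constructor
  · have hE : DCf g (LinearMap.ker (Phi a N)) := hW.ker hW _
    have : Subsingleton (LinearMap.ker (Phi a N)) := by
      apply hE.subsingleton_of_surjective
      rintro ⟨w, hw⟩
      obtain ⟨w', hw', rfl⟩ := h1 w hw
      exact ⟨⟨w', hw'⟩, rfl⟩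
    rw [← LinearMap.ker_eq_bot, ← Submodule.subsingleton_iff_eq_bot]
    exact this
  · have hE : DCf g ((ℕ → N) ⧸ LinearMap.range (Phi a N)) := hW.coker hW _
    have : Subsingleton ((ℕ → N) ⧸ LinearMap.range (Phi a N)) := by
      apply hE.subsingleton_of_surjective
      intro x
      obtain ⟨w, rfl⟩ := Submodule.mkQ_surjective _ x
      obtain ⟨w', z, hw⟩ := h2 w
      refine ⟨Submodule.mkQ _ w', ?_⟩
      change g • Submodule.mkQ _ w' = Submodule.mkQ _ w
      rw [hw, map_add, map_smul]
      have : (LinearMap.range (Phi a N)).mkQ (Phi a N z) = 0 := by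
        simp
      rw [this, add_zero]
    rw [← LinearMap.range_eq_top, ← Submodule.Quotient.subsingleton_iff]
    exact this

variable {N : Type v} [AddCommGroup N] [Module R N]

lemma Phi_add_eq (f g : R) (v : ℕ → N) : Phi f N v = Phi (f + g) N v + g • shift R N v := by
  funext n
  simp only [Phi_apply, Pi.add_apply, Pi.smul_apply, shift_apply, add_smul]
  abel

lemma mul_left {f : R} (hf : DCf f N) (s : R) : DCf (s * f) N := by
  apply hf.of_surjective_on_ker_coker
  · intro w hw
    refine ⟨s • shift R N w, ?_, ?_⟩
    · rw [map_smul, Phi_shift, hw, map_zero, smul_zero]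
    · funext n
      have := congrFun hw n
      simp only [Phi_apply, Pi.zero_apply, sub_eq_zero] at this
      simp only [Pi.smul_apply, shift_apply, smul_smul]
      rw [this, mul_comm f s]
  · intro w
    refine ⟨s • shift R N w, w, ?_⟩
    funext n
    simp only [Pi.add_apply, Pi.smul_apply, shift_apply, Phi_apply, smul_smul, mul_comm f s]
    abel

lemma add {f g : R} (hf : DCf f N) (hg : DCf g N) : DCf (f + g) N := by
  have hcomm : ∀ w, Phi (f + g) N (hf.inv w) = hf.inv (Phi (f + g) N w) := by
    intro w
    apply hf.1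
    rw [hf.Phi_inv, Phi_comm, hf.Phi_inv]
  apply hg.of_surjective_on_ker_coker
  · intro w hw
    have hv : Phi (f + g) N (hf.inv w) = 0 := by rw [hcomm, hw, map_zero]
    refine ⟨shift R N (hf.inv w), ?_, ?_⟩
    · rw [Phi_shift, hv, map_zero]
    · have := Phi_add_eq f g (hf.inv w)
      rw [hf.Phi_inv, hv, zero_add] at this
      exact this
  · intro w
    refine ⟨shift R N (hf.inv w), hf.inv w, ?_⟩
    have := Phi_add_eq f g (hf.inv w)
    rw [hf.Phi_inv] at this
    rw [add_comm]
    exact this

lemma of_pow {f : R} {k : ℕ} (_hk : 0 < k) (hf : DCf (f ^ k) N) : DCf f N := by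
  apply hf.of_surjective_on_ker_coker
  · have key : ∀ j : ℕ, ∀ w, Phi f N w = 0 → ∃ w', Phi f N w' = 0 ∧ w = f ^ j • w' := by
      intro j
      induction j with
      | zero => intro w hw; exact ⟨w, hw, by simp⟩
      | succ j ih =>
        intro w hw
        obtain ⟨w', hw', rfl⟩ := ih w hw
        refine ⟨shift R N w', by rw [Phi_shift, hw', map_zero], ?_⟩
        have : w' = f • shift R N w' := by
          funext n
          have := congrFun hw' n
          simpa [Phi_apply, sub_eq_zero] using this
        rw [pow_succ, mul_smul, ← this]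
    exact key k
  · have key : ∀ j : ℕ, ∀ w : ℕ → N, ∃ w' z, w = f ^ j • w' + Phi f N z := by
      intro j
      induction j with
      | zero => intro w; exact ⟨w, 0, by simp⟩
      | succ j ih =>
        intro w
        obtain ⟨w', z, rfl⟩ := ih w
        refine ⟨shift R N w', z + f ^ j • w', ?_⟩
        rw [map_add, map_smul]
        funext n
        simp only [Pi.add_apply, Pi.smul_apply, shift_apply, Phi_apply, pow_succ, mul_smul,
          smul_sub]
        abel
    exact key k

end DCf

/-- The ideal of elements `f` such that `N` is `f`-derived complete. -/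
def dcIdeal (R : Type u) [CommRing R] (N : Type v) [AddCommGroup N] [Module R N] : Ideal R where
  carrier := {f | DCf f N}
  add_mem' := fun hf hg => DCf.add hf hg
  zero_mem' := DCf.zero N
  smul_mem' := fun s _ hf => DCf.mul_left hf s

lemma mem_dcIdeal {N : Type v} [AddCommGroup N] [Module R N] {f : R} :
    f ∈ dcIdeal R N ↔ DCf f N := Iff.rfl

lemma dcIdeal_isRadical (N : Type v) [AddCommGroup N] [Module R N] : (dcIdeal R N).IsRadical := by
  intro f hf
  obtain ⟨k, hk⟩ := hf
  rcases Nat.eq_zero_or_pos k with rfl | hk0
  · -- f^0 = 1 ∈ ideal, so everything is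
    have h1 : (1 : R) ∈ dcIdeal R N := by simpa using hk
    have : f * 1 ∈ dcIdeal R N := Ideal.mul_mem_left _ f h1
    simpa using this
  · exact DCf.of_pow hk0 hk

end Groth.Agent.Lib.Helper16.DComp
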