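import Mathlib
import Groth.Agent.Lib.Helper16.DerTrunc2

/-!
# Morphisms from a projective object (in degree 0) to an object of the derived category
-/

namespace Groth.Agent.Lib.Helper16.DComp

open CategoryTheory Limits Pretriangulated

section Abstract

variable {C : Type*} [Category C] [Preadditive C] [HasZeroObject C] [HasShift C ℤ]
  [∀ n : ℤ, (shiftFunctor C n).Additive] [Pretriangulated C]

/-- For a distinguished triangle `X₁ ⟶ X₂ ⟶ X₃ ⟶`, all `Hom(X₃, Y[n])` vanish iff precomposition with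
`X₁ ⟶ X₂` is bijective on `Hom(-, Y[n])` for all `n`. -/
lemma subsingleton_iff_bijective (T : Triangle C) (hT : T ∈ distTriang C) (Y : C) :
    (∀ n : ℤ, Subsingleton (T.obj₃ ⟶ Y⟦n⟧)) ↔
      ∀ n : ℤ, Function.Bijective (fun φ : T.obj₂ ⟶ Y⟦n⟧ => T.mor₁ ≫ φ) := by
  constructor
  · intro H n
    constructor
    · intro φ φ' h
      have h0 : T.mor₁ ≫ (φ - φ') = 0 := by
        simp only at h
        rw [Preadditive.comp_sub, h, sub_self]
      obtain ⟨g, hg⟩ : ∃ g : T.obj₃ ⟶ Y⟦n⟧, φ - φ' = T.mor₂ ≫ g :=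
        Triangle.yoneda_exact₂ T hT _ h0
      rw [(H n).elim g 0, comp_zero] at hg
      exact sub_eq_zero.mp hg
    · intro χ
      have h0 : T.mor₃ ≫ χ⟦(1 : ℤ)⟧' = 0 := by
        rw [← cancel_mono ((shiftFunctorAdd' C n 1 (n + 1) rfl).inv.app Y), zero_comp]
        exact (H (n + 1)).elim _ _
      obtain ⟨g, hg⟩ : ∃ g : T.obj₂⟦(1 : ℤ)⟧ ⟶ (Y⟦n⟧)⟦(1 : ℤ)⟧, χ⟦(1 : ℤ)⟧' = T.rotate.mor₃ ≫ g :=
        Triangle.yoneda_exact₃ T.rotate (rot_of_distTriang _ hT) (χ⟦(1 : ℤ)⟧') h0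
      obtain ⟨g', rfl⟩ := (shiftFunctor C (1 : ℤ)).map_surjective g
      refine ⟨-g', ?_⟩
      apply (shiftFunctor C (1 : ℤ)).map_injective
      rw [hg, Functor.map_comp, Functor.map_neg, Preadditive.comp_neg]
      change _ = (-T.mor₁⟦(1 : ℤ)⟧') ≫ _
      rw [Preadditive.neg_comp]
  · intro H n
    refine subsingleton_of_forall_eq 0 (fun ψ => ?_)
    have h1 : T.mor₂ ≫ ψ = 0 := by
      apply (H n).1
      simp only
      rw [comp_distTriang_mor_zero₁₂_assoc _ hT, zero_comp, comp_zero]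
    obtain ⟨g, hg⟩ : ∃ g : T.obj₁⟦(1 : ℤ)⟧ ⟶ Y⟦n⟧, ψ = T.mor₃ ≫ g :=
      Triangle.yoneda_exact₃ T hT ψ h1
    let e : Y⟦n⟧ ≅ (Y⟦n - 1⟧)⟦(1 : ℤ)⟧ := (shiftFunctorAdd' C (n - 1) 1 n (by omega)).app Y
    obtain ⟨g₀, hg₀⟩ := (shiftFunctor C (1 : ℤ)).map_surjective (g ≫ e.hom)
    obtain ⟨φ₀, hφ₀⟩ := (H (n - 1)).2 g₀
    simp only at hφ₀
    have : g = T.mor₁⟦(1 : ℤ)⟧' ≫ φ₀⟦(1 : ℤ)⟧' ≫ e.inv := by
      rw [← Functor.map_comp_assoc, hφ₀, hg₀, Category.assoc, e.hom_inv_id, Category.comp_id]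
    rw [hg, this, comp_distTriang_mor_zero₃₁_assoc _ hT, zero_comp]

/-- If `Hom(X, T₁) = 0 = Hom(X, T₁[1])` then `Hom(X, T₂) ≃ Hom(X, T₃)`. -/
lemma bijective_comp_mor₂ (T : Triangle C) (hT : T ∈ distTriang C) (X : C)
    (h1 : ∀ φ : X ⟶ T.obj₁, φ = 0) (h2 : ∀ φ : X ⟶ T.obj₁⟦(1 : ℤ)⟧, φ = 0) :
    Function.Bijective (fun φ : X ⟶ T.obj₂ => φ ≫ T.mor₂) := by
  constructor
  · intro φ φ' h
    have h0 : (φ - φ') ≫ T.mor₂ = 0 := by
      simp only at h
      rw [Preadditive.sub_comp, h, sub_self]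
    obtain ⟨g, hg⟩ : ∃ g : X ⟶ T.obj₁, φ - φ' = g ≫ T.mor₁ := Triangle.coyoneda_exact₂ T hT _ h0
    rw [h1 g, zero_comp] at hg
    exact sub_eq_zero.mp hg
  · intro ψ
    obtain ⟨g, hg⟩ : ∃ g : X ⟶ T.obj₂, ψ = g ≫ T.mor₂ :=
      Triangle.coyoneda_exact₃ T hT ψ (h2 _)
    exact ⟨g, hg.symm⟩

/-- If `Hom(X, T₃) = 0 = Hom(X, T₃[-1])` then `Hom(X, T₁) ≃ Hom(X, T₂)`. -/
lemma bijective_comp_mor₁ (T : Triangle C) (hT : T ∈ distTriang C) (X : C)
    (h1 : ∀ φ : X ⟶ T.obj₃, φ = 0) (h2 : ∀ φ : X ⟶ T.obj₃⟦(-1 : ℤ)⟧, φ = 0) :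
    Function.Bijective (fun φ : X ⟶ T.obj₁ => φ ≫ T.mor₁) := by
  constructor
  · intro φ φ' h
    have h0 : (φ - φ') ≫ T.mor₁ = 0 := by
      simp only at h
      rw [Preadditive.sub_comp, h, sub_self]
    obtain ⟨g, hg⟩ : ∃ g : X ⟶ T.invRotate.obj₁, φ - φ' = g ≫ T.invRotate.mor₁ :=
      Triangle.coyoneda_exact₂ T.invRotate (inv_rot_of_distTriang _ hT) _ h0
    have hg0 : g = 0 := h2 g
    subst hg0
    exact sub_eq_zero.mp (hg.trans zero_comp)
  · intro ψ
    obtain ⟨g, hg⟩ : ∃ g : X ⟶ T.obj₁, ψ = g ≫ T.mor₁ :=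
      Triangle.coyoneda_exact₂ T hT ψ (h1 _)
    exact ⟨g, hg.symm⟩

end Abstract

section Theta

open DerivedCategory

universe w v u
variable {C : Type u} [Category.{v} C] [Abelian C] [HasDerivedCategory.{w} C]

/-- `Hom_D(P[0], L) ⟶ Hom_C(P, H^0 L)`. -/
noncomputable def theta (P : C) (L : DerivedCategory C) (φ : (singleFunctor C 0).obj P ⟶ L) :
    P ⟶ (homologyFunctor C 0).obj L :=
  (singleFunctorCompHomologyFunctorIso C 0).inv.app P ≫ (homologyFunctor C 0).map φ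

lemma theta_comp_left {P' P : C} (a : P' ⟶ P) (L : DerivedCategory C)
    (φ : (singleFunctor C 0).obj P ⟶ L) :
    theta P' L ((singleFunctor C 0).map a ≫ φ) = a ≫ theta P L φ := by
  dsimp only [theta]
  rw [Functor.map_comp, ← Category.assoc, ← Category.assoc]
  congr 1
  exact ((singleFunctorCompHomologyFunctorIso C 0).inv.naturality a).symm

lemma theta_comp_right (P : C) {L L' : DerivedCategory C} (g : L ⟶ L')
    (φ : (singleFunctor C 0).obj P ⟶ L) :
    theta P L' (φ ≫ g) = theta P L φ ≫ (homologyFunctor C 0).map g := by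
  dsimp only [theta]
  rw [Functor.map_comp, Category.assoc]

lemma theta_bijective_iff (P : C) {L L' : DerivedCategory C} (g : L ⟶ L')
    (hg : Function.Bijective (fun φ : (singleFunctor C 0).obj P ⟶ L => φ ≫ g))
    [IsIso ((homologyFunctor C 0).map g)] :
    Function.Bijective (theta P L) ↔ Function.Bijective (theta P L') := by
  have h2 : Function.Bijective
      (fun ψ : P ⟶ (homologyFunctor C 0).obj L => ψ ≫ (homologyFunctor C 0).map g) := by
    constructor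
    · intro a b h
      exact (cancel_mono _).mp h
    · intro a
      exact ⟨a ≫ inv ((homologyFunctor C 0).map g), by simp⟩
  have hc : theta P L' ∘ (fun φ : (singleFunctor C 0).obj P ⟶ L => φ ≫ g) =
      (fun ψ : P ⟶ (homologyFunctor C 0).obj L => ψ ≫ (homologyFunctor C 0).map g) ∘ theta P L := by
    funext φ
    exact theta_comp_right P g φ
  constructor
  · intro h
    have : Function.Bijective (theta P L' ∘ (fun φ : (singleFunctor C 0).obj P ⟶ L => φ ≫ g)) := by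
      rw [hc]; exact h2.comp h
    exact (Function.Bijective.of_comp_iff _ hg).mp this
  · intro h
    have : Function.Bijective
        ((fun ψ : P ⟶ (homologyFunctor C 0).obj L => ψ ≫ (homologyFunctor C 0).map g) ∘ theta P L) := by
      rw [← hc]; exact h.comp hg
    exact (Function.Bijective.of_comp_iff' h2 _).mp this

lemma hom_single_eq_zero_of_isLE (P : C) [Projective P] (L : DerivedCategory C) [L.IsLE (-1)]
    (φ : (singleFunctor C 0).obj P ⟶ L) : φ = 0 := by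
  obtain ⟨K, hK, ⟨e⟩⟩ := exists_iso_Q_obj_of_isLE L (-1)
  have : φ ≫ e.hom = 0 :=
    from_singleFunctor_obj_eq_zero_of_projective (P := P) (L := K) (i := 0) (φ ≫ e.hom) (-1) (by omega)
  rw [← cancel_mono e.hom, this, zero_comp]

lemma hom_single_eq_zero_of_isGE (P : C) (L : DerivedCategory C) [L.IsGE 1]
    (φ : (singleFunctor C 0).obj P ⟶ L) : φ = 0 :=
  (TStructure.t (C := C)).zero φ 0 1 (by omega)

lemma theta_bijective_single (P N : C) : Function.Bijective (theta P ((singleFunctor C 0).obj N)) := by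
  have hcomp : ∀ a : P ⟶ N, theta P _ ((singleFunctor C 0).map a) =
      a ≫ (singleFunctorCompHomologyFunctorIso C 0).inv.app N := by
    intro a
    have := theta_comp_left a ((singleFunctor C 0).obj N) (𝟙 _)
    rw [Category.comp_id] at this
    rw [this]
    dsimp only [theta]
    rw [CategoryTheory.Functor.map_id]
    simp
  constructor
  · intro φ φ' h
    obtain ⟨a, rfl⟩ := (singleFunctor C 0).map_surjective φ
    obtain ⟨a', rfl⟩ := (singleFunctor C 0).map_surjective φ'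
    rw [hcomp, hcomp] at h
    rw [(cancel_mono _).mp h]
  · intro ψ
    refine ⟨(singleFunctor C 0).map (ψ ≫ (singleFunctorCompHomologyFunctorIso C 0).hom.app N), ?_⟩
    rw [hcomp, Category.assoc]
    simp

set_option backward.defeqAttrib.useBackward true in
/-- For a projective object `P`, `Hom_D(P[0], L) ≃ Hom_C(P, H^0 L)`. -/
theorem theta_bijective (P : C) [Projective P] (L : DerivedCategory C) :
    Function.Bijective (theta P L) := by
  let t := TStructure.t (C := C)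
  let L₀ := (t.truncLT 1).obj L
  have hT := t.triangleLTGE_distinguished 1 L
  have i1 : t.IsGE ((t.truncGE 1).obj L) 1 := inferInstance
  have i2 : t.IsGE (((t.truncGE 1).obj L)⟦(-1 : ℤ)⟧) 2 := t.isGE_shift _ 1 (-1) 2 (by omega)
  have i3 : t.IsGE (((t.truncGE 1).obj L)⟦(-1 : ℤ)⟧) 1 := t.isGE_of_ge _ 1 2 (by omega)
  have hι : Function.Bijective
      (fun φ : (singleFunctor C 0).obj P ⟶ L₀ => φ ≫ (t.truncLTι 1).app L) :=
    bijective_comp_mor₁ _ hT _ (fun φ => hom_single_eq_zero_of_isGE P ((t.truncGE 1).obj L) φ)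
      (fun φ => hom_single_eq_zero_of_isGE P (((t.truncGE 1).obj L)⟦(-1 : ℤ)⟧) φ)
  have : IsIso ((homologyFunctor C 0).map ((t.truncLTι 1).app L)) :=
    DerT.isIso_homologyMap_truncLTι L 1 0 (by omega)
  refine (theta_bijective_iff P (L := L₀) (L' := L) ((t.truncLTι 1).app L) hι).mp ?_
  -- step 2
  have hT' := t.triangleLTGE_distinguished 0 L₀
  have j1 : t.IsLE ((t.truncLT 0).obj L₀) (-1) := t.isLE_of_le _ (0 - 1) (-1) (by omega)
  have j2 : t.IsLE (((t.truncLT 0).obj L₀)⟦(1 : ℤ)⟧) (-2) := t.isLE_shift _ (-1) 1 (-2) (by omega)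
  have j3 : t.IsLE (((t.truncLT 0).obj L₀)⟦(1 : ℤ)⟧) (-1) := t.isLE_of_le _ (-2) (-1) (by omega)
  have hπ : Function.Bijective
      (fun φ : (singleFunctor C 0).obj P ⟶ L₀ => φ ≫ (t.truncGEπ 0).app L₀) :=
    bijective_comp_mor₂ _ hT' _ (fun φ => hom_single_eq_zero_of_isLE P ((t.truncLT 0).obj L₀) φ)
      (fun φ => hom_single_eq_zero_of_isLE P (((t.truncLT 0).obj L₀)⟦(1 : ℤ)⟧) φ)
  have : IsIso ((homologyFunctor C 0).map ((t.truncGEπ 0).app L₀)) :=
    DerT.isIso_homologyMap_truncGEπ L₀ 0 0 le_rfl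
  refine (theta_bijective_iff P (L := L₀) (L' := (t.truncGE 0).obj L₀) ((t.truncGEπ 0).app L₀) hπ).mpr ?_
  -- step 3
  have k1 : t.IsLE L₀ 0 := t.isLE_of_le _ (1 - 1) 0 (by omega)
  have k2 : t.IsLE ((t.truncGE 0).obj L₀) 0 := inferInstance
  have k3 : t.IsGE ((t.truncGE 0).obj L₀) 0 := inferInstance
  obtain ⟨N, ⟨e⟩⟩ := exists_iso_singleFunctor_obj_of_isGE_of_isLE ((t.truncGE 0).obj L₀) 0
  have he : Function.Bijective
      (fun φ : (singleFunctor C 0).obj P ⟶ (t.truncGE 0).obj L₀ => φ ≫ e.hom) :=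
    ⟨fun a b h => (cancel_mono _).mp h, fun a => ⟨a ≫ e.inv, by simp⟩⟩
  refine (theta_bijective_iff P e.hom he).mpr ?_
  exact theta_bijective_single P N

end Theta

end Groth.Agent.Lib.Helper16.DComp
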