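import Mathlib
import Groth.Prelude.Def_DRing3
import Groth.Agent.Lib.Helper16.DComp1
import Groth.Agent.Lib.Helper16.DComp2

/-!
# Criterion for derived completeness in `D(A)`
-/

namespace Groth.Agent.Lib.Helper16.DComp

open CategoryTheory Limits Polynomial DerivedCategory

universe u

attribute [local instance] HasDerivedCategory.standard

variable {A : Type u} [CommRing A] (f : A)

/-- multiplication by `1 - fX` on `A[X]`. -/
noncomputable def mu : A[X] →ₗ[A] A[X] := LinearMap.mulLeft A (1 - C f * X)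

/-- `A[X] → A_f`, `X ↦ 1/f`. -/
noncomputable def ev : A[X] →ₗ[A] Localization.Away f :=
  (Localization.awayEquivAdjoin f).symm.toLinearMap ∘ₗ (AdjoinRoot.mkₐ (C f * X - 1)).toLinearMap

lemma mu_apply (p : A[X]) : mu f p = (1 - C f * X) * p := rfl

lemma mu_injective : Function.Injective (mu f) := by
  rw [injective_iff_map_eq_zero]
  intro p hp
  rw [mu_apply, sub_mul, one_mul, sub_eq_zero] at hp
  ext n
  rw [coeff_zero]
  induction n with
  | zero =>
    rw [hp, mul_assoc, coeff_C_mul, coeff_X_mul_zero, mul_zero]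
  | succ n ih =>
    rw [hp, mul_assoc, coeff_C_mul, coeff_X_mul, ih, mul_zero]

lemma ev_surjective : Function.Surjective (ev f) := by
  intro y
  obtain ⟨p, hp⟩ := AdjoinRoot.mk_surjective (g := C f * X - 1) (Localization.awayEquivAdjoin f y)
  refine ⟨p, ?_⟩
  change (Localization.awayEquivAdjoin f).symm (AdjoinRoot.mk _ p) = y
  rw [hp]
  exact (Localization.awayEquivAdjoin f).symm_apply_apply y

lemma ev_exact : Function.Exact (mu f) (ev f) := by
  intro y
  change (Localization.awayEquivAdjoin f).symm (AdjoinRoot.mk _ y) = 0 ↔ _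
  rw [EmbeddingLike.map_eq_zero_iff, AdjoinRoot.mk_eq_zero]
  constructor
  · rintro ⟨q, rfl⟩
    refine ⟨-q, ?_⟩
    rw [mu_apply]; ring
  · rintro ⟨q, rfl⟩
    refine ⟨-q, ?_⟩
    rw [mu_apply]; ring

/-- The short exact sequence `0 → A[X] → A[X] → A_f → 0`. -/
noncomputable def S : ShortComplex (ModuleCat.{u} A) :=
  ShortComplex.mk (ModuleCat.ofHom (mu f)) (ModuleCat.ofHom (ev f)) (by
    apply ModuleCat.hom_ext
    apply LinearMap.ext
    intro p
    exact (ev_exact f _).mpr ⟨p, rfl⟩)

lemma S_shortExact : (S f).ShortExact := by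
  have : Mono (S f).f := (ModuleCat.mono_iff_injective _).mpr (mu_injective f)
  have : Epi (S f).g := (ModuleCat.epi_iff_surjective _).mpr (ev_surjective f)
  exact ShortComplex.ShortExact.mk
    ((ShortComplex.ShortExact.moduleCat_exact_iff_function_exact _).mpr (ev_exact f))

instance : Projective (ModuleCat.of A A[X]) := ModuleCat.projective_of_free (Polynomial.basisMonomials A)

/-- sequences in `N` as maps `A[X] → N`. -/
noncomputable def seqHom (N : ModuleCat.{u} A) (m : ℕ → N) : ModuleCat.of A A[X] ⟶ N :=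
  ModuleCat.ofHom ((Polynomial.basisMonomials A).constr A m)

lemma seqHom_bijective (N : ModuleCat.{u} A) : Function.Bijective (seqHom (A := A) N) := by
  constructor
  · intro m m' h
    have := congrArg ModuleCat.Hom.hom h
    simp only [seqHom, ModuleCat.hom_ofHom] at this
    exact ((Polynomial.basisMonomials A).constr A).injective this
  · intro ψ
    obtain ⟨m, hm⟩ := ((Polynomial.basisMonomials A).constr A).surjective ψ.hom
    refine ⟨m, ?_⟩
    apply ModuleCat.hom_ext
    simp only [seqHom, ModuleCat.hom_ofHom]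
    exact hm

lemma seqHom_Phi (N : ModuleCat.{u} A) (m : ℕ → N) :
    seqHom N (Phi f N m) = ModuleCat.ofHom (mu f) ≫ seqHom N m := by
  apply ModuleCat.hom_ext
  apply (Polynomial.basisMonomials A).ext
  intro n
  simp only [seqHom, ModuleCat.hom_ofHom, ModuleCat.hom_comp, LinearMap.comp_apply,
    Module.Basis.constr_basis, Phi_apply]
  have h1 : mu f ((Polynomial.basisMonomials A) n) =
      (Polynomial.basisMonomials A) n - f • (Polynomial.basisMonomials A) (n + 1) := by
    rw [mu_apply, Polynomial.coe_basisMonomials]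
    rw [sub_mul, one_mul, mul_assoc, X_mul_monomial, Polynomial.C_mul']
  rw [h1, map_sub, map_smul, Module.Basis.constr_basis, Module.Basis.constr_basis]

lemma bijective_precomp_iff (N : ModuleCat.{u} A) :
    Function.Bijective (fun ψ : ModuleCat.of A A[X] ⟶ N => ModuleCat.ofHom (mu f) ≫ ψ) ↔
      DCf f N := by
  have hE := seqHom_bijective (A := A) N
  have hc : (fun ψ : ModuleCat.of A A[X] ⟶ N => ModuleCat.ofHom (mu f) ≫ ψ) ∘ seqHom N =
      seqHom N ∘ Phi f N := by
    funext m
    exact (seqHom_Phi f N m).symm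
  rw [DCf]
  constructor
  · intro h
    have : Function.Bijective (seqHom N ∘ Phi f N) := by rw [← hc]; exact h.comp hE
    exact (Function.Bijective.of_comp_iff' hE _).mp this
  · intro h
    have : Function.Bijective
        ((fun ψ : ModuleCat.of A A[X] ⟶ N => ModuleCat.ofHom (mu f) ≫ ψ) ∘ seqHom N) := by
      rw [hc]; exact hE.comp h
    exact (Function.Bijective.of_comp_iff _ hE).mp this

/-- **Criterion**: `Hom(A_f, K[n]) = 0` for all `n` iff every `H^n(K)` is `f`-derived complete. -/
theorem crit (K : Dual.D A) :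
    (∀ n : ℤ, Subsingleton (Dual.inD A (Localization.Away f) ⟶ K⟦n⟧)) ↔
      ∀ n : ℤ, DCf f (Dual.HD A K n) := by
  have hS := S_shortExact f
  have hT := hS.singleTriangle_distinguished
  refine (subsingleton_iff_bijective _ hT K).trans ?_
  apply forall_congr'
  intro n
  let P := ModuleCat.of A A[X]
  have hθ := theta_bijective P (K⟦n⟧)
  have hc : theta P (K⟦n⟧) ∘
      (fun φ : (singleFunctor (ModuleCat.{u} A) 0).obj P ⟶ K⟦n⟧ =>
        (singleFunctor (ModuleCat.{u} A) 0).map (ModuleCat.ofHom (mu f)) ≫ φ) =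
      (fun ψ : P ⟶ (homologyFunctor (ModuleCat.{u} A) 0).obj (K⟦n⟧) =>
        ModuleCat.ofHom (mu f) ≫ ψ) ∘ theta P (K⟦n⟧) := by
    funext φ
    exact theta_comp_left _ _ φ
  let e : (homologyFunctor (ModuleCat.{u} A) 0).obj (K⟦n⟧) ≅ (homologyFunctor (ModuleCat.{u} A) n).obj K :=
    ((homologyFunctor (ModuleCat.{u} A) 0).shiftIso n 0 n (by omega)).app K
  have h3 : DCf f ((homologyFunctor (ModuleCat.{u} A) 0).obj (K⟦n⟧)) ↔ DCf f (Dual.HD A K n) :=
    ⟨fun h => h.of_equiv e.toLinearEquiv, fun h => h.of_equiv e.symm.toLinearEquiv⟩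
  rw [← h3, ← bijective_precomp_iff]
  constructor
  · intro h
    have : Function.Bijective ((fun ψ : P ⟶ (homologyFunctor (ModuleCat.{u} A) 0).obj (K⟦n⟧) =>
        ModuleCat.ofHom (mu f) ≫ ψ) ∘ theta P (K⟦n⟧)) := by
      rw [← hc]; exact hθ.comp h
    exact (Function.Bijective.of_comp_iff _ hθ).mp this
  · intro h
    have : Function.Bijective (theta P (K⟦n⟧) ∘
      (fun φ : (singleFunctor (ModuleCat.{u} A) 0).obj P ⟶ K⟦n⟧ =>
        (singleFunctor (ModuleCat.{u} A) 0).map (ModuleCat.ofHom (mu f)) ≫ φ)) := by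
      rw [hc]; exact h.comp hθ
    exact (Function.Bijective.of_comp_iff' hθ _).mp this


lemma DCf.of_subsingleton {R : Type*} [CommRing R] (r : R) (M : Type*) [AddCommGroup M] [Module R M]
    [Subsingleton M] : DCf r M :=
  ⟨fun _ _ _ => Subsingleton.elim _ _, fun _ => ⟨0, Subsingleton.elim _ _⟩⟩

theorem isDerivedComplete_iff (I : Ideal A) (K : Dual.D A) :
    DRing.IsDerivedComplete I K ↔ ∀ f ∈ I, ∀ n : ℤ, DCf f (Dual.HD A K n) := by
  constructor
  · intro h f hf
    exact (crit f K).mp (h f hf)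
  · intro h f hf
    exact (crit f K).mpr (h f hf)

/-- `H^0(M[0]) ≃ M`. -/
noncomputable def HDinD (M : Type u) [AddCommGroup M] [Module A M] :
    Dual.HD A (Dual.inD A M) 0 ≃ₗ[A] M :=
  ((singleFunctorCompHomologyFunctorIso (ModuleCat.{u} A) 0).app (ModuleCat.of A M)).toLinearEquiv

lemma subsingleton_HDinD (M : Type u) [AddCommGroup M] [Module A M] (n : ℤ) (hn : n ≠ 0) :
    Subsingleton (Dual.HD A (Dual.inD A M) n) := by
  rcases lt_or_gt_of_ne hn with h | h
  · exact ModuleCat.subsingleton_of_isZero ((Dual.inD A M).isZero_of_isGE 0 n h)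
  · exact ModuleCat.subsingleton_of_isZero ((Dual.inD A M).isZero_of_isLE 0 n h)

theorem crit_module (M : Type u) [AddCommGroup M] [Module A M] :
    (∀ n : ℤ, Subsingleton (Dual.inD A (Localization.Away f) ⟶ (Dual.inD A M)⟦n⟧)) ↔ DCf f M := by
  rw [crit]
  constructor
  · intro h
    exact (h 0).of_equiv (HDinD M)
  · intro h n
    by_cases hn : n = 0
    · subst hn
      exact h.of_equiv (HDinD M).symm
    · have := subsingleton_HDinD (A := A) M n hn
      exact DCf.of_subsingleton f _

theorem isDerivedComplete_inD_iff (I : Ideal A) (M : Type u) [AddCommGroup M] [Module A M] :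
    DRing.IsDerivedComplete I (Dual.inD A M) ↔ ∀ f ∈ I, DCf f M := by
  constructor
  · intro h f hf
    exact (crit_module f M).mp (h f hf)
  · intro h f hf
    exact (crit_module f M).mpr (h f hf)

end Groth.Agent.Lib.Helper16.DComp
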