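import Mathlib
import Groth.Prelude.Def_KFlatSite
import Groth.Prelude.Def_DTen4
import Groth.Agent.Lib.Helper16.LTC3
import Groth.Agent.Lib.Helper16.KPR6

/-!
# Helper16 — LBC1: derived base change (the left adjoint of restriction) is computed termwise on
K-projective and on K-flat complexes
-/

set_option autoImplicit false

open CategoryTheory CategoryTheory.Limits MonoidalCategory

namespace Groth.Agent.Lib.Helper16.KF

universe u

open DerivedCategory

attribute [local instance] HasDerivedCategory.standard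

variable {R A : Type u} [CommRing R] [CommRing A] (φ : R →+* A)

/-- the termwise adjunction between extension and restriction of scalars on complexes. -/
noncomputable abbrev erAdj : DTen.extCx φ ⊣ DTen.resCx φ :=
  Groth.Agent.Lib.Helper6.DerivedAdj.adjCx (ModuleCat.extendRestrictScalarsAdj.{u, u, u} φ)
    (ComplexShape.up ℤ)

lemma unitCx_app (K : Cx R) : (DTen.unitCx φ).app K = (erAdj φ).unit.app K := rfl

variable [DTen.HasLBase φ]

/-- the map `g ↦ γ ≫ restrict g`, which is the adjunction bijection composed with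
precomposition with `baseCmp`. -/
lemma baseγ_comp_map_Q_map (P : Cx R) {Y : Cx A} (g : (DTen.extCx φ).obj P ⟶ Y) :
    (DTen.baseγ φ).app P ≫ (DRing.restrictD φ).map (Q.map g) =
      Q.map ((erAdj φ).homEquiv P Y g) ≫ (DTen.resFactors φ).inv.app Y := by
  have h2 := (DTen.resFactors φ).inv.naturality g
  dsimp at h2
  dsimp [DTen.baseγ]
  rw [Category.assoc, ← h2, ← Category.assoc, ← Functor.map_comp, unitCx_app,
    Adjunction.homEquiv_unit]

lemma bijective_baseγ_comp (P : Cx R) [P.IsKProjective] (Y' : Cx A) :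
    Function.Bijective (fun g : Q.obj ((DTen.extCx φ).obj P) ⟶ Q.obj Y' =>
      (DTen.baseγ φ).app P ≫ (DRing.restrictD φ).map g) := by
  haveI := KPR.isKProjective_extCx φ P
  constructor
  · intro g₁ g₂ h
    obtain ⟨g₁', rfl⟩ := KPR.exists_map_of_isKProjective _ _ g₁
    obtain ⟨g₂', rfl⟩ := KPR.exists_map_of_isKProjective _ _ g₂
    dsimp only at h
    rw [baseγ_comp_map_Q_map, baseγ_comp_map_Q_map, cancel_mono] at h
    obtain ⟨H⟩ := homotopy_of_Q_map_eq _ _ h
    have e1 : g₁' = (DTen.extCx φ).map ((erAdj φ).homEquiv P Y' g₁') ≫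
        (erAdj φ).counit.app Y' := by
      have := (erAdj φ).homEquiv_counit (X := P) (Y := Y') (g := (erAdj φ).homEquiv P Y' g₁')
      rw [Equiv.symm_apply_apply] at this
      exact this
    have e2 : g₂' = (DTen.extCx φ).map ((erAdj φ).homEquiv P Y' g₂') ≫
        (erAdj φ).counit.app Y' := by
      have := (erAdj φ).homEquiv_counit (X := P) (Y := Y') (g := (erAdj φ).homEquiv P Y' g₂')
      rw [Equiv.symm_apply_apply] at this
      exact this
    rw [e1, e2]
    exact Q_map_eq_of_homotopy _
      (((ModuleCat.extendScalars.{u, u, u} φ).mapHomotopy H).compRight _)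
  · intro ψ
    obtain ⟨h, hh⟩ := KPR.exists_map_of_isKProjective P ((DTen.resCx φ).obj Y')
      (ψ ≫ (DTen.resFactors φ).hom.app Y')
    refine ⟨Q.map (((erAdj φ).homEquiv P Y').symm h), ?_⟩
    dsimp only
    rw [baseγ_comp_map_Q_map, Equiv.apply_symm_apply, hh, Category.assoc, Iso.hom_inv_id_app]
    exact Category.comp_id _

/-- `baseCmp` is an isomorphism on K-projective complexes. -/
theorem isIso_baseCmp_app_of_isKProjective (P : Cx R) [P.IsKProjective] :
    IsIso ((DTen.baseCmp φ).app P) := by
  rw [isIso_iff_coyoneda_map_bijective]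
  intro Y
  -- reduce to `Y = Q Y'`
  let Y' := Q.objPreimage Y
  let e : Q.obj Y' ≅ Y := Q.objObjPreimageIso Y
  have hb := bijective_baseγ_comp φ P Y'
  -- the adjunction bijection
  let E := (DTen.baseAdj φ).homEquiv (Q.obj P) Y
  have key : ∀ g : Q.obj ((DTen.extCx φ).obj P) ⟶ Y,
      E ((DTen.baseCmp φ).app P ≫ g) =
        ((DTen.baseγ φ).app P ≫ (DRing.restrictD φ).map (g ≫ e.inv)) ≫
          (DRing.restrictD φ).map e.hom := by
    intro g
    rw [Adjunction.homEquiv_unit, Functor.map_comp, ← Category.assoc, DTen.baseCmp_fac,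
      Category.assoc, ← Functor.map_comp, Category.assoc, Iso.inv_hom_id, Category.comp_id]
  constructor
  · intro g₁ g₂ h
    have h' := congr_arg E h
    rw [key, key, cancel_mono] at h'
    have := hb.1 h'
    rwa [cancel_mono] at this
  · intro ψ
    obtain ⟨g, hg⟩ := hb.2 (E ψ ≫ (DRing.restrictD φ).map e.inv)
    refine ⟨g ≫ e.hom, E.injective ?_⟩
    dsimp only at hg
    rw [key]
    simp only [Category.assoc, Iso.hom_inv_id, Category.comp_id]
    rw [← Category.assoc, hg, Category.assoc, ← Functor.map_comp, Iso.inv_hom_id,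
      CategoryTheory.Functor.map_id]
    exact Category.comp_id _

omit [DTen.HasLBase φ] in
/-- a quasi-isomorphism between K-flat complexes stays one after termwise extension of
scalars. -/
lemma quasiIso_extCx_map_of_isKFlat {P K : Cx R} (hP : DRing.IsKFlat R P)
    (hK : DRing.IsKFlat R K) (p : P ⟶ K) [QuasiIso p] : QuasiIso ((DTen.extCx φ).map p) := by
  rw [← HomologicalComplex.quasiIso_map_iff_of_preservesHomology _
    (ModuleCat.restrictScalars.{u} φ)]
  have hnat : (DTen.resCx φ).map ((DTen.extCx φ).map p) ≫ (KPR.restrictExtCxIso φ K).hom =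
      (KPR.restrictExtCxIso φ P).hom ≫ (TorAmp.tensCx (KPR.asMod φ)).map p :=
    (NatIso.mapHomologicalComplex (KPR.extRestrictIso φ) (ComplexShape.up ℤ)).hom.naturality p
  haveI := quasiIso_tensCx_map_of_isKFlat hP hK p (KPR.asMod φ)
  have h : (DTen.resCx φ).map ((DTen.extCx φ).map p) = (KPR.restrictExtCxIso φ P).hom ≫
      (TorAmp.tensCx (KPR.asMod φ)).map p ≫ (KPR.restrictExtCxIso φ K).inv := by
    rw [← Category.assoc, ← hnat, Category.assoc, Iso.hom_inv_id, Category.comp_id]
  change QuasiIso ((DTen.resCx φ).map ((DTen.extCx φ).map p))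
  rw [h]
  infer_instance

/-- **Derived base change is computed termwise on K-flat complexes.** -/
theorem isIso_baseCmp_app_of_isKFlat (K : Cx R) (hK : DRing.IsKFlat R K) :
    IsIso ((DTen.baseCmp φ).app K) := by
  obtain ⟨P, p, hPproj, -, hPflat, hp⟩ := exists_kprojective_kflat_quasiIso K
  haveI := hPproj
  haveI := hp
  haveI := isIso_baseCmp_app_of_isKProjective φ P
  haveI : IsIso (Q.map p) := by rw [isIso_Q_map_iff_quasiIso]; infer_instance
  haveI := quasiIso_extCx_map_of_isKFlat φ hPflat hK p
  haveI : IsIso (Q.map ((DTen.extCx φ).map p)) := by rw [isIso_Q_map_iff_quasiIso]; infer_instance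
  have hnat := (DTen.baseCmp φ).naturality p
  dsimp at hnat
  have h : (DTen.baseCmp φ).app K = inv ((DTen.LBase φ).map (Q.map p)) ≫
      (DTen.baseCmp φ).app P ≫ Q.map ((DTen.extCx φ).map p) := by
    rw [← hnat, IsIso.inv_hom_id_assoc]
  rw [h]
  infer_instance

end Groth.Agent.Lib.Helper16.KF
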