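import Mathlib
import Groth.Prelude.Def_KFlatSite
import Groth.Prelude.Def_DTen4
import Groth.Agent.Lib.Helper16.LBC1

/-!
# Helper16 — LTM1: total left derived functors of homotopy invariant functors of pairs of complexes
are computed on pairs of K-projective complexes; the comparison `split` is an isomorphism
-/

set_option autoImplicit false

open CategoryTheory CategoryTheory.Limits MonoidalCategory

namespace Groth.Agent.Lib.Helper16.KF

universe u

open DerivedCategory

attribute [local instance] HasDerivedCategory.standard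

section Pairs

variable {R A B : Type u} [CommRing R] [CommRing A] [CommRing B]

lemma small_QQ_hom (P : Cx R) (P' : Cx A) [P.IsKProjective] [P'.IsKProjective]
    (d : Dual.D R × Dual.D A) :
    Small.{u} (((Q : Cx R ⥤ _).prod (Q : Cx A ⥤ _)).obj (P, P') ⟶ d) := by
  haveI := small_Q_hom P d.1
  haveI := small_Q_hom P' d.2
  change Small.{u} ((Q.obj P ⟶ d.1) × (Q.obj P' ⟶ d.2))
  infer_instance

variable (F : Cx R × Cx A ⥤ Dual.D B)
  [F.HasLeftDerivedFunctor ((DTen.qis R).prod (DTen.qis A))]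

/-- the counit of the total left derived functor of a homotopy invariant functor of pairs of
complexes is an isomorphism at pairs of K-projective complexes. -/
theorem isIso_counit_pair (hF : ∀ {X Y : Cx R × Cx A} (f g : X ⟶ Y),
      Nonempty (Homotopy f.1 g.1) → Nonempty (Homotopy f.2 g.2) → F.map f = F.map g)
    (P : Cx R) (P' : Cx A) [P.IsKProjective] [P'.IsKProjective] :
    IsIso ((F.totalLeftDerivedCounit ((Q : Cx R ⥤ _).prod (Q : Cx A ⥤ _))
      ((DTen.qis R).prod (DTen.qis A))).app (P, P')) := by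
  have : ∀ d : Dual.D R × Dual.D A,
      Small.{u} (((Q : Cx R ⥤ _).prod (Q : Cx A ⥤ _)).obj (P, P') ⟶ d) := small_QQ_hom P P'
  have := Functor.IsLeftDerivedFunctor.isRightKanExtension
    (F.totalLeftDerived ((Q : Cx R ⥤ _).prod (Q : Cx A ⥤ _)) ((DTen.qis R).prod (DTen.qis A)))
    (F.totalLeftDerivedCounit ((Q : Cx R ⥤ _).prod (Q : Cx A ⥤ _))
      ((DTen.qis R).prod (DTen.qis A)))
    ((DTen.qis R).prod (DTen.qis A))
  refine LDer.isIso_app_of_surjective.{u} _ (P, P') (fun Y φ => ?_) (fun Y f g hfg => ?_)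
  · obtain ⟨f₁, h₁⟩ := KPR.exists_map_of_isKProjective P Y.1 φ.1
    obtain ⟨f₂, h₂⟩ := KPR.exists_map_of_isKProjective P' Y.2 φ.2
    exact ⟨(f₁, f₂), Prod.ext h₁ h₂⟩
  · have h₁ : Q.map f.1 = Q.map g.1 := congr_arg Prod.fst hfg
    have h₂ : Q.map f.2 = Q.map g.2 := congr_arg Prod.snd hfg
    exact hF f g (homotopy_of_Q_map_eq _ _ h₁) (homotopy_of_Q_map_eq _ _ h₂)

end Pairs

section Apply

variable {R A : Type u} [CommRing R] [CommRing A]

/-- the tensor product of complexes, as a functor of the pair, preserves homotopies. -/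
lemma tensorT_map_homotopy {X Y : Cx A × Cx A} (f g : X ⟶ Y) (h₁ : Homotopy f.1 g.1)
    (h₂ : Homotopy f.2 g.2) : Nonempty (Homotopy ((DTen.tensorT A).map f) ((DTen.tensorT A).map g)) :=
  ⟨(whiskerRightHomotopy h₁ X.2).comp (whiskerLeftHomotopy Y.1 h₂)⟩

/-- the derived tensor product is computed on pairs of K-projective complexes. -/
theorem isIso_ε_app_of_isKProjective [DTen.HasLTen A] (P P' : Cx A) [P.IsKProjective]
    [P'.IsKProjective] : IsIso ((DTen.ε A).app (P, P')) := by
  refine isIso_counit_pair (DTen.tensor₂ A) (fun f g h₁ h₂ => ?_) P P'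
  obtain ⟨h₁⟩ := h₁
  obtain ⟨h₂⟩ := h₂
  obtain ⟨h⟩ := tensorT_map_homotopy f g h₁ h₂
  exact Q_map_eq_of_homotopy _ h

variable (φ : R →+* A)

/-- the mixed derived tensor product is computed on pairs of K-projective complexes. -/
theorem isIso_εMix_app_of_isKProjective [DTen.HasLTenMix φ] (P : Cx R) (P' : Cx A)
    [P.IsKProjective] [P'.IsKProjective] : IsIso ((DTen.εMix φ).app (P, P')) := by
  refine isIso_counit_pair (DTen.mix₂ φ) (fun {X Y} f g h₁ h₂ => ?_) P P'
  obtain ⟨h₁⟩ := h₁
  obtain ⟨h₂⟩ := h₂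
  obtain ⟨h⟩ := tensorT_map_homotopy (A := A)
    (X := ((DTen.extCx φ).obj X.1, X.2)) (Y := ((DTen.extCx φ).obj Y.1, Y.2))
    ((DTen.extCx φ).map f.1, f.2) ((DTen.extCx φ).map g.1, g.2)
    ((ModuleCat.extendScalars.{u, u, u} φ).mapHomotopy h₁) h₂
  exact Q_map_eq_of_homotopy _ h

/-- **the comparison `(E ⊗^L_R A) ⊗^L_A N ⟶ E ⊗^L_R N` is an isomorphism.** -/
theorem isIso_split_app [DTen.HasLTen A] [DTen.HasLBase φ] [DTen.HasLTenMix φ]
    (E : Dual.D R) (N : Dual.D A) : IsIso ((DTen.split φ).app (E, N)) := by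
  obtain ⟨P, hP, -, ⟨e⟩⟩ := KPR.exists_kprojective_module E
  obtain ⟨P', hP', -, ⟨e'⟩⟩ := KPR.exists_kprojective_module N
  haveI := hP
  haveI := hP'
  -- at the pair of K-projective complexes
  have key : IsIso ((DTen.split φ).app ((DTen.QMix R A).obj (P, P'))) := by
    have hfac := DTen.split_fac φ (P, P')
    haveI := isIso_εMix_app_of_isKProjective φ P P'
    haveI := isIso_baseCmp_app_of_isKProjective φ P
    haveI := KPR.isKProjective_extCx φ P
    haveI := isIso_ε_app_of_isKProjective ((DTen.extCx φ).obj P) P'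
    haveI : IsIso (Prod.mkHom ((DTen.baseCmp φ).app P) (𝟙 (Q.obj P'))) := by
      rw [isIso_prod_iff]
      exact ⟨inferInstance, inferInstance⟩
    haveI : IsIso ((DTen.splitβ φ).app (P, P')) := by
      dsimp only [DTen.splitβ]
      infer_instance
    have h : (DTen.split φ).app ((DTen.QMix R A).obj (P, P')) =
        (DTen.splitβ φ).app (P, P') ≫ inv ((DTen.εMix φ).app (P, P')) := by
      rw [← hfac, Category.assoc, IsIso.hom_inv_id, Category.comp_id]
    rw [h]
    infer_instance
  -- transport along the isomorphisms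
  let ee : (DTen.QMix R A).obj (P, P') ≅ (E, N) := Iso.prod e e'
  have hnat := (DTen.split φ).naturality ee.hom
  have h : (DTen.split φ).app (E, N) = inv ((DTen.LBaseTen φ).map ee.hom) ≫
      (DTen.split φ).app ((DTen.QMix R A).obj (P, P')) ≫ (DTen.LTenMix φ).map ee.hom := by
    rw [← hnat, IsIso.inv_hom_id_assoc]
  rw [h]
  infer_instance

end Apply

end Groth.Agent.Lib.Helper16.KF
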