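import Mathlib
import Groth.Prelude.Def_KFlatSite
import Groth.Prelude.Def_DTen2
import Groth.Agent.Lib.Helper16.LTM1

/-!
# Helper16 — LTM2: the derived tensor product is computed on K-flat complexes; associativity
-/

set_option autoImplicit false

open CategoryTheory CategoryTheory.Limits MonoidalCategory

namespace Groth.Agent.Lib.Helper16.KF

universe u

open DerivedCategory

attribute [local instance] HasDerivedCategory.standard

variable {A : Type u} [CommRing A]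

/-- the tensor product of two K-flat complexes is K-flat. -/
lemma isKFlat_tensor {K₁ K₂ : Cx A} (h₁ : DRing.IsKFlat A K₁) (h₂ : DRing.IsKFlat A K₂) :
    DRing.IsKFlat A (K₁ ⊗ K₂) := fun L hL =>
  Acyc.of_iso (h₂ _ (h₁ L hL)) (α_ L K₁ K₂)

section Computes

variable [DTen.HasLTen A]

/-- the derived tensor product is computed by the tensor product of complexes as soon as one
of the two complexes is K-flat. -/
theorem isIso_ε_app_of_isKFlat (K L : Cx A) (h : DRing.IsKFlat A K ∨ DRing.IsKFlat A L) :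
    IsIso ((DTen.ε A).app (K, L)) := by
  obtain ⟨P, p, hPproj, -, hPflat, hp⟩ := exists_kprojective_kflat_quasiIso K
  obtain ⟨P', p', hP'proj, -, hP'flat, hp'⟩ := exists_kprojective_kflat_quasiIso L
  haveI := hPproj
  haveI := hP'proj
  haveI := hp
  haveI := hp'
  haveI := isIso_ε_app_of_isKProjective P P'
  haveI : IsIso (Q.map p) := by rw [isIso_Q_map_iff_quasiIso]; infer_instance
  haveI : IsIso (Q.map p') := by rw [isIso_Q_map_iff_quasiIso]; infer_instance
  have hnat := (DTen.ε A).naturality (Prod.mkHom p p')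
  haveI : IsIso ((DTen.QQ A ⋙ DTen.LTen₂ A).map (Prod.mkHom p p')) := by
    haveI : IsIso ((DTen.QQ A).map (Prod.mkHom p p')) := by
      change IsIso (Prod.mkHom (Q.map p) (Q.map p'))
      rw [isIso_prod_iff]
      exact ⟨inferInstance, inferInstance⟩
    change IsIso ((DTen.LTen₂ A).map ((DTen.QQ A).map (Prod.mkHom p p')))
    infer_instance
  haveI : QuasiIso ((DTen.tensorT A).map (Prod.mkHom p p')) := by
    rcases h with h | h
    · haveI := quasiIso_whiskerRight_of_isKFlat hP'flat p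
      haveI := quasiIso_whiskerLeft_of_isKFlat h p'
      change QuasiIso ((p ▷ P') ≫ (K ◁ p'))
      infer_instance
    · haveI := quasiIso_whiskerLeft_of_isKFlat hPflat p'
      haveI := quasiIso_whiskerRight_of_isKFlat h p
      change QuasiIso ((p ▷ P') ≫ (K ◁ p'))
      rw [← whisker_exchange]
      infer_instance
  haveI : IsIso ((DTen.tensor₂ A).map (Prod.mkHom p p')) := by
    change IsIso (Q.map ((DTen.tensorT A).map (Prod.mkHom p p')))
    rw [isIso_Q_map_iff_quasiIso]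
    infer_instance
  have h' : (DTen.ε A).app (K, L) = inv ((DTen.QQ A ⋙ DTen.LTen₂ A).map (Prod.mkHom p p')) ≫
      (DTen.ε A).app (P, P') ≫ (DTen.tensor₂ A).map (Prod.mkHom p p') := by
    rw [← hnat, IsIso.inv_hom_id_assoc]
  rw [h']
  infer_instance

end Computes

section Triples

lemma small_QQQ_hom (P₁ P₂ P₃ : Cx A) [P₁.IsKProjective] [P₂.IsKProjective] [P₃.IsKProjective]
    (d : Dual.D A × (Dual.D A × Dual.D A)) :
    Small.{u} ((DTen.QQQ A).obj (P₁, (P₂, P₃)) ⟶ d) := by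
  haveI := small_Q_hom P₁ d.1
  haveI := small_Q_hom P₂ d.2.1
  haveI := small_Q_hom P₃ d.2.2
  change Small.{u} ((Q.obj P₁ ⟶ d.1) × ((Q.obj P₂ ⟶ d.2.1) × (Q.obj P₃ ⟶ d.2.2)))
  infer_instance

/-- the derived triple tensor product is computed on triples of K-projective complexes. -/
theorem isIso_ε₃_app_of_isKProjective [DTen.HasLTen₃ A] (P₁ P₂ P₃ : Cx A) [P₁.IsKProjective]
    [P₂.IsKProjective] [P₃.IsKProjective] : IsIso ((DTen.ε₃ A).app (P₁, (P₂, P₃))) := by
  have : ∀ d : Dual.D A × (Dual.D A × Dual.D A),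
      Small.{u} ((DTen.QQQ A).obj (P₁, (P₂, P₃)) ⟶ d) := small_QQQ_hom P₁ P₂ P₃
  have := Functor.IsLeftDerivedFunctor.isRightKanExtension (DTen.LTen₃ A) (DTen.ε₃ A)
    (DTen.qis₃ A)
  refine LDer.isIso_app_of_surjective.{u} _ (P₁, (P₂, P₃)) (fun Y φ => ?_)
    (fun Y f g hfg => ?_)
  · obtain ⟨f₁, h₁⟩ := KPR.exists_map_of_isKProjective P₁ Y.1 φ.1
    obtain ⟨f₂, h₂⟩ := KPR.exists_map_of_isKProjective P₂ Y.2.1 φ.2.1
    obtain ⟨f₃, h₃⟩ := KPR.exists_map_of_isKProjective P₃ Y.2.2 φ.2.2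
    exact ⟨(f₁, (f₂, f₃)), Prod.ext h₁ (Prod.ext h₂ h₃)⟩
  · have h₁ : Q.map f.1 = Q.map g.1 := congr_arg Prod.fst hfg
    have h₂ : Q.map f.2.1 = Q.map g.2.1 := congr_arg (fun x => x.2.1) hfg
    have h₃ : Q.map f.2.2 = Q.map g.2.2 := congr_arg (fun x => x.2.2) hfg
    obtain ⟨H₁⟩ := homotopy_of_Q_map_eq _ _ h₁
    obtain ⟨H₂⟩ := homotopy_of_Q_map_eq _ _ h₂
    obtain ⟨H₃⟩ := homotopy_of_Q_map_eq _ _ h₃
    obtain ⟨H₂₃⟩ := tensorT_map_homotopy (X := (P₂, P₃)) (Y := Y.2) f.2 g.2 H₂ H₃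
    have H : Homotopy ((DTen.tensorT₃ A).map f) ((DTen.tensorT₃ A).map g) :=
      (whiskerRightHomotopy H₁ ((DTen.tensorT A).obj (P₂, P₃))).comp
        (whiskerLeftHomotopy Y.1 H₂₃)
    exact Q_map_eq_of_homotopy _ H

end Triples

/-- **associativity of the derived tensor product**: both legs into the jointly derived triple
tensor product are isomorphisms. -/
theorem isIso_assocL_app_and_assocR_app [DTen.HasLTen A] [DTen.HasLTen₃ A] (a b c : Dual.D A) :
    IsIso ((DTen.assocL A).app (a, (b, c))) ∧ IsIso ((DTen.assocR A).app (a, (b, c))) := by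
  obtain ⟨P₁, hP₁, -, hp₁, ⟨e₁⟩⟩ := exists_kprojective_kflat a
  obtain ⟨P₂, hP₂, -, -, ⟨e₂⟩⟩ := exists_kprojective_kflat b
  obtain ⟨P₃, hP₃, -, hp₃, ⟨e₃⟩⟩ := exists_kprojective_kflat c
  haveI := hP₁
  haveI := hP₂
  haveI := hP₃
  haveI := isIso_ε₃_app_of_isKProjective P₁ P₂ P₃
  have keyR : IsIso ((DTen.assocR A).app ((DTen.QQQ A).obj (P₁, (P₂, P₃)))) := by
    have hfac := DTen.assocR_fac A (P₁, (P₂, P₃))
    haveI := isIso_ε_app_of_isKProjective P₂ P₃
    haveI := isIso_ε_app_of_isKFlat P₁ (P₂ ⊗ P₃) (Or.inl hp₁)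
    haveI : IsIso (Prod.mkHom (𝟙 (Q.obj P₁)) ((DTen.ε A).app (P₂, P₃))) := by
      rw [isIso_prod_iff]
      exact ⟨inferInstance, inferInstance⟩
    haveI : IsIso ((DTen.βR A).app (P₁, (P₂, P₃))) := by
      dsimp only [DTen.βR]
      infer_instance
    have h : (DTen.assocR A).app ((DTen.QQQ A).obj (P₁, (P₂, P₃))) =
        (DTen.βR A).app (P₁, (P₂, P₃)) ≫ inv ((DTen.ε₃ A).app (P₁, (P₂, P₃))) := by
      rw [← hfac, Category.assoc, IsIso.hom_inv_id, Category.comp_id]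
    rw [h]
    infer_instance
  have keyL : IsIso ((DTen.assocL A).app ((DTen.QQQ A).obj (P₁, (P₂, P₃)))) := by
    have hfac := DTen.assocL_fac A (P₁, (P₂, P₃))
    haveI := isIso_ε_app_of_isKProjective P₁ P₂
    haveI := isIso_ε_app_of_isKFlat (P₁ ⊗ P₂) P₃ (Or.inr hp₃)
    haveI : IsIso (Prod.mkHom ((DTen.ε A).app (P₁, P₂)) (𝟙 (Q.obj P₃))) := by
      rw [isIso_prod_iff]
      exact ⟨inferInstance, inferInstance⟩
    haveI : IsIso ((DTen.βL A).app (P₁, (P₂, P₃))) := by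
      change IsIso ((DTen.LTen₂ A).map (Prod.mkHom ((DTen.ε A).app (P₁, P₂)) (𝟙 (Q.obj P₃))) ≫
        (DTen.ε A).app (P₁ ⊗ P₂, P₃) ≫ Q.map (α_ P₁ P₂ P₃).hom)
      haveI : IsIso ((DTen.LTen₂ A).map
          (Prod.mkHom ((DTen.ε A).app (P₁, P₂)) (𝟙 (Q.obj P₃)))) := inferInstance
      haveI : IsIso (Q.map (α_ P₁ P₂ P₃).hom) := inferInstance
      infer_instance
    have h : (DTen.assocL A).app ((DTen.QQQ A).obj (P₁, (P₂, P₃))) =
        (DTen.βL A).app (P₁, (P₂, P₃)) ≫ inv ((DTen.ε₃ A).app (P₁, (P₂, P₃))) := by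
      rw [← hfac, Category.assoc, IsIso.hom_inv_id, Category.comp_id]
    rw [h]
    infer_instance
  let ee : (DTen.QQQ A).obj (P₁, (P₂, P₃)) ≅ (a, (b, c)) := Iso.prod e₁ (Iso.prod e₂ e₃)
  constructor
  · have hnat := (DTen.assocL A).naturality ee.hom
    have h : (DTen.assocL A).app (a, (b, c)) = inv ((DTen.LTenL A).map ee.hom) ≫
        (DTen.assocL A).app ((DTen.QQQ A).obj (P₁, (P₂, P₃))) ≫ (DTen.LTen₃ A).map ee.hom := by
      rw [← hnat, IsIso.inv_hom_id_assoc]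
    rw [h]
    infer_instance
  · have hnat := (DTen.assocR A).naturality ee.hom
    have h : (DTen.assocR A).app (a, (b, c)) = inv ((DTen.LTenR A).map ee.hom) ≫
        (DTen.assocR A).app ((DTen.QQQ A).obj (P₁, (P₂, P₃))) ≫ (DTen.LTen₃ A).map ee.hom := by
      rw [← hnat, IsIso.inv_hom_id_assoc]
    rw [h]
    infer_instance

end Groth.Agent.Lib.Helper16.KF
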