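import Mathlib
import Groth.Agent.Lib.Helper8.Bid7
import Groth.Agent.Lib.Helper8.Bid8

/-!
# Helper16 — FLJ2: for a flat `A`-algebra `S`, a nonzerodivisor `x` of `S` with `S/(x)` flat over `A`
and a complex `F` of `A`-modules, the short exact sequence of complexes of `S`-modules
`0 → S ⊗_A F →x S ⊗_A F → S/(x) ⊗_A F → 0`.
-/

set_option autoImplicit false
universe u

open CategoryTheory CategoryTheory.Limits CategoryTheory.Pretriangulated Opposite DerivedCategory
open TensorProduct

attribute [local instance] HasDerivedCategory.standard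

namespace Groth.Agent.Lib.Helper16.FLJ

open Groth.Agent.Lib.Helper8 Groth.Agent.Lib.Helper8.Bidual Groth.Agent.Lib.Helper6

variable {A S : Type u} [CommRing A] [CommRing S] [Algebra A S] (x : S)

/-- the quotient map `S → S/(x)` -/
noncomputable abbrev qmap : S →+* S ⧸ Ideal.span {x} := algebraMap S (S ⧸ Ideal.span {x})

/-- multiplication by `x` on `S`, as an `A`-linear endomorphism of `S_A` -/
noncomputable def mulx : BA (algebraMap A S) →ₗ[A] BA (algebraMap A S) where
  toFun := fun s => (x * (show S from s) : S)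
  map_add' := fun s t => mul_add x (show S from s) (show S from t)
  map_smul' := fun a s => by
    change x * (algebraMap A S a * (show S from s)) = algebraMap A S a * (x * (show S from s))
    ring

/-- the quotient map, as an `A`-linear map `S_A → (S/x)_A` -/
noncomputable def mkl : BA (algebraMap A S) →ₗ[A] BA (algebraMap A (S ⧸ Ideal.span {x})) where
  toFun := fun s => (Ideal.Quotient.mk (Ideal.span {x}) (show S from s) : S ⧸ Ideal.span {x})
  map_add' := fun s t => by
    change Ideal.Quotient.mk (Ideal.span {x}) ((show S from s) + (show S from t)) = _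
    rw [map_add]
    rfl
  map_smul' := fun a s => by
    change Ideal.Quotient.mk (Ideal.span {x}) (algebraMap A S a * (show S from s)) =
      algebraMap A (S ⧸ Ideal.span {x}) a * Ideal.Quotient.mk (Ideal.span {x}) (show S from s)
    rw [map_mul]
    rfl

lemma mkl_surjective : Function.Surjective (mkl (A := A) x) := by
  intro (t : S ⧸ Ideal.span {x})
  obtain ⟨s, hs⟩ := Ideal.Quotient.mk_surjective t
  exact ⟨s, hs⟩

lemma mulx_injective (hx : x ∈ nonZeroDivisors S) : Function.Injective (mulx (A := A) x) := by
  intro (s : S) (t : S) hst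
  have h1 : x * s = x * t := hst
  have h2 : (s - t) * x = 0 := by rw [sub_mul, mul_comm s, mul_comm t, h1, sub_self]
  exact sub_eq_zero.1 ((mem_nonZeroDivisors_iff_right.1 hx) _ h2)

lemma mulx_mkl_exact : Function.Exact (mulx (A := A) x) (mkl (A := A) x) := by
  intro (s : S)
  constructor
  · intro hs
    have hs' : Ideal.Quotient.mk (Ideal.span {x}) s = 0 := hs
    rw [Ideal.Quotient.eq_zero_iff_mem, Ideal.mem_span_singleton'] at hs'
    obtain ⟨c, hc⟩ := hs'
    exact ⟨c, by change x * c = s; rw [mul_comm, hc]⟩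
  · rintro ⟨(c : S), rfl⟩
    change Ideal.Quotient.mk (Ideal.span {x}) (x * c) = 0
    rw [Ideal.Quotient.eq_zero_iff_mem]
    exact Ideal.mul_mem_right c _ (Ideal.mem_span_singleton_self x)

section Tensor

variable (M : Type u) [AddCommGroup M] [Module A M]

lemma rTensor_mulx_injective [Module.Flat A (S ⧸ Ideal.span {x})] (hx : x ∈ nonZeroDivisors S) :
    Function.Injective ((mulx (A := A) x).rTensor M) := by
  haveI : Module.Flat A (BA (algebraMap A (S ⧸ Ideal.span {x}))) :=
    Module.Flat.of_linearEquiv
      (Groth.Agent.Lib.Helper16.FlatBC.bEquiv (A := A) (B := S ⧸ Ideal.span {x})).symm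
  have h1 : Function.Injective ((mulx (A := A) x).lTensor M) :=
    LinearMap.lTensor_injective_of_exact_of_flat (mkl (A := A) x) (mkl_surjective x)
      (mulx (A := A) x) (mulx_injective x hx) (mulx_mkl_exact x) M
  have h2 : (mulx (A := A) x).rTensor M =
      (TensorProduct.comm A M _).toLinearMap ∘ₗ (mulx (A := A) x).lTensor M ∘ₗ
        (TensorProduct.comm A _ M).toLinearMap := by
    apply TensorProduct.ext'
    intro s m
    rfl
  rw [h2]
  exact (TensorProduct.comm A M _).injective.comp (h1.comp (TensorProduct.comm A _ M).injective)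

lemma rTensor_exact' :
    Function.Exact ((mulx (A := A) x).rTensor M) ((mkl (A := A) x).rTensor M) :=
  rTensor_exact M (mulx_mkl_exact x) (mkl_surjective x)

lemma rTensor_mkl_surjective : Function.Surjective ((mkl (A := A) x).rTensor M) :=
  LinearMap.rTensor_surjective M (mkl_surjective x)

end Tensor

section ModuleCat

/-- extension of scalars to `S` -/
noncomputable abbrev extS : ModuleCat.{u} A ⥤ ModuleCat.{u} S :=
  ModuleCat.extendScalars.{u, u, u} (algebraMap A S)

/-- extension of scalars to `S/(x)` -/
noncomputable abbrev extS₁ : ModuleCat.{u} A ⥤ ModuleCat.{u} (S ⧸ Ideal.span {x}) :=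
  ModuleCat.extendScalars.{u, u, u} (algebraMap A (S ⧸ Ideal.span {x}))

lemma rTensor_mkl_smul (M : ModuleCat.{u} A) (s : S) (t : (extS (A := A) (S := S)).obj M) :
    (mkl (A := A) x).rTensor M (s • t) =
      (show (extS₁ (A := A) x).obj M from
        (qmap x s) • (show (extS₁ (A := A) x).obj M from (mkl (A := A) x).rTensor M t)) := by
  induction t using TensorProduct.induction_on with
  | zero =>
    have h1 : s • (0 : (extS (A := A) (S := S)).obj M) = 0 := smul_zero s
    have h2 : (qmap x s) • (0 : (extS₁ (A := A) x).obj M) = 0 := smul_zero _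
    have h3 : (mkl (A := A) x).rTensor M (0 : (extS (A := A) (S := S)).obj M) =
      (0 : (extS₁ (A := A) x).obj M) := map_zero _
    change (mkl (A := A) x).rTensor M (s • (0 : (extS (A := A) (S := S)).obj M)) =
      (qmap x s) • (show (extS₁ (A := A) x).obj M from
        (mkl (A := A) x).rTensor M (0 : (extS (A := A) (S := S)).obj M))
    rw [h1, h3]
    exact h2.symm
  | tmul s' m => rfl
  | add t t' ht ht' =>
    have h1 : s • ((show (extS (A := A) (S := S)).obj M from t) +
        (show (extS (A := A) (S := S)).obj M from t')) =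
        s • (show (extS (A := A) (S := S)).obj M from t) +
          s • (show (extS (A := A) (S := S)).obj M from t') :=
      smul_add s _ _
    change (mkl (A := A) x).rTensor M (s • ((show (extS (A := A) (S := S)).obj M from t) +
        (show (extS (A := A) (S := S)).obj M from t'))) = _
    rw [h1]
    have h2 : ∀ a b : (extS (A := A) (S := S)).obj M, (mkl (A := A) x).rTensor M (a + b) =
        (mkl (A := A) x).rTensor M a + (mkl (A := A) x).rTensor M b := fun a b => map_add _ a b
    rw [h2]
    have ht1 : (mkl (A := A) x).rTensor M (s • (show (extS (A := A) (S := S)).obj M from t)) = _ :=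
      ht
    have ht2 : (mkl (A := A) x).rTensor M (s • (show (extS (A := A) (S := S)).obj M from t')) = _ :=
      ht'
    rw [ht1, ht2]
    have h3 : (mkl (A := A) x).rTensor M (t + t') =
        (mkl (A := A) x).rTensor M t + (mkl (A := A) x).rTensor M t' := map_add _ t t'
    rw [h3]
    exact (smul_add (qmap x s) (show (extS₁ (A := A) x).obj M from (mkl (A := A) x).rTensor M t)
      (show (extS₁ (A := A) x).obj M from (mkl (A := A) x).rTensor M t')).symm

/-- the natural map `S ⊗_A M → S/(x) ⊗_A M` -/
noncomputable def νApp (M : ModuleCat.{u} A) :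
    (extS (A := A) (S := S)).obj M ⟶ (res (qmap x)).obj ((extS₁ (A := A) x).obj M) :=
  ModuleCat.ofHom (X := (extS (A := A) (S := S)).obj M)
    (Y := (res (qmap x)).obj ((extS₁ (A := A) x).obj M))
    { toFun := fun t => (mkl (A := A) x).rTensor M t
      map_add' := fun t t' => map_add _ t t'
      map_smul' := fun s t => rTensor_mkl_smul x M s t }

lemma νApp_apply (M : ModuleCat.{u} A) (t : (extS (A := A) (S := S)).obj M) :
    (νApp (A := A) x M).hom t = (mkl (A := A) x).rTensor M t := rfl

lemma νApp_naturality {M M' : ModuleCat.{u} A} (g : M ⟶ M') :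
    (extS (A := A) (S := S)).map g ≫ νApp (A := A) x M' =
      νApp (A := A) x M ≫ (res (qmap x)).map ((extS₁ (A := A) x).map g) := by
  refine ModuleCat.hom_ext (LinearMap.ext fun t => ?_)
  have hadd : ∀ (f : (extS (A := A) (S := S)).obj M ⟶
      (res (qmap x)).obj ((extS₁ (A := A) x).obj M'))
      (a b : (extS (A := A) (S := S)).obj M), f.hom (a + b) = f.hom a + f.hom b :=
    fun f a b => map_add _ a b
  induction t using TensorProduct.induction_on with
  | zero => exact (map_zero _).trans (map_zero _).symm
  | tmul s m => rfl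
  | add t t' ht ht' => exact (hadd _ t t').trans ((congrArg₂ (· + ·) ht ht').trans (hadd _ t t').symm)

lemma rTensor_mulx_eq (M : ModuleCat.{u} A) (t : (extS (A := A) (S := S)).obj M) :
    (show (extS (A := A) (S := S)).obj M from (mulx (A := A) x).rTensor M t) = x • t := by
  induction t using TensorProduct.induction_on with
  | zero =>
    have h1 : x • (0 : (extS (A := A) (S := S)).obj M) = 0 := smul_zero x
    exact (map_zero _).trans h1.symm
  | tmul s' m => rfl
  | add t t' ht ht' =>
    have h1 : x • ((show (extS (A := A) (S := S)).obj M from t) +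
        (show (extS (A := A) (S := S)).obj M from t')) =
        x • (show (extS (A := A) (S := S)).obj M from t) +
          x • (show (extS (A := A) (S := S)).obj M from t') :=
      smul_add x _ _
    have h3 : (mulx (A := A) x).rTensor M (t + t') =
        (mulx (A := A) x).rTensor M t + (mulx (A := A) x).rTensor M t' := map_add _ t t'
    exact h3.trans ((congrArg₂ (· + ·) ht ht').trans h1.symm)

lemma qmap_self : qmap x x = 0 :=
  Ideal.Quotient.eq_zero_iff_mem.2 (Ideal.mem_span_singleton_self x)

lemma smul_comp_νApp (M : ModuleCat.{u} A) :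
    (x • 𝟙 ((extS (A := A) (S := S)).obj M)) ≫ νApp (A := A) x M = 0 := by
  refine ModuleCat.hom_ext (LinearMap.ext fun t => ?_)
  change (mkl (A := A) x).rTensor M (x • t) = 0
  rw [rTensor_mkl_smul, qmap_self]
  exact zero_smul _ (show (extS₁ (A := A) x).obj M from (mkl (A := A) x).rTensor M t)

/-- `0 → S ⊗_A M →x S ⊗_A M → S/(x) ⊗_A M → 0` -/
lemma shortExact_ext [Module.Flat A (S ⧸ Ideal.span {x})] (hx : x ∈ nonZeroDivisors S)
    (M : ModuleCat.{u} A) :
    (ShortComplex.mk _ _ (smul_comp_νApp (A := A) x M)).ShortExact := by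
  refine ShortComplex.ShortExact.mk' ?_ ?_ ?_
  · rw [ShortComplex.moduleCat_exact_iff]
    intro (t : (extS (A := A) (S := S)).obj M) ht
    have ht' : (mkl (A := A) x).rTensor M t = 0 := ht
    obtain ⟨t', ht'⟩ := (rTensor_exact' (A := A) x M t).1 ht'
    refine ⟨t', ?_⟩
    change x • (show (extS (A := A) (S := S)).obj M from t') = t
    rw [← rTensor_mulx_eq]
    exact ht'
  · rw [ModuleCat.mono_iff_injective]
    intro (t : (extS (A := A) (S := S)).obj M) (t' : (extS (A := A) (S := S)).obj M) htt
    have h1 : x • t = x • t' := htt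
    rw [← rTensor_mulx_eq, ← rTensor_mulx_eq] at h1
    exact rTensor_mulx_injective (A := A) x M hx h1
  · rw [ModuleCat.epi_iff_surjective]
    exact rTensor_mkl_surjective (A := A) x M

end ModuleCat

section Complex

/-- termwise extension of scalars to `S` -/
noncomputable abbrev extCxS : DRing.Cx A ⥤ DRing.Cx S :=
  (extS (A := A) (S := S)).mapHomologicalComplex (ComplexShape.up ℤ)

/-- termwise extension of scalars to `S/(x)` -/
noncomputable abbrev extCxS₁ : DRing.Cx A ⥤ DRing.Cx (S ⧸ Ideal.span {x}) :=
  (extS₁ (A := A) x).mapHomologicalComplex (ComplexShape.up ℤ)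

/-- the natural map of complexes `S ⊗_A F → S/(x) ⊗_A F` -/
noncomputable def νCx (F : DRing.Cx A) :
    (extCxS (A := A) (S := S)).obj F ⟶ (resCx (qmap x)).obj ((extCxS₁ (A := A) x).obj F) where
  f n := νApp (A := A) x (F.X n)
  comm' i j _ := (νApp_naturality (A := A) x (F.d i j)).symm

lemma smul_comp_νCx (F : DRing.Cx A) :
    (x • 𝟙 ((extCxS (A := A) (S := S)).obj F)) ≫ νCx (A := A) x F = 0 := by
  ext n : 1
  exact smul_comp_νApp (A := A) x (F.X n)

/-- `0 → S ⊗_A F →x S ⊗_A F → S/(x) ⊗_A F → 0` -/
lemma shortExact_extCx [Module.Flat A (S ⧸ Ideal.span {x})] (hx : x ∈ nonZeroDivisors S)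
    (F : DRing.Cx A) :
    (ShortComplex.mk _ _ (smul_comp_νCx (A := A) x F)).ShortExact :=
  HomologicalComplex.shortExact_of_degreewise_shortExact _
    (fun n => shortExact_ext (A := A) x hx (F.X n))

/-- the distinguished triangle `Q(S ⊗ F) →x Q(S ⊗ F) → Q(res (S/(x) ⊗ F)) →` -/
lemma exists_triangle_ext [Module.Flat A (S ⧸ Ideal.span {x})] (hx : x ∈ nonZeroDivisors S)
    (F : DRing.Cx A) :
    ∃ δ : (Q.obj ((resCx (qmap x)).obj ((extCxS₁ (A := A) x).obj F)) : Dual.D S) ⟶
        (Q.obj ((extCxS (A := A) (S := S)).obj F))⟦(1 : ℤ)⟧,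
      Triangle.mk (x • 𝟙 (Q.obj ((extCxS (A := A) (S := S)).obj F) : Dual.D S))
        (Q.map (νCx (A := A) x F)) δ ∈ distTriang (Dual.D S) := by
  have h := DerivedCategory.triangleOfSES_distinguished (shortExact_extCx (A := A) x hx F)
  have h1 : x • 𝟙 (Q.obj ((extCxS (A := A) (S := S)).obj F) : Dual.D S) =
      Q.map (x • 𝟙 ((extCxS (A := A) (S := S)).obj F)) := by
    rw [Functor.map_smul, CategoryTheory.Functor.map_id]
  rw [h1]
  exact ⟨_, h⟩

/-- `x` kills complexes restricted from `S/(x)` -/
lemma smul_id_resCx (N : DRing.Cx (S ⧸ Ideal.span {x})) :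
    x • 𝟙 ((resCx (qmap x)).obj N) = 0 := by
  ext n t
  change (qmap x x) • (show N.X n from t) = 0
  rw [qmap_self, zero_smul]

lemma smul_id_Q_resCx (N : DRing.Cx (S ⧸ Ideal.span {x})) :
    x • 𝟙 (Q.obj ((resCx (qmap x)).obj N) : Dual.D S) = 0 := by
  have h1 : x • 𝟙 (Q.obj ((resCx (qmap x)).obj N) : Dual.D S) =
      Q.map (x • 𝟙 ((resCx (qmap x)).obj N)) := by
    rw [Functor.map_smul, CategoryTheory.Functor.map_id]
  rw [h1, smul_id_resCx, Functor.map_zero]

end Complex

end Groth.Agent.Lib.Helper16.FLJ
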