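import Mathlib
import Groth.Agent.Lib.Helper16.FLJ1
import Groth.Agent.Lib.Helper16.FLJ2
import Groth.Agent.Lib.Helper16.RestrictD

/-!
# Helper16 — FLJ3: conservativity of restriction of scalars on derived categories; the triangle
`res Q(Hom_S(S/x, I)) → Q I →x Q I →`; one step of the induction: for a flat `A`-algebra `S`, a
nonzerodivisor `x` with `S/(x)` flat over `A`, and `F` a complex of `A`-modules with `Q(S ⊗ F)`
dualizing, `Q(S/(x) ⊗ F) ≅ Q(Hom_S(S/(x), I))` for an injective model `I` of `Q(S ⊗ F)[1]`.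
-/

set_option autoImplicit false
universe u

open CategoryTheory CategoryTheory.Limits CategoryTheory.Pretriangulated Opposite DerivedCategory
open TensorProduct

attribute [local instance] HasDerivedCategory.standard

namespace Groth.Agent.Lib.Helper16.FLJ

open Groth.Agent.Lib.Helper8 Groth.Agent.Lib.Helper8.Bidual Groth.Agent.Lib.Helper6

section Conservative

variable {A B : Type u} [CommRing A] [CommRing B] (φ : A →+* B)

lemma isZero_of_homology {X : Dual.D A}
    (h : ∀ n : ℤ, IsZero ((homologyFunctor (ModuleCat.{u} A) n).obj X)) : IsZero X := by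
  haveI : IsIso (0 : X ⟶ X) := by
    rw [DerivedCategory.isIso_iff]
    intro n
    exact ⟨0, (h n).eq_of_src _ _, (h n).eq_of_src _ _⟩
  rw [IsZero.iff_id_eq_zero]
  have := IsIso.hom_inv_id (0 : X ⟶ X)
  rw [zero_comp] at this
  exact this.symm

/-- an object whose restriction of scalars is zero is zero -/
lemma isZero_of_isZero_restrictD (X : Dual.D B) (h : IsZero ((DRing.restrictD φ).obj X)) :
    IsZero X := by
  apply isZero_of_homology
  intro n
  obtain ⟨e⟩ := Groth.Agent.Lib.Helper16.RestrictD.nonempty_restrictHomologyIso φ X n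
  have h1 : IsZero ((homologyFunctor (ModuleCat.{u} A) n).obj ((DRing.restrictD φ).obj X)) :=
    Functor.map_isZero _ h
  have h2 := ModuleCat.subsingleton_of_isZero (h1.of_iso e.symm)
  have h3 : Subsingleton ((homologyFunctor (ModuleCat.{u} B) n).obj X) := h2
  exact ModuleCat.isZero_of_subsingleton _

/-- restriction of scalars on derived categories reflects isomorphisms -/
lemma isIso_of_isIso_restrictD {X Y : Dual.D B} (f : X ⟶ Y)
    (h : IsIso ((DRing.restrictD φ).map f)) : IsIso f := by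
  obtain ⟨Z, g, w, hT⟩ := distinguished_cocone_triangle f
  have hT' := (DRing.restrictD φ).map_distinguished _ hT
  have h1 : IsZero ((DRing.restrictD φ).obj Z) :=
    (Triangle.isZero₃_iff_isIso₁ _ hT').2 h
  have h2 : IsZero Z := isZero_of_isZero_restrictD φ Z h1
  exact (Triangle.isZero₃_iff_isIso₁ _ hT).1 h2

end Conservative

section Coext

variable {S : Type u} [CommRing S] [IsNoetherianRing S] (x : S)

instance finite_BA_qmap : Module.Finite S (BA (qmap x)) :=
  Module.Finite.equiv (Groth.Agent.Lib.Helper16.FlatBC.bEquiv (A := S) (B := S ⧸ Ideal.span {x}))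

omit [IsNoetherianRing S] in
/-- chain level: the counit `res Hom_S(S/x, I) → I` is `Hom(S/x, I) → Hom(S, I) ≅ I` -/
lemma counitCx_eq (I : DRing.Cx S) :
    (DerivedAdj.counitCx (adj0 (qmap x)) _).app I =
      (ιCx (qmap x) I).hom ≫ (homF I).map (mkBA (Ideal.span {x})).op ≫ (evOne I).hom := by
  ext n t
  rfl

/-- the distinguished triangle `res Q(Hom_S(S/x, I)) → Q I →x Q I →` for a complex of injectives -/
lemma exists_triangle_ρQ (hx : x ∈ nonZeroDivisors S) (I : DRing.Cx S)
    (hI : ∀ n : ℤ, Injective (I.X n)) :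
    ∃ w : (Q.obj I : Dual.D S) ⟶
        ((DRing.restrictD (qmap x)).obj (Q.obj ((coextCx (qmap x)).obj I)))⟦(1 : ℤ)⟧,
      Triangle.mk (ρQ (qmap x) I) (x • 𝟙 (Q.obj I : Dual.D S)) w ∈ distTriang (Dual.D S) := by
  obtain ⟨δ, hδ⟩ := TI_triangle I hI _ (shortExact_mulf x hx)
  let e₁ : (DRing.restrictD (qmap x)).obj (Q.obj ((coextCx (qmap x)).obj I)) ≅
      (TI I).obj (op (BA (qmap x))) := uIso (qmap x) I
  let e₂ : (TI I).obj (op (ModuleCat.of S S)) ≅ (Q.obj I : Dual.D S) := Q.mapIso (evOne I)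
  refine ⟨e₂.inv ≫ δ ≫ e₁.inv⟦(1 : ℤ)⟧', ?_⟩
  refine isomorphic_distinguished _ hδ _ (Triangle.isoMk _ _ e₁ e₂.symm e₂.symm ?_ ?_ ?_)
  · change ρQ (qmap x) I ≫ e₂.inv = e₁.hom ≫ (TI I).map (mkBA (Ideal.span {x})).op
    rw [← cancel_mono e₂.hom, Category.assoc, Category.assoc, Iso.inv_hom_id, Category.comp_id,
      ρQ_eq, counitCx_eq]
    simp only [e₁, e₂, uIso, Iso.trans_hom, Functor.mapIso_hom, Functor.map_comp, Category.assoc,
      Functor.comp_map]
  · change (x • 𝟙 (Q.obj I : Dual.D S)) ≫ e₂.inv =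
      e₂.inv ≫ (TI I).map (mhat (ModuleCat.of S S) x).op
    have h1 : (TI I).map (mhat (ModuleCat.of S S) x).op ≫ e₂.hom =
        e₂.hom ≫ (x • 𝟙 (Q.obj I : Dual.D S)) := by
      change Q.map ((homF I).map (mhat (ModuleCat.of S S) x).op) ≫ Q.map (evOne I).hom =
        Q.map (evOne I).hom ≫ (x • 𝟙 (Q.obj I : Dual.D S))
      rw [← Functor.map_comp, homF_mhat_evOne, Functor.map_comp,
        Functor.map_smul, CategoryTheory.Functor.map_id]
    rw [← cancel_mono e₂.hom, Category.assoc, Category.assoc, Iso.inv_hom_id, Category.comp_id,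
      h1, ← Category.assoc, Iso.inv_hom_id, Category.id_comp]
  · change (e₂.inv ≫ δ ≫ e₁.inv⟦(1 : ℤ)⟧') ≫ e₁.hom⟦(1 : ℤ)⟧' = e₂.inv ≫ δ
    rw [Category.assoc, Category.assoc, ← Functor.map_comp, Iso.inv_hom_id,
      CategoryTheory.Functor.map_id, Category.comp_id]

end Coext

section OneStep

variable {A S : Type u} [CommRing A] [CommRing S] [Algebra A S] [IsNoetherianRing S] (x : S)

/-- the negative of an isomorphism -/
def negIso {C : Type*} [Category C] [Preadditive C] {X Y : C} (e : X ≅ Y) : X ≅ Y where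
  hom := -e.hom
  inv := -e.inv
  hom_inv_id := by simp
  inv_hom_id := by simp

/-- **key comparison**: if `I` is a bounded complex of injective `S`-modules representing the
dualizing complex `Q(S ⊗_A F)[1]`, then `Q(S/(x) ⊗_A F) ≅ Q(Hom_S(S/(x), I))` in `D(S/(x))`. -/
theorem nonempty_iso_coext [Module.Flat A (S ⧸ Ideal.span {x})] (hx : x ∈ nonZeroDivisors S)
    (F : DRing.Cx A) (I : DRing.Cx S) (a b : ℤ) (hI : ∀ n : ℤ, Injective (I.X n))
    (hab : ∀ n : ℤ, n < a ∨ b < n → IsZero (I.X n))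
    (e : (Q.obj I : Dual.D S) ≅ (Q.obj ((extCxS (A := A) (S := S)).obj F))⟦(1 : ℤ)⟧)
    (hω : Dual.IsDualizing S (Q.obj I)) :
    Nonempty ((Q.obj ((extCxS₁ (A := A) x).obj F) : Dual.D (S ⧸ Ideal.span {x})) ≅
      Q.obj ((coextCx (qmap x)).obj I)) := by
  haveI := isKInjective_I I hI a b hab
  haveI := isKInjective_coextCx' (qmap x) I hI a b hab
  set N₁ := (extCxS₁ (A := A) x).obj F with hN₁
  set X₁ := (extCxS (A := A) (S := S)).obj F with hX₁
  -- the two triangles
  obtain ⟨δ, hδ⟩ := exists_triangle_ext (A := A) x hx F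
  obtain ⟨w, hw⟩ := exists_triangle_ρQ x hx I hI
  let T₁ : Triangle (Dual.D S) :=
    (Triangle.mk (x • 𝟙 (Q.obj X₁ : Dual.D S)) (Q.map (νCx (A := A) x F)) δ).rotate.rotate
  have hT₁ : T₁ ∈ distTriang (Dual.D S) := rot_of_distTriang _ (rot_of_distTriang _ hδ)
  let T₂ : Triangle (Dual.D S) := Triangle.mk (ρQ (qmap x) I) (x • 𝟙 (Q.obj I : Dual.D S)) w
  -- the adjunct of the connecting morphism
  let j : (DRing.restrictD (qmap x)).obj (Q.obj N₁) ≅ Q.obj ((resCx (qmap x)).obj N₁) :=
    Groth.Agent.Lib.Helper16.RestrictD.restrictQIso (qmap x) N₁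
  have hΨ : Function.Bijective (fun f : (Q.obj N₁ : Dual.D (S ⧸ Ideal.span {x})) ⟶
      Q.obj ((coextCx (qmap x)).obj I) => (DRing.restrictD (qmap x)).map f ≫ ρQ (qmap x) I) :=
    bijective_ρ (adj0 (qmap x)) I ((quot (S ⧸ Ideal.span {x})).obj N₁)
  obtain ⟨f, hf⟩ := hΨ.2 (j.hom ≫ δ ≫ e.inv)
  have hf' : (DRing.restrictD (qmap x)).map f ≫ ρQ (qmap x) I = j.hom ≫ δ ≫ e.inv := hf
  -- apply the comparison lemma
  have hr : IsIso (j.inv ≫ (DRing.restrictD (qmap x)).map f) := by
    refine isIso_of_fibres (R := S) T₁ T₂ hT₁ hw e.symm (negIso e.symm) ?_ x ?_ ?_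
      (j.inv ≫ (DRing.restrictD (qmap x)).map f) ?_
    · change (-(x • 𝟙 (Q.obj X₁ : Dual.D S))⟦(1 : ℤ)⟧') ≫ (-e.inv) =
        e.inv ≫ (x • 𝟙 (Q.obj I : Dual.D S))
      rw [Functor.map_smul, CategoryTheory.Functor.map_id]
      simp only [Preadditive.neg_comp, Preadditive.comp_neg, neg_neg, Linear.smul_comp,
        Linear.comp_smul, Category.id_comp, Category.comp_id]
    · exact smul_id_Q_resCx x N₁
    · intro s hs
      obtain ⟨y, rfl⟩ := hω.toEnd_bijective.2 s
      have h1 : (x * y) • 𝟙 (Q.obj I : Dual.D S) = (0 : S) • 𝟙 (Q.obj I : Dual.D S) := by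
        rw [zero_smul, mul_smul]
        exact hs
      have h2 : x * y = 0 := hω.toEnd_bijective.1 h1
      have h3 : y = 0 := by
        rw [mul_comm] at h2
        exact (mem_nonZeroDivisors_iff_right.1 hx) _ h2
      change y • 𝟙 (Q.obj I : Dual.D S) = 0
      rw [h3, zero_smul]
    · change (j.inv ≫ (DRing.restrictD (qmap x)).map f) ≫ ρQ (qmap x) I = δ ≫ e.inv
      rw [Category.assoc, hf', ← Category.assoc, Iso.inv_hom_id, Category.id_comp]
  have hr2 : IsIso ((DRing.restrictD (qmap x)).map f) := by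
    have : (DRing.restrictD (qmap x)).map f =
        j.hom ≫ (j.inv ≫ (DRing.restrictD (qmap x)).map f) := by
      rw [← Category.assoc, Iso.hom_inv_id, Category.id_comp]
    rw [this]
    infer_instance
  haveI := isIso_of_isIso_restrictD (qmap x) f hr2
  exact ⟨asIso f⟩

end OneStep

end Groth.Agent.Lib.Helper16.FLJ
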