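import Mathlib
import Groth.Agent.Lib.Helper16.FLJ3
import Groth.Agent.Lib.Helper8.EFB22

/-!
# Helper16 — FLJ4: upper Ext bounds `UB`; one step of the induction in terms of the flat base change
`ε`: for flat noetherian `A`-algebras `S` and `S/(x)` (`x` a nonzerodivisor) and `K` dualizing over
`A`, an upper Ext bound for `ε_S K` is an upper Ext bound for `ε_{S/(x)} K`.
-/

set_option autoImplicit false
universe u

open CategoryTheory CategoryTheory.Limits CategoryTheory.Pretriangulated Opposite DerivedCategory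
open TensorProduct

attribute [local instance] HasDerivedCategory.standard

namespace Groth.Agent.Lib.Helper16.FLJ

open Groth.Agent.Lib.Helper8 Groth.Agent.Lib.Helper8.Bidual Groth.Agent.Lib.Helper6
open Groth.Agent.Lib.Helper16.FlatBC

/-- upper bound for the Ext's of modules into `L` -/
def UB (T : Type u) [CommRing T] (b : ℤ) (L : Dual.D T) : Prop :=
  ∀ (N : Type u) [AddCommGroup N] [Module T N] (i : ℤ), b < i →
    Subsingleton (Dual.inD T N ⟶ L⟦i⟧)

section UB

variable {T : Type u} [CommRing T]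

lemma UB.of_iso {b : ℤ} {L L' : Dual.D T} (h : UB T b L) (e : L ≅ L') : UB T b L' := by
  intro N _ _ i hi
  haveI := h N i hi
  exact (Iso.homToEquiv (Z := Dual.inD T N) ((shiftFunctor (Dual.D T) i).mapIso e)).symm.subsingleton

lemma UB.mono {b b' : ℤ} {L : Dual.D T} (h : UB T b L) (hbb : b ≤ b') : UB T b' L :=
  fun N _ _ i hi => h N i (by omega)

lemma UB.shift {b : ℤ} {L : Dual.D T} (h : UB T b L) (n : ℤ) : UB T (b - n) (L⟦n⟧) := by
  intro N _ _ i hi
  haveI := h N (n + i) (by omega)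
  exact (Iso.homToEquiv (Z := Dual.inD T N)
    ((shiftFunctorAdd' (Dual.D T) n i (n + i) rfl).app L)).symm.subsingleton

/-- the lower bound is automatic -/
lemma subsingleton_hom_of_isGE (L : Dual.D T) (a : ℤ) (hL : L.IsGE a) (N : Type u)
    [AddCommGroup N] [Module T N] (i : ℤ) (hi : i < a) :
    Subsingleton (Dual.inD T N ⟶ L⟦i⟧) := by
  haveI : (L⟦i⟧).IsGE (a - i) := (TStructure.t).isGE_shift L a i (a - i) (by omega)
  exact EFB.subsingleton_hom_of_isLE_of_isGE (Dual.inD T N) (L⟦i⟧) 0 (a - i) (by omega)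
    inferInstance inferInstance

end UB

section Dualizing

variable {A T : Type u} [CommRing A] [CommRing T] [Algebra A T] [IsNoetherianRing A]
  [IsNoetherianRing T] [Module.Flat A T]

/-- with an upper Ext bound, the flat base change of a dualizing complex is dualizing -/
theorem isDualizing_of_UB (K : Dual.D A) (hK : Dual.IsDualizing A K) (b : ℤ)
    (hb : UB T b ((ε (algebraMap A T)).obj K)) :
    Dual.IsDualizing T ((ε (algebraMap A T)).obj K) := by
  obtain ⟨a, b₀, hab⟩ := hK.finite_injective_dimension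
  have hbdd := EFB.hbdd_of_hinj K a b₀ hab
  have hGE := EFB.isGE_ε (B := T) K a (fun i hi => hbdd i (Or.inl hi))
  refine EFB.isDualizing_ε_of_hinj K hK ⟨a, b, fun N _ _ i hi => ?_⟩
  rcases hi with hi | hi
  · exact subsingleton_hom_of_isGE _ a hGE N i hi
  · exact hb N i hi

end Dualizing

section OneStep

variable {A S : Type u} [CommRing A] [CommRing S] [Algebra A S] [IsNoetherianRing A]
  [IsNoetherianRing S] [Module.Flat A S] (x : S)

/-- **one step**: an upper Ext bound for `ε_S K` is an upper Ext bound for `ε_{S/(x)} K` -/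
theorem one_step [Module.Flat A (S ⧸ Ideal.span {x})] (hx : x ∈ nonZeroDivisors S)
    (K : Dual.D A) (hK : Dual.IsDualizing A K) (b : ℤ)
    (hb : UB S b ((ε (algebraMap A S)).obj K)) :
    UB (S ⧸ Ideal.span {x}) b ((ε (algebraMap A (S ⧸ Ideal.span {x}))).obj K) := by
  have hωS := isDualizing_of_UB K hK b hb
  let F := Q.objPreimage K
  let eF : Q.obj F ≅ K := Q.objObjPreimageIso K
  let eS : (ε (algebraMap A S)).obj K ≅ Q.obj ((extCxS (A := A) (S := S)).obj F) :=
    (ε (algebraMap A S)).mapIso eF.symm ≪≫ εQIso (algebraMap A S) F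
  have hω' : Dual.IsDualizing S ((Q.obj ((extCxS (A := A) (S := S)).obj F))⟦(1 : ℤ)⟧) :=
    isDualizing_shift _ (EFB.isDualizing_of_iso eS hωS) 1
  have hub' : UB S (b - 1) ((Q.obj ((extCxS (A := A) (S := S)).obj F))⟦(1 : ℤ)⟧) :=
    (hb.of_iso eS).shift 1
  obtain ⟨a₀, b₀, h₀⟩ := hω'.finite_injective_dimension
  have hamp : DRing.HasInjAmplitudeIn S a₀ (b - 1)
      ((Q.obj ((extCxS (A := A) (S := S)).obj F))⟦(1 : ℤ)⟧) := by
    refine ((IAmp.injectiveAmplitude_tfae _ a₀ (b - 1)).out 1 0).1 ?_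
    intro N _ _ i hi
    rcases hi with hi | hi
    · exact h₀ N i (Or.inl hi)
    · exact hub' N i hi
  rw [IAmp.hasInjAmp_iff] at hamp
  obtain ⟨I, hI, hab, ⟨e⟩⟩ := hamp
  have hωI : Dual.IsDualizing S (Q.obj I) := EFB.isDualizing_of_iso e.symm hω'
  obtain ⟨m⟩ := nonempty_iso_coext (A := A) x hx F I a₀ (b - 1) hI hab e hωI
  have hampW : IAmp.HasInjAmp a₀ (b - 1)
      (Q.obj ((coextCx (qmap x)).obj I) : Dual.D (S ⧸ Ideal.span {x})) :=
    ⟨(coextCx (qmap x)).obj I, fun n => by
      haveI := hI n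
      exact injective_coext (qmap x) (I.X n), fun n hn => (coext (qmap x)).map_isZero (hab n hn),
      ⟨Iso.refl _⟩⟩
  have hubW : UB (S ⧸ Ideal.span {x}) (b - 1)
      (Q.obj ((coextCx (qmap x)).obj I) : Dual.D (S ⧸ Ideal.span {x})) :=
    fun N _ _ i hi => ⟨fun f g => (hampW.hom_eq_zero _ i (Or.inr hi) f).trans
      (hampW.hom_eq_zero _ i (Or.inr hi) g).symm⟩
  exact (hubW.of_iso (m.symm ≪≫ (εQIso (algebraMap A (S ⧸ Ideal.span {x})) F).symm ≪≫
    (ε (algebraMap A (S ⧸ Ideal.span {x}))).mapIso eF)).mono (by omega)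

end OneStep

end Groth.Agent.Lib.Helper16.FLJ
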