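import Mathlib
import Groth.Agent.Lib.Helper16.FLJ4
import Groth.Agent.Lib.Helper21.FlatKit

/-!
# Helper16 — FLJ5: upper Ext bounds pass to flat base changes all of whose ideals are extended
(localizations, isomorphisms) and to quotients by regular sequences in noetherian local flat
algebras.
-/

set_option autoImplicit false
universe u

open CategoryTheory CategoryTheory.Limits CategoryTheory.Pretriangulated Opposite DerivedCategory
open TensorProduct
open scoped Pointwise

attribute [local instance] HasDerivedCategory.standard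

namespace Groth.Agent.Lib.Helper16.FLJ

open Groth.Agent.Lib.Helper8 Groth.Agent.Lib.Helper8.Bidual Groth.Agent.Lib.Helper6
open Groth.Agent.Lib.Helper16.FlatBC

section Extended

variable {P T : Type u} [CommRing P] [CommRing T] [Algebra P T] [Module.Flat P T]
  [IsNoetherianRing P]

omit [IsNoetherianRing P] in
lemma subsingleton_HD_of_isGE (L : Dual.D P) (a : ℤ) (hL : L.IsGE a) (i : ℤ) (hi : i < a) :
    Subsingleton (Dual.HD P L i) := by
  rw [DerivedCategory.isGE_iff] at hL
  exact ModuleCat.subsingleton_of_isZero (hL i hi)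

/-- upper Ext bounds pass to flat base changes all of whose ideals are extended -/
theorem UB_ε_of_ideals_extended
    (hJ : ∀ J : Ideal T, ∃ I : Ideal P, I.map (algebraMap P T) = J)
    (L : Dual.D P) (a b : ℤ) (hL : L.IsGE a) (hb : UB P b L) :
    UB T b ((ε (algebraMap P T)).obj L) := by
  have hGE' : ((ε (algebraMap P T)).obj L).IsGE a :=
    EFB.isGE_ε L a (fun i hi => subsingleton_HD_of_isGE L a hL i hi)
  have h2 : ∀ (N : Type u) [AddCommGroup N] [Module T N] (i : ℤ), (i < a ∨ b < i) →
      Subsingleton (Dual.inD T N ⟶ ((ε (algebraMap P T)).obj L)⟦i⟧) := by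
    apply ((IAmp.injectiveAmplitude_tfae ((ε (algebraMap P T)).obj L) a b).out 2 1).1
    intro J i hi
    obtain ⟨I, rfl⟩ := hJ J
    rcases hi with hi | hi
    · exact subsingleton_hom_of_isGE _ a hGE' _ i hi
    · obtain ⟨Θ⟩ := EFB.nonempty_bcEquiv_quot (B := T) I L ⟨a, hL⟩ i
      haveI := hb (P ⧸ I) i hi
      haveI : Subsingleton (T ⊗[P] (Dual.inD P (P ⧸ I) ⟶ L⟦i⟧)) :=
        EFB.subsingleton_tensor_of_right _ _
      exact Θ.symm.subsingleton
  exact fun N _ _ i hi => h2 N i (Or.inr hi)

end Extended

section Bijective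

variable {A T B₁ : Type u} [CommRing A] [CommRing T] [CommRing B₁] [Algebra A T] [Algebra A B₁]
  [Module.Flat A T] [Module.Flat A B₁] [IsNoetherianRing T]

/-- upper Ext bounds pass along isomorphisms of flat `A`-algebras -/
theorem UB_of_bijective (π : T →+* B₁) (hπ : Function.Bijective π)
    (hcomp : π.comp (algebraMap A T) = algebraMap A B₁) (K : Dual.D A) (a b : ℤ) (hK : K.IsGE a)
    (hb : UB T b ((ε (algebraMap A T)).obj K)) : UB B₁ b ((ε (algebraMap A B₁)).obj K) := by
  letI : Algebra T B₁ := π.toAlgebra
  have hπ' : Function.Bijective (algebraMap T B₁) := hπ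
  haveI : Module.Flat T B₁ := flat_of_bijective hπ'
  have hGE : ((ε (algebraMap A T)).obj K).IsGE a :=
    EFB.isGE_ε K a (fun i hi => subsingleton_HD_of_isGE K a hK i hi)
  have h1 := UB_ε_of_ideals_extended (P := T) (T := B₁)
    (fun J => ⟨J.comap (algebraMap T B₁), Ideal.map_comap_of_surjective _ hπ'.2 J⟩)
    ((ε (algebraMap A T)).obj K) a b hGE hb
  have hcomp' : (algebraMap T B₁).comp (algebraMap A T) = algebraMap A B₁ := hcomp
  haveI : FlatHom ((algebraMap T B₁).comp (algebraMap A T)) :=
    ⟨RingHom.Flat.comp FlatHom.flat FlatHom.flat⟩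
  exact h1.of_iso ((εCompObjIso (algebraMap A T) (algebraMap T B₁) K).symm ≪≫
    εCongrObjIso hcomp' K)

end Bijective

section Induction

variable {A : Type u} [CommRing A] [IsNoetherianRing A] (K : Dual.D A)
  (hK : Dual.IsDualizing A K) (b : ℤ) (B₁ : Type u) [CommRing B₁] [Algebra A B₁] [Module.Flat A B₁]

omit [IsNoetherianRing A] in
/-- auxiliary: `T/(a) ≃ B₁` as `A`-modules -/
lemma flat_quot_of_flat {T : Type u} [CommRing T] [Algebra A T] (J : Ideal T) (π : T →+* B₁)
    (hπ : Function.Surjective π) (hker : RingHom.ker π = J)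
    (hcomp : π.comp (algebraMap A T) = algebraMap A B₁) :
    Module.Flat A (T ⧸ (J • (⊤ : Submodule T T))) := by
  let πl : T →ₗ[A] B₁ :=
    { toFun := π
      map_add' := map_add π
      map_smul' := fun r t => by
        simp only [RingHom.id_apply]
        rw [Algebra.smul_def, map_mul, Algebra.smul_def]
        congr 1
        exact congrArg (fun g : A →+* B₁ => g r) hcomp }
  have hsurj : Function.Surjective πl := hπ
  have hk : (J • (⊤ : Submodule T T)).restrictScalars A = LinearMap.ker πl := by
    ext t
    have h1 : J • (⊤ : Submodule T T) = J := by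
      rw [smul_eq_mul, Ideal.mul_top]
    rw [Submodule.restrictScalars_mem, h1, ← hker]
    rfl
  exact Module.Flat.of_linearEquiv
    (((Submodule.Quotient.restrictScalarsEquiv A (J • (⊤ : Submodule T T))).symm.trans
      (Submodule.quotEquivOfEq _ _ hk)).trans (πl.quotKerEquivOfSurjective hsurj))

include hK in
/-- **induction over a regular sequence**: for a noetherian local flat `A`-algebra `T` and a
quotient `B₁` of `T` by a regular sequence which is flat over `A`, an upper Ext bound for `ε_T K`
is an upper Ext bound for `ε_{B₁} K`. -/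
theorem UB_of_regular_aux : ∀ (n : ℕ) (T : Type u) [CommRing T] [IsLocalRing T]
    [IsNoetherianRing T] [Algebra A T] [Module.Flat A T] (a : List T), a.length = n →
    (∀ f ∈ a, f ∈ IsLocalRing.maximalIdeal T) → RingTheory.Sequence.IsWeaklyRegular T a →
    ∀ (π : T →+* B₁), Function.Surjective π → RingHom.ker π = Ideal.ofList a →
    π.comp (algebraMap A T) = algebraMap A B₁ →
    UB T b ((ε (algebraMap A T)).obj K) → UB B₁ b ((ε (algebraMap A B₁)).obj K) := by
  intro n
  induction n with
  | zero =>
    intro T _ _ _ _ _ a hlen ha hreg π hπ hker hcomp hb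
    have ha0 : a = [] := List.length_eq_zero_iff.1 hlen
    subst ha0
    have hinj : Function.Injective π := by
      rw [RingHom.injective_iff_ker_eq_bot, hker, Ideal.ofList_nil]
    obtain ⟨a₀, b₀, hab⟩ := hK.finite_injective_dimension
    have hGE : K.IsGE a₀ := EFB.isGE_of_subsingleton K a₀
      (fun i hi => EFB.hbdd_of_hinj K a₀ b₀ hab i (Or.inl hi))
    exact UB_of_bijective π ⟨hinj, hπ⟩ hcomp K a₀ b hGE hb
  | succ n ih =>
    intro T _ _ _ _ _ a hlen ha hreg π hπ hker hcomp hb
    obtain ⟨x, a', rfl⟩ : ∃ x a', a = x :: a' := by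
      cases a with
      | nil => simp at hlen
      | cons x a' => exact ⟨x, a', rfl⟩
    have hlen' : a'.length = n := by simpa using hlen
    have hregfull := hreg
    rw [RingTheory.Sequence.isWeaklyRegular_cons_iff] at hreg
    obtain ⟨hxreg, hreg'⟩ := hreg
    have hxm : x ∈ IsLocalRing.maximalIdeal T := ha x List.mem_cons_self
    have hx : x ∈ nonZeroDivisors T := by
      rw [mem_nonZeroDivisors_iff_right]
      intro y hy
      apply hxreg
      change x • y = x • 0
      rw [smul_eq_mul, smul_eq_mul, mul_zero, mul_comm]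
      exact hy
    -- the quotient is local
    have hne : Ideal.span {x} ≠ ⊤ := by
      intro h
      have h1 : Ideal.span {x} ≤ IsLocalRing.maximalIdeal T :=
        (Ideal.span_singleton_le_iff_mem _).2 hxm
      rw [h] at h1
      exact (IsLocalRing.maximalIdeal.isMaximal T).ne_top (top_le_iff.1 h1)
    haveI : Nontrivial (T ⧸ Ideal.span {x}) := Ideal.Quotient.nontrivial_iff.2 hne
    haveI : IsLocalRing (T ⧸ Ideal.span {x}) :=
      IsLocalRing.of_surjective' (Ideal.Quotient.mk (Ideal.span {x})) Ideal.Quotient.mk_surjective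
    -- flatness of the quotient
    have hjac : ∀ f ∈ x :: a', f ∈ Ideal.jacobson (⊥ : Ideal T) :=
      fun f hf => IsLocalRing.maximalIdeal_le_jacobson _ (ha f hf)
    have hflat0 : Module.Flat A (T ⧸ (Ideal.ofList (x :: a') • (⊤ : Submodule T T))) :=
      flat_quot_of_flat B₁ (Ideal.ofList (x :: a')) π hπ hker hcomp
    have hflat1 := Groth.Agent.Lib.Helper21.FlatKit.flat_quotients_of_weaklyRegular (A := A)
      (x :: a') hjac T hregfull hflat0 1 (by simp)
    have htop : Ideal.ofList ((x :: a').take 1) • (⊤ : Submodule T T) = Ideal.span {x} := by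
      rw [List.take_succ_cons, List.take_zero, Ideal.ofList_singleton, smul_eq_mul, Ideal.mul_top]
    haveI : Module.Flat A (T ⧸ Ideal.span {x}) :=
      Module.Flat.of_linearEquiv
        ((Submodule.quotEquivOfEq _ _ htop).restrictScalars A).symm
    -- the induced map
    have hxker : Ideal.span {x} ≤ RingHom.ker π := by
      rw [hker, Ideal.span_singleton_le_iff_mem, Ideal.ofList_cons]
      exact Ideal.mem_sup_left (Ideal.mem_span_singleton_self x)
    refine ih (T ⧸ Ideal.span {x}) (a'.map (Ideal.Quotient.mk (Ideal.span {x})))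
      (by simpa using hlen') ?_ ?_ (Ideal.Quotient.lift (Ideal.span {x}) π hxker) ?_ ?_ ?_
      (one_step x hx K hK b hb)
    · -- in the maximal ideal
      intro f hf
      obtain ⟨r, hr, rfl⟩ := List.mem_map.1 hf
      have h1 : (IsLocalRing.maximalIdeal (T ⧸ Ideal.span {x})).comap
          (Ideal.Quotient.mk (Ideal.span {x})) = IsLocalRing.maximalIdeal T := by
        haveI := Ideal.comap_isMaximal_of_surjective (Ideal.Quotient.mk (Ideal.span {x}))
          Ideal.Quotient.mk_surjective (K := IsLocalRing.maximalIdeal (T ⧸ Ideal.span {x}))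
        exact IsLocalRing.eq_maximalIdeal inferInstance
      have h2 : r ∈ (IsLocalRing.maximalIdeal (T ⧸ Ideal.span {x})).comap
          (Ideal.Quotient.mk (Ideal.span {x})) := by
        rw [h1]
        exact ha r (List.mem_cons_of_mem _ hr)
      exact h2
    · -- weakly regular
      have hxtop : x • (⊤ : Submodule T T) = Ideal.span {x} := by
        rw [← Submodule.ideal_span_singleton_smul, smul_eq_mul, Ideal.mul_top]
      let e : QuotSMulTop x T ≃ₗ[T] (T ⧸ Ideal.span {x}) := Submodule.quotEquivOfEq _ _ hxtop
      refine (AddEquiv.isWeaklyRegular_congr (e := e.toAddEquiv) ?_).1 hreg'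
      refine List.forall₂_map_right_iff.mpr (List.forall₂_same.mpr fun r _ y => ?_)
      change e (r • y) = Ideal.Quotient.mk (Ideal.span {x}) r • e y
      rw [map_smul]
      rfl
    · exact Ideal.Quotient.lift_surjective_of_surjective _ hxker hπ
    · rw [Ideal.ker_quotient_lift, hker, Ideal.map_ofList, List.map_cons, Ideal.ofList_cons]
      have h0 : Ideal.Quotient.mk (Ideal.span {x}) x = 0 :=
        Ideal.Quotient.eq_zero_iff_mem.2 (Ideal.mem_span_singleton_self x)
      rw [h0, Ideal.span_singleton_zero, bot_sup_eq]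
    · refine RingHom.ext fun r => ?_
      have h1 := congrArg (fun g : A →+* B₁ => g r) hcomp
      exact h1

end Induction

end Groth.Agent.Lib.Helper16.FLJ
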