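import Mathlib
import Groth.Agent.Lib.Helper16.FLJ5
import Groth.Agent.Lib.Helper16.FLI1

/-!
# Helper16 — FLJ6: the flat base change of a dualizing complex along a flat local complete
intersection homomorphism of noetherian rings is dualizing.
-/

set_option autoImplicit false
universe u

open CategoryTheory CategoryTheory.Limits CategoryTheory.Pretriangulated Opposite DerivedCategory
open TensorProduct

attribute [local instance] HasDerivedCategory.standard

namespace Groth.Agent.Lib.Helper16.FLJ

open Groth.Agent.Lib.Helper8 Groth.Agent.Lib.Helper8.Bidual Groth.Agent.Lib.Helper6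
open Groth.Agent.Lib.Helper16.FlatBC

section Gens

variable {P : Type u} [CommRing P] [IsNoetherianRing P]

/-- a Koszul-regular ideal of a noetherian ring is generated by a regular sequence in the local
ring of any prime containing it -/
theorem exists_regular_gens_atPrime (I : Ideal P) (hI : LCI.IsKoszulRegularIdeal I)
    (q : Ideal P) [hq : q.IsPrime] (hIq : I ≤ q) :
    ∃ a : List P, (∀ y ∈ a, y ∈ I) ∧
      RingTheory.Sequence.IsRegular (Localization.AtPrime q)
        (a.map (algebraMap P (Localization.AtPrime q))) ∧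
      I.map (algebraMap P (Localization.AtPrime q)) =
        Ideal.ofList (a.map (algebraMap P (Localization.AtPrime q))) := by
  obtain ⟨g₁, hg₁, a, haI, hKR, hspan⟩ :=
    Groth.Agent.Lib.Helper5.Lci.exists_global_gens I hI q hIq
  have hKRq := Groth.Agent.Lib.Helper5.Lci.kr_atPrime_of_kr_away a g₁ hKR q hg₁
  have hmem : ∀ x ∈ a.map (algebraMap P (Localization.AtPrime q)),
      x ∈ IsLocalRing.maximalIdeal (Localization.AtPrime q) := by
    intro x hx
    obtain ⟨y, hy, rfl⟩ := List.mem_map.1 hx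
    rw [← Localization.AtPrime.map_eq_maximalIdeal]
    exact Ideal.mem_map_of_mem _ (hIq (haI y hy))
  refine ⟨a, haI, Groth.Agent.Lib.Helper5.KosReg.isRegular_of_koszulRegular _ hmem hKRq, ?_⟩
  exact Groth.Agent.Lib.Helper5.Lci.map_eq_ofList_of_isUnit I a g₁ hspan _
    (IsLocalization.map_units _ (⟨g₁, hg₁⟩ : q.primeCompl))

end Gens

section Killed

/-- a module killed by a maximal ideal whose localization at that ideal vanishes is zero -/
lemma subsingleton_of_killed {B : Type u} [CommRing B] (𝔫 : Ideal B) [h𝔫 : 𝔫.IsMaximal]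
    (H : Type*) [AddCommGroup H] [Module B H] (hk : ∀ r ∈ 𝔫, ∀ h : H, r • h = 0)
    (hs : Subsingleton (Localization.AtPrime 𝔫 ⊗[B] H)) : Subsingleton H := by
  suffices h0 : ∀ h : H, h = 0 from ⟨fun h h' => (h0 h).trans (h0 h').symm⟩
  intro h
  have h1 : TensorProduct.mk B (Localization.AtPrime 𝔫) H 1 h = 0 := Subsingleton.elim _ _
  haveI : IsLocalizedModule 𝔫.primeCompl (TensorProduct.mk B (Localization.AtPrime 𝔫) H 1) :=
    (isLocalizedModule_iff_isBaseChange 𝔫.primeCompl (Localization.AtPrime 𝔫) _).2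
      (TensorProduct.isBaseChange B H (Localization.AtPrime 𝔫))
  obtain ⟨s, hs⟩ := (IsLocalizedModule.eq_zero_iff 𝔫.primeCompl
    (TensorProduct.mk B (Localization.AtPrime 𝔫) H 1)).1 h1
  obtain ⟨t, u, hu, htu⟩ := h𝔫.exists_inv s.2
  have hs' : (s : B) • h = 0 := hs
  calc h = (t * (s : B) + u) • h := by rw [htu, one_smul]
  _ = 0 := by rw [add_smul, mul_smul, hs', smul_zero, hk u hu, add_zero]

end Killed

section Main

variable {A B : Type u} [CommRing A] [CommRing B] [Algebra A B] [IsNoetherianRing A]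
  [IsNoetherianRing B] [Module.Flat A B]

omit [IsNoetherianRing B] in
/-- the local step: the upper Ext bound over the local rings of `B` -/
theorem UB_atPrime (n : ℕ) (f : MvPolynomial (Fin n) A →ₐ[A] B) (hf : Function.Surjective f)
    (hKR : LCI.IsKoszulRegularIdeal (RingHom.ker f.toRingHom)) (K : Dual.D A)
    (hK : Dual.IsDualizing A K) (b : ℤ)
    (hbP : UB (MvPolynomial (Fin n) A) b ((ε (algebraMap A (MvPolynomial (Fin n) A))).obj K))
    (𝔫 : Ideal B) [𝔫.IsPrime] :
    UB (Localization.AtPrime 𝔫) b ((ε (algebraMap A (Localization.AtPrime 𝔫))).obj K) := by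
  let P := MvPolynomial (Fin n) A
  let 𝔫' : Ideal P := 𝔫.comap f.toRingHom
  haveI : 𝔫'.IsPrime := Ideal.comap_isPrime _ _
  let T := Localization.AtPrime 𝔫'
  let TB := Localization.AtPrime 𝔫
  haveI : Module.Flat A T := Module.Flat.trans A P T
  haveI : Module.Flat A TB := Module.Flat.trans A B TB
  obtain ⟨a₀, b₀, hab⟩ := hK.finite_injective_dimension
  have hbdd := EFB.hbdd_of_hinj K a₀ b₀ hab
  have hGEP : ((ε (algebraMap A P)).obj K).IsGE a₀ :=
    EFB.isGE_ε K a₀ (fun i hi => hbdd i (Or.inl hi))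
  have h1 : UB T b ((ε (algebraMap P T)).obj ((ε (algebraMap A P)).obj K)) :=
    UB_ε_of_ideals_extended (P := P) (T := T)
      (fun J => ⟨J.comap (algebraMap P T), IsLocalization.map_under 𝔫'.primeCompl T J⟩)
      _ a₀ b hGEP hbP
  have hcompT : (algebraMap P T).comp (algebraMap A P) = algebraMap A T :=
    (IsScalarTower.algebraMap_eq A P T).symm
  haveI : FlatHom ((algebraMap P T).comp (algebraMap A P)) :=
    ⟨RingHom.Flat.comp FlatHom.flat FlatHom.flat⟩
  have hUBT : UB T b ((ε (algebraMap A T)).obj K) :=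
    h1.of_iso ((εCompObjIso (algebraMap A P) (algebraMap P T) K).symm ≪≫ εCongrObjIso hcompT K)
  -- the regular sequence
  have hI𝔫' : RingHom.ker f.toRingHom ≤ 𝔫' := by
    intro t ht
    change f.toRingHom t ∈ 𝔫
    rw [(RingHom.mem_ker).1 ht]
    exact Ideal.zero_mem _
  obtain ⟨a, haI, hreg, hmap⟩ := exists_regular_gens_atPrime _ hKR 𝔫' hI𝔫'
  -- the map of local rings
  let π : T →+* TB := Localization.localRingHom 𝔫' 𝔫 f.toRingHom rfl
  have hπ : Function.Surjective π :=
    RingHom.surjective_localRingHom_of_surjective f.toRingHom hf 𝔫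
  have hker : RingHom.ker π = Ideal.ofList (a.map (algebraMap P T)) := by
    rw [← hmap]
    have hT : Submonoid.map f.toRingHom 𝔫'.primeCompl = 𝔫.primeCompl :=
      Submonoid.map_comap_eq_of_surjective hf 𝔫.primeCompl
    exact IsLocalization.ker_map (M := 𝔫'.primeCompl) (S := T) (Localization.AtPrime 𝔫)
      f.toRingHom hT
  have hcomp : π.comp (algebraMap A T) = algebraMap A TB := by
    refine RingHom.ext fun r => ?_
    rw [RingHom.comp_apply, IsScalarTower.algebraMap_apply A P T,
      Localization.localRingHom_to_map, IsScalarTower.algebraMap_apply A B TB]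
    congr 1
    exact f.commutes r
  have hmem : ∀ x ∈ a.map (algebraMap P T), x ∈ IsLocalRing.maximalIdeal T := by
    intro x hx
    obtain ⟨y, hy, rfl⟩ := List.mem_map.1 hx
    rw [← Localization.AtPrime.map_eq_maximalIdeal]
    exact Ideal.mem_map_of_mem _ (hI𝔫' (haI y hy))
  exact UB_of_regular_aux K hK b TB (a.map (algebraMap P T)).length T (a.map (algebraMap P T)) rfl
    hmem hreg.toIsWeaklyRegular π hπ hker hcomp hUBT

/-- **Theorem**: the flat base change of a dualizing complex along a flat local complete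
intersection homomorphism of noetherian rings is dualizing. -/
theorem isDualizing_ε_of_flat_lci (hl : LCI.IsLCI A B) (K : Dual.D A)
    (hK : Dual.IsDualizing A K) : Dual.IsDualizing B ((ε (algebraMap A B)).obj K) := by
  obtain ⟨-, n, f, hf, hKR⟩ := hl
  have hP := isDualizing_ε_mvPolynomial K hK n
  obtain ⟨aP, bP, habP⟩ := hP.finite_injective_dimension
  have hbP : UB (MvPolynomial (Fin n) A) bP
      ((ε (algebraMap A (MvPolynomial (Fin n) A))).obj K) :=
    fun N _ _ i hi => habP N i (Or.inr hi)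
  refine isDualizing_of_UB K hK bP ?_
  obtain ⟨a₀, b₀, hab⟩ := hK.finite_injective_dimension
  have hbdd := EFB.hbdd_of_hinj K a₀ b₀ hab
  have hGE : ((ε (algebraMap A B)).obj K).IsGE a₀ :=
    EFB.isGE_ε K a₀ (fun i hi => hbdd i (Or.inl hi))
  have hfin : ∀ i : ℤ, Module.Finite B (Dual.HD B ((ε (algebraMap A B)).obj K) i) := fun i => by
    haveI := hK.finite_cohomology i
    exact EFB.finite_HD_ε K i
  have h2 := EFB.hinj_of_residue ((ε (algebraMap A B)).obj K) bP a₀ hGE hfin ?_
  · exact fun N _ _ i hi => h2 N i (Or.inr hi)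
  · intro 𝔫 _ i hi
    have hloc := UB_atPrime n f hf hKR K hK bP hbP 𝔫
    haveI : Module.Flat A (Localization.AtPrime 𝔫) :=
      Module.Flat.trans A B (Localization.AtPrime 𝔫)
    have hcomp : (algebraMap B (Localization.AtPrime 𝔫)).comp (algebraMap A B) =
        algebraMap A (Localization.AtPrime 𝔫) :=
      (IsScalarTower.algebraMap_eq A B (Localization.AtPrime 𝔫)).symm
    haveI : FlatHom ((algebraMap B (Localization.AtPrime 𝔫)).comp (algebraMap A B)) :=
      ⟨RingHom.Flat.comp FlatHom.flat FlatHom.flat⟩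
    have hloc' : UB (Localization.AtPrime 𝔫) bP
        ((ε (algebraMap B (Localization.AtPrime 𝔫))).obj ((ε (algebraMap A B)).obj K)) :=
      hloc.of_iso ((εCongrObjIso hcomp K).symm ≪≫
        εCompObjIso (algebraMap A B) (algebraMap B (Localization.AtPrime 𝔫)) K)
    obtain ⟨Θ⟩ := EFB.nonempty_bcEquiv_quot (B := Localization.AtPrime 𝔫) 𝔫
      ((ε (algebraMap A B)).obj K) ⟨a₀, hGE⟩ i
    haveI := hloc' (Localization.AtPrime 𝔫 ⧸ 𝔫.map (algebraMap B (Localization.AtPrime 𝔫))) i hi
    have hs : Subsingleton (Localization.AtPrime 𝔫 ⊗[B]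
        (Dual.inD B (B ⧸ 𝔫) ⟶ ((ε (algebraMap A B)).obj K)⟦i⟧)) := Θ.subsingleton
    refine subsingleton_of_killed 𝔫 _ (fun r hr h => EFB.smul_hom_eq_zero r (fun x => ?_) _ h) hs
    obtain ⟨y, rfl⟩ := Ideal.Quotient.mk_surjective x
    change Ideal.Quotient.mk 𝔫 (r * y) = 0
    exact Ideal.Quotient.eq_zero_iff_mem.2 (Ideal.mul_mem_right y 𝔫 hr)

end Main

end Groth.Agent.Lib.Helper16.FLJ
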