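import Mathlib
import Groth.Agent.Lib.Helper16.FLI1
import Groth.Agent.Lib.Helper8.RAdj3

/-!
# Helper16 — FLI2: `Hom_{D(T)}((T/J)[n], T)` for `J` generated by a regular sequence.
-/

set_option autoImplicit false
universe u

open CategoryTheory CategoryTheory.Limits DerivedCategory RingTheory.Sequence CategoryTheory.Abelian

attribute [local instance] HasDerivedCategory.standard

namespace Groth.Agent.Lib.Helper16.FLI

open Groth.Agent.Lib.Helper8.EFB Groth.Agent.Lib.Helper8.RAdj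

section General

variable {T : Type u} [CommRing T]

/-- `Hom(X⟦-i⟧, Y) ≃ Hom(X, Y⟦i⟧)`, linearly -/
noncomputable def shiftedHomEquiv (X Y : Dual.D T) (i : ℤ) :
    (X⟦-i⟧ ⟶ Y) ≃ₗ[T] (X ⟶ Y⟦i⟧) :=
  (shiftEquivLin i (X⟦-i⟧) Y).trans
    (precompEquivLin ((shiftFunctorCompIsoId (Dual.D T) (-i) i (neg_add_cancel i)).app X).symm
      (Y⟦i⟧))

/-- `Hom((M[0])⟦-i⟧, N[0]) ≃ Ext^i(M, N)`, linearly -/
noncomputable def homShiftExtEquiv (M N : ModuleCat.{u} T) (i : ℕ) :
    (((singleFunctor (ModuleCat.{u} T) 0).obj M)⟦-(i : ℤ)⟧ ⟶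
      (singleFunctor (ModuleCat.{u} T) 0).obj N) ≃ₗ[T] Ext M N i :=
  (shiftedHomEquiv _ _ (i : ℤ)).trans (Ext.homLinearEquiv (R := T) (X := M) (Y := N) (n := i)).symm

/-- no maps from a module placed in negative degree to a module in degree `0` -/
lemma subsingleton_hom_shift_pos (M N : ModuleCat.{u} T) (n : ℤ) (hn : 0 < n) :
    Subsingleton (((singleFunctor (ModuleCat.{u} T) 0).obj M)⟦n⟧ ⟶
      (singleFunctor (ModuleCat.{u} T) 0).obj N) := by
  have hLE : (((singleFunctor (ModuleCat.{u} T) 0).obj M)⟦n⟧).IsLE (-n) :=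
    (TStructure.t).isLE_shift _ 0 n (-n) (by omega)
  exact subsingleton_hom_of_isLE_of_isGE _ _ (-n) 0 (by omega) hLE inferInstance

/-- conjugation by isomorphisms as a linear equivalence on Hom modules -/
noncomputable def homCongrLin {X X' Y Y' : Dual.D T} (eX : X ≅ X') (eY : Y ≅ Y') :
    (X ⟶ Y) ≃ₗ[T] (X' ⟶ Y') where
  toFun f := eX.inv ≫ f ≫ eY.hom
  invFun g := eX.hom ≫ g ≫ eY.inv
  map_add' f f' := by simp
  map_smul' a f := by simp
  left_inv f := by simp
  right_inv g := by simp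

/-- the isomorphism `M[0] ≅ M'[0]` induced by a linear equivalence -/
noncomputable def inDIsoOfEquiv {M M' : Type u} [AddCommGroup M] [Module T M] [AddCommGroup M']
    [Module T M'] (e : M ≃ₗ[T] M') : Dual.inD T M ≅ Dual.inD T M' :=
  (singleFunctor (ModuleCat.{u} T) 0).mapIso e.toModuleIso

end General

section Regular

variable {T : Type u} [CommRing T] [IsNoetherianRing T]

/-- `Hom((T/J)[n], T) = 0` for `n ≠ -c`, `J` generated by a regular sequence of length `c` -/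
theorem subsingleton_hom_shift_quotient_regular (xs : List T) (h : IsRegular T xs)
    (M N : Type u) [AddCommGroup M] [Module T M] [AddCommGroup N] [Module T N]
    (eM : M ≃ₗ[T] T ⧸ Ideal.ofList xs) (eN : N ≃ₗ[T] T) (n : ℤ) (hn : n ≠ -(xs.length : ℤ)) :
    Subsingleton ((Dual.inD T M)⟦n⟧ ⟶ Dual.inD T N) := by
  rcases lt_or_ge 0 n with hpos | hle
  · exact subsingleton_hom_shift_pos (ModuleCat.of T M) (ModuleCat.of T N) n hpos
  · obtain ⟨i, rfl⟩ : ∃ i : ℕ, n = -(i : ℤ) := ⟨(-n).toNat, by omega⟩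
    have hi : i ≠ xs.length := fun h => hn (by rw [h])
    haveI := subsingleton_ext_quotient_regular xs h i hi
    let E : ((Dual.inD T M)⟦-(i : ℤ)⟧ ⟶ Dual.inD T N) ≃ₗ[T]
        Ext (ModuleCat.of T (T ⧸ Ideal.ofList xs)) (ModuleCat.of T T) i :=
      (homCongrLin ((shiftFunctor (Dual.D T) (-(i : ℤ))).mapIso (inDIsoOfEquiv eM))
        (inDIsoOfEquiv eN)).trans (homShiftExtEquiv _ _ i)
    exact E.toEquiv.subsingleton

omit [IsNoetherianRing T] in
/-- `Hom((T/J)[-c], T) ≃ T/J` for `J` generated by a weakly regular sequence of length `c` -/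
theorem nonempty_hom_shift_quotient_regular (xs : List T) (h : IsWeaklyRegular T xs)
    (M N : Type u) [AddCommGroup M] [Module T M] [AddCommGroup N] [Module T N]
    (eM : M ≃ₗ[T] T ⧸ Ideal.ofList xs) (eN : N ≃ₗ[T] T) :
    Nonempty (((Dual.inD T M)⟦-(xs.length : ℤ)⟧ ⟶ Dual.inD T N) ≃ₗ[T] M) := by
  obtain ⟨e⟩ := nonempty_ext_quotient_regular xs h
  exact ⟨(homCongrLin ((shiftFunctor (Dual.D T) (-(xs.length : ℤ))).mapIso (inDIsoOfEquiv eM))
    (inDIsoOfEquiv eN)).trans ((homShiftExtEquiv _ _ xs.length).trans (e.trans eM.symm))⟩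

end Regular

section RightAdjoint

variable {P A : Type u} [CommRing P] [CommRing A] [Algebra P A]
variable {R : Dual.D P ⥤ Dual.D A} (adj : DRing.restrictD (algebraMap P A) ⊣ R)

include adj in
/-- cohomology of a right adjoint of restriction of scalars: `H^{-n}(R L) ≃ Hom(A[n], L)`,
semilinearly -/
theorem exists_HD_rightAdjoint_equiv (L : Dual.D P) (n : ℤ) :
    ∃ θ : Dual.HD A (R.obj L) (-n) ≃+
      ((Dual.inD P ((ModuleCat.restrictScalars.{u} (algebraMap P A)).obj
        (ModuleCat.of A A)))⟦n⟧ ⟶ L),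
      ∀ (p : P) (h : Dual.HD A (R.obj L) (-n)), θ (algebraMap P A p • h) = p • θ h := by
  refine ⟨(sphereEquiv n (R.obj L)).symm.toAddEquiv.trans
    ((adj.homAddEquiv ((S₀ A)⟦n⟧) L).symm.trans
      (precompEquivLin (resSphereIso (A := P) (B := A) n).symm L).toAddEquiv), fun p h => ?_⟩
  change (precompEquivLin (resSphereIso (A := P) (B := A) n).symm L)
    ((adj.homEquiv ((S₀ A)⟦n⟧) L).symm ((sphereEquiv n (R.obj L)).symm (algebraMap P A p • h))) =
    p • (precompEquivLin (resSphereIso (A := P) (B := A) n).symm L)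
    ((adj.homEquiv ((S₀ A)⟦n⟧) L).symm ((sphereEquiv n (R.obj L)).symm h))
  rw [map_smul, homEquiv_symm_smul adj p _ L, map_smul]

end RightAdjoint

section FlatBC

open TensorProduct Groth.Agent.Lib.Helper16.FlatBC

variable {P T : Type u} [CommRing P] [CommRing T] [Algebra P T] [Module.Flat P T]
  [IsNoetherianRing P]

/-- flat base change for `Hom(M[n], L)`, `M` a finite module and `L ≅ N[0]`, as a linear
equivalence -/
theorem nonempty_bcLinearEquiv (M N : Type u) [AddCommGroup M] [Module P M] [Module.Finite P M]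
    [AddCommGroup N] [Module P N] (L : Dual.D P) (eL : L ≅ Dual.inD P N) (n : ℤ) :
    Nonempty (T ⊗[P] ((Dual.inD P M)⟦n⟧ ⟶ L) ≃ₗ[T]
      ((Dual.inD T (T ⊗[P] M))⟦n⟧ ⟶ Dual.inD T (T ⊗[P] N))) := by
  obtain ⟨hb, hfin⟩ := bdd_fin_of_iso_shift_inD ((Dual.inD P M)⟦n⟧) M n (Iso.refl _)
  have hK : DRing.IsPseudoCoherent P (0 - 1) ((Dual.inD P M)⟦n⟧) :=
    isPseudoCoherent_of_noeth _ hb hfin _
  have hL : L.IsGE 0 := (TStructure.t).isGE_of_iso eL.symm 0
  obtain ⟨Θ, hΘ⟩ := exists_bcEquiv (B := T) ((Dual.inD P M)⟦n⟧) L 0 hL hK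
  let ΘL : T ⊗[P] ((Dual.inD P M)⟦n⟧ ⟶ L) ≃ₗ[T]
      ((ε (algebraMap P T)).obj ((Dual.inD P M)⟦n⟧) ⟶ (ε (algebraMap P T)).obj L) :=
    { Θ with
      map_smul' := by
        intro t x
        change Θ (t • x) = t • Θ x
        induction x using TensorProduct.induction_on with
        | zero => simp
        | tmul b f =>
          rw [TensorProduct.smul_tmul', hΘ, hΘ, smul_eq_mul, mul_smul]
        | add x y hx hy => rw [smul_add, map_add, hx, hy, map_add, smul_add] }
  let jK : (ε (algebraMap P T)).obj ((Dual.inD P M)⟦n⟧) ≅ (Dual.inD T (T ⊗[P] M))⟦n⟧ :=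
    ((ε (algebraMap P T)).commShiftIso n).app (Dual.inD P M) ≪≫
      (shiftFunctor (Dual.D T) n).mapIso (inDExtIso (B := T) M).symm
  let jL : (ε (algebraMap P T)).obj L ≅ Dual.inD T (T ⊗[P] N) :=
    (ε (algebraMap P T)).mapIso eL ≪≫ (inDExtIso (B := T) N).symm
  exact ⟨ΘL.trans (homCongrLin jK jL)⟩

end FlatBC

end Groth.Agent.Lib.Helper16.FLI
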