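import Mathlib

/-!
# Helper16 — FLI3: localization bookkeeping for semilinear equivalences.
-/

set_option autoImplicit false
universe u v

open TensorProduct

namespace Groth.Agent.Lib.Helper16.FLI

section Semilinear

variable {P A : Type u} [CommRing P] [CommRing A] [Algebra P A]

theorem subsingleton_tensor_of_semilinear (g : P)
    (T : Type u) [CommRing T] [Algebra P T] [IsLocalization.Away g T]
    (B : Type u) [CommRing B] [Algebra A B] [IsLocalization.Away (algebraMap P A g) B]
    {H : Type u} [AddCommGroup H] [Module A H] {E : Type v} [AddCommGroup E] [Module P E]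
    (θ : H ≃+ E) (hθ : ∀ (p : P) (h : H), θ (algebraMap P A p • h) = p • θ h)
    (h : Subsingleton (T ⊗[P] E)) :
    Subsingleton (B ⊗[A] H) := by
  haveI : IsLocalizedModule (Submonoid.powers g) (TensorProduct.mk P T E 1) :=
    (isLocalizedModule_iff_isBaseChange (Submonoid.powers g) T _).2
      (TensorProduct.isBaseChange P E T)
  haveI : IsLocalizedModule (Submonoid.powers (algebraMap P A g)) (TensorProduct.mk A B H 1) :=
    (isLocalizedModule_iff_isBaseChange (Submonoid.powers (algebraMap P A g)) B _).2
      (TensorProduct.isBaseChange A H B)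
  rw [IsLocalizedModule.subsingleton_iff (Submonoid.powers g) (TensorProduct.mk P T E 1)] at h
  rw [IsLocalizedModule.subsingleton_iff (Submonoid.powers (algebraMap P A g))
    (TensorProduct.mk A B H 1)]
  intro x
  obtain ⟨r, ⟨k, rfl⟩, hr⟩ := h (θ x)
  refine ⟨(algebraMap P A g) ^ k, ⟨k, rfl⟩, θ.injective ?_⟩
  rw [← map_pow, hθ, hr, map_zero]

theorem nonempty_tensor_equiv_of_semilinear (hsurj : Function.Surjective (algebraMap P A)) (g : P)
    (T : Type u) [CommRing T] [Algebra P T] [IsLocalization.Away g T]
    (B : Type u) [CommRing B] [Algebra A B] [IsLocalization.Away (algebraMap P A g) B]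
    {H : Type u} [AddCommGroup H] [Module A H] {E : Type v} [AddCommGroup E] [Module P E]
    (θ : H ≃+ E) (hθ : ∀ (p : P) (h : H), θ (algebraMap P A p • h) = p • θ h)
    (e : T ⊗[P] E ≃ₗ[P] T ⊗[P] A) :
    Nonempty (B ⊗[A] H ≃ₗ[B] B) := by
  letI : Module P H := Module.compHom H (algebraMap P A)
  haveI : IsScalarTower P A H := ⟨fun p a h => by
    change (p • a) • h = algebraMap P A p • (a • h)
    rw [Algebra.smul_def, mul_smul]⟩
  letI : Algebra P B := ((algebraMap A B).comp (algebraMap P A)).toAlgebra
  haveI : IsScalarTower P A B := IsScalarTower.of_algebraMap_eq (fun _ => rfl)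
  let θ' : H ≃ₗ[P] E := { θ with map_smul' := fun p h => hθ p h }
  let φH : H →ₗ[A] B ⊗[A] H := TensorProduct.mk A B H 1
  haveI : IsLocalizedModule (Submonoid.powers (algebraMap P A g)) φH :=
    (isLocalizedModule_iff_isBaseChange (Submonoid.powers (algebraMap P A g)) B _).2
      (TensorProduct.isBaseChange A H B)
  haveI : IsLocalizedModule (Submonoid.powers g) (φH.restrictScalars P) :=
    IsLocalizedModule.restrictScalars_powers g φH
  let φE : E →ₗ[P] T ⊗[P] E := TensorProduct.mk P T E 1
  haveI : IsLocalizedModule (Submonoid.powers g) φE :=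
    (isLocalizedModule_iff_isBaseChange (Submonoid.powers g) T _).2
      (TensorProduct.isBaseChange P E T)
  haveI : IsLocalizedModule (Submonoid.powers g) (φE ∘ₗ θ'.toLinearMap) :=
    IsLocalizedModule.of_linearEquiv_right _ _ _
  let e1 : B ⊗[A] H ≃ₗ[P] T ⊗[P] E :=
    IsLocalizedModule.linearEquiv (Submonoid.powers g) (φH.restrictScalars P)
      (φE ∘ₗ θ'.toLinearMap)
  let φA : A →ₗ[P] T ⊗[P] A := TensorProduct.mk P T A 1
  haveI : IsLocalizedModule (Submonoid.powers g) φA :=
    (isLocalizedModule_iff_isBaseChange (Submonoid.powers g) T _).2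
      (TensorProduct.isBaseChange P A T)
  haveI : IsLocalizedModule (Submonoid.powers (algebraMap P A g)) (Algebra.linearMap A B) :=
    inferInstance
  haveI : IsLocalizedModule (Submonoid.powers g) ((Algebra.linearMap A B).restrictScalars P) :=
    IsLocalizedModule.restrictScalars_powers g (Algebra.linearMap A B)
  let e2 : T ⊗[P] A ≃ₗ[P] B :=
    IsLocalizedModule.linearEquiv (Submonoid.powers g) φA
      ((Algebra.linearMap A B).restrictScalars P)
  let e3 : B ⊗[A] H ≃ₗ[P] B := e1.trans (e.trans e2)
  let e4 : B ⊗[A] H ≃ₗ[A] B := e3.extendScalarsOfSurjective hsurj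
  exact ⟨LinearEquiv.ofBijective
    (e4.toLinearMap.extendScalarsOfIsLocalization (Submonoid.powers (algebraMap P A g)) B)
    e4.bijective⟩

end Semilinear

end Groth.Agent.Lib.Helper16.FLI
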