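import Mathlib
import Groth.Agent.Lib.Helper16.FLI2
import Groth.Agent.Lib.Helper16.FLI3

/-!
# Helper16 — FLI4: the fundamental local isomorphism, localized form.
`RHom_P(A, P) ⊗_A A_f ≅ A_f[-c]` near each prime, for `P → A` surjective with Koszul-regular
kernel, `P` Noetherian.
-/

set_option autoImplicit false
universe u

open CategoryTheory CategoryTheory.Limits DerivedCategory RingTheory.Sequence TensorProduct

attribute [local instance] HasDerivedCategory.standard

namespace Groth.Agent.Lib.Helper16.FLI

open Groth.Agent.Lib.Helper8.EFB Groth.Agent.Lib.Helper8.RAdj Groth.Agent.Lib.Helper16.FlatBC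

section Single

variable {B : Type u} [CommRing B]

/-- an object of `D(B)` whose only cohomology is `B` in degree `c` is `B[-c]` -/
theorem nonempty_iso_shift_of_HD (X : Dual.D B) (c : ℤ)
    (h0 : ∀ j : ℤ, j ≠ c → Subsingleton (Dual.HD B X j)) (e : Dual.HD B X c ≃ₗ[B] B) :
    Nonempty (X ≅ (Dual.inD B B)⟦-c⟧) := by
  haveI : X.IsGE c := isGE_of_subsingleton X c (fun i hi => h0 i (by omega))
  haveI : X.IsLE c := isLE_of_subsingleton X c (fun i hi => h0 i (by omega))
  obtain ⟨Y, ⟨e'⟩⟩ := exists_iso_singleFunctor_obj_of_isGE_of_isLE X c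
  have eY : Y ≅ ModuleCat.of B B :=
    ((singleFunctorCompHomologyFunctorIso (ModuleCat.{u} B) c).app Y).symm ≪≫
      (homologyFunctor (ModuleCat.{u} B) c).mapIso e'.symm ≪≫ e.toModuleIso
  exact ⟨e' ≪≫ (singleFunctor (ModuleCat.{u} B) c).mapIso eY ≪≫
    (((singleFunctors (ModuleCat.{u} B)).shiftIso (-c) c 0 (by omega)).app
      (ModuleCat.of B B)).symm⟩

end Single

section Main

variable {P A : Type u} [CommRing P] [CommRing A] [IsNoetherianRing P] [Algebra P A]

omit [IsNoetherianRing P] in
/-- `T ⊗_P A ≃ T / I T` for `P → A` surjective with kernel `I` -/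
theorem nonempty_tensor_equiv_quotient (hsurj : Function.Surjective (algebraMap P A))
    (T : Type u) [CommRing T] [Algebra P T] :
    Nonempty (T ⊗[P] A ≃ₗ[T] T ⧸ (RingHom.ker (algebraMap P A)).map (algebraMap P T)) := by
  let e0 : (P ⧸ RingHom.ker (algebraMap P A)) ≃ₗ[P] A :=
    { (RingHom.quotientKerEquivOfSurjective hsurj).toAddEquiv with
      map_smul' := by
        intro p x
        obtain ⟨y, rfl⟩ := Ideal.Quotient.mk_surjective x
        change (RingHom.quotientKerEquivOfSurjective hsurj) (p • Ideal.Quotient.mk _ y) =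
          p • (RingHom.quotientKerEquivOfSurjective hsurj) (Ideal.Quotient.mk _ y)
        rw [Algebra.smul_def, Algebra.smul_def, map_mul]
        rfl }
  exact ⟨(TensorProduct.AlgebraTensorModule.congr (LinearEquiv.refl T T) e0.symm).trans
    (Algebra.TensorProduct.quotIdealMapEquivTensorQuot T
      (RingHom.ker (algebraMap P A))).toLinearEquiv.symm⟩

/-- **Fundamental local isomorphism, localized form.** -/
theorem exists_away_iso_shift (hsurj : Function.Surjective (algebraMap P A))
    (hI : LCI.IsKoszulRegularIdeal (RingHom.ker (algebraMap P A)))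
    {Rψ : Dual.D P ⥤ Dual.D A} (adj : DRing.restrictD (algebraMap P A) ⊣ Rψ)
    (L : Dual.D P) (eL : L ≅ Dual.inD P P) (q : PrimeSpectrum A) :
    ∃ (g : P) (_ : algebraMap P A g ∉ q.asIdeal) (c : ℕ),
      Nonempty ((ε (algebraMap A (Localization.Away (algebraMap P A g)))).obj (Rψ.obj L) ≅
        (Dual.inD (Localization.Away (algebraMap P A g))
          (Localization.Away (algebraMap P A g)))⟦-(c : ℤ)⟧) := by
  classical
  let q' : Ideal P := q.asIdeal.comap (algebraMap P A)
  haveI : q'.IsPrime := Ideal.comap_isPrime _ _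
  have hIq' : RingHom.ker (algebraMap P A) ≤ q' := fun x hx => by
    change algebraMap P A x ∈ q.asIdeal
    rw [(RingHom.mem_ker).1 hx]
    exact zero_mem _
  obtain ⟨g, hg, a, hreg, hspan⟩ := exists_regular_gens _ hI q' hIq'
  refine ⟨g, hg, (a.map (algebraMap P (Localization.Away g))).length, ?_⟩
  let AP : ModuleCat.{u} P :=
    (ModuleCat.restrictScalars.{u} (algebraMap P A)).obj (ModuleCat.of A A)
  haveI : Module.Finite P A := Module.Finite.of_surjective (Algebra.linearMap P A) hsurj
  haveI : Module.Finite P AP := Module.Finite.equiv (bEquiv (A := P) (B := A))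
  obtain ⟨eQ⟩ := nonempty_tensor_equiv_quotient hsurj (Localization.Away g)
  let eM : Localization.Away g ⊗[P] AP ≃ₗ[Localization.Away g]
      Localization.Away g ⧸ Ideal.ofList (a.map (algebraMap P (Localization.Away g))) :=
    (TensorProduct.AlgebraTensorModule.congr (LinearEquiv.refl _ _)
      (bEquiv (A := P) (B := A)).symm).trans (eQ.trans (Submodule.quotEquivOfEq _ _ hspan))
  let eN : Localization.Away g ⊗[P] P ≃ₗ[Localization.Away g] Localization.Away g :=
    TensorProduct.AlgebraTensorModule.rid P (Localization.Away g) (Localization.Away g)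
  have key1 : ∀ n : ℤ, n ≠ -((a.map (algebraMap P (Localization.Away g))).length : ℤ) →
      Subsingleton (Dual.HD (Localization.Away (algebraMap P A g))
        ((ε (algebraMap A (Localization.Away (algebraMap P A g)))).obj (Rψ.obj L)) (-n)) := by
    intro n hn
    obtain ⟨θ, hθ⟩ := exists_HD_rightAdjoint_equiv adj L n
    obtain ⟨Θ⟩ := nonempty_bcLinearEquiv (T := Localization.Away g) AP P L eL n
    haveI := subsingleton_hom_shift_quotient_regular _ hreg (Localization.Away g ⊗[P] AP)
      (Localization.Away g ⊗[P] P) eM eN n hn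
    have h1 : Subsingleton (Localization.Away g ⊗[P] ((Dual.inD P AP)⟦n⟧ ⟶ L)) :=
      Θ.toEquiv.subsingleton
    haveI := subsingleton_tensor_of_semilinear g (Localization.Away g)
      (Localization.Away (algebraMap P A g)) θ hθ h1
    obtain ⟨e⟩ := nonempty_HD_ε_equiv (B := Localization.Away (algebraMap P A g)) (Rψ.obj L) (-n)
    exact e.toEquiv.subsingleton
  have key2 : Nonempty (Dual.HD (Localization.Away (algebraMap P A g))
      ((ε (algebraMap A (Localization.Away (algebraMap P A g)))).obj (Rψ.obj L))
      (-(-((a.map (algebraMap P (Localization.Away g))).length : ℤ))) ≃ₗ[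
        Localization.Away (algebraMap P A g)] Localization.Away (algebraMap P A g)) := by
    obtain ⟨θ, hθ⟩ := exists_HD_rightAdjoint_equiv adj L
      (-((a.map (algebraMap P (Localization.Away g))).length : ℤ))
    obtain ⟨Θ⟩ := nonempty_bcLinearEquiv (T := Localization.Away g) AP P L eL
      (-((a.map (algebraMap P (Localization.Away g))).length : ℤ))
    obtain ⟨Ξ⟩ := nonempty_hom_shift_quotient_regular _ hreg.toIsWeaklyRegular
      (Localization.Away g ⊗[P] AP) (Localization.Away g ⊗[P] P) eM eN
    let e0 := (Θ.trans (Ξ.trans (TensorProduct.AlgebraTensorModule.congr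
      (LinearEquiv.refl (Localization.Away g) (Localization.Away g))
      (bEquiv (A := P) (B := A)).symm))).restrictScalars P
    obtain ⟨e1⟩ := nonempty_tensor_equiv_of_semilinear hsurj g (Localization.Away g)
      (Localization.Away (algebraMap P A g)) θ hθ e0
    obtain ⟨e⟩ := nonempty_HD_ε_equiv (B := Localization.Away (algebraMap P A g)) (Rψ.obj L)
      (-(-((a.map (algebraMap P (Localization.Away g))).length : ℤ)))
    exact ⟨e.trans e1⟩
  rw [neg_neg] at key2
  obtain ⟨e2⟩ := key2
  refine nonempty_iso_shift_of_HD _ _ (fun j hj => ?_) e2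
  have := key1 (-j) (by omega)
  rwa [neg_neg] at this

end Main

end Groth.Agent.Lib.Helper16.FLI
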