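import Mathlib
import Groth.Agent.Lib.Helper8.Res4
import Groth.Agent.Lib.Helper8.RGam4
import Groth.Agent.Lib.Helper16.FLI4

/-!
# Helper16 — GF1: object-level right adjoint of restriction of scalars

For a ring map `φ : R → S` and a bounded below object `L` of `D(R)`, represented by a bounded
below complex of injectives `I`, the object `RL = Q(Hom_R(S, I))` of `D(S)` satisfies
`Hom_{D(S)}(X, RL) ≃ Hom_{D(R)}(res X, L)`.  If `φ` is surjective and `Ext^j_R(S, L)` is `S` for
`j = d` and zero otherwise, then `RL ≅ S[-d]`.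
-/

set_option autoImplicit false

universe u

open CategoryTheory CategoryTheory.Limits CategoryTheory.Pretriangulated DerivedCategory

attribute [local instance] HasDerivedCategory.standard

namespace Groth.Agent.Lib.Helper16.GF

open Groth.Agent.Lib.Helper8 Groth.Agent.Lib.Helper8.Bidual Groth.Agent.Lib.Helper8.EFB
  Groth.Agent.Lib.Helper8.RAdj Groth.Agent.Lib.Helper16.FLI

section Rep

variable {R : Type u} [CommRing R]

/-- bounded below objects are represented by bounded below complexes of injectives -/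
lemma exists_bddBelow_injective_rep (X : Dual.D R) (a : ℤ) [X.IsGE a] :
    ∃ I : DRing.Cx R, (∀ n : ℤ, n < a → IsZero (I.X n)) ∧ (∀ n : ℤ, Injective (I.X n)) ∧
      Nonempty (Q.obj I ≅ X) := by
  obtain ⟨X', hX', ⟨e⟩⟩ := X.exists_iso_Q_obj_of_isGE a
  obtain ⟨L, i, hi, hL, hLs⟩ :=
    CochainComplex.Plus.modelCategoryQuillen.exists_quasiIso_injective X' a
  haveI := hi
  haveI : IsIso (Q.map i) := by rw [isIso_Q_map_iff_quasiIso]; infer_instance
  exact ⟨L, fun n hn => CochainComplex.isZero_of_isStrictlyGE L a n hn, hL,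
    ⟨(asIso (Q.map i)).symm ≪≫ e.symm⟩⟩

end Rep

section Model

variable {R S : Type u} [CommRing R] [CommRing S] (φ : R →+* S)

/-- **the object-level right adjoint**. -/
theorem exists_coext_model (L : Dual.D R) (a : ℤ) [L.IsGE a] :
    ∃ (RL : Dual.D S) (Ψ : ∀ X : Dual.D S, (X ⟶ RL) ≃+ ((DRing.restrictD φ).obj X ⟶ L)),
      ∀ (X : Dual.D S) (r : R) (f : X ⟶ RL), Ψ X (φ r • f) = r • Ψ X f := by
  obtain ⟨I, hI0, hIinj, ⟨e⟩⟩ := exists_bddBelow_injective_rep L a
  haveI : I.IsKInjective := IAmp.isKInjective_of_data I a hI0 hIinj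
  haveI : CochainComplex.IsKInjective ((coextCx φ).obj I) := isKInjective_coextCx φ I a hI0 hIinj
  refine ⟨Q.obj ((coextCx φ).obj I), fun X =>
    (AddEquiv.ofBijective (AddMonoidHom.mk' (G0 φ I X) (G0_add φ I X))
      (G0_bijective φ I X)).trans
      { toFun := fun g => g ≫ e.hom
        invFun := fun g => g ≫ e.inv
        left_inv := fun g => by simp
        right_inv := fun g => by simp
        map_add' := fun g g' => Preadditive.add_comp _ _ _ _ _ _ }, fun X r f => ?_⟩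
  change G0 φ I X (φ r • f) ≫ e.hom = r • (G0 φ I X f ≫ e.hom)
  rw [G0_smul, Linear.smul_comp]

end Model

section HD

variable {R S : Type u} [CommRing R] [CommRing S] [Algebra R S] {L : Dual.D R} {RL : Dual.D S}
  (Ψ : ∀ X : Dual.D S, (X ⟶ RL) ≃+ ((DRing.restrictD (algebraMap R S)).obj X ⟶ L))
  (hΨ : ∀ (X : Dual.D S) (r : R) (f : X ⟶ RL), Ψ X (algebraMap R S r • f) = r • Ψ X f)

include hΨ in
/-- cohomology of the object-level right adjoint: `H^{-n}(RL) ≃ Hom(S[n], L)`, semilinearly -/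
theorem exists_HD_equiv (n : ℤ) :
    ∃ θ : Dual.HD S RL (-n) ≃+
      ((Dual.inD R ((ModuleCat.restrictScalars.{u} (algebraMap R S)).obj
        (ModuleCat.of S S)))⟦n⟧ ⟶ L),
      ∀ (r : R) (h : Dual.HD S RL (-n)), θ (algebraMap R S r • h) = r • θ h := by
  refine ⟨(sphereEquiv n RL).symm.toAddEquiv.trans
    ((Ψ ((S₀ S)⟦n⟧)).trans
      (precompEquivLin (resSphereIso (A := R) (B := S) n).symm L).toAddEquiv), fun r h => ?_⟩
  change (precompEquivLin (resSphereIso (A := R) (B := S) n).symm L)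
    (Ψ ((S₀ S)⟦n⟧) ((sphereEquiv n RL).symm (algebraMap R S r • h))) =
    r • (precompEquivLin (resSphereIso (A := R) (B := S) n).symm L)
    (Ψ ((S₀ S)⟦n⟧) ((sphereEquiv n RL).symm h))
  rw [map_smul, hΨ, map_smul]

/-- `(X⟦n⟧ ⟶ Y) ≃ (X ⟶ Y⟦-n⟧)`, linearly -/
noncomputable def shiftedHomEquiv' {T : Type u} [CommRing T] (X Y : Dual.D T) (n : ℤ) :
    (X⟦n⟧ ⟶ Y) ≃ₗ[T] (X ⟶ Y⟦-n⟧) :=
  (shiftEquivLin (-n) (X⟦n⟧) Y).trans
    (precompEquivLin ((shiftFunctorCompIsoId (Dual.D T) n (-n) (add_neg_cancel n)).app X).symm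
      (Y⟦-n⟧))

include hΨ in
/-- **identification of the object-level right adjoint** when `Ext^j_R(S, L)` is concentrated in
one degree `d`, where it is `S`. -/
theorem nonempty_iso_shift (hsurj : Function.Surjective (algebraMap R S))
    (M : Type u) [AddCommGroup M] [Module R M]
    (eM : M ≃ₗ[R] (ModuleCat.restrictScalars.{u} (algebraMap R S)).obj (ModuleCat.of S S))
    (d : ℤ) (h0 : ∀ j : ℤ, j ≠ d → Subsingleton (Dual.inD R M ⟶ L⟦j⟧))
    (e : (Dual.inD R M ⟶ L⟦d⟧) ≃ₗ[R] M) :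
    Nonempty (RL ≅ (Dual.inD S S)⟦-d⟧) := by
  -- the comparison for every degree
  have key : ∀ n : ℤ, ∃ θ : Dual.HD S RL (-n) ≃+ (Dual.inD R M ⟶ L⟦-n⟧),
      ∀ (r : R) (h : Dual.HD S RL (-n)), θ (algebraMap R S r • h) = r • θ h := by
    intro n
    obtain ⟨θ, hθ⟩ := exists_HD_equiv Ψ hΨ n
    let E : ((Dual.inD R ((ModuleCat.restrictScalars.{u} (algebraMap R S)).obj
        (ModuleCat.of S S)))⟦n⟧ ⟶ L) ≃ₗ[R] (Dual.inD R M ⟶ L⟦-n⟧) :=
      (shiftedHomEquiv' _ L n).trans (homCongrLin (inDIsoOfEquiv eM).symm (Iso.refl _))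
    exact ⟨θ.trans E.toAddEquiv, fun r h => by
      change E (θ (algebraMap R S r • h)) = r • E (θ h)
      rw [hθ, map_smul]⟩
  have hd : Nonempty (Dual.HD S RL d ≃ₗ[S] S) := by
    obtain ⟨n, rfl⟩ : ∃ n : ℤ, d = -n := ⟨-d, (neg_neg d).symm⟩
    obtain ⟨θ, hθ⟩ := key n
    let τ : Dual.HD S RL (-n) ≃+ S := (θ.trans e.toAddEquiv).trans eM.toAddEquiv
    have hτ : ∀ (r : R) (h : Dual.HD S RL (-n)),
        τ (algebraMap R S r • h) = algebraMap R S r * τ h := by
      intro r h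
      change (eM (e (θ (algebraMap R S r • h))) : S) = algebraMap R S r * (show S from eM (e (θ h)))
      rw [hθ, map_smul, map_smul]
      rfl
    exact ⟨{ τ with
        map_smul' := fun s h => by
          obtain ⟨r, rfl⟩ := hsurj s
          exact hτ r h }⟩
  obtain ⟨e'⟩ := hd
  refine nonempty_iso_shift_of_HD RL d (fun j hj => ?_) e'
  obtain ⟨n, rfl⟩ : ∃ n : ℤ, j = -n := ⟨-j, (neg_neg j).symm⟩
  obtain ⟨θ, -⟩ := key n
  haveI := h0 (-n) hj
  exact θ.toEquiv.subsingleton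

/-- restriction of scalars of a shifted module -/
noncomputable def resInDIso (N : Type u) [AddCommGroup N] [Module S N] (n : ℤ) :
    (DRing.restrictD (algebraMap R S)).obj ((Dual.inD S N)⟦n⟧) ≅
      (Dual.inD R ((ModuleCat.restrictScalars.{u} (algebraMap R S)).obj (ModuleCat.of S N)))⟦n⟧ :=
  ((DRing.restrictD (algebraMap R S)).commShiftIso n).app _ ≪≫
    (shiftFunctor (Dual.D R) n).mapIso
      (((ModuleCat.restrictScalars.{u} (algebraMap R S)).mapDerivedCategorySingleFunctor 0).app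
        (ModuleCat.of S N))

include Ψ in
/-- vanishing of `Hom` into the object-level right adjoint gives vanishing over `R` -/
theorem subsingleton_hom_res (N : Type u) [AddCommGroup N] [Module S N] (i : ℤ)
    (h : Subsingleton (Dual.inD S N ⟶ RL⟦i⟧)) :
    Subsingleton (Dual.inD R ((ModuleCat.restrictScalars.{u} (algebraMap R S)).obj
      (ModuleCat.of S N)) ⟶ L⟦i⟧) := by
  have h1 : Subsingleton (((Dual.inD S N)⟦-i⟧ : Dual.D S) ⟶ RL) :=
    (shiftedHomEquiv (Dual.inD S N) RL i).toEquiv.subsingleton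
  have h2 : Subsingleton ((DRing.restrictD (algebraMap R S)).obj ((Dual.inD S N)⟦-i⟧) ⟶ L) :=
    (Ψ ((Dual.inD S N)⟦-i⟧)).symm.toEquiv.subsingleton
  have h3 : Subsingleton (((Dual.inD R ((ModuleCat.restrictScalars.{u} (algebraMap R S)).obj
      (ModuleCat.of S N)) : Dual.D R)⟦-i⟧ : Dual.D R) ⟶ L) :=
    (precompEquivLin (resInDIso (R := R) N (-i)) L).toEquiv.subsingleton
  exact (shiftedHomEquiv _ L i).symm.toEquiv.subsingleton

end HD

end Groth.Agent.Lib.Helper16.GF
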