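import Mathlib
import Groth.Agent.Lib.Helper16.GF1
import Groth.Agent.Lib.Helper16.FLJ4
import Groth.Agent.Lib.Helper8.Dim1
import Groth.Agent.S0364
import Groth.Agent.Lib.Helper16.FLJ5

/-!
# Helper16 — GF3: the Ext of the fibre into the base change of a dualizing complex

Linear flat base change for `Hom(M[n], L)`, and: for a dualizing complex `K` over `A`, a prime
`𝔭` of `A` and a flat `A_𝔭`-algebra `T`, the `T`-modules `Ext^j_T(T/𝔭T, K ⊗_A T)` vanish except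
for one `j = d`, where it is `T/𝔭T`.
-/

set_option autoImplicit false

universe u

open CategoryTheory CategoryTheory.Limits CategoryTheory.Pretriangulated DerivedCategory
  TensorProduct

attribute [local instance] HasDerivedCategory.standard

namespace Groth.Agent.Lib.Helper16.GF

open Groth.Agent.Lib.Helper8 Groth.Agent.Lib.Helper8.Bidual Groth.Agent.Lib.Helper8.EFB
  Groth.Agent.Lib.Helper8.RAdj Groth.Agent.Lib.Helper16.FLI Groth.Agent.Lib.Helper16.FlatBC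
  Groth.Agent.Lib.Helper16.FLJ

section LinBC

variable {P T : Type u} [CommRing P] [CommRing T] [Algebra P T] [Module.Flat P T]
  [IsNoetherianRing P]

/-- flat base change for `Hom(M[n], L)`, `M` a finite module and `L` bounded below, as a linear
equivalence -/
theorem nonempty_bcLinearEquiv' (M : Type u) [AddCommGroup M] [Module P M] [Module.Finite P M]
    (L : Dual.D P) (c : ℤ) (hL : L.IsGE c) (n : ℤ) :
    Nonempty (T ⊗[P] ((Dual.inD P M)⟦n⟧ ⟶ L) ≃ₗ[T]
      ((Dual.inD T (T ⊗[P] M))⟦n⟧ ⟶ (ε (algebraMap P T)).obj L)) := by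
  obtain ⟨hb, hfin⟩ := bdd_fin_of_iso_shift_inD ((Dual.inD P M)⟦n⟧) M n (Iso.refl _)
  have hK : DRing.IsPseudoCoherent P (c - 1) ((Dual.inD P M)⟦n⟧) :=
    isPseudoCoherent_of_noeth _ hb hfin _
  obtain ⟨Θ, hΘ⟩ := exists_bcEquiv (B := T) ((Dual.inD P M)⟦n⟧) L c hL hK
  let ΘL : T ⊗[P] ((Dual.inD P M)⟦n⟧ ⟶ L) ≃ₗ[T]
      ((ε (algebraMap P T)).obj ((Dual.inD P M)⟦n⟧) ⟶ (ε (algebraMap P T)).obj L) :=
    { Θ with
      map_smul' := by
        intro t x
        change Θ (t • x) = t • Θ x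
        induction x using TensorProduct.induction_on with
        | zero => simp
        | tmul b f =>
          rw [TensorProduct.smul_tmul', hΘ, hΘ, smul_eq_mul, mul_smul]
        | add x y hx hy => rw [smul_add, map_add, hx, hy, map_add, smul_add] }
  let jK : (ε (algebraMap P T)).obj ((Dual.inD P M)⟦n⟧) ≅ (Dual.inD T (T ⊗[P] M))⟦n⟧ :=
    ((ε (algebraMap P T)).commShiftIso n).app (Dual.inD P M) ≪≫
      (shiftFunctor (Dual.D T) n).mapIso (inDExtIso (B := T) M).symm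
  exact ⟨ΘL.trans (homCongrLin jK (Iso.refl _))⟩

/-- the same with the shift on the target and `T ⊗ (P/I)` replaced by `T/IT` -/
theorem nonempty_bcLinearEquiv_quot (I : Ideal P) (L : Dual.D P) (c : ℤ) (hL : L.IsGE c) (j : ℤ) :
    Nonempty (T ⊗[P] (Dual.inD P (P ⧸ I) ⟶ L⟦j⟧) ≃ₗ[T]
      (Dual.inD T (T ⧸ I.map (algebraMap P T)) ⟶ ((ε (algebraMap P T)).obj L)⟦j⟧)) := by
  obtain ⟨n, rfl⟩ : ∃ n : ℤ, j = -n := ⟨-j, (neg_neg j).symm⟩
  obtain ⟨Θ⟩ := nonempty_bcLinearEquiv' (T := T) (P ⧸ I) L c hL n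
  let e1 : (T ⧸ I.map (algebraMap P T)) ≃ₗ[T] T ⊗[P] (P ⧸ I) :=
    Algebra.TensorProduct.quotIdealMapEquivTensorQuotAux T I
  let E1 : T ⊗[P] (Dual.inD P (P ⧸ I) ⟶ L⟦-n⟧) ≃ₗ[T] T ⊗[P] ((Dual.inD P (P ⧸ I))⟦n⟧ ⟶ L) :=
    TensorProduct.AlgebraTensorModule.congr (LinearEquiv.refl T T)
      (shiftedHomEquiv' (Dual.inD P (P ⧸ I)) L n).symm
  let E2 : ((Dual.inD T (T ⊗[P] (P ⧸ I)))⟦n⟧ ⟶ (ε (algebraMap P T)).obj L) ≃ₗ[T]
      (Dual.inD T (T ⧸ I.map (algebraMap P T)) ⟶ ((ε (algebraMap P T)).obj L)⟦-n⟧) :=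
    (shiftedHomEquiv' _ _ n).trans (homCongrLin (inDIsoOfEquiv e1).symm (Iso.refl _))
  exact ⟨E1.trans (Θ.trans E2)⟩

end LinBC

section Fibre

variable {A : Type u} [CommRing A] [IsNoetherianRing A] (𝔭 : Ideal A) [𝔭.IsPrime]
  {T : Type u} [CommRing T] [Algebra A T] [Algebra (Localization.AtPrime 𝔭) T]
  [IsScalarTower A (Localization.AtPrime 𝔭) T] [Module.Flat (Localization.AtPrime 𝔭) T]
  [Module.Flat A T]

/-- **Ext of the fibre ring into the base change of a dualizing complex**: it is concentrated in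
a single degree `d`, bounded by any upper Ext bound of `K`, where it is the fibre ring itself. -/
theorem ext_fibre (K : Dual.D A) (hK : Dual.IsDualizing A K) (b : ℤ) (hb : UB A b K) :
    ∃ d : ℤ, d ≤ b ∧
      (∀ j : ℤ, j ≠ d → Subsingleton
        (Dual.inD T (T ⧸ (IsLocalRing.maximalIdeal (Localization.AtPrime 𝔭)).map
          (algebraMap (Localization.AtPrime 𝔭) T)) ⟶ ((ε (algebraMap A T)).obj K)⟦j⟧)) ∧
      Nonempty ((Dual.inD T (T ⧸ (IsLocalRing.maximalIdeal (Localization.AtPrime 𝔭)).map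
          (algebraMap (Localization.AtPrime 𝔭) T)) ⟶ ((ε (algebraMap A T)).obj K)⟦d⟧) ≃ₗ[T]
        (T ⧸ (IsLocalRing.maximalIdeal (Localization.AtPrime 𝔭)).map
          (algebraMap (Localization.AtPrime 𝔭) T))) := by
  set A' := Localization.AtPrime 𝔭
  set m := IsLocalRing.maximalIdeal A'
  set K' := (ε (algebraMap A A')).obj K
  have hK' : Dual.IsDualizing A' K' := isDualizing_ε_atPrime 𝔭 K hK
  obtain ⟨a, b₀, hab⟩ := hK.finite_injective_dimension
  have hbdd := hbdd_of_hinj K a b₀ hab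
  have hGE : K.IsGE a := isGE_of_subsingleton K a (fun i hi => hbdd i (Or.inl hi))
  have hGE' : K'.IsGE a := isGE_ε K a (fun i hi => hbdd i (Or.inl hi))
  obtain ⟨d, h1, ⟨h2⟩⟩ := Groth.Agent.S0364.result A' K' hK' m
  have hcomp : (algebraMap A' T).comp (algebraMap A A') = algebraMap A T :=
    (IsScalarTower.algebraMap_eq A A' T).symm
  haveI : FlatHom ((algebraMap A' T).comp (algebraMap A A')) :=
    ⟨RingHom.Flat.comp FlatHom.flat FlatHom.flat⟩
  let ι : (ε (algebraMap A' T)).obj K' ≅ (ε (algebraMap A T)).obj K :=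
    (εCompObjIso (algebraMap A A') (algebraMap A' T) K).symm ≪≫ εCongrObjIso hcomp K
  have key : ∀ j : ℤ, Nonempty (T ⊗[A'] (Dual.inD A' (A' ⧸ m) ⟶ K'⟦j⟧) ≃ₗ[T]
      (Dual.inD T (T ⧸ m.map (algebraMap A' T)) ⟶ ((ε (algebraMap A T)).obj K)⟦j⟧)) := by
    intro j
    obtain ⟨Θ⟩ := nonempty_bcLinearEquiv_quot (T := T) m K' a hGE' j
    exact ⟨Θ.trans (homCongrLin (Iso.refl _) ((shiftFunctor (Dual.D T) j).mapIso ι))⟩
  refine ⟨d, ?_, fun j hj => ?_, ?_⟩
  · by_contra hlt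
    have hlt := not_le.1 hlt
    have hUB' : UB A' b K' := UB_ε_of_ideals_extended (P := A) (T := A')
      (fun J => ⟨J.comap (algebraMap A A'), IsLocalization.map_under 𝔭.primeCompl A' J⟩)
      K a b hGE hb
    haveI := hUB' (A' ⧸ m) d hlt
    haveI : Subsingleton (A' ⧸ m) := h2.symm.toEquiv.subsingleton
    exact not_subsingleton (A' ⧸ m) inferInstance
  · obtain ⟨Θ⟩ := key j
    haveI := h1 j hj
    haveI : Subsingleton (T ⊗[A'] (Dual.inD A' (A' ⧸ m) ⟶ K'⟦j⟧)) :=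
      subsingleton_tensor_of_right _ _
    exact Θ.symm.toEquiv.subsingleton
  · obtain ⟨Θ⟩ := key d
    let e1 : (T ⧸ m.map (algebraMap A' T)) ≃ₗ[T] T ⊗[A'] (A' ⧸ m) :=
      Algebra.TensorProduct.quotIdealMapEquivTensorQuotAux T m
    exact ⟨Θ.symm.trans ((TensorProduct.AlgebraTensorModule.congr (LinearEquiv.refl T T) h2).trans
      e1.symm)⟩

end Fibre

end Groth.Agent.Lib.Helper16.GF
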