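import Mathlib
import Groth.Agent.Lib.Helper8.Dep1
import Groth.Agent.Lib.Helper8.Gor1
import Groth.Agent.Lib.Helper8.Bid8

/-!
# Helper16 — GF2: the injective dimension of a Gorenstein local ring is at most its dimension

For a Gorenstein local ring `G` with `dim G ≤ D` and a finite module `N`, `Ext^j_G(N, G) = 0`
for `j > D`.
-/

set_option autoImplicit false

universe u

open CategoryTheory CategoryTheory.Limits CategoryTheory.Pretriangulated DerivedCategory

attribute [local instance] HasDerivedCategory.standard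

namespace Groth.Agent.Lib.Helper16.GF

open Groth.Agent.Lib.Helper8 Groth.Agent.Lib.Helper8.Bidual

variable (G : Type u) [CommRing G] [IsLocalRing G] [IsNoetherianRing G]

omit [IsNoetherianRing G] in
lemma nontrivial_end_inD_self : Nontrivial (Dual.inD G G ⟶ Dual.inD G G) := by
  refine ⟨𝟙 _, 0, fun h => ?_⟩
  have h1 : (singleFunctor (ModuleCat.{u} G) 0).map (𝟙 (ModuleCat.of G G)) =
      (singleFunctor (ModuleCat.{u} G) 0).map 0 := by
    rw [CategoryTheory.Functor.map_id, Functor.map_zero]
    exact h
  have h2 := (singleFunctor (ModuleCat.{u} G) 0).map_injective h1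
  have h3 : (1 : G) = 0 := by
    have := congrArg (fun f => f.hom (1 : G)) h2
    simp at this
  exact one_ne_zero h3

/-- **Gorenstein local rings have injective dimension at most their dimension.** -/
theorem subsingleton_hom_of_gorenstein (hG : LocCoh.IsGorensteinLocalRing G) (D : ℕ)
    (hD : ringKrullDim G ≤ D) (N : Type u) [AddCommGroup N] [Module G N] [Module.Finite G N]
    (j : ℤ) (hj : (D : ℤ) < j) : Subsingleton (Dual.inD G N ⟶ (Dual.inD G G)⟦j⟧) := by
  have hω : Dual.IsDualizing G (Dual.inD G G) := (isGorensteinLocalRing_iff_isDualizing_self).1 hG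
  obtain ⟨n, hn⟩ := exists_isNormalized_shift _ hω
  have hω' := isDualizing_shift _ hω n
  have hnD : n ≤ D := by
    have hnt : Nontrivial (Dual.inD G G ⟶ ((Dual.inD G G)⟦n⟧)⟦-n⟧) := by
      haveI := nontrivial_end_inD_self G
      have e1 : (Dual.inD G G ⟶ ((Dual.inD G G)⟦n⟧)⟦-n⟧) ≃ (Dual.inD G G ⟶ Dual.inD G G) :=
        Iso.homCongr (Iso.refl (Dual.inD G G))
          ((shiftFunctorCompIsoId (Dual.D G) n (-n) (add_neg_cancel n)).app (Dual.inD G G))
      exact e1.nontrivial
    have hd : Module.supportDim G G ≤ D := by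
      rw [Module.supportDim_self_eq_ringKrullDim]
      exact hD
    have := ext_range _ hω' hn G D hd (-n) hnt
    omega
  haveI := subsingleton_ext_pos _ hω' hn N (j - n) (by omega)
  have e2 : (Dual.inD G N ⟶ (Dual.inD G G)⟦j⟧) ≃
      (Dual.inD G N ⟶ ((Dual.inD G G)⟦n⟧)⟦j - n⟧) :=
    Iso.homCongr (Iso.refl (Dual.inD G N))
      ((shiftFunctorAdd' (Dual.D G) n (j - n) j (by omega)).app (Dual.inD G G))
  exact e2.subsingleton

end Groth.Agent.Lib.Helper16.GF
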