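import Mathlib
import Groth.Agent.Lib.Helper16.GF1
import Groth.Agent.Lib.Helper16.GF2
import Groth.Agent.Lib.Helper16.RestrictD3

/-!
# Helper16 — GF4: Ext of the residue field through a Gorenstein quotient

`B'` a local ring, `ψ : B' → G` a surjection onto a Gorenstein local ring of dimension `≤ D`,
`L` a bounded below object of `D(B')` with `Ext^j_{B'}(G, L)` equal to `G` for `j = d` and zero
otherwise.  Then `Ext^i_{B'}(κ, L) = 0` for `i > d + D`.
-/

set_option autoImplicit false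

universe u

open CategoryTheory CategoryTheory.Limits CategoryTheory.Pretriangulated DerivedCategory

attribute [local instance] HasDerivedCategory.standard

namespace Groth.Agent.Lib.Helper16.GF

open Groth.Agent.Lib.Helper8 Groth.Agent.Lib.Helper8.EFB Groth.Agent.Lib.Helper16.FLI

variable {B' G : Type u} [CommRing B'] [CommRing G] [IsLocalRing B'] [IsLocalRing G]
  [IsNoetherianRing G]

theorem subsingleton_hom_residue_of_gorenstein_quotient (ψ : B' →+* G)
    (hψ : Function.Surjective ψ) (hG : LocCoh.IsGorensteinLocalRing G) (D : ℕ)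
    (hD : ringKrullDim G ≤ D) (L : Dual.D B') (a : ℤ) (hL : L.IsGE a)
    (J : Ideal B') (hker : RingHom.ker ψ = J) (d : ℤ)
    (h0 : ∀ j : ℤ, j ≠ d → Subsingleton (Dual.inD B' (B' ⧸ J) ⟶ L⟦j⟧))
    (e : Nonempty ((Dual.inD B' (B' ⧸ J) ⟶ L⟦d⟧) ≃ₗ[B'] (B' ⧸ J)))
    (i : ℤ) (hi : d + D < i) :
    Subsingleton (Dual.inD B' (B' ⧸ IsLocalRing.maximalIdeal B') ⟶ L⟦i⟧) := by
  letI : Algebra B' G := ψ.toAlgebra
  have hsurj : Function.Surjective (algebraMap B' G) := hψ
  obtain ⟨e⟩ := e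
  obtain ⟨RL, Ψ, hΨ⟩ := exists_coext_model (algebraMap B' G) L a
  -- `B'/J ≃ G` as `B'`-modules
  have hkerL : LinearMap.ker (Algebra.linearMap B' G) = J := by
    ext x
    rw [← hker]
    rfl
  let eM : (B' ⧸ J) ≃ₗ[B'] (ModuleCat.restrictScalars.{u} (algebraMap B' G)).obj
      (ModuleCat.of G G) :=
    ((Submodule.quotEquivOfEq J (LinearMap.ker (Algebra.linearMap B' G)) hkerL.symm).trans
      ((Algebra.linearMap B' G).quotKerEquivOfSurjective hsurj)).trans
      Groth.Agent.Lib.Helper16.RestrictD.restrictLinearEquiv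
  obtain ⟨ι⟩ := nonempty_iso_shift Ψ hΨ hsurj (B' ⧸ J) eM d h0 e
  -- vanishing over `G`
  let N := G ⧸ IsLocalRing.maximalIdeal G
  haveI : Subsingleton (Dual.inD G N ⟶ (Dual.inD G G)⟦i - d⟧) :=
    subsingleton_hom_of_gorenstein G hG D hD N (i - d) (by omega)
  have e2 : (Dual.inD G N ⟶ RL⟦i⟧) ≃ (Dual.inD G N ⟶ (Dual.inD G G)⟦i - d⟧) :=
    Iso.homCongr (Iso.refl (Dual.inD G N)) ((shiftFunctor (Dual.D G) i).mapIso ι ≪≫
      ((shiftFunctorAdd' (Dual.D G) (-d) i (i - d) (by omega)).app (Dual.inD G G)).symm)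
  have h1 : Subsingleton (Dual.inD G N ⟶ RL⟦i⟧) := e2.subsingleton
  have h2 := subsingleton_hom_res Ψ N i h1
  -- `B'/m ≃ res (G/m_G)` as `B'`-modules
  let Nr := (ModuleCat.restrictScalars.{u} (algebraMap B' G)).obj (ModuleCat.of G N)
  let f : B' →ₗ[B'] Nr :=
    { toFun := fun b => (Ideal.Quotient.mk (IsLocalRing.maximalIdeal G) (algebraMap B' G b) : N)
      map_add' := fun b b' => by rw [map_add, map_add]; rfl
      map_smul' := fun c b => by
        rw [smul_eq_mul, map_mul, map_mul]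
        rfl }
  have hf : Function.Surjective f := by
    intro x
    obtain ⟨g, rfl⟩ := Ideal.Quotient.mk_surjective (x : N)
    obtain ⟨b, rfl⟩ := hsurj g
    exact ⟨b, rfl⟩
  haveI : IsLocalHom (algebraMap B' G) := IsLocalHom.of_surjective _ hsurj
  have hkerf : LinearMap.ker f = IsLocalRing.maximalIdeal B' := by
    ext x
    rw [LinearMap.mem_ker, ← IsLocalRing.maximalIdeal_comap (algebraMap B' G), Ideal.mem_comap]
    exact Ideal.Quotient.eq_zero_iff_mem
  let eN : (B' ⧸ IsLocalRing.maximalIdeal B') ≃ₗ[B'] Nr :=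
    (Submodule.quotEquivOfEq _ _ hkerf.symm).trans (f.quotKerEquivOfSurjective hf)
  exact (precompEquivLin (inDIsoOfEquiv eN).symm (L⟦i⟧)).toEquiv.subsingleton

end Groth.Agent.Lib.Helper16.GF
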