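import Mathlib
import Groth.Agent.Lib.Helper16.GF3
import Groth.Agent.Lib.Helper16.GF4

/-!
# Helper16 — GF5: the local ring of a fibre as a quotient of the local ring of the total space;
local Ext vanishing for base changes of dualizing complexes along flat maps with Gorenstein fibres
-/

set_option autoImplicit false

universe u

open CategoryTheory CategoryTheory.Limits CategoryTheory.Pretriangulated DerivedCategory
  TensorProduct

attribute [local instance] HasDerivedCategory.standard

namespace Groth.Agent.Lib.Helper16.GF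

open Groth.Agent.Lib.Helper8 Groth.Agent.Lib.Helper8.EFB Groth.Agent.Lib.Helper16.FLI
  Groth.Agent.Lib.Helper16.FlatBC Groth.Agent.Lib.Helper16.FLJ

section Alg

variable {A B : Type u} [CommRing A] [CommRing B] [Algebra A B] (𝔭 : Ideal A) [𝔭.IsPrime]
  (q : Ideal (𝔭.Fiber B)) [q.IsPrime]

/-- the local ring of the fibre at `q` is a quotient of the local ring of `B` at the prime under
`q`, by the ideal generated by the maximal ideal of `A_𝔭`. -/
theorem exists_surjective_to_fibre_localization
    [Algebra (Localization.AtPrime 𝔭)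
      (Localization.AtPrime (q.comap (Algebra.TensorProduct.includeRight : B →ₐ[A] 𝔭.Fiber B)))]
    [Localization.AtPrime.IsLiesOverAlgebra 𝔭
      (q.comap (Algebra.TensorProduct.includeRight : B →ₐ[A] 𝔭.Fiber B))] :
    ∃ ψ : Localization.AtPrime
        (q.comap (Algebra.TensorProduct.includeRight : B →ₐ[A] 𝔭.Fiber B)) →+*
        Localization.AtPrime (q.comap (Algebra.TensorProduct.comm A B 𝔭.ResidueField)),
      Function.Surjective ψ ∧ RingHom.ker ψ =
        (IsLocalRing.maximalIdeal (Localization.AtPrime 𝔭)).map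
          (algebraMap (Localization.AtPrime 𝔭) (Localization.AtPrime
            (q.comap (Algebra.TensorProduct.includeRight : B →ₐ[A] 𝔭.Fiber B)))) := by
  let e₁ := (Ideal.Fiber.localizationAlgEquivQuotient 𝔭 q).toRingEquiv
  let e₂ := Localization.localRingEquiv (q.comap (Algebra.TensorProduct.comm A B 𝔭.ResidueField)) q
    (Algebra.TensorProduct.comm A B 𝔭.ResidueField).toRingEquiv rfl
  let π := Ideal.Quotient.mk (𝔭.map (algebraMap A (Localization.AtPrime
    (q.comap (Algebra.TensorProduct.includeRight : B →ₐ[A] 𝔭.Fiber B)))))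
  refine ⟨e₂.symm.toRingHom.comp (e₁.symm.toRingHom.comp π), ?_, ?_⟩
  · exact e₂.symm.surjective.comp (e₁.symm.surjective.comp Ideal.Quotient.mk_surjective)
  · have h2 : Function.Injective e₂.symm.toRingHom := e₂.symm.injective
    have h1 : Function.Injective e₁.symm.toRingHom := e₁.symm.injective
    rw [RingHom.ker_comp_of_injective _ h2, RingHom.ker_comp_of_injective _ h1, Ideal.mk_ker,
      ← Localization.AtPrime.map_eq_maximalIdeal, Ideal.map_map,
      ← IsScalarTower.algebraMap_eq]

end Alg

section Local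

variable {A B : Type u} [CommRing A] [CommRing B] [Algebra A B] [IsNoetherianRing A]
  [IsNoetherianRing B] [Module.Flat A B]

omit [IsNoetherianRing B] in
/-- **the local vanishing**: for a flat map `A → B` with Gorenstein fibres, `K` dualizing over `A`
with upper Ext bound `b`, and `dim B ≤ D`: at the prime `𝔫` of `B` under a prime `q` of the fibre
over `𝔭`, `Ext^i_{B_𝔫}(κ(𝔫), K ⊗_A B_𝔫) = 0` for `i > b + D`. -/
theorem subsingleton_hom_residue_atFibrePrime
    (hG : ∀ p : PrimeSpectrum A, LocCoh.IsGorensteinRing (B ⊗[A] p.asIdeal.ResidueField))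
    (K : Dual.D A) (hK : Dual.IsDualizing A K) (b : ℤ) (hb : UB A b K) (D : ℕ)
    (hD : ringKrullDim B ≤ D) (𝔭 : Ideal A) [𝔭.IsPrime] (q : Ideal (𝔭.Fiber B)) [q.IsPrime]
    [Module.Flat A (Localization.AtPrime
      (q.comap (Algebra.TensorProduct.includeRight : B →ₐ[A] 𝔭.Fiber B)))]
    (i : ℤ) (hi : b + D < i) :
    Subsingleton (Dual.inD (Localization.AtPrime
        (q.comap (Algebra.TensorProduct.includeRight : B →ₐ[A] 𝔭.Fiber B)))
      ((Localization.AtPrime (q.comap (Algebra.TensorProduct.includeRight : B →ₐ[A] 𝔭.Fiber B))) ⧸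
        IsLocalRing.maximalIdeal (Localization.AtPrime
          (q.comap (Algebra.TensorProduct.includeRight : B →ₐ[A] 𝔭.Fiber B)))) ⟶
      ((ε (algebraMap A (Localization.AtPrime
        (q.comap (Algebra.TensorProduct.includeRight : B →ₐ[A] 𝔭.Fiber B))))).obj K)⟦i⟧) := by
  letI := Localization.AtPrime.algebraOfLiesOver 𝔭
    (q.comap (Algebra.TensorProduct.includeRight : B →ₐ[A] 𝔭.Fiber B))
  obtain ⟨d, hdb, h0, e⟩ := ext_fibre 𝔭 (T := Localization.AtPrime
    (q.comap (Algebra.TensorProduct.includeRight : B →ₐ[A] 𝔭.Fiber B))) K hK b hb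
  obtain ⟨ψ, hψ, hker⟩ := exists_surjective_to_fibre_localization 𝔭 q
  have hGor : LocCoh.IsGorensteinLocalRing
      (Localization.AtPrime (q.comap (Algebra.TensorProduct.comm A B 𝔭.ResidueField))) :=
    (hG ⟨𝔭, inferInstance⟩).isGorensteinLocalRing_localization _
  haveI : IsNoetherianRing (Localization.AtPrime (q.comap (Algebra.TensorProduct.comm A B 𝔭.ResidueField))) := hGor.toIsNoetherian
  have hDG : ringKrullDim
      (Localization.AtPrime (q.comap (Algebra.TensorProduct.comm A B 𝔭.ResidueField))) ≤ D := by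
    refine (ringKrullDim_le_of_surjective ψ hψ).trans (le_trans ?_ hD)
    rw [IsLocalization.AtPrime.ringKrullDim_eq_height
      (q.comap (Algebra.TensorProduct.includeRight : B →ₐ[A] 𝔭.Fiber B))]
    exact Ideal.height_le_ringKrullDim_of_isPrime
  obtain ⟨a, b₀, hab⟩ := hK.finite_injective_dimension
  have hbdd := hbdd_of_hinj K a b₀ hab
  have hGE := isGE_ε (B := Localization.AtPrime
    (q.comap (Algebra.TensorProduct.includeRight : B →ₐ[A] 𝔭.Fiber B))) K a
    (fun i hi => hbdd i (Or.inl hi))
  exact subsingleton_hom_residue_of_gorenstein_quotient ψ hψ hGor D hDG _ a hGE _ hker d h0 e i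
    (by omega)

end Local

end Groth.Agent.Lib.Helper16.GF
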