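import Mathlib
import Groth.Agent.Lib.Helper16.GF5
import Groth.Agent.Lib.Helper16.FLJ6
import Groth.Agent.Lib.Helper8.Dim4

/-!
# Helper16 — GF6: the flat base change of a dualizing complex along a flat finite type homomorphism
of noetherian rings with Gorenstein fibres is dualizing.
-/

set_option autoImplicit false

universe u

open CategoryTheory CategoryTheory.Limits CategoryTheory.Pretriangulated DerivedCategory
  TensorProduct

attribute [local instance] HasDerivedCategory.standard

namespace Groth.Agent.Lib.Helper16.GF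

open Groth.Agent.Lib.Helper8 Groth.Agent.Lib.Helper8.EFB Groth.Agent.Lib.Helper16.FLI
  Groth.Agent.Lib.Helper16.FlatBC Groth.Agent.Lib.Helper16.FLJ Groth.Agent.Lib.Helper8.Bidual
  Groth.Agent.Lib.Helper6

section Dim

/-- finite type algebras over a finite-dimensional noetherian ring are finite-dimensional -/
theorem exists_ringKrullDim_le_of_finiteType {A B : Type u} [CommRing A] [CommRing B]
    [Algebra A B] [IsNoetherianRing A] [Algebra.FiniteType A B] (h : ringKrullDim A < ⊤) :
    ∃ D : ℕ, ringKrullDim B ≤ D := by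
  obtain ⟨n, f, hf⟩ := (Algebra.FiniteType.iff_quotient_mvPolynomial'' (R := A) (S := B)).1
    inferInstance
  have h1 : ringKrullDim B ≤ ringKrullDim A + n := by
    have := ringKrullDim_le_of_surjective f.toRingHom hf
    rwa [MvPolynomial.ringKrullDim_of_isNoetherianRing, Nat.card_fin] at this
  obtain ⟨m, hm⟩ : ∃ m : ℕ, ringKrullDim A ≤ m := by
    generalize ringKrullDim A = x at h
    induction x using WithBot.recBotCoe with
    | bot => exact ⟨0, bot_le⟩
    | coe y =>
      have hy : y ≠ ⊤ := by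
        rintro rfl
        exact (lt_irrefl _ h)
      obtain ⟨m, rfl⟩ := ENat.ne_top_iff_exists.1 hy
      exact ⟨m, le_rfl⟩
  refine ⟨m + n, h1.trans ?_⟩
  push_cast
  gcongr

end Dim

section Main

variable {A B : Type u} [CommRing A] [CommRing B] [Algebra A B] [IsNoetherianRing A]
  [IsNoetherianRing B] [Module.Flat A B]

omit [IsNoetherianRing A] [IsNoetherianRing B] [Module.Flat A B] in
/-- every prime of `B` is the prime under a prime of the fibre over its contraction -/
theorem exists_fibre_prime (𝔫 : Ideal B) [h𝔫 : 𝔫.IsPrime] :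
    ∃ (𝔭 : Ideal A) (_ : 𝔭.IsPrime) (q : Ideal (𝔭.Fiber B)) (_ : q.IsPrime),
      q.comap (Algebra.TensorProduct.includeRight : B →ₐ[A] 𝔭.Fiber B) = 𝔫 := by
  let p : PrimeSpectrum A := ⟨𝔫.comap (algebraMap A B), inferInstance⟩
  let x : PrimeSpectrum.comap (algebraMap A B) ⁻¹' {p} := ⟨⟨𝔫, h𝔫⟩, rfl⟩
  let q := PrimeSpectrum.preimageEquivFiber A B p x
  refine ⟨p.asIdeal, p.isPrime, q.asIdeal, q.isPrime, ?_⟩
  have := (PrimeSpectrum.preimageEquivFiber A B p).left_inv x
  have h2 := congrArg (fun y => y.1.asIdeal) this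
  exact h2

/-- **Theorem**: the base change of a dualizing complex along a flat finite type homomorphism of
noetherian rings with Gorenstein fibres is dualizing. -/
theorem isDualizing_ε_of_gorenstein_fibres [Algebra.FiniteType A B]
    (hG : ∀ p : PrimeSpectrum A, LocCoh.IsGorensteinRing (B ⊗[A] p.asIdeal.ResidueField))
    (K : Dual.D A) (hK : Dual.IsDualizing A K) :
    Dual.IsDualizing B ((ε (algebraMap A B)).obj K) := by
  obtain ⟨a₀, b₀, hab⟩ := hK.finite_injective_dimension
  have hb₀ : UB A b₀ K := fun N _ _ i hi => hab N i (Or.inr hi)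
  obtain ⟨D, hD⟩ := exists_ringKrullDim_le_of_finiteType (A := A) (B := B)
    (Bidual.ringKrullDim_lt_top_of_isDualizing K hK)
  refine isDualizing_of_UB K hK (b₀ + D) ?_
  have hbdd := EFB.hbdd_of_hinj K a₀ b₀ hab
  have hGE : ((ε (algebraMap A B)).obj K).IsGE a₀ :=
    EFB.isGE_ε K a₀ (fun i hi => hbdd i (Or.inl hi))
  have hfin : ∀ i : ℤ, Module.Finite B (Dual.HD B ((ε (algebraMap A B)).obj K) i) := fun i => by
    haveI := hK.finite_cohomology i
    exact EFB.finite_HD_ε K i
  have h2 := EFB.hinj_of_residue ((ε (algebraMap A B)).obj K) (b₀ + D) a₀ hGE hfin ?_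
  · exact fun N _ _ i hi => h2 N i (Or.inr hi)
  · intro 𝔫 _ i hi
    obtain ⟨𝔭, h𝔭, q, hq, rfl⟩ := exists_fibre_prime (A := A) 𝔫
    haveI : Module.Flat A (Localization.AtPrime
        (q.comap (Algebra.TensorProduct.includeRight : B →ₐ[A] 𝔭.Fiber B))) :=
      Module.Flat.trans A B _
    have hloc := subsingleton_hom_residue_atFibrePrime hG K hK b₀ hb₀ D hD 𝔭 q i hi
    set 𝔫 := q.comap (Algebra.TensorProduct.includeRight : B →ₐ[A] 𝔭.Fiber B) with h𝔫
    have hcomp : (algebraMap B (Localization.AtPrime 𝔫)).comp (algebraMap A B) =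
        algebraMap A (Localization.AtPrime 𝔫) :=
      (IsScalarTower.algebraMap_eq A B (Localization.AtPrime 𝔫)).symm
    haveI : FlatHom ((algebraMap B (Localization.AtPrime 𝔫)).comp (algebraMap A B)) :=
      ⟨RingHom.Flat.comp FlatHom.flat FlatHom.flat⟩
    -- transport along the identifications
    let eN : (Localization.AtPrime 𝔫 ⧸ 𝔫.map (algebraMap B (Localization.AtPrime 𝔫)))
        ≃ₗ[Localization.AtPrime 𝔫]
        (Localization.AtPrime 𝔫 ⧸ IsLocalRing.maximalIdeal (Localization.AtPrime 𝔫)) :=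
      Submodule.quotEquivOfEq _ _ (Localization.AtPrime.map_eq_maximalIdeal)
    let eL : (ε (algebraMap A (Localization.AtPrime 𝔫))).obj K ≅
        (ε (algebraMap B (Localization.AtPrime 𝔫))).obj ((ε (algebraMap A B)).obj K) :=
      (εCongrObjIso hcomp K).symm ≪≫
        εCompObjIso (algebraMap A B) (algebraMap B (Localization.AtPrime 𝔫)) K
    haveI : Subsingleton (Dual.inD (Localization.AtPrime 𝔫)
        (Localization.AtPrime 𝔫 ⧸ 𝔫.map (algebraMap B (Localization.AtPrime 𝔫))) ⟶
        ((ε (algebraMap B (Localization.AtPrime 𝔫))).obj ((ε (algebraMap A B)).obj K))⟦i⟧) :=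
      (Iso.homCongr (inDIsoOfEquiv eN)
        ((shiftFunctor (Dual.D (Localization.AtPrime 𝔫)) i).mapIso eL.symm)).subsingleton
    obtain ⟨Θ⟩ := EFB.nonempty_bcEquiv_quot (B := Localization.AtPrime 𝔫) 𝔫
      ((ε (algebraMap A B)).obj K) ⟨a₀, hGE⟩ i
    have hs : Subsingleton (Localization.AtPrime 𝔫 ⊗[B]
        (Dual.inD B (B ⧸ 𝔫) ⟶ ((ε (algebraMap A B)).obj K)⟦i⟧)) := Θ.subsingleton
    refine subsingleton_of_killed 𝔫 _ (fun r hr h => EFB.smul_hom_eq_zero r (fun x => ?_) _ h) hs
    obtain ⟨y, rfl⟩ := Ideal.Quotient.mk_surjective x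
    change Ideal.Quotient.mk 𝔫 (r * y) = 0
    exact Ideal.Quotient.eq_zero_iff_mem.2 (Ideal.mul_mem_right y 𝔫 hr)

end Main

end Groth.Agent.Lib.Helper16.GF
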