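import Mathlib
import Groth.Agent.Lib.Helper8.EFB10
import Groth.Agent.Lib.Helper8.EFB18
import Groth.Agent.Lib.Helper8.S2b
import Groth.Agent.Lib.Helper8.Dim1
import Groth.Agent.Lib.Helper8.DNak2
import Groth.Agent.Lib.Helper8.RGam10
import Groth.Agent.Lib.Helper16.GF6

/-!
# Helper16 — PtDual: a pointwise dualizing complex over a Noetherian ring of finite Krull dimension
is dualizing (the local degrees are uniformly bounded via the minimal primes).
-/

set_option autoImplicit false
universe u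
open CategoryTheory CategoryTheory.Limits DerivedCategory TensorProduct

attribute [local instance] HasDerivedCategory.standard

namespace Groth.Agent.Lib.Helper16.PtDual

open Groth.Agent.Lib.Helper16.FlatBC Groth.Agent.Lib.Helper8 Groth.Agent.Lib.Helper8.EFB
  Groth.Agent.Lib.Helper8.Bidual

section Local

variable {B : Type u} [CommRing B] [IsLocalRing B] [IsNoetherianRing B]

omit [IsNoetherianRing B] in
lemma exists_nat_ringKrullDim (D : ℕ) (hD : ringKrullDim B ≤ D) :
    ∃ d : ℕ, ringKrullDim B = d ∧ d ≤ D := by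
  have h0 : (0 : WithBot ℕ∞) ≤ ringKrullDim B := ringKrullDim_nonneg_of_nontrivial
  generalize ringKrullDim B = x at h0 hD
  induction x using WithBot.recBotCoe with
  | bot => simp at h0
  | coe y =>
    have hy : y ≤ (D : ℕ∞) := by exact_mod_cast hD
    lift y to ℕ using (ne_top_of_le_ne_top (ENat.natCast_ne_top D) hy)
    exact ⟨y, rfl, by exact_mod_cast hy⟩

/-- the unique residue degree of a dualizing complex over a local ring, and the range of its
cohomology -/
theorem exists_degree (ω : Dual.D B) (hω : Dual.IsDualizing B ω) (D : ℕ)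
    (hD : ringKrullDim B ≤ D) :
    ∃ n : ℤ, (∀ i : ℤ, i ≠ n →
        Subsingleton (Dual.inD B (IsLocalRing.ResidueField B) ⟶ ω⟦i⟧)) ∧
      ∀ j : ℤ, Nontrivial (Dual.HD B ω j) → n ≤ j + D := by
  obtain ⟨n, hn⟩ := exists_isNormalized_shift ω hω
  have hω' := isDualizing_shift ω hω n
  obtain ⟨d, hd, hdD⟩ := exists_nat_ringKrullDim (B := B) D hD
  refine ⟨n, fun i hi => ?_, fun j hj => ?_⟩
  · have hs : Subsingleton (Dual.inD B (IsLocalRing.ResidueField B) ⟶ (ω⟦n⟧)⟦i - n⟧) :=
      hn (i - n) (by omega)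
    exact @Equiv.subsingleton _ _ (Iso.homCongr (Iso.refl (Dual.inD B (IsLocalRing.ResidueField B)))
      ((shiftFunctorAdd' (Dual.D B) n (i - n) i (by omega)).app ω)) hs
  · let e : Dual.HD B (ω⟦n⟧) (j - n) ≃ₗ[B] Dual.HD B ω j :=
      (((homologyFunctor (ModuleCat.{u} B) 0).shiftIso n (j - n) j (by omega)).app ω).toLinearEquiv
    haveI : Nontrivial (Dual.HD B (ω⟦n⟧) (j - n)) := e.toEquiv.nontrivial
    have := HD_range_of_normalized (ω⟦n⟧) hω' hn d hd (j - n) this
    omega

omit [IsNoetherianRing B] in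
/-- a dualizing complex over a local ring has some nonzero cohomology -/
theorem exists_nontrivial_HD (ω : Dual.D B) (hω : Dual.IsDualizing B ω) :
    ∃ j : ℤ, Nontrivial (Dual.HD B ω j) := by
  by_contra hc
  push Not at hc
  have h0 : IsZero ω := DNak.isZero_of_forall_subsingleton_HD ω
    (fun i => hc i)
  have h1 : (1 : B) • 𝟙 ω = (0 : B) • 𝟙 ω := h0.eq_of_src _ _
  exact one_ne_zero (hω.toEnd_bijective.1 h1)

end Local

section Global

variable {A : Type u} [CommRing A] [IsNoetherianRing A]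

/-- uniform bound: there is `J` such that every prime has nonzero localized cohomology in some
degree `≤ J` -/
theorem exists_uniform_degree (R : Dual.D A)
    (h : ∀ p : PrimeSpectrum A, Dual.IsDualizing (Localization.AtPrime p.asIdeal)
      ((ε (algebraMap A (Localization.AtPrime p.asIdeal))).obj R)) :
    ∃ J : ℤ, ∀ q : PrimeSpectrum A, ∃ j : ℤ, j ≤ J ∧
      Nontrivial (Dual.HD (Localization.AtPrime q.asIdeal)
        ((ε (algebraMap A (Localization.AtPrime q.asIdeal))).obj R) j) := by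
  have key : ∀ p₀ : Ideal A, p₀ ∈ minimalPrimes A → ∃ j : ℤ, ∀ q : PrimeSpectrum A,
      p₀ ≤ q.asIdeal → q ∈ Module.support A (Dual.HD A R j) := by
    intro p₀ hp₀
    haveI : p₀.IsPrime := hp₀.1.1
    haveI : IsNoetherianRing (Localization.AtPrime p₀) :=
      IsLocalization.isNoetherianRing p₀.primeCompl _ inferInstance
    obtain ⟨j, hj⟩ := exists_nontrivial_HD _ (h ⟨p₀, inferInstance⟩)
    refine ⟨j, fun q hq => ?_⟩
    have h1 : (⟨p₀, inferInstance⟩ : PrimeSpectrum A) ∈ Module.support A (Dual.HD A R j) :=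
      Module.mem_support_iff.2 ((nontrivial_localizedModule_HD_iff p₀ R j).2 hj)
    exact Module.mem_support_mono (p := ⟨p₀, inferInstance⟩) hq h1
  choose! j₀ hj₀ using key
  obtain ⟨J, hJ⟩ := ((minimalPrimes.finite_of_isNoetherianRing A).image j₀).bddAbove
  refine ⟨J, fun q => ?_⟩
  obtain ⟨p₀, hp₀, hle⟩ := Ideal.exists_minimalPrimes_le (I := (⊥ : Ideal A)) (J := q.asIdeal) bot_le
  refine ⟨j₀ p₀, hJ (Set.mem_image_of_mem j₀ hp₀), ?_⟩
  exact (nontrivial_localizedModule_HD_iff q.asIdeal R (j₀ p₀)).1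
    (Module.mem_support_iff.1 (hj₀ p₀ hp₀ q hle))

/-- **pointwise dualizing implies dualizing** (`ε` form) -/
theorem isDualizing_of_pointwise (hdim : ringKrullDim A < ⊤) (R : Dual.D A)
    (hfin : ∀ i : ℤ, Module.Finite A (Dual.HD A R i))
    (hbdd : ∃ a : ℤ, ∀ i : ℤ, i < a → Subsingleton (Dual.HD A R i))
    (h : ∀ p : PrimeSpectrum A, Dual.IsDualizing (Localization.AtPrime p.asIdeal)
      ((ε (algebraMap A (Localization.AtPrime p.asIdeal))).obj R)) :
    Dual.IsDualizing A R := by
  classical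
  obtain ⟨a, ha⟩ := hbdd
  have hGE : R.IsGE a := isGE_of_subsingleton R a ha
  obtain ⟨D, hD⟩ : ∃ D : ℕ, ringKrullDim A ≤ D := by
    generalize ringKrullDim A = x at hdim
    induction x using WithBot.recBotCoe with
    | bot => exact ⟨0, bot_le⟩
    | coe y =>
      have hy : y ≠ ⊤ := by
        rintro rfl
        exact (lt_irrefl _ hdim)
      obtain ⟨m, rfl⟩ := ENat.ne_top_iff_exists.1 hy
      exact ⟨m, le_rfl⟩
  obtain ⟨J, hJ⟩ := exists_uniform_degree R h
  have hinj := hinj_of_residue R (J + D) a hGE hfin ?_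
  · have hbdd' := hbdd_of_hinj R a (J + D) hinj
    exact isDualizing_of_maximal_ε R ⟨a, J + D, hbdd'⟩ hfin ⟨a, J + D, hinj⟩
      (fun m _ => (h ⟨m, inferInstance⟩).toEnd_bijective)
      (fun m _ i hi => (h ⟨m, inferInstance⟩).ext_self_subsingleton i hi)
  · intro 𝔫 _ i hi
    haveI : IsNoetherianRing (Localization.AtPrime 𝔫) :=
      IsLocalization.isNoetherianRing 𝔫.primeCompl _ inferInstance
    have hDloc : ringKrullDim (Localization.AtPrime 𝔫) ≤ D := by
      rw [IsLocalization.AtPrime.ringKrullDim_eq_height 𝔫]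
      exact le_trans Ideal.height_le_ringKrullDim_of_isPrime hD
    obtain ⟨n, hn1, hn2⟩ := exists_degree _ (h ⟨𝔫, inferInstance⟩) D hDloc
    obtain ⟨j, hjJ, hj⟩ := hJ ⟨𝔫, inferInstance⟩
    have hnle : n ≤ J + D := by
      have := hn2 j hj
      omega
    have hloc : Subsingleton (Dual.inD (Localization.AtPrime 𝔫)
        (IsLocalRing.ResidueField (Localization.AtPrime 𝔫)) ⟶
        ((ε (algebraMap A (Localization.AtPrime 𝔫))).obj R)⟦i⟧) := hn1 i (by omega)
    let eq : (Localization.AtPrime 𝔫 ⧸ 𝔫.map (algebraMap A (Localization.AtPrime 𝔫)))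
        ≃ₗ[Localization.AtPrime 𝔫] IsLocalRing.ResidueField (Localization.AtPrime 𝔫) :=
      Submodule.quotEquivOfEq _ _ (Localization.AtPrime.map_eq_maximalIdeal)
    haveI : Subsingleton (Dual.inD (Localization.AtPrime 𝔫)
        (Localization.AtPrime 𝔫 ⧸ 𝔫.map (algebraMap A (Localization.AtPrime 𝔫))) ⟶
        ((ε (algebraMap A (Localization.AtPrime 𝔫))).obj R)⟦i⟧) :=
      (Iso.homCongr (Groth.Agent.Lib.Helper16.FLI.inDIsoOfEquiv eq) (Iso.refl _)).subsingleton
    obtain ⟨Θ⟩ := nonempty_bcEquiv_quot (B := Localization.AtPrime 𝔫) 𝔫 R ⟨a, hGE⟩ i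
    have hs : Subsingleton (TensorProduct A (Localization.AtPrime 𝔫)
        (Dual.inD A (A ⧸ 𝔫) ⟶ R⟦i⟧)) := Θ.subsingleton
    refine Groth.Agent.Lib.Helper16.FLJ.subsingleton_of_killed 𝔫 _
      (fun r hr h => smul_hom_eq_zero r (fun x => ?_) _ h) hs
    obtain ⟨y, rfl⟩ := Ideal.Quotient.mk_surjective x
    change Ideal.Quotient.mk 𝔫 (r * y) = 0
    exact Ideal.Quotient.eq_zero_iff_mem.2 (Ideal.mul_mem_right y 𝔫 hr)

/-- **pointwise dualizing implies dualizing** (`LBaseChange` form, S11173) -/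
theorem isDualizing_of_pointwise_LBaseChange (hdim : ringKrullDim A < ⊤) (R : Dual.D A)
    (hfin : ∀ i : ℤ, Module.Finite A (Dual.HD A R i))
    (hbdd : ∃ a : ℤ, ∀ i : ℤ, i < a → Subsingleton (Dual.HD A R i))
    (h : ∀ p : PrimeSpectrum A, ∃ _ : DRing.HasLBaseChange
        (algebraMap A (Localization.AtPrime p.asIdeal)),
      Dual.IsDualizing (Localization.AtPrime p.asIdeal)
        ((DRing.LBaseChange (algebraMap A (Localization.AtPrime p.asIdeal))).obj R)) :
    Dual.IsDualizing A R := by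
  refine isDualizing_of_pointwise hdim R hfin hbdd (fun p => ?_)
  obtain ⟨_, hp⟩ := h p
  exact isDualizing_of_iso
    ((Groth.Agent.Lib.Helper8.RGam.lBaseChangeIsoε
      (algebraMap A (Localization.AtPrime p.asIdeal))).app R) hp

end Global

end Groth.Agent.Lib.Helper16.PtDual
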