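import Mathlib
import Groth.Agent.Lib.Helper8.S2c
import Groth.Agent.Lib.Helper16.PtDual
import Groth.Agent.Lib.Helper21.SkOpen1
import Groth.Agent.Lib.Helper21.DepthKit12

/-!
# Helper16 — DualS2a: the lowest cohomology module of a dualizing complex over a Noetherian local
ring satisfies `(S_2)` and has full-dimensional support; transport of `(S_k)` along semilinear
isomorphisms.
-/

set_option autoImplicit false
universe u
open CategoryTheory CategoryTheory.Limits DerivedCategory TensorProduct

attribute [local instance] HasDerivedCategory.standard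

namespace Groth.Agent.Lib.Helper16.DualS2

open Groth.Agent.Lib.Helper16.FlatBC Groth.Agent.Lib.Helper8 Groth.Agent.Lib.Helper8.EFB
  Groth.Agent.Lib.Helper8.Bidual

section Local

variable {B : Type u} [CommRing B] [IsLocalRing B] [IsNoetherianRing B]

/-- the dimension of a Noetherian local ring is a natural number -/
lemma exists_nat_dim : ∃ d : ℕ, ringKrullDim B = d := by
  have h0 : (0 : WithBot ℕ∞) ≤ ringKrullDim B := ringKrullDim_nonneg_of_nontrivial
  have h1 : ringKrullDim B < ⊤ := ringKrullDim_lt_top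
  generalize ringKrullDim B = x at h0 h1
  induction x using WithBot.recBotCoe with
  | bot => simp at h0
  | coe y =>
    have hy : y ≠ ⊤ := by
      rintro rfl
      exact (lt_irrefl _ h1)
    lift y to ℕ using hy
    exact ⟨y, rfl⟩

/-- the lowest nonzero cohomology module of a dualizing complex over a local ring is the
dualizing module of a normalized shift -/
theorem lowest_eq (ω : Dual.D B) (hω : Dual.IsDualizing B ω) (n : ℤ)
    (hlt : ∀ i : ℤ, i < n → Subsingleton (Dual.HD B ω i)) (hn : Nontrivial (Dual.HD B ω n)) :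
    ∃ (s : ℤ) (d : ℕ), ringKrullDim B = d ∧ Dual.IsDualizing B (ω⟦s⟧) ∧
      Dual.IsNormalized B (ω⟦s⟧) ∧
      Nonempty (Dual.HD B (ω⟦s⟧) (-(d : ℤ)) ≃ₗ[B] Dual.HD B ω n) := by
  obtain ⟨s, hs⟩ := exists_isNormalized_shift ω hω
  have hω' := isDualizing_shift ω hω s
  obtain ⟨d, hd⟩ := exists_nat_dim (B := B)
  let k : ∀ i j : ℤ, s + i = j → (Dual.HD B (ω⟦s⟧) i ≃ₗ[B] Dual.HD B ω j) := fun i j hij =>
    (((homologyFunctor (ModuleCat.{u} B) 0).shiftIso s i j hij).app ω).toLinearEquiv
  -- `n - s` is in the range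
  haveI h1 : Nontrivial (Dual.HD B (ω⟦s⟧) (n - s)) := (k (n - s) n (by omega)).toEquiv.nontrivial
  have h2 := HD_range_of_normalized (ω⟦s⟧) hω' hs d hd (n - s) h1
  -- the bottom is nonzero
  obtain ⟨h3, -⟩ := depth_dualizingModule (ω⟦s⟧) hω' hs d hd
  have h4 : ¬ (s + (-(d : ℤ)) < n) := by
    intro hlt'
    haveI := hlt _ hlt'
    haveI : Subsingleton (Dual.HD B (ω⟦s⟧) (-(d : ℤ))) :=
      (k (-(d : ℤ)) (s + (-(d : ℤ))) rfl).toEquiv.subsingleton
    exact not_subsingleton _ ‹_›
  have h5 : s + (-(d : ℤ)) = n := by omega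
  exact ⟨s, d, hd, hω', hs, ⟨k _ _ h5⟩⟩

/-- the lowest cohomology module of a dualizing complex over a local ring satisfies `(S_2)` -/
theorem hasSk_two_lowest (ω : Dual.D B) (hω : Dual.IsDualizing B ω) (n : ℤ)
    (hlt : ∀ i : ℤ, i < n → Subsingleton (Dual.HD B ω i)) :
    LocCoh.HasSk 2 B (Dual.HD B ω n) := by
  by_cases hn : Nontrivial (Dual.HD B ω n)
  · obtain ⟨s, d, hd, hω', hs, ⟨e⟩⟩ := lowest_eq ω hω n hlt hn
    exact (Groth.Agent.Lib.Helper21.SkOpen.hasSk_congr e 2).1
      (dualizingModule_support_and_S2 (ω⟦s⟧) hω' hs d hd).2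
  · rw [not_nontrivial_iff_subsingleton] at hn
    intro p _
    haveI : Subsingleton (LocalizedModule p.primeCompl (Dual.HD B ω n)) :=
      LocalizedModule.instSubsingleton _
    rw [Module.supportDim_eq_bot_of_subsingleton]
    simp


/-- over a local domain the lowest cohomology module of a dualizing complex is torsion-free -/
theorem isTorsionFree_lowest [IsDomain B] (ω : Dual.D B) (hω : Dual.IsDualizing B ω) (n : ℤ)
    (hlt : ∀ i : ℤ, i < n → Subsingleton (Dual.HD B ω i)) :
    Module.IsTorsionFree B (Dual.HD B ω n) := by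
  by_cases hn : Nontrivial (Dual.HD B ω n)
  · obtain ⟨s, d, hd, hω', hs, ⟨e⟩⟩ := lowest_eq ω hω n hlt hn
    haveI := hω.finite_cohomology n
    have hS2 := hasSk_two_lowest ω hω n hlt
    -- the generic point is in the support
    have hbot : (⟨⊥, Ideal.isPrime_bot⟩ : PrimeSpectrum B) ∈ Module.support B (Dual.HD B ω n) := by
      rw [← e.support_eq, (dualizingModule_support_and_S2 (ω⟦s⟧) hω' hs d hd).1]
      refine ⟨⊥, ?_, le_refl _, ?_⟩
      · rw [IsDomain.minimalPrimes_eq_singleton_bot]; rfl
      · rw [← hd]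
        exact ringKrullDim_eq_of_ringEquiv (RingEquiv.quotientBot B)
    constructor
    intro r hr
    by_contra hcon
    have hr0 : r ≠ 0 := hr.ne_zero
    -- `r` is a zero divisor on the module
    have hzd : r ∈ {r : B | ∃ x : Dual.HD B ω n, x ≠ 0 ∧ r • x = 0} := by
      by_contra hz
      apply hcon
      intro x y hxy
      by_contra hne
      apply hz
      refine ⟨x - y, sub_ne_zero.2 hne, ?_⟩
      rw [smul_sub]
      exact sub_eq_zero.2 hxy
    rw [← biUnion_associatedPrimes_eq_zero_divisors] at hzd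
    simp only [Set.mem_iUnion] at hzd
    obtain ⟨P, hP, hrP⟩ := hzd
    haveI : P.IsPrime := AssociatedPrimes.mem_iff.1 hP |>.isPrime
    have hdep := (Groth.Agent.Lib.Helper21.DepthKit.depth_localization_eq_zero_iff
      (M := Dual.HD B ω n) P).2 hP
    have hsk := hS2 P
    rw [hdep] at hsk
    have hdim : Module.supportDim (Localization.AtPrime P)
        (LocalizedModule P.primeCompl (Dual.HD B ω n)) ≤ 0 := by
      by_contra hgt
      rw [not_le] at hgt
      have : (0 : WithBot ℕ∞) < min ((2 : ℕ) : WithBot ℕ∞) (Module.supportDim (Localization.AtPrime P)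
          (LocalizedModule P.primeCompl (Dual.HD B ω n))) := lt_min (by norm_num) hgt
      exact absurd hsk (not_le.2 (by simpa using this))
    have := (Groth.Agent.Lib.Helper21.DepthKit.supportDim_localization_le_zero_iff
      (M := Dual.HD B ω n) P).1 hdim ⟨⊥, Ideal.isPrime_bot⟩ hbot bot_le
    have hP0 : P = ⊥ := this.symm
    rw [hP0] at hrP
    exact hr0 hrP
  · rw [not_nontrivial_iff_subsingleton] at hn
    constructor
    intro r _ x y _
    exact Subsingleton.elim _ _

end Local

end Groth.Agent.Lib.Helper16.DualS2
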