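import Mathlib
import Groth.Agent.Lib.Helper8.Dep8
import Groth.Agent.Lib.Helper8.Sk5
import Groth.Agent.Lib.Helper16.PtDual

/-!
# Helper16 — CMDual: over a noetherian ring with a dualizing complex `ω`, the local ring `A_p` is
Cohen–Macaulay iff exactly one cohomology module of `ω` has nonzero localization at `p`.
-/

set_option autoImplicit false
universe u
open CategoryTheory CategoryTheory.Limits DerivedCategory TensorProduct

attribute [local instance] HasDerivedCategory.standard

namespace Groth.Agent.Lib.Helper16.CMDual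

open Groth.Agent.Lib.Helper16.FlatBC Groth.Agent.Lib.Helper8 Groth.Agent.Lib.Helper8.EFB
  Groth.Agent.Lib.Helper8.Bidual

variable {A : Type u} [CommRing A] [IsNoetherianRing A]

theorem isCM_iff_existsUnique (ω : Dual.D A) (hω : Dual.IsDualizing A ω) (p : PrimeSpectrum A) :
    LocCoh.IsCohenMacaulayLocalRing (Localization.AtPrime p.asIdeal) ↔
      ∃! i : ℤ, Nontrivial (LocalizedModule p.asIdeal.primeCompl (Dual.HD A ω i)) := by
  haveI : Nontrivial (LocalizedModule p.asIdeal.primeCompl A) :=
    (localizedSelfEquiv p.asIdeal).toEquiv.nontrivial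
  rw [isCohenMacaulayLocalRing_iff_module p.asIdeal, isCM_localization_iff ω hω A p]
  have hsupp : ∀ i : ℤ, p ∈ Module.support A (Dual.inD A A ⟶ ω⟦i⟧) ↔
      Nontrivial (LocalizedModule p.asIdeal.primeCompl (Dual.HD A ω i)) := by
    intro i
    rw [(homUnitShiftLinearEquiv ω i).support_eq, Module.mem_support_iff]
  haveI : IsNoetherianRing (Localization.AtPrime p.asIdeal) :=
    IsLocalization.isNoetherianRing p.asIdeal.primeCompl _ inferInstance
  obtain ⟨j₀, hj₀⟩ := Groth.Agent.Lib.Helper16.PtDual.exists_nontrivial_HD _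
    (isDualizing_ε_atPrime p.asIdeal ω hω)
  have hj₀' : Nontrivial (LocalizedModule p.asIdeal.primeCompl (Dual.HD A ω j₀)) :=
    (nontrivial_localizedModule_HD_iff p.asIdeal ω j₀).2 hj₀
  constructor
  · intro h
    refine ⟨j₀, hj₀', fun i hi => ?_⟩
    exact h i j₀ ((hsupp i).2 hi) ((hsupp j₀).2 hj₀')
  · rintro ⟨i₀, -, hu⟩ i j hi hj
    rw [hu i ((hsupp i).1 hi), hu j ((hsupp j).1 hj)]

end Groth.Agent.Lib.Helper16.CMDual
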