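import Groth.Agent.Lib.Helper16.DRE1
import Groth.Agent.Lib.Helper16.PB2
import Groth.Agent.Lib.Helper16.LTC3

/-!
# Helper16 — DRE2: the K-flat left derivability structure on complexes of modules over a ring;
existence of `- ⊗^L M`, `- ⊗^L E` and derived base change
-/

set_option autoImplicit false
universe u v' u'
open CategoryTheory CategoryTheory.Limits MonoidalCategory

attribute [local instance] HasDerivedCategory.standard

namespace Groth.Agent.Lib.Helper16.DRE

open Groth.Agent.Lib.Helper16.KF Groth.Agent.Lib.Helper16.BiCx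

variable (R : Type u) [CommRing R]

/-- the property of being K-flat. -/
def kflat : ObjectProperty (Cx R) := fun K => DRing.IsKFlat R K

/-- quasi-isomorphisms of complexes. -/
abbrev qis : MorphismProperty (Cx R) :=
  HomologicalComplex.quasiIso (ModuleCat.{u} R) (ComplexShape.up ℤ)

/-- the localizer morphism from K-flat complexes to all complexes. -/
noncomputable abbrev Φ : LocalizerMorphism ((qis R).inverseImage (kflat R).ι) (qis R) :=
  LD.locMor (kflat R) (qis R)

instance isLeftDerivabilityStructure : (Φ R).IsLeftDerivabilityStructure := by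
  obtain ⟨P, ψ, h⟩ := exists_functorial_kFlat_resolution R
  exact LD.isLeftDerivabilityStructure P ψ (fun C => (h C).1)
    (fun C => (HomologicalComplex.mem_quasiIso_iff _).2 (h C).2.2.1)

variable {R} {H : Type u'} [Category.{v'} H]

/-- the condition that `F` sends quasi-isomorphisms between K-flat complexes to isomorphisms. -/
def InvertsKFlat (F : Cx R ⥤ H) : Prop :=
  ∀ {P P' : Cx R} (s : P ⟶ P'), DRing.IsKFlat R P → DRing.IsKFlat R P' →
    QuasiIso s → IsIso (F.map s)

lemma InvertsKFlat.derives {F : Cx R ⥤ H} (hF : InvertsKFlat F) : (Φ R).Derives F := by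
  intro P P' s hs
  exact hF s.hom P.property P'.property ((HomologicalComplex.mem_quasiIso_iff _).1 hs)

/-- **Existence of total left derived functors (on complexes).** -/
theorem hasLeftDerivedFunctor {F : Cx R ⥤ H} (hF : InvertsKFlat F) :
    F.HasLeftDerivedFunctor (qis R) :=
  LD.hasLeftDerivedFunctor hF.derives

/-- **The counit of a left derived functor is an isomorphism on K-flat complexes.** -/
theorem isIso_app_of_isKFlat {F : Cx R ⥤ H} (hF : InvertsKFlat F)
    {D₂ : Type*} [Category D₂] {L₂ : Cx R ⥤ D₂} [L₂.IsLocalization (qis R)]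
    {LF : D₂ ⥤ H} (α : L₂ ⋙ LF ⟶ F) [LF.IsLeftDerivedFunctor α (qis R)]
    (P : Cx R) (hP : DRing.IsKFlat R P) : IsIso (α.app P) :=
  LD.isIso_of_isLeftDerivedFunctor hF.derives α ⟨P, hP⟩

/-- characterization of left derived functors. -/
theorem isLeftDerivedFunctor_of_isIso {F : Cx R ⥤ H} (hF : InvertsKFlat F)
    {D₂ : Type*} [Category D₂] {L₂ : Cx R ⥤ D₂} [L₂.IsLocalization (qis R)]
    {LF : D₂ ⥤ H} (α : L₂ ⋙ LF ⟶ F)
    (hα : ∀ P : Cx R, DRing.IsKFlat R P → IsIso (α.app P)) :
    LF.IsLeftDerivedFunctor α (qis R) :=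
  LD.isLeftDerivedFunctor_of_isIso hF.derives α (fun P => hα P.obj P.property)

section Homotopy

variable (R) in
/-- the quotient functor to the homotopy category. -/
noncomputable abbrev quot : Cx R ⥤ HomotopyCategory (ModuleCat.{u} R) (ComplexShape.up ℤ) :=
  HomotopyCategory.quotient (ModuleCat.{u} R) (ComplexShape.up ℤ)

variable (R) in
/-- quasi-isomorphisms in the homotopy category. -/
abbrev qisH : MorphismProperty (HomotopyCategory (ModuleCat.{u} R) (ComplexShape.up ℤ)) :=
  HomotopyCategory.quasiIso (ModuleCat.{u} R) (ComplexShape.up ℤ)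

instance : (quot R ⋙ DerivedCategory.Qh).IsLocalization (qis R) :=
  inferInstanceAs ((HomotopyCategory.quotient (ModuleCat.{u} R) (ComplexShape.up ℤ) ⋙
    HomologicalComplexUpToQuasiIso.Qh).IsLocalization _)

/-- **Existence of total left derived functors (on the homotopy category).** -/
theorem hasLeftDerivedFunctor_h
    {Fh : HomotopyCategory (ModuleCat.{u} R) (ComplexShape.up ℤ) ⥤ H}
    (hF : InvertsKFlat (quot R ⋙ Fh)) : Fh.HasLeftDerivedFunctor (qisH R) := by
  haveI := hasLeftDerivedFunctor hF
  exact LD.hasLeftDerivedFunctor_of_comp (quot R)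
    (HomologicalComplex.homotopyEquivalences (ModuleCat.{u} R) (ComplexShape.up ℤ))
    DerivedCategory.Qh (qisH R) (qis R) Fh

/-- **The counit of a left derived functor (on the homotopy category) is an isomorphism on
K-flat complexes.** -/
theorem isIso_app_h_of_isKFlat
    {Fh : HomotopyCategory (ModuleCat.{u} R) (ComplexShape.up ℤ) ⥤ H}
    (hF : InvertsKFlat (quot R ⋙ Fh)) {LF : DerivedCategory (ModuleCat.{u} R) ⥤ H}
    (α : DerivedCategory.Qh ⋙ LF ⟶ Fh) [LF.IsLeftDerivedFunctor α (qisH R)]
    (P : Cx R) (hP : DRing.IsKFlat R P) :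
    IsIso (α.app ((quot R).obj P)) := by
  haveI : LF.IsLeftDerivedFunctor (LD.whiskerQ (quot R) LF α) (qis R) :=
    (LD.isLeftDerivedFunctor_whiskerQ_iff (quot R)
      (HomologicalComplex.homotopyEquivalences (ModuleCat.{u} R) (ComplexShape.up ℤ))
      DerivedCategory.Qh (qisH R) (qis R) LF α).2 inferInstance
  exact isIso_app_of_isKFlat hF (LD.whiskerQ (quot R) LF α) P hP

end Homotopy

section Exist

/-- `- ⊗ M` (termwise) sends quasi-isomorphisms between K-flat complexes to isomorphisms. -/
lemma invertsKFlat_tensorKh (M : ModuleCat.{u} R) :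
    InvertsKFlat (quot R ⋙ DRing.tensorKh R M) := by
  intro P P' s hP hP' hs
  haveI := hs
  haveI : QuasiIso ((TorAmp.tensCx M).map s) := quasiIso_tensCx_map_of_isKFlat hP hP' s M
  exact inferInstanceAs (IsIso (DerivedCategory.Q.map ((TorAmp.tensCx M).map s)))

/-- **`- ⊗^L_R M` exists.** -/
theorem hasLTensor (M : ModuleCat.{u} R) : DRing.HasLTensor R M :=
  hasLeftDerivedFunctor_h (invertsKFlat_tensorKh M)

/-- `- ⊗ E` sends quasi-isomorphisms between K-flat complexes to isomorphisms. -/
lemma invertsKFlat_tensorCxQ (E : Cx R) : InvertsKFlat (DRing.tensorCxQ R E) := by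
  intro P P' s hP hP' hs
  haveI := hs
  haveI : QuasiIso (s ▷ E) := quasiIso_whiskerRight_of_isKFlat_of_isKFlat hP hP' s E
  exact inferInstanceAs (IsIso (DerivedCategory.Q.map (s ▷ E)))

/-- **`- ⊗^L_R E` exists.** -/
theorem hasLTensorCx (E : Cx R) : DRing.HasLTensorCx R E :=
  hasLeftDerivedFunctor (invertsKFlat_tensorCxQ E)

variable {S : Type u} [CommRing S] (φ : R →+* S)

/-- extension of scalars sends quasi-isomorphisms between K-flat complexes to
quasi-isomorphisms. -/
theorem quasiIso_extendScalars_map_of_isKFlat {P Q : Cx R} (α : P ⟶ Q) [QuasiIso α]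
    (hP : DRing.IsKFlat R P) (hQ : DRing.IsKFlat R Q) :
    QuasiIso (((ModuleCat.extendScalars.{u, u, u} φ).mapHomologicalComplex
      (ComplexShape.up ℤ)).map α) :=
  quasiIso_mapHC_of_acyc_cylSC (ModuleCat.extendScalars.{u, u, u} φ) α
    (Stk.ring_acyc_extCx_of_acyc_of_isKFlat φ _ (acyc_cylSC_X₃ α)
      (isKFlatR_cylSC_X₃ (curriedTensor (ModuleCat.{u} R)) α hP hQ))

lemma invertsKFlat_baseChangeKh : InvertsKFlat (quot R ⋙ DRing.baseChangeKh φ) := by
  intro P P' s hP hP' hs
  haveI := hs
  haveI := quasiIso_extendScalars_map_of_isKFlat φ s hP hP'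
  exact inferInstanceAs (IsIso (DerivedCategory.Q.map
    (((ModuleCat.extendScalars.{u, u, u} φ).mapHomologicalComplex (ComplexShape.up ℤ)).map s)))

/-- **derived base change exists.** -/
theorem hasLBaseChange : DRing.HasLBaseChange φ :=
  hasLeftDerivedFunctor_h (invertsKFlat_baseChangeKh φ)

end Exist

end Groth.Agent.Lib.Helper16.DRE
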