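import Mathlib

set_option autoImplicit false

open CategoryTheory CategoryTheory.Limits TensorProduct ModuleCat ChangeOfRings

namespace Groth.Agent.Lib.Helper16.PO

universe u

variable {A B A' : Type u} [CommRing A] [CommRing B] [CommRing A'] [Algebra A B] [Algebra A A']

variable (A B A') in
/-- `B → B ⊗[A] A'`. -/
noncomputable abbrev ιB : B →+* B ⊗[A] A' := Algebra.TensorProduct.includeLeftRingHom

variable (A B A') in
/-- `A' → B ⊗[A] A'`. -/
noncomputable abbrev ιA' : A' →+* B ⊗[A] A' :=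
  (Algebra.TensorProduct.includeRight : A' →ₐ[A] B ⊗[A] A').toRingHom

lemma ι_comm (a : A) : ιB A B A' (algebraMap A B a) = ιA' A B A' (algebraMap A A' a) := by
  change (algebraMap A B a) ⊗ₜ[A] (1 : A') = (1 : B) ⊗ₜ[A] (algebraMap A A' a)
  rw [Algebra.algebraMap_eq_smul_one, Algebra.algebraMap_eq_smul_one, TensorProduct.smul_tmul]

variable (M : ModuleCat.{u} B)

variable (A A') in
/-- `(B ⊗_A A') ⊗_B M` as an `A'`-module. -/
noncomputable abbrev X₁ : ModuleCat.{u} A' :=
  (restrictScalars (ιA' A B A')).obj ((extendScalars (ιB A B A')).obj M)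

variable (A A') in
/-- `A' ⊗_A M` as an `A'`-module. -/
noncomputable abbrev X₂ : ModuleCat.{u} A' :=
  (extendScalars (algebraMap A A')).obj ((restrictScalars (algebraMap A B)).obj M)

/-- the pure tensor `a' ⊗ m` of `A' ⊗_A M`. -/
noncomputable def tm (a' : A') (m : M) : X₂ A A' M :=
  @TensorProduct.tmul A _ ((restrictScalars (algebraMap A A')).obj (of A' A'))
    ((restrictScalars (algebraMap A B)).obj M) _ _ _ _ a' m

lemma tm_zero_left (m : M) : tm (A := A) M (0 : A') m = 0 :=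
  TensorProduct.zero_tmul (R := A) ((restrictScalars (algebraMap A A')).obj (of A' A'))
    (N := (restrictScalars (algebraMap A B)).obj M) m

lemma tm_zero_right (a' : A') : tm (A := A) M a' (0 : M) = 0 :=
  TensorProduct.tmul_zero (R := A) (M := (restrictScalars (algebraMap A A')).obj (of A' A'))
    ((restrictScalars (algebraMap A B)).obj M) a'

lemma tm_add_left (a₁ a₂ : A') (m : M) : tm (A := A) M (a₁ + a₂) m = tm M a₁ m + tm M a₂ m :=
  TensorProduct.add_tmul (R := A) (M := (restrictScalars (algebraMap A A')).obj (of A' A'))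
    (N := (restrictScalars (algebraMap A B)).obj M) a₁ a₂ m

lemma tm_add_right (a' : A') (m₁ m₂ : M) : tm (A := A) M a' (m₁ + m₂) = tm M a' m₁ + tm M a' m₂ :=
  TensorProduct.tmul_add (R := A) (M := (restrictScalars (algebraMap A A')).obj (of A' A'))
    (N := (restrictScalars (algebraMap A B)).obj M) a' m₁ m₂

lemma tm_bal (a : A) (a' : A') (m : M) :
    tm (A := A) M (algebraMap A A' a * a') m = tm M a' (algebraMap A B a • m) :=
  TensorProduct.smul_tmul (R := A) (R' := A)
    (M := (restrictScalars (algebraMap A A')).obj (of A' A'))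
    (N := (restrictScalars (algebraMap A B)).obj M) a a' m

lemma tm_smul (a₀ a' : A') (m : M) : a₀ • tm (A := A) M a' m = tm M (a₀ * a') m := rfl

/-- `m ↦ a' ⊗ b • m`. -/
noncomputable def g₀ (b : B) (a' : A') : M →+ X₂ A A' M where
  toFun m := tm M a' (b • m)
  map_zero' := by rw [smul_zero, tm_zero_right]
  map_add' m m' := by rw [smul_add, tm_add_right]

lemma g₀_apply (b : B) (a' : A') (m : M) : g₀ (A := A) M b a' m = tm M a' (b • m) := rfl

/-- additive in `a'`. -/
noncomputable def g₁ (b : B) : A' →+ M →+ X₂ A A' M where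
  toFun a' := g₀ M b a'
  map_zero' := by ext m; exact tm_zero_left M _
  map_add' a₁ a₂ := by ext m; exact tm_add_left M _ _ _

/-- additive in `b`. -/
noncomputable def g₂ : B →+ A' →+ M →+ X₂ A A' M where
  toFun b := g₁ M b
  map_zero' := by
    ext a' m
    change g₀ M 0 a' m = 0
    rw [g₀_apply, zero_smul, tm_zero_right]
  map_add' b₁ b₂ := by
    ext a' m
    change g₀ M (b₁ + b₂) a' m = g₀ M b₁ a' m + g₀ M b₂ a' m
    rw [g₀_apply, g₀_apply, g₀_apply, add_smul, tm_add_right]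

lemma g₂_apply (b : B) (a' : A') (m : M) : g₂ (A := A) M b a' m = tm M a' (b • m) := rfl

lemma g₂_bal (a : A) (b : B) (a' : A') :
    g₂ (A := A) M (a • b) a' = g₂ M b (a • a') := by
  ext m
  rw [g₂_apply, g₂_apply, Algebra.smul_def a a', tm_bal, Algebra.smul_def, mul_smul]

/-- `r ↦ (m ↦ r · (1 ⊗ m))`. -/
noncomputable def f₀ : (B ⊗[A] A') →+ M →+ X₂ A A' M :=
  TensorProduct.liftAddHom (g₂ M) (g₂_bal M)

lemma f₀_tmul (b : B) (a' : A') (m : M) : f₀ M (b ⊗ₜ[A] a') m = tm M a' (b • m) := rfl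

lemma f₀_bal (b : B) (r : B ⊗[A] A') (m : M) :
    f₀ M (ιB A B A' b * r) m = f₀ M r (b • m) := by
  induction r using TensorProduct.induction_on with
  | zero => simp
  | tmul b' a' =>
    rw [show ιB A B A' b * (b' ⊗ₜ[A] a') = (b * b') ⊗ₜ[A] a' from by
      change (b ⊗ₜ[A] (1 : A')) * (b' ⊗ₜ[A] a') = _
      rw [Algebra.TensorProduct.tmul_mul_tmul, one_mul], f₀_tmul, f₀_tmul, mul_comm, mul_smul]
  | add x y hx hy =>
    rw [mul_add, map_add, map_add, AddMonoidHom.add_apply, AddMonoidHom.add_apply, hx, hy]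

/-- the forward map `(B ⊗_A A') ⊗_B M → A' ⊗_A M`. -/
noncomputable def fwd : X₁ A A' M →+ X₂ A A' M :=
  TensorProduct.liftAddHom (R := B) (M := (restrictScalars (ιB A B A')).obj (of _ (B ⊗[A] A')))
    (N := M) (f₀ M) (fun b r m => f₀_bal M b r m)

/-- the pure tensor `r ⊗ m` of `(B ⊗_A A') ⊗_B M`. -/
noncomputable def tr (r : B ⊗[A] A') (m : M) : X₁ A A' M :=
  @TensorProduct.tmul B _ ((restrictScalars (ιB A B A')).obj (of _ (B ⊗[A] A'))) M _ _ _ _ r m

lemma fwd_tr (b : B) (a' : A') (m : M) :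
    fwd M (tr M (b ⊗ₜ[A] a') m) = tm M a' (b • m) := rfl


lemma tr_zero_left (m : M) : tr (A := A) (A' := A') M 0 m = 0 :=
  TensorProduct.zero_tmul (R := B) ((restrictScalars (ιB A B A')).obj (of _ (B ⊗[A] A'))) (N := M) m

lemma tr_zero_right (r : B ⊗[A] A') : tr M r (0 : M) = 0 :=
  TensorProduct.tmul_zero (R := B) (M := (restrictScalars (ιB A B A')).obj (of _ (B ⊗[A] A'))) M r

lemma tr_add_left (r₁ r₂ : B ⊗[A] A') (m : M) : tr M (r₁ + r₂) m = tr M r₁ m + tr M r₂ m :=
  TensorProduct.add_tmul (R := B) (M := (restrictScalars (ιB A B A')).obj (of _ (B ⊗[A] A')))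
    (N := M) r₁ r₂ m

lemma tr_add_right (r : B ⊗[A] A') (m₁ m₂ : M) : tr M r (m₁ + m₂) = tr M r m₁ + tr M r m₂ :=
  TensorProduct.tmul_add (R := B) (M := (restrictScalars (ιB A B A')).obj (of _ (B ⊗[A] A')))
    (N := M) r m₁ m₂

lemma tr_bal (b : B) (r : B ⊗[A] A') (m : M) : tr M (ιB A B A' b * r) m = tr M r (b • m) :=
  TensorProduct.smul_tmul (R := B) (R' := B)
    (M := (restrictScalars (ιB A B A')).obj (of _ (B ⊗[A] A'))) (N := M) b r m

lemma tr_smul (a₀ : A') (r : B ⊗[A] A') (m : M) :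
    a₀ • tr M r m = tr M (ιA' A B A' a₀ * r) m := rfl

/-- `m ↦ (1 ⊗ a') ⊗ m`. -/
noncomputable def h₀ (a' : A') : M →+ X₁ A A' M where
  toFun m := tr M ((1 : B) ⊗ₜ[A] a') m
  map_zero' := tr_zero_right M _
  map_add' := tr_add_right M _

/-- additive in `a'`. -/
noncomputable def h₁ : A' →+ M →+ X₁ A A' M where
  toFun a' := h₀ M a'
  map_zero' := by
    ext m
    change tr M ((1 : B) ⊗ₜ[A] (0 : A')) m = 0
    rw [TensorProduct.tmul_zero, tr_zero_left]
  map_add' a₁ a₂ := by
    ext m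
    change tr M ((1 : B) ⊗ₜ[A] (a₁ + a₂)) m = tr M _ m + tr M _ m
    rw [TensorProduct.tmul_add, tr_add_left]

lemma h₁_apply (a' : A') (m : M) : h₁ (A := A) M a' m = tr M ((1 : B) ⊗ₜ[A] a') m := rfl

lemma h₁_bal (a : A) (a' : A') (m : M) :
    h₁ (A := A) M (algebraMap A A' a * a') m = h₁ M a' (algebraMap A B a • m) := by
  rw [h₁_apply, h₁_apply, ← tr_bal]
  congr 1
  change _ = ((algebraMap A B a) ⊗ₜ[A] (1 : A')) * ((1 : B) ⊗ₜ[A] a')
  rw [Algebra.TensorProduct.tmul_mul_tmul, mul_one, one_mul, ← Algebra.smul_def,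
    Algebra.algebraMap_eq_smul_one, TensorProduct.smul_tmul]

/-- the backward map `A' ⊗_A M → (B ⊗_A A') ⊗_B M`. -/
noncomputable def bwd : X₂ A A' M →+ X₁ A A' M :=
  TensorProduct.liftAddHom (R := A) (M := (restrictScalars (algebraMap A A')).obj (of A' A'))
    (N := (restrictScalars (algebraMap A B)).obj M) (h₁ (A := A) (B := B) (A' := A') M)
    (fun a (a' : A') (m : M) => h₁_bal M a a' m)

lemma bwd_tm (a' : A') (m : M) : bwd M (tm M a' m) = tr M ((1 : B) ⊗ₜ[A] a') m := rfl

lemma X₁_induction {P : X₁ A A' M → Prop} (h0 : P 0)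
    (ht : ∀ (b : B) (a' : A') (m : M), P (tr M (b ⊗ₜ[A] a') m))
    (ha : ∀ x y, P x → P y → P (x + y)) (t : X₁ A A' M) : P t := by
  induction t using TensorProduct.induction_on with
  | zero => exact h0
  | tmul r m =>
    change P (tr M r m)
    induction r using TensorProduct.induction_on with
    | zero => rw [tr_zero_left]; exact h0
    | tmul b a' => exact ht b a' m
    | add x y hx hy => rw [tr_add_left]; exact ha _ _ hx hy
  | add x y hx hy => exact ha _ _ hx hy

lemma X₂_induction {P : X₂ A A' M → Prop} (h0 : P 0)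
    (ht : ∀ (a' : A') (m : M), P (tm M a' m))
    (ha : ∀ x y, P x → P y → P (x + y)) (t : X₂ A A' M) : P t := by
  induction t using TensorProduct.induction_on with
  | zero => exact h0
  | tmul a' m => exact ht a' m
  | add x y hx hy => exact ha _ _ hx hy

lemma bwd_fwd (t : X₁ A A' M) : bwd M (fwd M t) = t := by
  induction t using X₁_induction with
  | h0 => rw [map_zero, map_zero]
  | ht b a' m =>
    rw [fwd_tr, bwd_tm, ← tr_bal]
    congr 1
    change ((b ⊗ₜ[A] (1 : A')) * ((1 : B) ⊗ₜ[A] a')) = _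
    rw [Algebra.TensorProduct.tmul_mul_tmul, mul_one, one_mul]
  | ha x y hx hy => rw [map_add, map_add, hx, hy]

lemma fwd_bwd (t : X₂ A A' M) : fwd M (bwd M t) = t := by
  induction t using X₂_induction with
  | h0 => rw [map_zero, map_zero]
  | ht a' m => rw [bwd_tm, fwd_tr, one_smul]
  | ha x y hx hy => rw [map_add, map_add, hx, hy]

lemma bwd_smul (a₀ : A') (t : X₂ A A' M) : bwd M (a₀ • t) = a₀ • bwd M t := by
  induction t using X₂_induction with
  | h0 => rw [smul_zero, map_zero, smul_zero]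
  | ht a' m =>
    rw [tm_smul, bwd_tm, bwd_tm, tr_smul]
    congr 1
    change _ = (((1 : B) ⊗ₜ[A] a₀) * ((1 : B) ⊗ₜ[A] a'))
    rw [Algebra.TensorProduct.tmul_mul_tmul, one_mul]
  | ha x y hx hy => rw [smul_add, map_add, map_add, smul_add, hx, hy]

/-- the `A'`-linear equivalence `A' ⊗_A M ≃ (B ⊗_A A') ⊗_B M`. -/
noncomputable def poEquiv : X₂ A A' M ≃ₗ[A'] X₁ A A' M where
  toFun := bwd M
  map_add' := map_add _
  map_smul' := bwd_smul M
  invFun := fwd M
  left_inv := fwd_bwd M
  right_inv := bwd_fwd M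

variable (A B A') in
/-- **base change along a pushout**: `res_{A'} ∘ ext_{B → B ⊗_A A'} ≅ ext_{A → A'} ∘ res_A`. -/
noncomputable def poIso :
    restrictScalars.{u} (algebraMap A B) ⋙ extendScalars.{u, u, u} (algebraMap A A') ≅
      extendScalars.{u, u, u} (ιB A B A') ⋙ restrictScalars.{u} (ιA' A B A') :=
  NatIso.ofComponents (fun M => (poEquiv M).toModuleIso) (by
    intro M N l
    ext t
    induction t using X₂_induction with
    | h0 => rw [map_zero, map_zero]
    | ht a' m => rfl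
    | ha x y hx hy => rw [map_add, map_add, hx, hy])

end Groth.Agent.Lib.Helper16.PO
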