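import Mathlib
import Groth.Prelude.Def_DerSch
import Groth.Agent.Lib.Helper16.TorBal8
import Groth.Agent.Lib.Helper16.RestrictD3

/-!
# Helper16 — StalkTor1: stalkwise tor amplitude relative to a morphism; composition.
-/

open CategoryTheory CategoryTheory.Limits DerivedCategory AlgebraicGeometry TopologicalSpace Opposite

namespace Groth.Agent.Lib.Helper16.StalkTor

universe u

attribute [local instance] HasDerivedCategory.standard

section

variable (X : Scheme.{u}) (x : X)

noncomputable abbrev F := Coh.structureModule X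

/-- the germ of a section of `O_X`, viewed in the stalk of the structure module -/
noncomputable def gF (U : X.Opens) (hx : x ∈ U) (s : Γ(X, U)) : (F X).presheaf.stalk x :=
  (F X).presheaf.germ U x hx (show (F X).presheaf.obj (op U) from s)

theorem germ_smul_gF (U : X.Opens) (hx : x ∈ U) (r s : Γ(X, U)) :
    X.presheaf.germ U x hx r • gF X x U hx s = gF X x U hx (r * s) :=
  (PresheafOfModules.germ_smul (R := X.presheaf) (F X).val x U hx r
    (show (F X).presheaf.obj (op U) from s)).symm

theorem gF_eq_zero (U : X.Opens) (hx : x ∈ U) (s : Γ(X, U)) (h : gF X x U hx s = 0) :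
    X.presheaf.germ U x hx s = 0 := by
  have h0 : gF X x U hx s = gF X x U hx 0 := by
    rw [h]
    unfold gF
    exact (map_zero _).symm
  obtain ⟨W, hxW, iU, iV, hres⟩ := TopCat.Presheaf.germ_eq (F X).presheaf x hx hx _ _ h0
  have hres' : X.presheaf.map iU.op s = X.presheaf.map iV.op 0 := hres
  rw [← TopCat.Presheaf.germ_res_apply X.presheaf iU x hxW s, hres', map_zero, map_zero]

theorem exists_gF (μ : (F X).presheaf.stalk x) : ∃ (U : X.Opens) (hx : x ∈ U) (s : Γ(X, U)),
    gF X x U hx s = μ := by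
  obtain ⟨U, hx, s, hs⟩ := TopCat.Presheaf.exists_germ_eq (F X).presheaf μ
  exact ⟨U, hx, s, hs⟩

theorem gF_res {U V : X.Opens} (i : U ⟶ V) (hx : x ∈ U) (s : Γ(X, V)) :
    gF X x U hx (X.presheaf.map i.op s) = gF X x V (i.le hx) s :=
  TopCat.Presheaf.germ_res_apply (F X).presheaf i x hx (show (F X).presheaf.obj (op V) from s)

/-- the generator: germ of `1` -/
noncomputable def one : (F X).presheaf.stalk x := gF X x ⊤ trivial 1

theorem smul_one (U : X.Opens) (hx : x ∈ U) (s : Γ(X, U)) :
    X.presheaf.germ U x hx s • one X x = gF X x U hx s := by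
  have h1 : one X x = gF X x U hx 1 := by
    unfold one
    rw [← gF_res X x (homOfLE le_top : U ⟶ ⊤) hx 1, map_one]
  rw [h1, germ_smul_gF, mul_one]

theorem bij : Function.Bijective
    (LinearMap.toSpanSingleton (X.presheaf.stalk x) ((F X).presheaf.stalk x) (one X x)) := by
  constructor
  · rw [← LinearMap.ker_eq_bot, LinearMap.ker_eq_bot']
    intro r hr
    obtain ⟨U, hx, s, rfl⟩ := TopCat.Presheaf.exists_germ_eq X.presheaf r
    rw [LinearMap.toSpanSingleton_apply, smul_one] at hr
    exact gF_eq_zero X x U hx s hr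
  · intro μ
    obtain ⟨U, hx, s, rfl⟩ := exists_gF X x μ
    exact ⟨X.presheaf.germ U x hx s, by rw [LinearMap.toSpanSingleton_apply, smul_one]⟩

/-- the stalk of the structure module is the stalk of the structure sheaf -/
noncomputable def e : X.presheaf.stalk x ≃ₗ[X.presheaf.stalk x] (F X).presheaf.stalk x :=
  LinearEquiv.ofBijective _ (bij X x)

end

section comp

open Groth.Agent.Lib.Helper16.TorAmp Groth.Agent.Lib.Helper16.TorBal

variable {X Y Z : Scheme.{u}} (f : X ⟶ Y) (g : Y ⟶ Z)

/-- the stalk complex of the unit complex is `O_{Y,y}[0]` over `O_{Z,g y}`. -/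
noncomputable def unitStalkIso (y : Y) :
    letI : Algebra (Z.presheaf.stalk (g.base y)) (Y.presheaf.stalk y) :=
      (g.stalkMap y).hom.toAlgebra
    DRing.toD ((DerSch.stalkCxOver g y).obj (DerSch.unitCx Y)) ≅
      Dual.inD (Z.presheaf.stalk (g.base y)) (Y.presheaf.stalk y) := by
  letI : Algebra (Z.presheaf.stalk (g.base y)) (Y.presheaf.stalk y) :=
    (g.stalkMap y).hom.toAlgebra
  have e1 : (DerSch.stalkCxOver g y).obj (DerSch.unitCx Y) ≅
      (HomologicalComplex.single _ (ComplexShape.up ℤ) 0).obj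
        ((DerSch.stalkOver g y).obj (Coh.structureModule Y)) :=
    (HomologicalComplex.singleMapHomologicalComplex (DerSch.stalkOver g y)
      (ComplexShape.up ℤ) 0).app _
  have e2 : (DerSch.stalkOver g y).obj (Coh.structureModule Y) ≅
      ModuleCat.of (Z.presheaf.stalk (g.base y)) (Y.presheaf.stalk y) :=
    (ModuleCat.restrictScalars (g.stalkMap y).hom).mapIso ((e Y y).symm.toModuleIso) ≪≫
      Groth.Agent.Lib.Helper16.RestrictD.ofIsoRestrict.symm
  exact Q.mapIso (e1 ≪≫ (HomologicalComplex.single _ (ComplexShape.up ℤ) 0).mapIso e2) ≪≫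
    (singleFunctorIsoCompQ _ 0).symm.app _

lemma stalkMap_comp_hom (x : X) :
    ((f ≫ g).stalkMap x).hom = (f.stalkMap x).hom.comp (g.stalkMap (f.base x)).hom := by
  rw [Scheme.Hom.stalkMap_comp]
  rfl

/-- the `(f ≫ g)`-stalk is the restriction of the `f`-stalk along the stalk map of `g`. -/
noncomputable def stalkOverCompIso (x : X) :
    DerSch.stalkOver (f ≫ g) x ≅
      DerSch.stalkOver f x ⋙ ModuleCat.restrictScalars.{u} (g.stalkMap (f.base x)).hom :=
  Functor.isoWhiskerLeft (DerSch.stalkFunctor X x)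
    (ModuleCat.restrictScalarsComp'.{u} _ _ _ (stalkMap_comp_hom f g x)) ≪≫
    (Functor.associator _ _ _).symm

/-- complex version. -/
noncomputable def stalkCxOverCompIso (x : X) (K : CochainComplex X.Modules ℤ) :
    (DerSch.stalkCxOver (f ≫ g) x).obj K ≅
      ((ModuleCat.restrictScalars.{u} (g.stalkMap (f.base x)).hom).mapHomologicalComplex
        (ComplexShape.up ℤ)).obj ((DerSch.stalkCxOver f x).obj K) :=
  HomologicalComplex.Hom.isoOfComponents (fun i => (stalkOverCompIso f g x).app (K.X i))
    (fun i j _ => ((stalkOverCompIso f g x).hom.naturality (K.d i j)).symm)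

/-- S6187: tor amplitude relative to a composite. -/
theorem hasTorAmplitude_comp (n : ℕ) (hg : DerSch.HasTorDimLE g n)
    (K : CochainComplex X.Modules ℤ) (a b : ℤ) (hK : DerSch.HasTorAmplitude f a b K) :
    DerSch.HasTorAmplitude (f ≫ g) (a - n) b K := by
  intro x
  letI : Algebra (Z.presheaf.stalk (g.base (f.base x))) (Y.presheaf.stalk (f.base x)) :=
    (g.stalkMap (f.base x)).hom.toAlgebra
  have hB : DRing.HasTorAmplitudeIn (Z.presheaf.stalk (g.base (f.base x))) (-(n : ℤ)) 0
      (Dual.inD (Z.presheaf.stalk (g.base (f.base x))) (Y.presheaf.stalk (f.base x))) :=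
    hasTorAmplitudeIn_of_iso (unitStalkIso g (f.base x)) _ _ (hg (f.base x))
  have h1 := torAmp_restrict n hB _ a b (hK x)
  have e1 := Groth.Agent.Lib.Helper16.RestrictD.restrictQIso
    (algebraMap (Z.presheaf.stalk (g.base (f.base x))) (Y.presheaf.stalk (f.base x)))
    ((DerSch.stalkCxOver f x).obj K)
  exact hasTorAmplitudeIn_of_iso (e1 ≪≫ Q.mapIso (stalkCxOverCompIso f g x K).symm) _ _ h1

end comp

end Groth.Agent.Lib.Helper16.StalkTor
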