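import Mathlib
import Groth.Prelude.Def_DCoh4
import Groth.Prelude.Def_DerSch
import Groth.Prelude.Def_DDual2
import Groth.Agent.Lib.Helper16.Sky6
import Groth.Agent.Lib.Helper16.BC1

/-!
# Helper16 — TS1: the stalks of `M~` on `Spec R`; `K~` is K-flat when `K` is
-/

set_option autoImplicit false
universe u
open CategoryTheory CategoryTheory.Limits TopologicalSpace Opposite AlgebraicGeometry

namespace Groth.Agent.Lib.Helper16.Stk

variable (R : CommRingCat.{u}) (x : (Spec (CommRingCat.of R) : Scheme.{u}))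

/-- the right adjoint of `M ↦ (M~)_x`. -/
noncomputable abbrev skyΓ : ModuleCat.{u} ((Spec (CommRingCat.of R)).presheaf.stalk x) ⥤ ModuleCat.{u} R :=
  skyFunctor x ⋙ moduleSpecΓFunctor

/-- `M ↦ (M~)_x` is left adjoint to `N ↦ Γ(sky_x N)`. -/
noncomputable def tildeStkAdj : tilde.functor R ⋙ stk x ⊣ skyΓ R x :=
  (tilde.adjunction (R := R)).comp (stkSkyAdj x)

/-- the canonical ring map `R → O_{Spec R, x}`. -/
noncomputable def ψ : R →+* (Spec (CommRingCat.of R)).presheaf.stalk x :=
  (gr (R := (Spec (CommRingCat.of R)).presheaf) x ⊤ (Opens.mem_top x)).comp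
    (Scheme.ΓSpecIso R).inv.hom

lemma skyΓ_smul_apply (N : ModuleCat.{u} ((Spec (CommRingCat.of R)).presheaf.stalk x)) (r : R)
    (f : (skyΓ R x).obj N) (h : PLift (x ∈ (⊤ : (Spec (CommRingCat.of R)).Opens))) :
    (r • f) h = ψ R x r • f h := rfl

/-- `Γ(sky_x N) ≃ N` as `R`-modules. -/
noncomputable def skyΓEquiv (N : ModuleCat.{u} ((Spec (CommRingCat.of R)).presheaf.stalk x)) :
    (ModuleCat.restrictScalars.{u} (ψ R x)).obj N ≃ₗ[R] (skyΓ R x).obj N where
  toFun n := fun _ => n
  invFun f := f ⟨Opens.mem_top x⟩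
  left_inv _ := rfl
  right_inv _ := rfl
  map_add' _ _ := rfl
  map_smul' _ _ := rfl

/-- the right adjoint of `M ↦ (M~)_x` is restriction of scalars. -/
noncomputable def skyΓIso : ModuleCat.restrictScalars.{u} (ψ R x) ≅ skyΓ R x :=
  NatIso.ofComponents (fun N => (skyΓEquiv R x N).toModuleIso) (fun {_ _} _ => rfl)

/-- **the stalk of `M~` at `x` is `M ⊗_R O_x`, naturally in `M`.** -/
noncomputable def tildeStkIso :
    tilde.functor R ⋙ stk x ≅ ModuleCat.extendScalars.{u, u, u} (ψ R x) :=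
  ((tildeStkAdj R x).ofNatIsoRight (skyΓIso R x).symm).leftAdjointUniq
    (ModuleCat.extendRestrictScalarsAdj (ψ R x))

/-- the complex of stalks of `K~`. -/
noncomputable def tildeStkCxIso (K : DRing.Cx R) :
    stkCx x (((tilde.functor R).mapHomologicalComplex (ComplexShape.up ℤ)).obj K) ≅
      ((ModuleCat.extendScalars.{u, u, u} (ψ R x)).mapHomologicalComplex (ComplexShape.up ℤ)).obj K :=
  (NatIso.mapHomologicalComplex (tildeStkIso R x) (ComplexShape.up ℤ)).app K

/-- **`K~` is K-flat when `K` is.** -/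
theorem tilde_isKFlat (K : DRing.Cx R) (hK : DRing.IsKFlat R K) :
    DCoh.IsKFlat (((tilde.functor R).mapHomologicalComplex (ComplexShape.up ℤ)).obj K) := by
  apply isKFlat_of_forall_stalk
  intro x
  exact Groth.Agent.Lib.Helper16.KF.isKFlat_of_iso (tildeStkCxIso R x K).symm
    (Groth.Agent.Lib.Helper16.BC.isKFlat_extendScalars (ψ R x) K hK)

end Groth.Agent.Lib.Helper16.Stk
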