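import Mathlib
import Groth.Prelude.Def_DDual2
import Groth.Prelude.Def_DTor2
import Groth.Agent.Lib.Helper16.TS1
import Groth.Agent.Lib.Helper16.TorAmp6
import Groth.Agent.Lib.Helper16.KPR1

/-!
# Helper16 — TildeTor: tor amplitude of `M~` on `Spec R` versus tor amplitude of `M`
-/

set_option autoImplicit false
universe u
open CategoryTheory CategoryTheory.Limits AlgebraicGeometry MonoidalCategory

attribute [local instance] HasDerivedCategory.standard

namespace Groth.Agent.Lib.Helper16.TildeTor

open Groth.Agent.Lib.Helper16 Groth.Agent.Lib.Helper16.Stk Groth.Agent.Lib.Helper16.LDer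
  Groth.Agent.Lib.Helper16.TorAmp

variable (R : CommRingCat.{u})

/-- termwise tilde. -/
noncomputable abbrev tildeCx :
    CochainComplex (ModuleCat.{u} R) ℤ ⥤ CochainComplex (Spec (CommRingCat.of R)).Modules ℤ :=
  (tilde.functor R).mapHomologicalComplex (ComplexShape.up ℤ)

/-- tilde of a flat module is a flat `O`-module. -/
lemma isFlat_tilde (N : ModuleCat.{u} R) [Module.Flat R N] :
    FlatMod.IsFlat ((tilde.functor R).obj N) := by
  intro x
  have e := (tildeStkIso R x).app N
  haveI := ext_flat (ψ R x) N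
  exact Module.Flat.of_linearEquiv e.toLinearEquiv

/-- a faithful additive functor reflects zero objects. -/
lemma isZero_of_isZero_tilde (N : ModuleCat.{u} R) (h : IsZero ((tilde.functor R).obj N)) :
    IsZero N := by
  rw [IsZero.iff_id_eq_zero]
  apply (tilde.functor R).map_injective
  rw [CategoryTheory.Functor.map_id, CategoryTheory.Functor.map_zero]
  exact (IsZero.iff_id_eq_zero _).1 h

variable [PreservesFiniteLimits (tilde.functor R)]

/-- the easy direction. -/
theorem flatAmp_of_torAmp (M : DerivedCategory (ModuleCat.{u} R)) (a b : ℤ)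
    (h : DRing.HasTorAmplitudeIn R a b M) :
    DCoh.HasFlatAmplitudeIn a b ((DCoh.tildeD R).obj M) := by
  obtain ⟨E, hE, hfl, ⟨e⟩⟩ := h
  refine ⟨(tildeCx R).obj E, fun i hi => ?_, fun i => ?_, ⟨?_⟩⟩
  · exact Functor.map_isZero (tilde.functor R) (hE i hi)
  · haveI := hfl i
    exact isFlat_tilde R (E.X i)
  · exact ((tilde.functor R).mapDerivedCategoryFactors.app E).symm ≪≫ (DCoh.tildeD R).mapIso e


open DerivedCategory in
/-- `M` is bounded above when `M~` has flat amplitude in `[a, b]`. -/
lemma isLE_of_flatAmp (M : DerivedCategory (ModuleCat.{u} R)) (a b : ℤ)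
    (h : DCoh.HasFlatAmplitudeIn a b ((DCoh.tildeD R).obj M)) : M.IsLE b := by
  obtain ⟨E, hE, -, ⟨e⟩⟩ := h
  rw [DerivedCategory.isLE_iff]
  intro i hi
  let P0 := Q.objPreimage M
  let e0 : Q.obj P0 ≅ M := Q.objObjPreimageIso M
  have h0 : IsZero (E.homology i) := by
    rw [← HomologicalComplex.exactAt_iff_isZero_homology]
    exact HomologicalComplex.ExactAt.of_isZero (hE i (Or.inr hi))
  have h1 : IsZero ((homologyFunctor _ i).obj (Q.obj E)) :=
    IsZero.of_iso h0 ((homologyFunctorFactors _ i).app E)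
  have h2 : IsZero ((homologyFunctor _ i).obj ((DCoh.tildeD R).obj M)) :=
    IsZero.of_iso h1 ((homologyFunctor _ i).mapIso e.symm)
  have e3 : (DCoh.tildeD R).obj M ≅ Q.obj ((tildeCx R).obj P0) :=
    (DCoh.tildeD R).mapIso e0.symm ≪≫ (tilde.functor R).mapDerivedCategoryFactors.app P0
  have h3 : IsZero (((tildeCx R).obj P0).homology i) :=
    IsZero.of_iso h2 (((homologyFunctorFactors _ i).app _).symm ≪≫
      (homologyFunctor _ i).mapIso e3.symm)
  have h4 : IsZero ((tilde.functor R).obj (P0.homology i)) :=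
    IsZero.of_iso h3 ((P0.sc i).mapHomologyIso (tilde.functor R)).symm
  have h5 := isZero_of_isZero_tilde R _ h4
  exact IsZero.of_iso h5 ((homologyFunctor _ i).mapIso e0.symm ≪≫
    (homologyFunctorFactors _ i).app P0)


section Stalk

variable (x : (Spec (CommRingCat.of R) : Scheme.{u}))

/-- the stalk functor on derived categories. -/
noncomputable abbrev stkD : DCoh.D (Spec (CommRingCat.of R)) ⥤
    DerivedCategory (ModuleCat.{u} ((Spec (CommRingCat.of R)).presheaf.stalk x)) :=
  (stk x).mapDerivedCategory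

open DerivedCategory in
/-- the stalk at `x` of an isomorphism `E ≅ P~` in `D(O_X)`. -/
noncomputable def stalkIso (P : DRing.Cx R)
    (E : CochainComplex (Spec (CommRingCat.of R)).Modules ℤ)
    (e : Q.obj E ≅ (DCoh.tildeD R).obj (Q.obj P)) :
    Q.obj ((extCx (ψ R x)).obj P) ≅ Q.obj (stkCx x E) :=
  Q.mapIso (tildeStkCxIso R x P).symm ≪≫
    ((stk x).mapDerivedCategoryFactors.app ((tildeCx R).obj P)).symm ≪≫
    (stkD R x).mapIso (((tilde.functor R).mapDerivedCategoryFactors.app P).symm ≪≫ e.symm) ≪≫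
    (stk x).mapDerivedCategoryFactors.app E

end Stalk

section Ext

variable {A B : Type u} [CommRing A] [CommRing B] (φ : A →+* B)

/-- `(P ⊗ N) ⊗_A B ≅ (P ⊗_A B) ⊗_B (N ⊗_A B)`, termwise on complexes. -/
noncomputable def extTensIso (N : ModuleCat.{u} A) (P : DRing.Cx A) :
    (extCx φ).obj ((tensCx N).obj P) ≅
      (tensCx ((ModuleCat.extendScalars.{u, u, u} φ).obj N)).obj ((extCx φ).obj P) :=
  HomologicalComplex.Hom.isoOfComponents
    (fun i => (Functor.Monoidal.μIso (ModuleCat.extendScalars.{u, u, u} φ) (P.X i) N).symm)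
    (fun i j _ => by
      change (Functor.Monoidal.μIso (ModuleCat.extendScalars.{u, u, u} φ) (P.X i) N).inv ≫
          ((ModuleCat.extendScalars.{u, u, u} φ).map (P.d i j) ▷
            (ModuleCat.extendScalars.{u, u, u} φ).obj N) =
        (ModuleCat.extendScalars.{u, u, u} φ).map (P.d i j ▷ N) ≫
          (Functor.Monoidal.μIso (ModuleCat.extendScalars.{u, u, u} φ) (P.X j) N).inv
      rw [Iso.eq_comp_inv, Category.assoc, Iso.inv_comp_eq]
      exact Functor.LaxMonoidal.μ_natural_left (ModuleCat.extendScalars.{u, u, u} φ)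
        (P.d i j) N)

end Ext


section Key

variable (x : (Spec (CommRingCat.of R) : Scheme.{u}))

open DerivedCategory in
/-- the key stalkwise exactness. -/
lemma exactAt_tens_ext (a b : ℤ) (P : DRing.Cx R) (hPb : DRing.VanishesAbove P b)
    (hproj : ∀ i, Module.Projective R (P.X i))
    (E : CochainComplex (Spec (CommRingCat.of R)).Modules ℤ) (hE : DCoh.VanishesOutside E a b)
    (hfl : ∀ i : ℤ, FlatMod.IsFlat (E.X i))
    (e : Q.obj E ≅ (DCoh.tildeD R).obj (Q.obj P))
    (N' : ModuleCat.{u} ((Spec (CommRingCat.of R)).presheaf.stalk x)) (i : ℤ)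
    (hi : i < a ∨ b < i) :
    ((tensCx N').obj ((extCx (ψ R x)).obj P)).ExactAt i := by
  have hPxb : DRing.VanishesAbove ((extCx (ψ R x)).obj P) b :=
    fun j hj => extCx_isZero _ P j (hPb j hj)
  have hPxproj : ∀ j, Module.Projective _ (((extCx (ψ R x)).obj P).X j) := fun j => by
    haveI := hproj j
    exact ext_projective (ψ R x) (P.X j)
  haveI : ((extCx (ψ R x)).obj P).IsKProjective :=
    isKProjective_of_bddAbove_projective _ b hPxb hPxproj
  obtain ⟨q, hq⟩ := KPR.exists_map_of_isKProjective ((extCx (ψ R x)).obj P) (stkCx x E)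
    (stalkIso R x P E e).hom
  have hqi : QuasiIso q := by
    rw [← isIso_Q_map_iff_quasiIso, hq]
    infer_instance
  have hExb : DRing.VanishesAbove (stkCx x E) b :=
    fun j hj => Functor.map_isZero (stk x) (hE j (Or.inr hj))
  have hPxfl : DRing.TermwiseFlat ((extCx (ψ R x)).obj P) := fun j => by
    haveI := hPxproj j
    infer_instance
  have hExfl : DRing.TermwiseFlat (stkCx x E) := fun j => hfl j x
  have h1 : QuasiIso ((tensCx N').map q) :=
    quasiIso_tensCx_of_flat N' q hqi b hPxb hExb hPxfl hExfl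
  haveI : QuasiIsoAt ((tensCx N').map q) i := h1.quasiIsoAt i
  rw [exactAt_iff_of_quasiIsoAt ((tensCx N').map q) i]
  exact HomologicalComplex.ExactAt.of_isZero
    (Functor.map_isZero (tensorRight N') (Functor.map_isZero (stk x) (hE i hi)))

end Key


open DerivedCategory in
/-- **the hard direction**: if `M~` is represented by a complex of flat `O`-modules in `[a, b]`,
then `M` has tor amplitude in `[a, b]`. -/
theorem torAmp_of_flatAmp (M : DerivedCategory (ModuleCat.{u} R)) (a b : ℤ)
    (h : DCoh.HasFlatAmplitudeIn a b ((DCoh.tildeD R).obj M)) :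
    DRing.HasTorAmplitudeIn R a b M := by
  haveI hLE := isLE_of_flatAmp R M a b h
  obtain ⟨E, hE, hfl, ⟨e⟩⟩ := h
  have hLE' : (Q.obj (Q.objPreimage M)).IsLE b :=
    (TStructure.t).isLE_of_iso (Q.objObjPreimageIso M).symm b
  obtain ⟨P, p, hP, hproj, hp⟩ := PC.exists_projective_resolution (Q.objPreimage M) b hLE'
  have hproj' : ∀ i, Module.Projective R (P.X i) := fun i =>
    haveI := hproj i
    ModuleCat.projective_of_module_projective (P.X i)
  have hPflat : DRing.TermwiseFlat P := fun i => by
    have := hproj' i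
    infer_instance
  have hp' : IsIso (Q.map p) := by
    rw [isIso_Q_map_iff_quasiIso]
    exact hp
  let eP : Q.obj P ≅ M := asIso (Q.map p) ≪≫ Q.objObjPreimageIso M
  refine hasTorAmplitudeIn_of_iso eP a b ?_
  rw [torAmp_iff_exactAt_tensCx P b hP hPflat a b]
  intro N i hi
  rw [HomologicalComplex.exactAt_iff_isZero_homology]
  apply isZero_of_isZero_tilde R
  refine IsZero.of_iso ?_ ((((tensCx N).obj P).sc i).mapHomologyIso (tilde.functor R)).symm
  change IsZero (((tildeCx R).obj ((tensCx N).obj P)).homology i)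
  refine isZero_of_forall_isZero_stalk _ (fun x => ?_)
  refine IsZero.of_iso ?_
    (((((tildeCx R).obj ((tensCx N).obj P)).sc i).mapHomologyIso (stk x)).symm)
  change IsZero ((stkCx x ((tildeCx R).obj ((tensCx N).obj P))).homology i)
  rw [← HomologicalComplex.exactAt_iff_isZero_homology]
  have e' := tildeStkCxIso R x ((tensCx N).obj P) ≪≫ extTensIso (ψ R x) N P
  exact (exactAt_tens_ext R x a b P hP hproj' E hE hfl
    (e ≪≫ (DCoh.tildeD R).mapIso eP.symm) _ i hi).of_iso e'.symm

/-- **S7243.** -/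
theorem flatAmp_iff_torAmp (M : DerivedCategory (ModuleCat.{u} R)) (a b : ℤ) :
    DCoh.HasFlatAmplitudeIn a b ((DCoh.tildeD R).obj M) ↔ DRing.HasTorAmplitudeIn R a b M :=
  ⟨torAmp_of_flatAmp R M a b, flatAmp_of_torAmp R M a b⟩

end Groth.Agent.Lib.Helper16.TildeTor
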