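import Mathlib
import Groth.Agent.Lib.Helper16.TildeTor

/-!
# Helper16 — TildeLoc: the ring maps `R → O_{Spec R, x}`: flatness, localization property,
joint conservativity, compatibility with `Spec.map`
-/

set_option autoImplicit false
universe u
open CategoryTheory CategoryTheory.Limits TopologicalSpace Opposite AlgebraicGeometry

namespace Groth.Agent.Lib.Helper16.TildeLoc

open Groth.Agent.Lib.Helper16 Groth.Agent.Lib.Helper16.Stk

section General

variable {R S : Type u} [CommRing R] [CommRing S] [Algebra R S]

/-- restriction of scalars along a localization is full. -/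
lemma full_restrictScalars_of_isLocalization (M : Submonoid R) [IsLocalization M S] :
    (ModuleCat.restrictScalars.{u} (algebraMap R S)).Full := by
  refine ⟨fun {N₁ N₂} g => ?_⟩
  letI : Module R N₁ := Module.compHom N₁ (algebraMap R S)
  letI : Module R N₂ := Module.compHom N₂ (algebraMap R S)
  haveI : IsScalarTower R S N₁ := IsScalarTower.of_algebraMap_smul fun _ _ => rfl
  haveI : IsScalarTower R S N₂ := IsScalarTower.of_algebraMap_smul fun _ _ => rfl
  let g' : N₁ →ₗ[R] N₂ := g.hom
  exact ⟨ModuleCat.ofHom (LinearMap.extendScalarsOfIsLocalization M S g'), rfl⟩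

/-- for a localization `R → S`, every `S`-module is the base change of its restriction. -/
lemma nonempty_ext_res_iso_of_isLocalization (M : Submonoid R) [IsLocalization M S]
    (N' : ModuleCat.{u} S) :
    Nonempty ((ModuleCat.extendScalars.{u, u, u} (algebraMap R S)).obj
      ((ModuleCat.restrictScalars.{u} (algebraMap R S)).obj N') ≅ N') := by
  haveI := full_restrictScalars_of_isLocalization (S := S) M
  haveI : IsIso (ModuleCat.extendRestrictScalarsAdj.{u, u, u} (algebraMap R S)).counit :=
    inferInstance
  exact ⟨asIso ((ModuleCat.extendRestrictScalarsAdj.{u, u, u} (algebraMap R S)).counit.app N')⟩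

end General

variable (R : CommRingCat.{u}) (x : (Spec (CommRingCat.of R) : Scheme.{u}))

/-- `R → O_{Spec R, x}` is flat. -/
lemma flat_ψ : (ψ R x).Flat := by
  let p : PrimeSpectrum R := x
  letI k : Algebra R ((Spec (CommRingCat.of R)).presheaf.stalk x) :=
    StructureSheaf.stalkAlgebra R p
  haveI : IsLocalization.AtPrime ((Spec (CommRingCat.of R)).presheaf.stalk x) p.asIdeal :=
    StructureSheaf.IsLocalization.to_stalk R p
  have h : ψ R x = algebraMap R ((Spec (CommRingCat.of R)).presheaf.stalk x) := rfl
  rw [h, RingHom.flat_algebraMap_iff]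
  exact IsLocalization.flat _ p.asIdeal.primeCompl

/-- every module over `O_{Spec R, x}` is the base change of its restriction to `R`. -/
lemma nonempty_ext_res_iso (N' : ModuleCat.{u} ((Spec (CommRingCat.of R)).presheaf.stalk x)) :
    Nonempty ((ModuleCat.extendScalars.{u, u, u} (ψ R x)).obj
      ((ModuleCat.restrictScalars.{u} (ψ R x)).obj N') ≅ N') := by
  let p : PrimeSpectrum R := x
  letI k : Algebra R ((Spec (CommRingCat.of R)).presheaf.stalk x) :=
    StructureSheaf.stalkAlgebra R p
  haveI : IsLocalization.AtPrime ((Spec (CommRingCat.of R)).presheaf.stalk x) p.asIdeal :=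
    StructureSheaf.IsLocalization.to_stalk R p
  exact nonempty_ext_res_iso_of_isLocalization p.asIdeal.primeCompl N'

/-- the base changes to the stalks are jointly conservative. -/
lemma isZero_of_forall_isZero_ext (Y : ModuleCat.{u} R)
    (h : ∀ x : (Spec (CommRingCat.of R) : Scheme.{u}),
      IsZero ((ModuleCat.extendScalars.{u, u, u} (ψ R x)).obj Y)) : IsZero Y := by
  apply TildeTor.isZero_of_isZero_tilde R
  apply isZero_of_forall_isZero_stalk
  intro x
  exact IsZero.of_iso (h x) ((tildeStkIso R x).app Y)

/-- compatibility of `ψ` with `Spec.map`. -/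
lemma ψ_comp {R A : CommRingCat.{u}} (φ : R ⟶ A) (x : (Spec (CommRingCat.of A) : Scheme.{u})) :
    (ψ A x).comp φ.hom =
      ((Spec.map φ).stalkMap x).hom.comp (ψ R ((Spec.map φ).base x)) := by
  have h1 := Scheme.ΓSpecIso_inv_naturality φ
  have h2 := Scheme.Hom.germ_stalkMap (Spec.map φ) ⊤ x trivial
  have h3 : φ ≫ (Scheme.ΓSpecIso A).inv ≫ (Spec A).presheaf.germ ⊤ x trivial =
      ((Scheme.ΓSpecIso R).inv ≫ (Spec R).presheaf.germ ⊤ ((Spec.map φ).base x) trivial) ≫
        (Spec.map φ).stalkMap x := by
    rw [Category.assoc, h2, ← Category.assoc, ← Category.assoc, h1]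
    rfl
  exact congrArg CommRingCat.Hom.hom h3

end Groth.Agent.Lib.Helper16.TildeLoc
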