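import Mathlib
import Groth.Agent.Lib.Helper16.TorAmp7
import Groth.Agent.Lib.Helper16.LTC2
import Groth.Agent.Lib.Helper16.PC12
import Groth.Agent.Lib.Helper16.KF8

/-!
# Helper16 — TorLoc1: the balanced criterion for tor amplitude

For a complex `X` of `A`-modules, `X` has tor amplitude in `[a, b]` iff for every module `N` and
(some / every) K-flat resolution `F → N[0]`, the complex `X ⊗ F` is exact outside `[a, b]`.
-/

set_option autoImplicit false

open CategoryTheory CategoryTheory.Limits MonoidalCategory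

namespace Groth.Agent.Lib.Helper16.TorLoc

universe u

open DerivedCategory Groth.Agent.Lib.Helper16.KF

attribute [local instance] HasDerivedCategory.standard

variable {A : Type u} [CommRing A]

/-- the module `N` as a complex in degree `0`. -/
noncomputable abbrev sgl (N : ModuleCat.{u} A) : DRing.Cx A :=
  (CochainComplex.singleFunctor (ModuleCat.{u} A) 0).obj N

/-- bounded above projective resolutions of cohomologically bounded above complexes. -/
lemma exists_bddAbove_projective_resolution (X : DRing.Cx A) (b : ℤ)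
    (hb : ∀ i : ℤ, b < i → X.ExactAt i) :
    ∃ (P : DRing.Cx A) (p : P ⟶ X), DRing.VanishesAbove P b ∧
      (∀ i, Module.Projective A (P.X i)) ∧ QuasiIso p := by
  haveI : X.IsLE b := (CochainComplex.isLE_iff X b).2 hb
  obtain ⟨P, p, hP, hproj, hp⟩ := PC.exists_projective_resolution X b
    ((DerivedCategory.isLE_Q_obj_iff X b).2 inferInstance)
  exact ⟨P, p, hP, fun i => (IsProjective.iff_projective (R := A) (P := P.X i)).2 (hproj i), hp⟩

/-- **tor amplitude in `[a, b]` gives exactness of `X ⊗ F` outside `[a, b]`** for every K-flat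
resolution `F` of a module. -/
theorem exactAt_tensor_of_torAmp (X : DRing.Cx A) (a b : ℤ)
    (h : DRing.HasTorAmplitudeIn A a b (DRing.toD X)) (N : ModuleCat.{u} A) (F : DRing.Cx A)
    (f : F ⟶ sgl N) [QuasiIso f] (hF : DRing.IsKFlat A F) (i : ℤ) (hi : i < a ∨ b < i) :
    (X ⊗ F).ExactAt i := by
  obtain ⟨P, p, hPb, hproj, hp⟩ := exists_bddAbove_projective_resolution X b
    (fun j hj => TorAmp.exactAt_of_torAmp X a b h j (Or.inr hj))
  haveI := hp
  have hPfl : DRing.TermwiseFlat P := TorAmp.termwiseFlat_of_projective P hproj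
  have hPK : DRing.IsKFlat A P := isKFlat_of_boundedAbove P b hPb hPfl
  have hP : DRing.HasTorAmplitudeIn A a b (DRing.toD P) := by
    haveI : IsIso (Q.map p) := by rw [isIso_Q_map_iff_quasiIso]; infer_instance
    exact TorAmp.hasTorAmplitudeIn_of_iso (asIso (Q.map p)).symm a b h
  rw [← exactAt_tensor_iff_of_resolutions p hPK f hF i]
  exact (exactAt_iff_of_iso (tensorSingleIso P N) i).1
    ((TorAmp.torAmp_iff_exactAt_tensCx P b hPb hPfl a b).1 hP N i hi)

/-- the unit complex is a K-flat resolution of the unit module. -/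
lemma exactAt_of_exactAt_tensor_unit (X : DRing.Cx A) (F : DRing.Cx A)
    (f : F ⟶ sgl (ModuleCat.of A A)) [QuasiIso f] (hF : DRing.IsKFlat A F) (i : ℤ)
    (h : (X ⊗ F).ExactAt i) : X.ExactAt i := by
  have hS : DRing.IsKFlat A (sgl (ModuleCat.of A A)) := by
    haveI : Module.Flat A ((sgl (ModuleCat.of A A)).X 0) :=
      Module.Flat.of_linearEquiv
        (HomologicalComplex.singleObjXSelf (ComplexShape.up ℤ) 0 (ModuleCat.of A A)).toLinearEquiv
    exact isKFlat_of_concentrated _ 0
      (fun j hj => HomologicalComplex.isZero_single_obj_X _ _ _ _ hj)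
  haveI := quasiIso_whiskerLeft_of_isKFlat_of_isKFlat hF hS f X
  have h1 : (X ⊗ sgl (ModuleCat.of A A)).ExactAt i :=
    (_root_.exactAt_iff_of_quasiIsoAt (X ◁ f) i).1 h
  have h2 := (exactAt_iff_of_iso (tensorSingleIso X (ModuleCat.of A A)) i).2 h1
  exact h2.of_iso (TorAmp.tensCxUnitIso X)

/-- **the balanced criterion**: if for every module `N` there is a K-flat resolution `F → N[0]`
with `X ⊗ F` exact outside `[a, b]`, then `X` has tor amplitude in `[a, b]`. -/
theorem torAmp_of_exactAt_tensor (X : DRing.Cx A) (a b : ℤ)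
    (h : ∀ N : ModuleCat.{u} A, ∃ (F : DRing.Cx A) (f : F ⟶ sgl N), QuasiIso f ∧
      DRing.IsKFlat A F ∧ ∀ i : ℤ, i < a ∨ b < i → (X ⊗ F).ExactAt i) :
    DRing.HasTorAmplitudeIn A a b (DRing.toD X) := by
  have hXb : ∀ i : ℤ, b < i → X.ExactAt i := by
    intro i hi
    obtain ⟨F, f, hf, hF, hex⟩ := h (ModuleCat.of A A)
    haveI := hf
    exact exactAt_of_exactAt_tensor_unit X F f hF i (hex i (Or.inr hi))
  obtain ⟨P, p, hPb, hproj, hp⟩ := exists_bddAbove_projective_resolution X b hXb
  haveI := hp
  have hPfl : DRing.TermwiseFlat P := TorAmp.termwiseFlat_of_projective P hproj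
  have hPK : DRing.IsKFlat A P := isKFlat_of_boundedAbove P b hPb hPfl
  have hP : DRing.HasTorAmplitudeIn A a b (DRing.toD P) := by
    rw [TorAmp.torAmp_iff_exactAt_tensCx P b hPb hPfl a b]
    intro N i hi
    obtain ⟨F, f, hf, hF, hex⟩ := h N
    haveI := hf
    exact (exactAt_iff_of_iso (tensorSingleIso P N) i).2
      ((exactAt_tensor_iff_of_resolutions p hPK f hF i).2 (hex i hi))
  haveI : IsIso (Q.map p) := by rw [isIso_Q_map_iff_quasiIso]; infer_instance
  exact TorAmp.hasTorAmplitudeIn_of_iso (asIso (Q.map p)) a b hP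

end Groth.Agent.Lib.Helper16.TorLoc
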