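import Mathlib
import Groth.Agent.Lib.Helper16.BC1

/-!
# Helper16 — TorLoc2: base change of `Tot (L ⊗_B (B ⊗_A K))` along a commutative square of rings
-/

set_option autoImplicit false

open CategoryTheory CategoryTheory.Limits MonoidalCategory

namespace Groth.Agent.Lib.Helper16.TorLoc

universe u

open Groth.Agent.Lib.Helper16.BiCx Groth.Agent.Lib.Helper16.BC

variable {A B A' B' : Type u} [CommRing A] [CommRing B] [CommRing A'] [CommRing B']
  (φ : A →+* B) (φ' : A' →+* B') (α : A →+* A') (β : B →+* B') (h : β.comp φ = φ'.comp α)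

/-- the two ways of extending scalars from `A` to `B'` along a commutative square. -/
noncomputable def extSq :
    ModuleCat.extendScalars.{u, u, u} α ⋙ ModuleCat.extendScalars.{u, u, u} φ' ≅
      ModuleCat.extendScalars.{u, u, u} φ ⋙ ModuleCat.extendScalars.{u, u, u} β :=
  (ModuleCat.extendScalarsComp α φ').symm ≪≫ eqToIso (by rw [h]) ≪≫
    ModuleCat.extendScalarsComp φ β

/-- base change of `M ⊗_B (B ⊗_A N)`. -/
noncomputable def μSq (M : ModuleCat.{u} B) (N : ModuleCat.{u} A) :
    ((Fext φ').obj ((ModuleCat.extendScalars.{u, u, u} β).obj M)).obj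
        ((ModuleCat.extendScalars.{u, u, u} α).obj N) ≅
      (ModuleCat.extendScalars.{u, u, u} β).obj (((Fext φ).obj M).obj N) :=
  whiskerLeftIso ((ModuleCat.extendScalars.{u, u, u} β).obj M) ((extSq φ φ' α β h).app N) ≪≫
    Functor.Monoidal.μIso (ModuleCat.extendScalars.{u, u, u} β) M
      ((ModuleCat.extendScalars.{u, u, u} φ).obj N)

lemma μSq_natL {M M' : ModuleCat.{u} B} (f : M ⟶ M') (N : ModuleCat.{u} A) :
    ((Fext φ').map ((ModuleCat.extendScalars.{u, u, u} β).map f)).app
        ((ModuleCat.extendScalars.{u, u, u} α).obj N) ≫ (μSq φ φ' α β h M' N).hom =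
      (μSq φ φ' α β h M N).hom ≫
        (ModuleCat.extendScalars.{u, u, u} β).map (((Fext φ).map f).app N) := by
  change ((ModuleCat.extendScalars.{u, u, u} β).map f ▷ _) ≫
      ((ModuleCat.extendScalars.{u, u, u} β).obj M' ◁ (extSq φ φ' α β h).hom.app N) ≫
        Functor.LaxMonoidal.μ (ModuleCat.extendScalars.{u, u, u} β) M' _ =
    (((ModuleCat.extendScalars.{u, u, u} β).obj M ◁ (extSq φ φ' α β h).hom.app N) ≫
        Functor.LaxMonoidal.μ (ModuleCat.extendScalars.{u, u, u} β) M _) ≫
      (ModuleCat.extendScalars.{u, u, u} β).map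
        (f ▷ (ModuleCat.extendScalars.{u, u, u} φ).obj N)
  rw [Category.assoc, ← Functor.LaxMonoidal.μ_natural_left, ← Category.assoc, ← Category.assoc]
  congr 1
  exact (whisker_exchange _ _).symm

lemma μSq_natR (M : ModuleCat.{u} B) {N N' : ModuleCat.{u} A} (g : N ⟶ N') :
    ((Fext φ').obj ((ModuleCat.extendScalars.{u, u, u} β).obj M)).map
        ((ModuleCat.extendScalars.{u, u, u} α).map g) ≫ (μSq φ φ' α β h M N').hom =
      (μSq φ φ' α β h M N).hom ≫
        (ModuleCat.extendScalars.{u, u, u} β).map (((Fext φ).obj M).map g) := by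
  change ((ModuleCat.extendScalars.{u, u, u} β).obj M ◁
        (ModuleCat.extendScalars.{u, u, u} φ').map
          ((ModuleCat.extendScalars.{u, u, u} α).map g)) ≫
      ((ModuleCat.extendScalars.{u, u, u} β).obj M ◁ (extSq φ φ' α β h).hom.app N') ≫
        Functor.LaxMonoidal.μ (ModuleCat.extendScalars.{u, u, u} β) M _ =
    (((ModuleCat.extendScalars.{u, u, u} β).obj M ◁ (extSq φ φ' α β h).hom.app N) ≫
        Functor.LaxMonoidal.μ (ModuleCat.extendScalars.{u, u, u} β) M _) ≫
      (ModuleCat.extendScalars.{u, u, u} β).map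
        (M ◁ (ModuleCat.extendScalars.{u, u, u} φ).map g)
  have hn := (extSq φ φ' α β h).hom.naturality g
  simp only [Functor.comp_map] at hn
  rw [Category.assoc, ← Functor.LaxMonoidal.μ_natural_right, ← Category.assoc, ← Category.assoc,
    ← MonoidalCategory.whiskerLeft_comp, ← MonoidalCategory.whiskerLeft_comp, hn]

instance (n : ℤ) : PreservesColimitsOfShape (Discrete (Groth.Agent.Lib.Helper16.KF.Idx n))
    (ModuleCat.extendScalars.{u, u, u} β) := by
  have : PreservesColimitsOfSize.{0, 0} (ModuleCat.extendScalars.{u, u, u} β) :=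
    (ModuleCat.extendRestrictScalarsAdj.{u, u, u} β).leftAdjoint_preservesColimits
  infer_instance

/-- **base change of `Tot (L ⊗_B (B ⊗_A K))` along a commutative square of rings.** -/
noncomputable def extTotIso (L : CochainComplex (ModuleCat.{u} B) ℤ)
    (K : CochainComplex (ModuleCat.{u} A) ℤ) :
    T (Fext φ')
      (((ModuleCat.extendScalars.{u, u, u} β).mapHomologicalComplex (ComplexShape.up ℤ)).obj L)
      (((ModuleCat.extendScalars.{u, u, u} α).mapHomologicalComplex (ComplexShape.up ℤ)).obj K) ≅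
    ((ModuleCat.extendScalars.{u, u, u} β).mapHomologicalComplex (ComplexShape.up ℤ)).obj
      (T (Fext φ) L K) :=
  cmpIso (Fext φ) (Fext φ') (ModuleCat.extendScalars.{u, u, u} β)
    (ModuleCat.extendScalars.{u, u, u} α) (ModuleCat.extendScalars.{u, u, u} β)
    (μSq φ φ' α β h) (fun f N => μSq_natL φ φ' α β h f N) (fun M _ _ g => μSq_natR φ φ' α β h M g)
    L K

end Groth.Agent.Lib.Helper16.TorLoc
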