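import Mathlib
import Groth.Agent.Lib.Helper16.TorLoc1
import Groth.Agent.Lib.Helper16.TorLoc2
import Groth.Agent.Lib.Helper16.KD6

/-!
# Helper16 — TorLoc3: tor amplitude of a restriction of scalars, via `Tot (X ⊗_B (B ⊗_A F))`;
going down / up along commutative squares of rings with flat vertical maps
-/

set_option autoImplicit false

open CategoryTheory CategoryTheory.Limits MonoidalCategory

namespace Groth.Agent.Lib.Helper16.TorLoc

universe u

open DerivedCategory Groth.Agent.Lib.Helper16.BiCx Groth.Agent.Lib.Helper16.BC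
  Groth.Agent.Lib.Helper16.KF

attribute [local instance] HasDerivedCategory.standard

section Mixed

variable {A B : Type u} [CommRing A] [CommRing B] (φ : A →+* B)

/-- restriction of scalars, on complexes. -/
noncomputable abbrev resCx : DRing.Cx B ⥤ DRing.Cx A :=
  (ModuleCat.restrictScalars.{u} φ).mapHomologicalComplex (ComplexShape.up ℤ)

/-- extension of scalars, on complexes. -/
noncomputable abbrev extCx : DRing.Cx A ⥤ DRing.Cx B :=
  (ModuleCat.extendScalars.{u, u, u} φ).mapHomologicalComplex (ComplexShape.up ℤ)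

lemma exactAt_resCx_iff (L : DRing.Cx B) (i : ℤ) :
    ((resCx φ).obj L).ExactAt i ↔ L.ExactAt i := by
  have e := (L.sc i).mapHomologyIso (ModuleCat.restrictScalars.{u} φ)
  rw [HomologicalComplex.exactAt_iff_isZero_homology, HomologicalComplex.exactAt_iff_isZero_homology]
  constructor
  · intro h
    have h1 : IsZero ((ModuleCat.restrictScalars.{u} φ).obj (L.homology i)) := IsZero.of_iso h e.symm
    rw [ModuleCat.isZero_iff_subsingleton] at h1 ⊢
    exact h1
  · intro h
    exact IsZero.of_iso ((ModuleCat.restrictScalars.{u} φ).map_isZero h) e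

/-- `res (Tot (X ⊗_B ext F))` is exact at `i` iff `res X ⊗_A F` is. -/
lemma exactAt_Fext_iff (X : DRing.Cx B) (F : DRing.Cx A) (i : ℤ) :
    (T (Fext φ) X F).ExactAt i ↔ ((resCx φ).obj X ⊗ F).ExactAt i := by
  rw [← exactAt_resCx_iff φ]
  exact (exactAt_iff_of_iso (resTensorExtIso φ X F) i).symm

/-- **mixed criterion, necessity.** -/
theorem exactAt_Fext_of_torAmp (X : DRing.Cx B) (a b : ℤ)
    (h : DRing.HasTorAmplitudeIn A a b (DRing.toD ((resCx φ).obj X))) (N : ModuleCat.{u} A)
    (F : DRing.Cx A) (f : F ⟶ sgl N) [QuasiIso f] (hF : DRing.IsKFlat A F) (i : ℤ)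
    (hi : i < a ∨ b < i) : (T (Fext φ) X F).ExactAt i :=
  (exactAt_Fext_iff φ X F i).2 (exactAt_tensor_of_torAmp _ a b h N F f hF i hi)

/-- **mixed criterion, sufficiency.** -/
theorem torAmp_of_exactAt_Fext (X : DRing.Cx B) (a b : ℤ)
    (h : ∀ N : ModuleCat.{u} A, ∃ (F : DRing.Cx A) (f : F ⟶ sgl N), QuasiIso f ∧
      DRing.IsKFlat A F ∧ ∀ i : ℤ, i < a ∨ b < i → (T (Fext φ) X F).ExactAt i) :
    DRing.HasTorAmplitudeIn A a b (DRing.toD ((resCx φ).obj X)) := by
  refine torAmp_of_exactAt_tensor _ a b (fun N => ?_)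
  obtain ⟨F, f, hf, hF, hex⟩ := h N
  exact ⟨F, f, hf, hF, fun i hi => (exactAt_Fext_iff φ X F i).1 (hex i hi)⟩

/-- bounded above projective resolutions of modules, as chain maps. -/
lemma exists_resolution_sgl (N : ModuleCat.{u} A) :
    ∃ (F : DRing.Cx A) (f : F ⟶ sgl N), QuasiIso f ∧ DRing.IsKFlat A F ∧
      DRing.VanishesAbove F 0 ∧ ∀ i, Module.Projective A (F.X i) := by
  obtain ⟨P, p, hPb, hproj, hp⟩ := exists_bddAbove_projective_resolution (sgl N) 0
    (fun i hi => exactAt_of_isZero_X _ i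
      (HomologicalComplex.isZero_single_obj_X _ _ _ _ (by omega)))
  exact ⟨P, p, hp, isKFlat_of_boundedAbove P 0 hPb (TorAmp.termwiseFlat_of_projective P hproj),
    hPb, hproj⟩

end Mixed

section Flat

variable {A A' : Type u} [CommRing A] [CommRing A'] (α : A →+* A') (hα : α.Flat)

include hα

lemma preservesHomology_ext_of_flat :
    (ModuleCat.extendScalars.{u, u, u} α).PreservesHomology := by
  haveI := ModuleCat.preservesFiniteLimits_extendScalars_of_flat.{u} hα
  haveI : PreservesFiniteColimits (ModuleCat.extendScalars.{u, u, u} α) := by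
    have : PreservesColimitsOfSize.{0, 0} (ModuleCat.extendScalars.{u, u, u} α) :=
      (ModuleCat.extendRestrictScalarsAdj.{u, u, u} α).leftAdjoint_preservesColimits
    infer_instance
  infer_instance

lemma exactAt_extCx_of_flat (K : DRing.Cx A) (i : ℤ) (h : K.ExactAt i) :
    ((extCx α).obj K).ExactAt i := by
  haveI := preservesHomology_ext_of_flat α hα
  exact KD.exactAt_mapHC (ModuleCat.extendScalars.{u, u, u} α) K i h

/-- the base change of a K-flat resolution of `N` is a K-flat resolution of `N ⊗_A A'`. -/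
lemma exists_ext_resolution (N : ModuleCat.{u} A) (F : DRing.Cx A) (f : F ⟶ sgl N) [QuasiIso f]
    (hF : DRing.IsKFlat A F) :
    ∃ f' : (extCx α).obj F ⟶ sgl ((ModuleCat.extendScalars.{u, u, u} α).obj N),
      QuasiIso f' ∧ DRing.IsKFlat A' ((extCx α).obj F) := by
  haveI := preservesHomology_ext_of_flat α hα
  haveI : QuasiIso ((extCx α).map f) := HomologicalComplex.quasiIso_map_of_preservesHomology _ _
  let e : (extCx α).obj (sgl N) ≅ sgl ((ModuleCat.extendScalars.{u, u, u} α).obj N) :=
    (HomologicalComplex.singleMapHomologicalComplex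
      (ModuleCat.extendScalars.{u, u, u} α) (ComplexShape.up ℤ) 0).app N
  haveI : IsIso e.hom := inferInstance
  haveI : QuasiIso e.hom := ⟨fun i => inferInstance⟩
  exact ⟨(extCx α).map f ≫ e.hom, quasiIso_comp _ _, isKFlat_extendScalars α F hF⟩

end Flat

section Square

variable {A B A' B' : Type u} [CommRing A] [CommRing B] [CommRing A'] [CommRing B']
  (φ : A →+* B) (φ' : A' →+* B') (α : A →+* A') (β : B →+* B') (h : β.comp φ = φ'.comp α)

include h in
/-- **going down**: tor amplitude of `res X` passes to `res (X ⊗_B B')` over `A'`, for a commutative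
square with flat vertical maps, when every `A'`-module is the base change of its restriction. -/
theorem torAmp_down (hα : α.Flat) (hβ : β.Flat)
    (hloc : ∀ N' : ModuleCat.{u} A', Nonempty ((ModuleCat.extendScalars.{u, u, u} α).obj
      ((ModuleCat.restrictScalars.{u} α).obj N') ≅ N'))
    (X : DRing.Cx B) (a b : ℤ)
    (hX : DRing.HasTorAmplitudeIn A a b (DRing.toD ((resCx φ).obj X))) :
    DRing.HasTorAmplitudeIn A' a b (DRing.toD ((resCx φ').obj ((extCx β).obj X))) := by
  refine torAmp_of_exactAt_Fext φ' _ a b (fun N' => ?_)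
  obtain ⟨e⟩ := hloc N'
  obtain ⟨F, f, hf, hF, -, -⟩ := exists_resolution_sgl ((ModuleCat.restrictScalars.{u} α).obj N')
  haveI := hf
  obtain ⟨f', hf', hF'⟩ := exists_ext_resolution α hα _ F f hF
  haveI := hf'
  refine ⟨(extCx α).obj F,
    f' ≫ (CochainComplex.singleFunctor (ModuleCat.{u} A') 0).map e.hom, inferInstance, hF',
    fun i hi => ?_⟩
  refine (exactAt_iff_of_iso (extTotIso φ φ' α β h X F) i).2 ?_
  exact exactAt_extCx_of_flat β hβ _ i (exactAt_Fext_of_torAmp φ X a b hX _ F f hF i hi)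

/-- **going up**: tor amplitude of `res X` over `A` can be checked after a jointly conservative
family of flat base changes. -/
theorem torAmp_up {ι : Type*} {A' B' : ι → Type u} [∀ j, CommRing (A' j)] [∀ j, CommRing (B' j)]
    (φ' : ∀ j, A' j →+* B' j) (α : ∀ j, A →+* A' j) (β : ∀ j, B →+* B' j)
    (h : ∀ j, (β j).comp φ = (φ' j).comp (α j)) (hα : ∀ j, (α j).Flat) (hβ : ∀ j, (β j).Flat)
    (hcons : ∀ Y : ModuleCat.{u} B,
      (∀ j, IsZero ((ModuleCat.extendScalars.{u, u, u} (β j)).obj Y)) → IsZero Y)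
    (X : DRing.Cx B) (a b : ℤ)
    (hX : ∀ j, DRing.HasTorAmplitudeIn (A' j) a b
      (DRing.toD ((resCx (φ' j)).obj ((extCx (β j)).obj X)))) :
    DRing.HasTorAmplitudeIn A a b (DRing.toD ((resCx φ).obj X)) := by
  refine torAmp_of_exactAt_Fext φ _ a b (fun N => ?_)
  obtain ⟨F, f, hf, hF, -, -⟩ := exists_resolution_sgl N
  haveI := hf
  refine ⟨F, f, hf, hF, fun i hi => ?_⟩
  rw [HomologicalComplex.exactAt_iff_isZero_homology]
  refine hcons _ (fun j => ?_)
  haveI := preservesHomology_ext_of_flat (β j) (hβ j)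
  refine IsZero.of_iso ?_ (((T (Fext φ) X F).sc i).mapHomologyIso
    (ModuleCat.extendScalars.{u, u, u} (β j))).symm
  change IsZero (((extCx (β j)).obj (T (Fext φ) X F)).homology i)
  rw [← HomologicalComplex.exactAt_iff_isZero_homology]
  refine (exactAt_iff_of_iso (extTotIso φ (φ' j) (α j) (β j) (h j) X F) i).1 ?_
  obtain ⟨f', hf', hF'⟩ := exists_ext_resolution (α j) (hα j) N F f hF
  haveI := hf'
  exact exactAt_Fext_of_torAmp (φ' j) _ a b (hX j) _ _ f' hF' i hi

end Square

end Groth.Agent.Lib.Helper16.TorLoc
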