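import Mathlib
import Groth.Agent.Lib.Helper16.TorLoc3

/-!
# Helper16 — TorLoc4: tor amplitude of `res (E ⊗_B L)` for `E` a bounded complex of flat
`B`-modules and `res L` of finite tor amplitude over `A`
-/

set_option autoImplicit false

open CategoryTheory CategoryTheory.Limits MonoidalCategory

namespace Groth.Agent.Lib.Helper16.TorLoc

universe u

open DerivedCategory Groth.Agent.Lib.Helper16.BiCx Groth.Agent.Lib.Helper16.BC
  Groth.Agent.Lib.Helper16.KF

attribute [local instance] HasDerivedCategory.standard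

variable {B : Type u} [CommRing B]

/-- **amplitude of a tensor product**: `E` a complex of flat modules in `[a, b]`, `Y` exact outside
`[c, d]`; then `E ⊗ Y` is exact outside `[a + c, b + d]`. -/
theorem exactAt_tensor_of_bounded_flat (E Y : DRing.Cx B) (a b c d : ℤ)
    (hE : DRing.VanishesOutside E a b) (hfl : DRing.TermwiseFlat E)
    (hY : ∀ i : ℤ, i < c ∨ d < i → Y.ExactAt i) (i : ℤ) (hi : i < a + c ∨ b + d < i) :
    (E ⊗ Y).ExactAt i := by
  have hEK : DRing.IsKFlat B E :=
    isKFlat_of_boundedAbove E b (fun j hj => hE j (Or.inr hj)) hfl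
  by_cases hcd : c ≤ d
  · haveI : Y.IsLE d := (CochainComplex.isLE_iff Y d).2 (fun j hj => hY j (Or.inr hj))
    haveI : QuasiIso (Y.ιTruncLE d) := (CochainComplex.quasiIso_ιTruncLE_iff Y d).2 inferInstance
    let Y' := Y.truncLE d
    have hY' : ∀ j : ℤ, j < c → Y'.ExactAt j := fun j hj => by
      haveI : QuasiIsoAt (Y.ιTruncLE d) j := (inferInstance : QuasiIso (Y.ιTruncLE d)).quasiIsoAt j
      exact (_root_.exactAt_iff_of_quasiIsoAt (Y.ιTruncLE d) j).2 (hY j (Or.inl hj))
    haveI : Y'.IsGE c := (CochainComplex.isGE_iff Y' c).2 hY'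
    haveI : QuasiIso (Y'.πTruncGE c) := (CochainComplex.quasiIso_πTruncGE_iff Y' c).2 inferInstance
    haveI := quasiIso_whiskerLeft_of_isKFlat hEK (Y.ιTruncLE d)
    haveI := quasiIso_whiskerLeft_of_isKFlat hEK (Y'.πTruncGE c)
    rw [← _root_.exactAt_iff_of_quasiIsoAt (E ◁ Y.ιTruncLE d) i,
      _root_.exactAt_iff_of_quasiIsoAt (E ◁ Y'.πTruncGE c) i]
    apply exactAt_of_isZero_X
    apply isZero_tensor_X
    intro p q hpq
    by_cases hp : p < a ∨ b < p
    · exact Or.inl (hE p hp)
    · right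
      by_cases hq : q < c
      · exact (Y'.truncGE c).isZero_of_isStrictlyGE c q hq
      · have hq' : d < q := by omega
        exact IsZero.of_iso ((Y.truncLE d).isZero_of_isStrictlyLE d q hq')
          (Y'.truncGEXIso c q (by omega))
  · have hYa : KF.Acyc Y := fun j => by
      rw [← HomologicalComplex.exactAt_iff_isZero_homology]
      exact hY j (by omega)
    rw [HomologicalComplex.exactAt_iff_isZero_homology]
    exact acyc_tensor_left_of_isKFlat hEK Y hYa i

variable {A : Type u} [CommRing A] (φ : A →+* B)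

/-- `Tot (X ⊗_B ext F)` in monoidal form. -/
noncomputable def fextIso (X : DRing.Cx B) (F : DRing.Cx A) :
    X ⊗ (extCx φ).obj F ≅ T (Fext φ) X F :=
  tensorExtIso φ X F

/-- **tor amplitude of `res (E ⊗_B L)`.** -/
theorem torAmp_restrict_tensor (E L : DRing.Cx B) (a b c d : ℤ)
    (hE : DRing.VanishesOutside E a b) (hfl : DRing.TermwiseFlat E)
    (hL : DRing.HasTorAmplitudeIn A c d (DRing.toD ((resCx φ).obj L))) :
    DRing.HasTorAmplitudeIn A (a + c) (b + d) (DRing.toD ((resCx φ).obj (E ⊗ L))) := by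
  refine torAmp_of_exactAt_Fext φ _ _ _ (fun N => ?_)
  obtain ⟨F, f, hf, hF, -, -⟩ := exists_resolution_sgl N
  haveI := hf
  refine ⟨F, f, hf, hF, fun i hi => ?_⟩
  have hY : ∀ j : ℤ, j < c ∨ d < j → (T (Fext φ) L F).ExactAt j := fun j hj =>
    exactAt_Fext_of_torAmp φ L c d hL N F f hF j hj
  have h1 : (E ⊗ T (Fext φ) L F).ExactAt i :=
    exactAt_tensor_of_bounded_flat E _ a b c d hE hfl hY i hi
  have e : E ⊗ T (Fext φ) L F ≅ T (Fext φ) (E ⊗ L) F :=
    whiskerLeftIso E (fextIso φ L F).symm ≪≫ (α_ E L ((extCx φ).obj F)).symm ≪≫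
      fextIso φ (E ⊗ L) F
  exact (exactAt_iff_of_iso e i).1 h1

end Groth.Agent.Lib.Helper16.TorLoc
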