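import Mathlib
import Groth.Agent.Lib.Helper16.TorLoc4
import Groth.Agent.Lib.Helper16.KPR5
import Groth.Agent.Lib.Helper16.RestrictD3

/-!
# Helper16 — TorLoc5: tor amplitude of `(P ⊗_B C)|_A` for `P` K-flat over `B` with `P|_A` of tor
amplitude `[c, d]` and `C` a `B`-algebra of tor dimension `≤ m`
-/

set_option autoImplicit false

open CategoryTheory CategoryTheory.Limits MonoidalCategory

namespace Groth.Agent.Lib.Helper16.TorLoc

universe u

open DerivedCategory Groth.Agent.Lib.Helper16.KF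

attribute [local instance] HasDerivedCategory.standard

variable {A B C : Type u} [CommRing A] [CommRing B] [CommRing C] (φ : A →+* B) [Algebra B C]

/-- restriction of scalars preserves quasi-isomorphisms. -/
lemma quasiIso_resCx_map {X Y : DRing.Cx B} (f : X ⟶ Y) [QuasiIso f] :
    QuasiIso ((resCx φ).map f) :=
  HomologicalComplex.quasiIso_map_of_preservesHomology _ _

/-- quasi-isomorphic complexes of `B`-modules have the same tor amplitude after restriction. -/
lemma torAmp_resCx_of_quasiIso {X Y : DRing.Cx B} (f : X ⟶ Y) [QuasiIso f] (a b : ℤ) :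
    DRing.HasTorAmplitudeIn A a b (DRing.toD ((resCx φ).obj X)) ↔
      DRing.HasTorAmplitudeIn A a b (DRing.toD ((resCx φ).obj Y)) := by
  haveI := quasiIso_resCx_map φ f
  haveI : IsIso (Q.map ((resCx φ).map f)) := by rw [isIso_Q_map_iff_quasiIso]; infer_instance
  exact ⟨fun h => TorAmp.hasTorAmplitudeIn_of_iso (asIso (Q.map ((resCx φ).map f))) a b h,
    fun h => TorAmp.hasTorAmplitudeIn_of_iso (asIso (Q.map ((resCx φ).map f))).symm a b h⟩

lemma torAmp_resCx_of_iso {X Y : DRing.Cx B} (e : X ≅ Y) (a b : ℤ) :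
    DRing.HasTorAmplitudeIn A a b (DRing.toD ((resCx φ).obj X)) ↔
      DRing.HasTorAmplitudeIn A a b (DRing.toD ((resCx φ).obj Y)) :=
  torAmp_resCx_of_quasiIso φ e.hom a b

/-- **tor amplitude of `(P ⊗_B C)|_A`.** -/
theorem torAmp_restrict_ext (m : ℕ)
    (hC : DRing.HasTorAmplitudeIn B (-(m : ℤ)) 0 (Dual.inD B C))
    (P : DRing.Cx B) (hP : DRing.IsKFlat B P) (c d : ℤ)
    (hPA : DRing.HasTorAmplitudeIn A c d (DRing.toD ((resCx φ).obj P))) :
    DRing.HasTorAmplitudeIn A (c - m) d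
      (DRing.toD ((resCx φ).obj ((resCx (algebraMap B C)).obj ((extCx (algebraMap B C)).obj P)))) := by
  -- `C` as a `B`-module
  let Cm : ModuleCat.{u} B := KPR.asMod (algebraMap B C)
  have hC' : DRing.HasTorAmplitudeIn B (-(m : ℤ)) 0 (DRing.toD (sgl Cm)) :=
    TorAmp.hasTorAmplitudeIn_of_iso
      ((singleFunctor (ModuleCat.{u} B) 0).mapIso RestrictD.ofIsoRestrict ≪≫
        (singleFunctorIsoCompQ (ModuleCat.{u} B) 0).app Cm) _ _ hC
  obtain ⟨E, hE, hEfl, ⟨eE⟩⟩ := hC'
  -- a projective resolution of `C`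
  obtain ⟨E', f', hf', hE'K, hE'b, hE'proj⟩ := exists_resolution_sgl Cm
  haveI := hf'
  haveI : E'.IsKProjective := LDer.isKProjective_of_bddAbove_projective E' 0 hE'b hE'proj
  haveI : IsIso (Q.map f') := by rw [isIso_Q_map_iff_quasiIso]; infer_instance
  obtain ⟨u, hu⟩ := KPR.exists_map_of_isKProjective E' E ((asIso (Q.map f')).hom ≫ eE.inv)
  haveI : QuasiIso u := by
    rw [← isIso_Q_map_iff_quasiIso, hu]
    infer_instance
  haveI := quasiIso_whiskerLeft_of_isKFlat hP f'
  haveI := quasiIso_whiskerLeft_of_isKFlat hP u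
  -- the chain of identifications
  have h1 := torAmp_restrict_tensor φ E P (-(m : ℤ)) 0 c d hE hEfl hPA
  have h2 := (torAmp_resCx_of_iso φ (DTen.braidCx E P) _ _).1 h1
  have h3 := (torAmp_resCx_of_quasiIso φ (P ◁ u) _ _).2 h2
  have h4 := (torAmp_resCx_of_quasiIso φ (P ◁ f') _ _).1 h3
  have h5 := (torAmp_resCx_of_iso φ (tensorSingleIso P Cm) _ _).2 h4
  have h6 := (torAmp_resCx_of_iso φ (KPR.restrictExtCxIso (algebraMap B C) P) _ _).2 h5
  have e1 : -(m : ℤ) + c = c - m := by ring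
  have e2 : (0 : ℤ) + d = d := by ring
  rw [e1, e2] at h6
  exact h6

end Groth.Agent.Lib.Helper16.TorLoc
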