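import Mathlib
import Groth.Agent.Lib.Helper16.TorLoc5

/-!
# Helper16 — TorLoc6: tor amplitude of `((P ⊗_B C) ⊗_C W)|_A` for `A → B → C`, `P` K-flat over `B`
with `P|_A` of tor amplitude `[c, d]` and `W|_B` of tor amplitude `[a, b]`
-/

set_option autoImplicit false

open CategoryTheory CategoryTheory.Limits MonoidalCategory

namespace Groth.Agent.Lib.Helper16.TorLoc

universe u

open DerivedCategory Groth.Agent.Lib.Helper16.KF Groth.Agent.Lib.Helper16.BiCx
  Groth.Agent.Lib.Helper16.BC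

attribute [local instance] HasDerivedCategory.standard

variable {A B C : Type u} [CommRing A] [CommRing B] [CommRing C] (φ : A →+* B) (χ : B →+* C)

/-- the projection formula for complexes: `(W ⊗_C (P ⊗_B C))|_B ≅ W|_B ⊗_B P`. -/
noncomputable def projIso (W : DRing.Cx C) (P : DRing.Cx B) :
    (resCx χ).obj (W ⊗ (extCx χ).obj P) ≅ (resCx χ).obj W ⊗ P :=
  (resCx χ).mapIso (fextIso χ W P) ≪≫ (resTensorExtIso χ W P).symm

/-- **tor amplitude of `((P ⊗_B C) ⊗_C W)|_A`.** -/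
theorem torAmp_restrict_ext_tensor (P : DRing.Cx B) (hP : DRing.IsKFlat B P) (c d : ℤ)
    (hPA : DRing.HasTorAmplitudeIn A c d (DRing.toD ((resCx φ).obj P)))
    (W : DRing.Cx C) (a b : ℤ)
    (hW : DRing.HasTorAmplitudeIn B a b (DRing.toD ((resCx χ).obj W))) :
    DRing.HasTorAmplitudeIn A (a + c) (b + d)
      (DRing.toD ((resCx φ).obj ((resCx χ).obj ((extCx χ).obj P ⊗ W)))) := by
  have hWb : ∀ j : ℤ, b < j → ((resCx χ).obj W).ExactAt j := fun j hj =>
    TorAmp.exactAt_of_torAmp _ a b hW j (Or.inr hj)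
  obtain ⟨E, hE, hEfl, ⟨eE⟩⟩ := hW
  obtain ⟨E', f', hE'b, hE'proj, hf'⟩ := exists_bddAbove_projective_resolution _ b hWb
  haveI := hf'
  haveI : E'.IsKProjective := LDer.isKProjective_of_bddAbove_projective E' b hE'b hE'proj
  haveI : IsIso (Q.map f') := by rw [isIso_Q_map_iff_quasiIso]; infer_instance
  obtain ⟨u, hu⟩ := KPR.exists_map_of_isKProjective E' E ((asIso (Q.map f')).hom ≫ eE.inv)
  haveI : QuasiIso u := by
    rw [← isIso_Q_map_iff_quasiIso, hu]
    infer_instance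
  haveI := quasiIso_whiskerLeft_of_isKFlat hP f'
  haveI := quasiIso_whiskerLeft_of_isKFlat hP u
  have h1 := torAmp_restrict_tensor φ E P a b c d hE hEfl hPA
  have h2 := (torAmp_resCx_of_iso φ (DTen.braidCx E P) _ _).1 h1
  have h3 := (torAmp_resCx_of_quasiIso φ (P ◁ u) _ _).2 h2
  have h4 := (torAmp_resCx_of_quasiIso φ (P ◁ f') _ _).1 h3
  have h5 := (torAmp_resCx_of_iso φ (DTen.braidCx P ((resCx χ).obj W)) _ _).1 h4
  have h6 := (torAmp_resCx_of_iso φ (projIso χ W P) _ _).2 h5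
  exact (torAmp_resCx_of_iso φ
    ((resCx χ).mapIso (DTen.braidCx ((extCx χ).obj P) W)) _ _).2 h6

end Groth.Agent.Lib.Helper16.TorLoc
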