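import Mathlib
import Groth.Prelude.Def_DTor2
import Groth.Agent.Lib.Helper16.KD7

/-!
# Helper16 — KD8: flatness and vanishing of `Tor₁`
-/

set_option autoImplicit false
universe u
open CategoryTheory CategoryTheory.Limits AlgebraicGeometry MonoidalCategory

attribute [local instance] HasDerivedCategory.standard

namespace Groth.Agent.Lib.Helper16.KD

open Groth.Agent.Lib.Helper16.BiCx Groth.Agent.Lib.Helper16.Stk

variable {X : Scheme.{u}}

/-- the complex `F[0]`. -/
noncomputable abbrev sgl (F : X.Modules) : CochainComplex X.Modules ℤ :=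
  (CochainComplex.singleFunctor X.Modules 0).obj F

/-- `F[0]` in the derived category. -/
noncomputable def inDIso (F : X.Modules) : DCoh.inD X F ≅ DerivedCategory.Q.obj (sgl F) :=
  (DerivedCategory.singleFunctorIsoCompQ X.Modules 0).app F

lemma isZero_sgl_X (F : X.Modules) (i : ℤ) (hi : i ≠ 0) : IsZero ((sgl F).X i) :=
  HomologicalComplex.isZero_single_obj_X _ _ _ _ hi

/-- a flat module has tor-amplitude in `[0, 0]`. -/
theorem hasTorAmplitudeIn_inD_of_isFlat (F : X.Modules) (hF : FlatMod.IsFlat F) :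
    DCoh.HasTorAmplitudeIn 0 0 (DCoh.inD X F) := by
  have hv : DCoh.VanishesOutside (sgl F) 0 0 := fun i hi => isZero_sgl_X F i (by omega)
  have hfl : ∀ i : ℤ, FlatMod.IsFlat ((sgl F).X i) := by
    intro i
    by_cases h : i = 0
    · subst h
      exact isFlat_of_iso (HomologicalComplex.singleObjXSelf (ComplexShape.up ℤ) 0 F).symm hF
    · exact isFlat_of_isZero (isZero_sgl_X F i h)
  exact hasTorAmplitudeIn_of_isKFlat_of_vanishesOutside (sgl F) 0 0 hv
    (isKFlat_of_vanishesOutside_flat _ 0 0 hv hfl) (inDIso F).symm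

/-- the cokernel of `E^(-1) → E^0` for a resolution `E → F[0]` concentrated in degrees `≤ 0`. -/
noncomputable def cokernelIsoOfResolution (F : X.Modules) (E : CochainComplex X.Modules ℤ)
    [E.IsStrictlyLE 0] (q : E ⟶ sgl F) [QuasiIso q] : cokernel (E.d (-1) 0) ≅ F := by
  have hd : E.d 0 1 = 0 := (E.isZero_of_isStrictlyLE 0 1 (by omega)).eq_of_tgt _ _
  haveI : IsIso (E.homologyι 0) := E.isIso_homologyι 0 1 (by simp) hd
  exact (IsColimit.coconePointUniqueUpToIso (colimit.isColimit _)
    (E.opcyclesIsCokernel (-1) 0 (by simp))) ≪≫ (asIso (E.homologyι 0)).symm ≪≫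
    asIso (HomologicalComplex.homologyMap q 0) ≪≫
    HomologicalComplex.singleObjHomologySelfIso (ComplexShape.up ℤ) 0 F

/-- **a module all of whose `Tor₁` sheaves vanish is flat.** -/
theorem isFlat_of_isZero_tor_one (F : X.Modules)
    (h : ∀ (G : X.Modules) [DCoh.HasLTensorMod G],
      IsZero (DCoh.HD ((DCoh.LTensorMod G).obj (DCoh.inD X F)) (-1))) : FlatMod.IsFlat F := by
  obtain ⟨E, q, hE, hEfl, hq⟩ := exists_boundedAbove_flat_resolution (sgl F) 0
    (fun i hi => HomologicalComplex.ExactAt.of_isZero (isZero_sgl_X F i (by omega)))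
  haveI := hE
  haveI := hq
  have hK : DCoh.IsKFlat E := isKFlat_of_boundedAbove_flat E 0 hE hEfl
  have hc : FlatMod.IsFlat (cokernel (E.d (0 - 1) 0)) := by
    refine isFlat_cokernel_of_exactAt E 0 (hEfl 0) (fun G => ?_)
    haveI := hasLTensorMod G
    rw [HomologicalComplex.exactAt_iff_isZero_homology]
    refine IsZero.of_iso (h G) ((HDQIso _ (0 - 1)).symm ≪≫
      (DerivedCategory.homologyFunctor _ (0 - 1)).mapIso ?_)
    exact (LTensorModIso G E hK).symm ≪≫
      (DCoh.LTensorMod G).mapIso (asIso (DerivedCategory.Q.map q) ≪≫ (inDIso F).symm)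
  exact isFlat_of_iso (cokernelIsoOfResolution F E q) hc

end Groth.Agent.Lib.Helper16.KD
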