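import Mathlib
import Groth.Prelude.Def_DTor2
import Groth.Agent.Lib.Helper16.KD8

/-!
# Helper16 — KD9: tor-amplitude in `[a, b]` implies flat amplitude in `[a, b]`
-/

set_option autoImplicit false
universe u
open CategoryTheory CategoryTheory.Limits AlgebraicGeometry MonoidalCategory

attribute [local instance] HasDerivedCategory.standard

namespace Groth.Agent.Lib.Helper16.KD

open Groth.Agent.Lib.Helper16.BiCx Groth.Agent.Lib.Helper16.Stk

variable {X : Scheme.{u}}

/-- if all `E ⊗ G` are exact in degree `i`, so is `E`. -/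
lemma exactAt_of_forall_tensModCx (E : CochainComplex X.Modules ℤ) (i : ℤ)
    (h : ∀ G : X.Modules, ((tensModCx G).obj E).ExactAt i) : E.ExactAt i := by
  rw [exactAt_iff_forall_stalk]
  intro x
  have h1 := h ((skyFunctor x).obj (𝟙_ _))
  have h2 := exactAt_mapHC (stk x) _ i h1
  have h3 := h2.of_iso (tensModCxStkIso ((skyFunctor x).obj (𝟙_ _)) x E)
  have h4 := (Groth.Agent.Lib.Helper16.KPR.exactAt_tensCx_of_iso
    ((skyStalkIso x).app (𝟙_ _)) _ _).1 h3
  exact h4.of_iso (Groth.Agent.Lib.Helper16.TorAmp.tensCxUnitIso _)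

/-- **flat amplitude from vanishing of the cohomology of all `P ⊗ G` outside `[a, b]`, for a
K-flat complex `P` with flat terms.** -/
theorem exists_flat_amplitude_model (P : CochainComplex X.Modules ℤ) (hP : DCoh.IsKFlat P)
    (hPfl : ∀ i : ℤ, FlatMod.IsFlat (P.X i)) (a b : ℤ) (hab : a ≤ b)
    (h : ∀ (G : X.Modules) (i : ℤ), i < a ∨ b < i → ((tensModCx G).obj P).ExactAt i) :
    ∃ E : CochainComplex X.Modules ℤ, DCoh.VanishesOutside E a b ∧
      (∀ i : ℤ, FlatMod.IsFlat (E.X i)) ∧
      Nonempty (DerivedCategory.Q.obj E ≅ DerivedCategory.Q.obj P) := by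
  have hexP : ∀ i : ℤ, i < a ∨ b < i → P.ExactAt i := fun i hi =>
    exactAt_of_forall_tensModCx P i (fun G => h G i hi)
  -- upper truncation
  have hZ : FlatMod.IsFlat (P.cycles b) := isFlat_cycles_of_exactAt P b hPfl
    (fun i hi => hexP i (Or.inr hi)) (fun G i hi => h G i (Or.inr hi))
  haveI : P.IsLE b := (CochainComplex.isLE_iff P b).2 (fun i hi => hexP i (Or.inr hi))
  haveI : QuasiIso (P.ιTruncLE b) := (CochainComplex.quasiIso_ιTruncLE_iff P b).2 inferInstance
  let T := P.truncLE b
  have hTfl : ∀ i : ℤ, FlatMod.IsFlat (T.X i) := by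
    intro i
    rcases lt_trichotomy i b with h' | h' | h'
    · exact isFlat_of_iso (P.truncLEXIso b i h').symm (hPfl i)
    · subst h'
      exact isFlat_of_iso (P.truncLEXIsoCycles i).symm hZ
    · exact isFlat_of_isZero ((P.truncLE b).isZero_of_isStrictlyLE b i h')
  have hTK : DCoh.IsKFlat T := isKFlat_of_boundedAbove_flat T b inferInstance hTfl
  have hTG : ∀ (G : X.Modules) (i : ℤ), i < a → ((tensModCx G).obj T).ExactAt i := by
    intro G i hi
    haveI := quasiIso_tensModCx_map_of_isKFlat G (P.ιTruncLE b) hTK hP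
    haveI : QuasiIsoAt ((tensModCx G).map (P.ιTruncLE b)) i :=
      (inferInstance : QuasiIso ((tensModCx G).map (P.ιTruncLE b))).quasiIsoAt i
    exact (exactAt_iff_of_quasiIsoAt ((tensModCx G).map (P.ιTruncLE b)) i).2 (h G i (Or.inl hi))
  have hexT : ∀ i : ℤ, i < a → T.ExactAt i := fun i hi =>
    exactAt_of_forall_tensModCx T i (fun G => hTG G i hi)
  -- lower truncation
  haveI : T.IsGE a := (CochainComplex.isGE_iff T a).2 hexT
  haveI : QuasiIso (T.πTruncGE a) := (CochainComplex.quasiIso_πTruncGE_iff T a).2 inferInstance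
  have hc : FlatMod.IsFlat (cokernel (T.d (a - 1) a)) :=
    isFlat_cokernel_of_exactAt T a (hTfl a) (fun G => hTG G (a - 1) (by omega))
  have ho : FlatMod.IsFlat (T.opcycles a) :=
    isFlat_of_iso (IsColimit.coconePointUniqueUpToIso (colimit.isColimit _)
      (T.opcyclesIsCokernel (a - 1) a (by simp))) hc
  refine ⟨T.truncGE a, fun i hi => ?_, fun i => ?_, ⟨?_⟩⟩
  · rcases hi with hi | hi
    · exact (T.truncGE a).isZero_of_isStrictlyGE a i hi
    · exact IsZero.of_iso ((P.truncLE b).isZero_of_isStrictlyLE b i hi)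
        (T.truncGEXIso a i (by omega))
  · rcases lt_trichotomy i a with h' | h' | h'
    · exact isFlat_of_isZero ((T.truncGE a).isZero_of_isStrictlyGE a i h')
    · subst h'
      exact isFlat_of_iso (T.truncGEXIsoOpcycles i).symm ho
    · exact isFlat_of_iso (T.truncGEXIso a i h').symm (hTfl i)
  · exact (asIso (DerivedCategory.Q.map (T.πTruncGE a))).symm ≪≫
      asIso (DerivedCategory.Q.map (P.ιTruncLE b))

end Groth.Agent.Lib.Helper16.KD
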