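import Mathlib
import Groth.Agent.Lib.Helper16.TorLoc6
import Groth.Agent.Lib.Helper16.TildeLoc
import Groth.Agent.Lib.Helper16.StalkTor1
import Groth.Agent.Lib.Helper16.PB1
import Groth.Agent.Lib.Helper16.RS7
import Groth.Agent.S6188

/-!
# Helper16 — TorLoc7: tor amplitude relative to a morphism is local on source and target
(commutative squares with open immersions); exactness of `(P ⊗_B C) ⊗_C W`
-/

set_option autoImplicit false

open CategoryTheory CategoryTheory.Limits MonoidalCategory AlgebraicGeometry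

namespace Groth.Agent.Lib.Helper16.TorLoc

universe u

open DerivedCategory Groth.Agent.Lib.Helper16.KF Groth.Agent.Lib.Helper16.BiCx
  Groth.Agent.Lib.Helper16.BC Groth.Agent.Lib.Helper16.Stk Groth.Agent.Lib.Helper16

attribute [local instance] HasDerivedCategory.standard

section Ring

variable {A B C : Type u} [CommRing A] [CommRing B] [CommRing C]

/-- every module over the target of a bijective ring map is the base change of its restriction. -/
lemma nonempty_ext_res_iso_of_bijective (α : A →+* B) (hα : Function.Bijective α)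
    (N' : ModuleCat.{u} B) :
    Nonempty ((ModuleCat.extendScalars.{u, u, u} α).obj
      ((ModuleCat.restrictScalars.{u} α).obj N') ≅ N') := by
  letI : Algebra A B := α.toAlgebra
  haveI : IsLocalization (⊥ : Submonoid A) A := IsLocalization.self bot_le
  haveI : IsLocalization (⊥ : Submonoid A) B :=
    IsLocalization.isLocalization_of_algEquiv ⊥ (AlgEquiv.ofBijective (Algebra.ofId A B) hα)
  exact TildeLoc.nonempty_ext_res_iso_of_isLocalization (⊥ : Submonoid A) N'

variable (χ : B →+* C)

/-- exactness of `(P ⊗_B C) ⊗_C W` outside `[m, n]` when `W|_B` has tor amplitude `[m, n]` and `P`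
is a K-flat resolution of a module. -/
theorem exactAt_ext_tensor (W : DRing.Cx C) (m n : ℤ)
    (hW : DRing.HasTorAmplitudeIn B m n (DRing.toD ((resCx χ).obj W))) (N : ModuleCat.{u} B)
    (P : DRing.Cx B) (p : P ⟶ sgl N) [QuasiIso p] (hP : DRing.IsKFlat B P) (i : ℤ)
    (hi : i < m ∨ n < i) : ((extCx χ).obj P ⊗ W).ExactAt i := by
  rw [exactAt_iff_of_iso (DTen.braidCx ((extCx χ).obj P) W) i, ← exactAt_resCx_iff χ,
    exactAt_iff_of_iso (projIso χ W P) i]
  exact exactAt_tensor_of_torAmp _ m n hW N P p hP i hi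

end Ring

section Sch

variable {U X V Y : Scheme.{u}} (f : X ⟶ Y) (f' : U ⟶ V) (j : U ⟶ X) (j' : V ⟶ Y)

lemma exists_stalk_square [IsOpenImmersion j'] (w : j ≫ f = f' ≫ j') (x : U) :
    ∃ α : Y.presheaf.stalk (f.base (j.base x)) ⟶ V.presheaf.stalk (f'.base x), IsIso α ∧
      f.stalkMap (j.base x) ≫ j.stalkMap x = α ≫ f'.stalkMap x := by
  refine ⟨(Y.presheaf.stalkCongr (.of_eq (by rw [← Scheme.Hom.comp_apply, w]; rfl))).hom ≫
    j'.stalkMap (f'.base x), inferInstance, ?_⟩
  rw [Category.assoc, ← Scheme.Hom.stalkMap_comp, ← Scheme.Hom.stalkMap_comp]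
  exact Scheme.Hom.stalkMap_congr_hom _ _ w x

/-- **tor amplitude relative to a morphism restricts along squares of open immersions.** -/
theorem hasTorAmplitude_RCx_of_square [IsOpenImmersion j] [IsOpenImmersion j']
    (w : j ≫ f = f' ≫ j') (F : CochainComplex X.Modules ℤ) (m n : ℤ)
    (hF : DerSch.HasTorAmplitude f m n F) :
    DerSch.HasTorAmplitude f' m n ((RS.RCx j).obj F) := by
  intro x
  obtain ⟨α, hα, hsq⟩ := exists_stalk_square f f' j j' w x
  have hαb : Function.Bijective α.hom := ConcreteCategory.bijective_of_isIso α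
  have hβb : Function.Bijective (j.stalkMap x).hom := ConcreteCategory.bijective_of_isIso _
  have hW : DRing.HasTorAmplitudeIn (Y.presheaf.stalk (f.base (j.base x))) m n
      (DRing.toD ((resCx (f.stalkMap (j.base x)).hom).obj (stkCx (j.base x) F))) :=
    TorAmp.hasTorAmplitudeIn_of_iso (Q.mapIso (Groth.Agent.S6188.stalkCxOverIso f (j.base x) F))
      m n (hF (j.base x))
  have hsq' : (j.stalkMap x).hom.comp (f.stalkMap (j.base x)).hom =
      (f'.stalkMap x).hom.comp α.hom := by
    rw [← CommRingCat.hom_comp, ← CommRingCat.hom_comp, hsq]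
  have key := torAmp_down (f.stalkMap (j.base x)).hom (f'.stalkMap x).hom α.hom
    (j.stalkMap x).hom hsq' (RingHom.Flat.of_bijective hαb) (RingHom.Flat.of_bijective hβb)
    (nonempty_ext_res_iso_of_bijective α.hom hαb) (stkCx (j.base x) F) m n hW
  have e : (DerSch.stalkCxOver f' x).obj ((RS.RCx j).obj F) ≅
      (resCx (f'.stalkMap x).hom).obj
        ((extCx (j.stalkMap x).hom).obj (stkCx (j.base x) F)) :=
    Groth.Agent.S6188.stalkCxOverIso f' x _ ≪≫ (resCx (f'.stalkMap x).hom).mapIso
      (((stk x).mapHomologicalComplex (ComplexShape.up ℤ)).mapIso ((RS.RCxIsoPullCx j).app F) ≪≫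
        pullbackStkCxIso j x F)
  exact TorAmp.hasTorAmplitudeIn_of_iso (Q.mapIso e).symm _ _ key

end Sch

end Groth.Agent.Lib.Helper16.TorLoc
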