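import Mathlib
import Groth.Agent.Lib.Helper16.TorLoc7
import Groth.Agent.Lib.Helper16.PO

/-!
# Helper16 — TorLoc8: flat base change of tor amplitude
`A → B`, `A → A'` flat, `B ⊗_A A' → B'` flat: if `X|_A` has tor amplitude `[a, b]` then
`(X ⊗_B B')|_{A'}` has tor amplitude `[a, b]`.
-/

set_option autoImplicit false

open CategoryTheory CategoryTheory.Limits MonoidalCategory TensorProduct

namespace Groth.Agent.Lib.Helper16.TorLoc

universe u

open DerivedCategory Groth.Agent.Lib.Helper16.KF Groth.Agent.Lib.Helper16.BiCx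
  Groth.Agent.Lib.Helper16.BC Groth.Agent.Lib.Helper16 Groth.Agent.Lib.Helper16.PO

attribute [local instance] HasDerivedCategory.standard

section Ext

variable {A A' : Type u} [CommRing A] [CommRing A'] (α : A →+* A') (hα : α.Flat)

include hα in
/-- flat base change preserves tor amplitude. -/
theorem torAmp_extCx_of_flat (Z : DRing.Cx A) (a b : ℤ)
    (hZ : DRing.HasTorAmplitudeIn A a b (DRing.toD Z)) :
    DRing.HasTorAmplitudeIn A' a b (DRing.toD ((extCx α).obj Z)) := by
  have hZb : ∀ j : ℤ, b < j → Z.ExactAt j := fun j hj =>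
    TorAmp.exactAt_of_torAmp _ a b hZ j (Or.inr hj)
  obtain ⟨E, hE, hEfl, ⟨eE⟩⟩ := hZ
  obtain ⟨P, p, hPb, hPproj, hp⟩ := exists_bddAbove_projective_resolution _ b hZb
  haveI := hp
  haveI : P.IsKProjective := LDer.isKProjective_of_bddAbove_projective P b hPb hPproj
  haveI : IsIso (Q.map p) := by rw [isIso_Q_map_iff_quasiIso]; infer_instance
  obtain ⟨u, hu⟩ := KPR.exists_map_of_isKProjective P E ((asIso (Q.map p)).hom ≫ eE.inv)
  haveI : QuasiIso u := by
    rw [← isIso_Q_map_iff_quasiIso, hu]
    infer_instance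
  haveI := preservesHomology_ext_of_flat α hα
  haveI : QuasiIso ((extCx α).map p) := HomologicalComplex.quasiIso_map_of_preservesHomology _ _
  haveI : QuasiIso ((extCx α).map u) := HomologicalComplex.quasiIso_map_of_preservesHomology _ _
  haveI : IsIso (Q.map ((extCx α).map p)) := by rw [isIso_Q_map_iff_quasiIso]; infer_instance
  haveI : IsIso (Q.map ((extCx α).map u)) := by rw [isIso_Q_map_iff_quasiIso]; infer_instance
  refine ⟨(extCx α).obj E, fun i hi => LDer.extCx_isZero α E i (hE i hi), fun i => ?_,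
    ⟨(asIso (Q.map ((extCx α).map u))).symm ≪≫ asIso (Q.map ((extCx α).map p))⟩⟩
  haveI := hEfl i
  exact LDer.ext_flat α (E.X i)

end Ext

section Main

variable {A B A' B' : Type u} [CommRing A] [CommRing B] [CommRing A'] [CommRing B']
  [Algebra A B] [Algebra A A']

/-- `res_{A'} (ext_{B → B ⊗_A A'} X) ≅ ext_{A → A'} (res_A X)` for complexes. -/
noncomputable def poCxIso (X : DRing.Cx B) :
    (extCx (algebraMap A A')).obj ((resCx (algebraMap A B)).obj X) ≅
      (resCx (ιA' A B A')).obj ((extCx (ιB A B A')).obj X) :=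
  HomologicalComplex.Hom.isoOfComponents (fun i => (poIso A B A').app (X.X i)) (fun i j _ =>
    ((poIso A B A').hom.naturality (X.d i j)).symm)

/-- **flat base change of tor amplitude.** -/
theorem torAmp_flat_baseChange (β : B →+* B') (φ' : A' →+* B') (γ : B ⊗[A] A' →+* B')
    (hγ : γ.Flat) (hβ : γ.comp (ιB A B A') = β) (hφ' : γ.comp (ιA' A B A') = φ')
    (hα : (algebraMap A A').Flat) (X : DRing.Cx B) (a b : ℤ)
    (hX : DRing.HasTorAmplitudeIn A a b (DRing.toD ((resCx (algebraMap A B)).obj X))) :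
    DRing.HasTorAmplitudeIn A' a b (DRing.toD ((resCx φ').obj ((extCx β).obj X))) := by
  subst hβ hφ'
  have h1 := torAmp_extCx_of_flat (algebraMap A A') hα _ a b hX
  have h2 : DRing.HasTorAmplitudeIn A' a b
      (DRing.toD ((resCx (ιA' A B A')).obj ((extCx (ιB A B A')).obj X))) :=
    TorAmp.hasTorAmplitudeIn_of_iso (Q.mapIso (poCxIso X)) a b h1
  have h3 := torAmp_down (ιA' A B A') (γ.comp (ιA' A B A')) (RingHom.id A') γ rfl
    (RingHom.Flat.of_bijective Function.bijective_id) hγ
    (nonempty_ext_res_iso_of_bijective (RingHom.id A') Function.bijective_id)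
    ((extCx (ιB A B A')).obj X) a b h2
  let e : (extCx γ).obj ((extCx (ιB A B A')).obj X) ≅ (extCx (γ.comp (ιB A B A'))).obj X :=
    HomologicalComplex.Hom.isoOfComponents
      (fun i => ((ModuleCat.extendScalarsComp (ιB A B A') γ).app (X.X i)).symm) (fun i j _ =>
        ((ModuleCat.extendScalarsComp (ιB A B A') γ).inv.naturality (X.d i j)).symm)
  exact (torAmp_resCx_of_iso (γ.comp (ιA' A B A')) e a b).1 h3

end Main

end Groth.Agent.Lib.Helper16.TorLoc
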