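import Mathlib
import Groth.Agent.Lib.Helper16.TorLoc8
import Groth.Agent.Lib.Helper16.DRE2

/-!
# Helper16 — TorLoc9: tor-independent base change of tor amplitude
`Λ → C₂ → D₂` with `C₂`, `D₂` flat over `Λ`, `Λ → C₁` arbitrary, `C₂ ⊗_Λ C₁ → C` flat,
`D₂ ⊗_{C₂} C → D'` flat: if `X|_{C₂}` has tor amplitude `[a, b]` (and `X|_Λ` is K-flat) then
`(X ⊗_{D₂} D')|_C` has tor amplitude `[a, b]`.
-/

set_option autoImplicit false

open CategoryTheory CategoryTheory.Limits MonoidalCategory TensorProduct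

namespace Groth.Agent.Lib.Helper16.TorLoc

universe u

open DerivedCategory Groth.Agent.Lib.Helper16.KF Groth.Agent.Lib.Helper16.BiCx
  Groth.Agent.Lib.Helper16.BC Groth.Agent.Lib.Helper16 Groth.Agent.Lib.Helper16.PO

attribute [local instance] HasDerivedCategory.standard

section Res

variable {A A' : Type u} [CommRing A] [CommRing A'] (α : A →+* A') (hα : α.Flat)

include hα in
/-- restriction of scalars along a flat map preserves K-flatness. -/
theorem isKFlat_resCx_of_flat (F' : DRing.Cx A') (hF' : DRing.IsKFlat A' F') :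
    DRing.IsKFlat A ((resCx α).obj F') := by
  intro L hL
  have h1 : KF.Acyc ((extCx α).obj L) := fun i => by
    rw [← HomologicalComplex.exactAt_iff_isZero_homology]
    exact exactAt_extCx_of_flat α hα L i
      ((HomologicalComplex.exactAt_iff_isZero_homology _ _).2 (hL i))
  have h2 : KF.Acyc (F' ⊗ (extCx α).obj L) := acyc_tensor_left_of_isKFlat hF' _ h1
  have h3 : KF.Acyc (T (Fext α) F' L) := KF.Acyc.of_iso h2 (fextIso α F' L)
  have h4 := (acyc_restrict_iff α _).2 h3
  have h5 : KF.Acyc ((resCx α).obj F' ⊗ L) := KF.Acyc.of_iso h4 (resTensorExtIso α F' L).symm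
  exact KF.Acyc.of_iso h5 (DTen.braidCx _ _)

end Res


section Nat

variable {A B C : Type u} [CommRing A] [CommRing B] [CommRing C]

lemma quasiIso_map_iff_of_natIso {F G : DRing.Cx A ⥤ DRing.Cx B} (e : F ≅ G) {K L : DRing.Cx A}
    (p : K ⟶ L) : QuasiIso (F.map p) ↔ QuasiIso (G.map p) :=
  quasiIso_iff_of_arrow_mk_iso _ _ (Arrow.isoOfNatIso e (Arrow.mk p))

/-- `ext_{g ∘ f} ≅ ext_g ∘ ext_f` on complexes. -/
noncomputable def extCxCompIso (f : A →+* B) (g : B →+* C) :
    extCx (g.comp f) ≅ extCx f ⋙ extCx g :=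
  NatIso.ofComponents (fun K => HomologicalComplex.Hom.isoOfComponents
    (fun i => (ModuleCat.extendScalarsComp f g).app (K.X i))
    (fun i j _ => ((ModuleCat.extendScalarsComp f g).hom.naturality (K.d i j)).symm))
    (fun φ => HomologicalComplex.hom_ext _ _ (fun i =>
      (ModuleCat.extendScalarsComp f g).hom.naturality (φ.f i)))

variable {A' : Type u} [CommRing A'] [Algebra A B] [Algebra A A']

/-- `res_{A'} ∘ ext_{B → B ⊗_A A'} ≅ ext_{A → A'} ∘ res_A` on complexes. -/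
noncomputable def poCxNatIso :
    resCx (algebraMap A B) ⋙ extCx (algebraMap A A') ≅
      extCx (ιB A B A') ⋙ resCx (ιA' A B A') :=
  NatIso.ofComponents (fun K => poCxIso K) (fun φ => HomologicalComplex.hom_ext _ _
    (fun i => (poIso A B A').hom.naturality (φ.f i)))

end Nat

section Push

variable {A B A' B' : Type u} [CommRing A] [CommRing B] [CommRing A'] [CommRing B']
  [Algebra A B] [Algebra A A']

/-- from the pushout to a flat algebra over it. -/
theorem torAmp_of_pushout_flat (β : B →+* B') (φ' : A' →+* B') (γ : B ⊗[A] A' →+* B')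
    (hγ : γ.Flat) (hβ : γ.comp (ιB A B A') = β) (hφ' : γ.comp (ιA' A B A') = φ')
    (X : DRing.Cx B) (a b : ℤ)
    (h2 : DRing.HasTorAmplitudeIn A' a b
      (DRing.toD ((resCx (ιA' A B A')).obj ((extCx (ιB A B A')).obj X)))) :
    DRing.HasTorAmplitudeIn A' a b (DRing.toD ((resCx φ').obj ((extCx β).obj X))) := by
  subst hβ hφ'
  have h3 := torAmp_down (ιA' A B A') (γ.comp (ιA' A B A')) (RingHom.id A') γ rfl
    (RingHom.Flat.of_bijective Function.bijective_id) hγ
    (nonempty_ext_res_iso_of_bijective (RingHom.id A') Function.bijective_id)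
    ((extCx (ιB A B A')).obj X) a b h2
  exact (torAmp_resCx_of_iso (γ.comp (ιA' A B A'))
    ((extCxCompIso (ιB A B A') γ).app X).symm a b).1 h3

end Push

section Main

variable {Λ C₁ C₂ D₂ C D' : Type u} [CommRing Λ] [CommRing C₁] [CommRing C₂] [CommRing D₂]
  [CommRing C] [CommRing D'] [Algebra Λ C₂] [Algebra Λ C₁] [Algebra C₂ D₂] [Algebra C₂ C]

/-- **tor-independent base change of tor amplitude.** -/
theorem torAmp_torIndep_baseChange (hΛ₂ : (algebraMap Λ C₂).Flat)
    (γY : C₂ ⊗[Λ] C₁ →+* C) (hγY : γY.Flat) (hγY₁ : γY.comp (ιB Λ C₂ C₁) = algebraMap C₂ C)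
    (β : D₂ →+* D') (φ' : C →+* D') (γZ : D₂ ⊗[C₂] C →+* D') (hγZ : γZ.Flat)
    (hβ : γZ.comp (ιB C₂ D₂ C) = β) (hφ' : γZ.comp (ιA' C₂ D₂ C) = φ')
    (X : DRing.Cx D₂)
    (hXΛ : DRing.IsKFlat Λ ((resCx (algebraMap Λ C₂)).obj ((resCx (algebraMap C₂ D₂)).obj X)))
    (a b : ℤ)
    (hX : DRing.HasTorAmplitudeIn C₂ a b (DRing.toD ((resCx (algebraMap C₂ D₂)).obj X))) :
    DRing.HasTorAmplitudeIn C a b (DRing.toD ((resCx φ').obj ((extCx β).obj X))) := by
  refine torAmp_of_pushout_flat β φ' γZ hγZ hβ hφ' X a b ?_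
  refine TorAmp.hasTorAmplitudeIn_of_iso (Q.mapIso (poCxIso X)) a b ?_
  -- it remains to see that `ext_{C₂ → C} (X|_{C₂})` has tor amplitude `[a, b]`
  set Z₂ := (resCx (algebraMap C₂ D₂)).obj X with hZ₂
  have hZb : ∀ j : ℤ, b < j → Z₂.ExactAt j := fun j hj =>
    TorAmp.exactAt_of_torAmp _ a b hX j (Or.inr hj)
  obtain ⟨E, hE, hEfl, ⟨eE⟩⟩ := hX
  obtain ⟨P, p, hPb, hPproj, hp⟩ := exists_bddAbove_projective_resolution _ b hZb
  haveI := hp
  haveI : P.IsKProjective := LDer.isKProjective_of_bddAbove_projective P b hPb hPproj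
  haveI : IsIso (Q.map p) := by rw [isIso_Q_map_iff_quasiIso]; infer_instance
  obtain ⟨u, hu⟩ := KPR.exists_map_of_isKProjective P E ((asIso (Q.map p)).hom ≫ eE.inv)
  haveI : QuasiIso u := by
    rw [← isIso_Q_map_iff_quasiIso, hu]
    infer_instance
  have hPK : DRing.IsKFlat C₂ P :=
    isKFlat_of_boundedAbove P b hPb (TorAmp.termwiseFlat_of_projective P hPproj)
  have hEK : DRing.IsKFlat C₂ E :=
    isKFlat_of_boundedAbove E b (fun j hj => hE j (Or.inr hj)) hEfl
  -- `ext u` is a quasi-isomorphism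
  haveI hu' : QuasiIso ((extCx (algebraMap C₂ C)).map u) :=
    DRE.quasiIso_extendScalars_map_of_isKFlat (algebraMap C₂ C) u hPK hEK
  -- `ext p` is a quasi-isomorphism
  haveI hp' : QuasiIso ((extCx (algebraMap C₂ C)).map p) := by
    rw [← hγY₁, quasiIso_map_iff_of_natIso (extCxCompIso (ιB Λ C₂ C₁) γY)]
    haveI := preservesHomology_ext_of_flat γY hγY
    suffices h : QuasiIso ((extCx (ιB Λ C₂ C₁)).map p) from
      HomologicalComplex.quasiIso_map_of_preservesHomology _ _
    suffices h : QuasiIso ((resCx (ιA' Λ C₂ C₁)).map ((extCx (ιB Λ C₂ C₁)).map p)) from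
      (HomologicalComplex.quasiIso_map_iff_of_preservesHomology _
        (ModuleCat.restrictScalars.{u} (ιA' Λ C₂ C₁))).1 h
    change QuasiIso ((extCx (ιB Λ C₂ C₁) ⋙ resCx (ιA' Λ C₂ C₁)).map p)
    rw [← quasiIso_map_iff_of_natIso (poCxNatIso (A := Λ) (B := C₂) (A' := C₁))]
    haveI := quasiIso_resCx_map (algebraMap Λ C₂) p
    exact DRE.quasiIso_extendScalars_map_of_isKFlat (algebraMap Λ C₁)
      ((resCx (algebraMap Λ C₂)).map p) (isKFlat_resCx_of_flat _ hΛ₂ P hPK) hXΛ
  haveI : IsIso (Q.map ((extCx (algebraMap C₂ C)).map p)) := by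
    rw [isIso_Q_map_iff_quasiIso]; infer_instance
  haveI : IsIso (Q.map ((extCx (algebraMap C₂ C)).map u)) := by
    rw [isIso_Q_map_iff_quasiIso]; infer_instance
  refine ⟨(extCx (algebraMap C₂ C)).obj E,
    fun i hi => LDer.extCx_isZero (algebraMap C₂ C) E i (hE i hi), fun i => ?_,
    ⟨(asIso (Q.map ((extCx (algebraMap C₂ C)).map u))).symm ≪≫
      asIso (Q.map ((extCx (algebraMap C₂ C)).map p))⟩⟩
  haveI := hEfl i
  exact LDer.ext_flat (algebraMap C₂ C) (E.X i)

end Main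

end Groth.Agent.Lib.Helper16.TorLoc
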