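import Mathlib
import Groth.Agent.Lib.Helper16.GlobPerf
import Groth.Agent.Lib.Helper16.TorAmp5
import Groth.Agent.Lib.Helper16.TorLoc9

/-!
# Helper16 — LocFree4: tor amplitude of a bounded above complex of finite free modules over a local
ring descends along local homomorphisms of local rings
-/

set_option autoImplicit false
open CategoryTheory CategoryTheory.Limits DerivedCategory

namespace Groth.Agent.Lib.Helper16.LocFree

open Groth.Agent.Lib.Helper16.TorAmp Groth.Agent.Lib.Helper16.KPR Groth.Agent.Lib.Helper16.TorLoc

universe u

attribute [local instance] HasDerivedCategory.standard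

variable {R S : Type u} [CommRing R] [CommRing S] [IsLocalRing R] [IsLocalRing S]

/-- the residue field as an `R`-module through restriction of scalars. -/
noncomputable def asModResidueIso :
    asMod (IsLocalRing.residue R) ≅ ModuleCat.of R (R ⧸ IsLocalRing.maximalIdeal R) :=
  LinearEquiv.toModuleIso
    { toFun := fun x => x
      invFun := fun x => x
      left_inv := fun _ => rfl
      right_inv := fun _ => rfl
      map_add' := fun _ _ => rfl
      map_smul' := fun r x => by
        induction x using Quotient.inductionOn' with
        | h y => rfl }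

variable [Algebra R S] [IsLocalHom (algebraMap R S)]

/-- **descent of tor amplitude along a local homomorphism**, for bounded above complexes of finite
free modules. -/
theorem torAmp_of_extCx_local (P : DRing.Cx R) (b' : ℤ) (hP : DRing.VanishesAbove P b')
    (hff : DRing.TermwiseFiniteFree P) (a b : ℤ)
    (h : DRing.HasTorAmplitudeIn S a b
      (DRing.toD ((TorLoc.extCx (algebraMap R S)).obj P))) :
    DRing.HasTorAmplitudeIn R a b (DRing.toD P) := by
  refine torAmp_of_fibres P b' hP hff a b (fun m hm j hj => ?_)
  obtain rfl : m = IsLocalRing.maximalIdeal R := IsLocalRing.eq_maximalIdeal hm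
  have hb' : DRing.VanishesAbove ((TorLoc.extCx (algebraMap R S)).obj P) b' :=
    fun i hi => Functor.map_isZero (ModuleCat.extendScalars.{u, u, u} (algebraMap R S)) (hP i hi)
  have hfl' : DRing.TermwiseFlat ((TorLoc.extCx (algebraMap R S)).obj P) := fun i => by
    haveI := (hff i).2
    haveI : Module.Flat R (P.X i) := inferInstance
    exact LDer.ext_flat _ (P.X i)
  have e1 : ((TorLoc.extCx (IsLocalRing.residue S)).obj
      ((TorLoc.extCx (algebraMap R S)).obj P)).ExactAt j :=
    (exactAt_extCx_iff (IsLocalRing.residue S) _ j).2
      (exactAt_tensCx_of_torAmp _ b' hb' hfl' a b h (asMod (IsLocalRing.residue S)) j hj)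
  have e2 : ((TorLoc.extCx ((IsLocalRing.residue S).comp (algebraMap R S))).obj P).ExactAt j :=
    e1.of_iso ((extCxCompIso (algebraMap R S) (IsLocalRing.residue S)).app P).symm
  have hcomp : (IsLocalRing.residue S).comp (algebraMap R S) =
      (algebraMap (IsLocalRing.ResidueField R) (IsLocalRing.ResidueField S)).comp
        (IsLocalRing.residue R) := RingHom.ext fun x => rfl
  rw [hcomp] at e2
  have e4 : ((TorLoc.extCx (algebraMap (IsLocalRing.ResidueField R)
      (IsLocalRing.ResidueField S))).obj
      ((TorLoc.extCx (IsLocalRing.residue R)).obj P)).ExactAt j :=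
    e2.of_iso ((extCxCompIso (IsLocalRing.residue R)
      (algebraMap (IsLocalRing.ResidueField R) (IsLocalRing.ResidueField S))).app P)
  have e5 : ((TorLoc.extCx (IsLocalRing.residue R)).obj P).ExactAt j :=
    exactAt_descent (B := IsLocalRing.ResidueField S) _ j e4
  have e6 := (exactAt_extCx_iff (IsLocalRing.residue R) P j).1 e5
  exact (exactAt_tensCx_of_iso asModResidueIso P j).1 e6

end Groth.Agent.Lib.Helper16.LocFree
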