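import Mathlib

/-!
# Euler characteristic of a bounded complex of finite-dimensional vector spaces
-/

set_option autoImplicit false
universe u
open CategoryTheory CategoryTheory.Limits

namespace Groth.Agent.Lib.Helper16.EC

variable {R : Type u} [Field R]

/-- the dimension of the homology of a short complex of finite-dimensional vector spaces. -/
theorem finrank_homology_add (S : ShortComplex (ModuleCat.{u} R)) [Module.Finite R S.X₁]
    [Module.Finite R S.X₂] :
    (Module.finrank R S.homology : ℤ) + Module.finrank R S.X₁ =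
      Module.finrank R (LinearMap.ker S.g.hom) + Module.finrank R (LinearMap.ker S.f.hom) := by
  have e := S.moduleCatHomologyIso.toLinearEquiv.finrank_eq
  have h1 : Module.finrank R (↥(LinearMap.ker S.g.hom) ⧸ LinearMap.range S.moduleCatToCycles) +
      Module.finrank R (LinearMap.range S.moduleCatToCycles) =
      Module.finrank R (LinearMap.ker S.g.hom) :=
    Submodule.finrank_quotient_add_finrank _
  have h2 := LinearMap.finrank_range_add_finrank_ker S.moduleCatToCycles
  have h3 : LinearMap.ker S.moduleCatToCycles = LinearMap.ker S.f.hom :=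
    LinearMap.ker_codRestrict _ _ _
  rw [h3] at h2
  have e' : Module.finrank R S.homology =
      Module.finrank R (↥(LinearMap.ker S.g.hom) ⧸ LinearMap.range S.moduleCatToCycles) := e
  omega

variable (C : CochainComplex (ModuleCat.{u} R) ℤ)

/-- dimension of the kernel of the differential. -/
noncomputable def kdim (i : ℤ) : ℕ := Module.finrank R (LinearMap.ker (C.d i (i + 1)).hom)

theorem kdim_eq (i j : ℤ) (h : i + 1 = j) :
    Module.finrank R (LinearMap.ker (C.d i j).hom) = kdim C i := by
  subst h; rfl

theorem finrank_homology_cx [∀ i, Module.Finite R (C.X i)] (i : ℤ) :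
    (Module.finrank R (C.homology i) : ℤ) + Module.finrank R (C.X (i - 1)) =
      kdim C i + kdim C (i - 1) := by
  have e : C.homology i ≅ (C.sc' (i - 1) i (i + 1)).homology :=
    ShortComplex.homologyMapIso (C.isoSc' (i - 1) i (i + 1) (by simp) (by simp))
  haveI : Module.Finite R (C.sc' (i - 1) i (i + 1)).X₁ := inferInstanceAs (Module.Finite R (C.X (i - 1)))
  haveI : Module.Finite R (C.sc' (i - 1) i (i + 1)).X₂ := inferInstanceAs (Module.Finite R (C.X i))
  have h := finrank_homology_add (C.sc' (i - 1) i (i + 1))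
  rw [← e.toLinearEquiv.finrank_eq] at h
  have h1 : Module.finrank R (LinearMap.ker (C.sc' (i - 1) i (i + 1)).f.hom) = kdim C (i - 1) :=
    kdim_eq C (i - 1) i (by omega)
  have h2 : Module.finrank R (LinearMap.ker (C.sc' (i - 1) i (i + 1)).g.hom) = kdim C i := rfl
  rw [h1, h2] at h
  exact h

theorem finrank_eq_zero_of_isZero (M : ModuleCat.{u} R) (h : IsZero M) : Module.finrank R M = 0 := by
  haveI : Subsingleton M := ModuleCat.subsingleton_of_isZero h
  exact Module.finrank_zero_of_subsingleton

theorem kdim_eq_zero_of_isZero (i : ℤ) (h : IsZero (C.X i)) : kdim C i = 0 := by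
  haveI : Subsingleton (C.X i) := ModuleCat.subsingleton_of_isZero h
  unfold kdim
  exact Module.finrank_zero_of_subsingleton

/-- **Euler characteristic**: the alternating sum of the dimensions of the cohomology of a bounded
complex of finite-dimensional vector spaces is the alternating sum of the dimensions of its
terms. -/
theorem eulerChar_homology_eq [∀ i, Module.Finite R (C.X i)] (a b : ℤ)
    (hC : ∀ i : ℤ, i < a ∨ b < i → IsZero (C.X i)) :
    (∑ᶠ i : ℤ, (i.negOnePow : ℤ) * (Module.finrank R (C.homology i) : ℤ)) =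
      ∑ i ∈ Finset.Icc a b, (i.negOnePow : ℤ) * (Module.finrank R (C.X i) : ℤ) := by
  classical
  let g : ℤ → ℤ := fun i => (i.negOnePow : ℤ) * (kdim C i : ℤ)
  let h : ℤ → ℤ := fun i => (i.negOnePow : ℤ) * (Module.finrank R (C.X i) : ℤ)
  have hg : (Function.support g) ⊆ (Finset.Icc a b : Set ℤ) := by
    intro i hi
    by_contra hni
    apply hi
    have : i < a ∨ b < i := by
      simp only [Finset.coe_Icc, Set.mem_Icc, not_and_or, not_le] at hni; exact hni
    simp only [g, kdim_eq_zero_of_isZero C i (hC i this)]; simp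
  have hh : (Function.support h) ⊆ (Finset.Icc a b : Set ℤ) := by
    intro i hi
    by_contra hni
    apply hi
    have : i < a ∨ b < i := by
      simp only [Finset.coe_Icc, Set.mem_Icc, not_and_or, not_le] at hni; exact hni
    simp only [h, finrank_eq_zero_of_isZero _ (hC i this)]; simp
  have hgf : (Function.support g).Finite := (Finset.finite_toSet _).subset hg
  have hhf : (Function.support h).Finite := (Finset.finite_toSet _).subset hh
  let e : ℤ ≃ ℤ := Equiv.subRight 1
  have hgef : (Function.support (g ∘ e)).Finite := by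
    rw [Function.support_comp_eq_preimage]
    exact hgf.preimage (e.injective.injOn)
  have hhef : (Function.support (h ∘ e)).Finite := by
    rw [Function.support_comp_eq_preimage]
    exact hhf.preimage (e.injective.injOn)
  have key : ∀ i : ℤ, (i.negOnePow : ℤ) * (Module.finrank R (C.homology i) : ℤ) =
      (g i - (g ∘ e) i) + (h ∘ e) i := by
    intro i
    have h0 := finrank_homology_cx C i
    have hs : ((i - 1).negOnePow : ℤ) = - (i.negOnePow : ℤ) := by
      rw [Int.negOnePow_sub, Int.negOnePow_one]; simp
    simp only [g, h, e, Function.comp, Equiv.subRight_apply, hs]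
    linear_combination (i.negOnePow : ℤ) * h0
  have hsub : (Function.support (fun i => g i - (g ∘ e) i)).Finite :=
    (hgf.union hgef).subset (Function.support_sub _ _)
  calc (∑ᶠ i : ℤ, (i.negOnePow : ℤ) * (Module.finrank R (C.homology i) : ℤ))
      = ∑ᶠ i : ℤ, ((g i - (g ∘ e) i) + (h ∘ e) i) := finsum_congr key
    _ = (∑ᶠ i : ℤ, (g i - (g ∘ e) i)) + ∑ᶠ i : ℤ, (h ∘ e) i := finsum_add_distrib hsub hhef
    _ = ((∑ᶠ i : ℤ, g i) - ∑ᶠ i : ℤ, (g ∘ e) i) + ∑ᶠ i : ℤ, (h ∘ e) i := by
        rw [finsum_sub_distrib hgf hgef]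
    _ = ∑ᶠ i : ℤ, h i := by
        have e1 : (∑ᶠ i : ℤ, (g ∘ e) i) = ∑ᶠ i : ℤ, g i := finsum_comp_equiv e
        have e2 : (∑ᶠ i : ℤ, (h ∘ e) i) = ∑ᶠ i : ℤ, h i := finsum_comp_equiv e
        rw [e1, e2]; ring
    _ = ∑ i ∈ Finset.Icc a b, h i := finsum_eq_sum_of_support_subset _ hh

end Groth.Agent.Lib.Helper16.EC
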