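import Groth.Agent.Lib.Helper17.StalkExact
import Groth.Agent.Lib.Helper29.FreeIso2
import Groth.Agent.Lib.Helper16.EC1
import Groth.Prelude.Def_PerfD

/-!
# Modules on a one-point scheme: global sections are exact
-/

set_option autoImplicit false
universe u
open CategoryTheory CategoryTheory.Limits AlgebraicGeometry TopologicalSpace Opposite

namespace Groth.Agent.Lib.Helper16.EC

open Groth.Agent.Lib.Helper17.StalkExact

variable {T : Scheme.{u}}

theorem opens_eq_top [Subsingleton T] (U : T.Opens) (t : T) (ht : t ∈ U) : U = ⊤ := by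
  ext y
  simp only [Opens.coe_top, Set.mem_univ, iff_true]
  rw [Subsingleton.elim y t]; exact ht

/-- on a one-point scheme, an epimorphism of modules is surjective on global sections. -/
theorem app_top_surjective_of_epi [Subsingleton T] (t₀ : T) {F G : T.Modules} (φ : F ⟶ G) [Epi φ] :
    Function.Surjective (φ.app ⊤) := by
  intro s
  obtain ⟨y, hy⟩ := stalkHom_surjective_of_epi φ t₀ (G.presheaf.germ ⊤ t₀ trivial s)
  obtain ⟨U, hU, t, rfl⟩ := TopCat.Presheaf.exists_germ_eq F.presheaf y
  obtain rfl : U = ⊤ := opens_eq_top U t₀ hU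
  rw [stalkHom_germ] at hy
  obtain ⟨W, hW, iU, iV, h⟩ := TopCat.Presheaf.germ_eq G.presheaf t₀ _ _ _ _ hy
  obtain rfl : W = ⊤ := opens_eq_top W t₀ hW
  obtain rfl : iU = 𝟙 _ := Subsingleton.elim _ _
  obtain rfl : iV = 𝟙 _ := Subsingleton.elim _ _
  refine ⟨t, ?_⟩
  simpa using h

variable (T) in
/-- the global sections functor. -/
noncomputable abbrev Γf : T.Modules ⥤ ModuleCat.{u} (Coh.Γtop T) :=
  SheafOfModules.evaluation T.ringCatSheaf (op ⊤)

instance : (Γf T).Additive :=
  inferInstanceAs (SheafOfModules.forget T.ringCatSheaf ⋙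
    PresheafOfModules.evaluation T.ringCatSheaf.obj (op ⊤)).Additive

instance : PreservesFiniteLimits (Γf T) :=
  inferInstanceAs (PreservesFiniteLimits (SheafOfModules.evaluation T.ringCatSheaf (op ⊤)))

theorem Γf_map_surjective_of_epi [Subsingleton T] (t₀ : T) {F G : T.Modules} (φ : F ⟶ G) [Epi φ] :
    Function.Surjective ((Γf T).map φ) :=
  app_top_surjective_of_epi t₀ φ

theorem Γf_preservesHomology [Subsingleton T] (t₀ : T) : (Γf T).PreservesHomology := by
  have h := (Functor.exact_tfae (Γf T)).out 0 2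
  rw [← h]
  intro S hS
  haveI := hS.mono_f
  haveI := hS.epi_g
  have h1 : (S.map (Γf T)).Exact :=
    ((Functor.preservesFiniteLimits_iff_forall_exact_map_and_mono (Γf T)).1 inferInstance S hS).1
  haveI : Mono (S.map (Γf T)).f := by
    show Mono ((Γf T).map S.f)
    infer_instance
  haveI : Epi (S.map (Γf T)).g := by
    show Epi ((Γf T).map S.g)
    rw [ModuleCat.epi_iff_surjective]
    exact Γf_map_surjective_of_epi t₀ S.g
  exact ⟨h1⟩

open Groth.Agent.Lib.Helper29.FreeIso Groth.Agent.Lib.Helper28.QCohLoc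
  Groth.Agent.Lib.Helper28.TwistGen in
/-- global sections of a free module of rank `n` form a free module of rank `n`. -/
theorem exists_basis_sections (M : T.Modules) (n : ℕ) (e : M ≅ FlatMod.freeMod T n) :
    Nonempty (Module.Basis (Fin n) Γ(T, ⊤) Γ(M, ⊤)) := by
  let e' : B T n ≅ M := biproduct.isoCoproduct _ ≪≫ e.symm
  let v : Fin n → Γ(M, ⊤) := stdSections M e'
  have hli : LinearIndependent Γ(T, ⊤) v := by
    rw [Fintype.linearIndependent_iff]
    intro c hc i
    refine stdSections_ind M e' ⊤ c ?_ i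
    refine Eq.trans (Finset.sum_congr rfl fun j _ => ?_) hc
    rw [res_self]
  have hsp : ⊤ ≤ Submodule.span Γ(T, ⊤) (Set.range v) := by
    intro t _
    obtain ⟨c, hc⟩ := stdSections_gen M e' ⊤ t
    rw [Submodule.mem_span_range_iff_exists_fun]
    refine ⟨c, ?_⟩
    rw [hc]
    refine Finset.sum_congr rfl fun j _ => ?_
    rw [res_self]
  exact ⟨Module.Basis.mk hli hsp⟩

theorem finrank_Γf_obj [Nontrivial (Coh.Γtop T)] (M : T.Modules) (n : ℕ)
    (e : M ≅ FlatMod.freeMod T n) :
    Module.finrank (Coh.Γtop T) ((Γf T).obj M) = n := by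
  obtain ⟨b⟩ := exists_basis_sections M n e
  haveI : Nontrivial Γ(T, ⊤) := ‹Nontrivial (Coh.Γtop T)›
  have h : Module.finrank Γ(T, ⊤) Γ(M, ⊤) = n := by
    rw [Module.finrank_eq_card_basis b]; simp
  exact h

theorem finite_Γf_obj (M : T.Modules) (n : ℕ) (e : M ≅ FlatMod.freeMod T n) :
    Module.Finite (Coh.Γtop T) ((Γf T).obj M) := by
  obtain ⟨b⟩ := exists_basis_sections M n e
  have h : Module.Finite Γ(T, ⊤) Γ(M, ⊤) := Module.Finite.of_basis b
  exact h

attribute [local instance] HasDerivedCategory.standard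

/-- **Euler characteristic on a one-point scheme**: for an object of `D(O_T)` represented by a
bounded complex of finite free modules of ranks `n i`, the alternating sum of the dimensions of
the global sections of the cohomology sheaves is `∑ (-1)^i n i`. -/
theorem eulerChar_sections [Subsingleton T] (t₀ : T) (hF : IsField (Coh.Γtop T))
    (G : CochainComplex T.Modules ℤ) (a b : ℤ) (hab : DCoh.VanishesOutside G a b) (n : ℤ → ℕ)
    (hn : ∀ i, Nonempty (G.X i ≅ FlatMod.freeMod T (n i)))
    (K : DCoh.D T) (e : K ≅ DerivedCategory.Q.obj G) :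
    (∑ᶠ i : ℤ, (i.negOnePow : ℤ) *
      (Module.finrank (Coh.Γtop T) ((DCoh.HD K i).val.obj (op ⊤)) : ℤ)) =
      ∑ i ∈ Finset.Icc a b, (i.negOnePow : ℤ) * (n i : ℤ) := by
  letI : Field (Coh.Γtop T) := hF.toField
  haveI : (Γf T).PreservesHomology := Γf_preservesHomology t₀
  let C : CochainComplex (ModuleCat.{u} (Coh.Γtop T)) ℤ :=
    ((Γf T).mapHomologicalComplex _).obj G
  haveI : ∀ i, Module.Finite (Coh.Γtop T) (C.X i) := fun i =>
    finite_Γf_obj (G.X i) (n i) (hn i).some
  have hC : ∀ i : ℤ, i < a ∨ b < i → IsZero (C.X i) := fun i hi =>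
    (Γf T).map_isZero (hab i hi)
  have h1 := eulerChar_homology_eq C a b hC
  have h2 : ∀ i, Module.finrank (Coh.Γtop T) (C.X i) = n i := fun i =>
    finrank_Γf_obj (G.X i) (n i) (hn i).some
  have h3 : ∀ i, Module.finrank (Coh.Γtop T) ((DCoh.HD K i).val.obj (op ⊤)) =
      Module.finrank (Coh.Γtop T) (C.homology i) := by
    intro i
    let i1 : DCoh.HD K i ≅ G.homology i :=
      (DerivedCategory.homologyFunctor T.Modules i).mapIso e ≪≫
        (DerivedCategory.homologyFunctorFactors T.Modules i).app G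
    let i2 : (Γf T).obj (DCoh.HD K i) ≅ C.homology i :=
      (Γf T).mapIso i1 ≪≫ ((G.sc i).mapHomologyIso (Γf T)).symm
    exact i2.toLinearEquiv.finrank_eq
  simp only [h3]
  rw [h1]
  simp only [h2]

end Groth.Agent.Lib.Helper16.EC
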