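import Mathlib
import Groth.Prelude.Def_CxOX
import Groth.Prelude.Def_DerSch
import Groth.Agent.Lib.Helper16.RS3
import Groth.Agent.S0934
import Groth.Agent.S5626
import Groth.Agent.Lib.Helper16.RS11
import Groth.Agent.Lib.Helper29.FreeIso3

/-!
# Helper16 — LocFree1: kernels of epimorphisms of finite locally free modules
-/

set_option autoImplicit false
universe u
open CategoryTheory CategoryTheory.Limits AlgebraicGeometry

namespace Groth.Agent.Lib.Helper16.LocFree

open Groth.Agent.Lib.Helper16.RS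

variable {X U : Scheme.{u}}

/-- local freeness after restriction along an open immersion gives local freeness on the image. -/
theorem nonempty_free_on_image (j : U ⟶ X) [IsOpenImmersion j] (M : X.Modules)
    (W : U.Opens) (n : ℕ)
    (e : ((Scheme.Modules.restrictFunctor j).obj M).restrict W.ι ≅ FlatMod.freeMod (W : Scheme.{u}) n) :
    Nonempty (M.restrict (j ''ᵁ W).ι ≅ FlatMod.freeMod ((j ''ᵁ W : X.Opens) : Scheme.{u}) n) := by
  let φ := j.isoImage W
  have h1 : φ.inv ≫ W.ι ≫ j = (j ''ᵁ W).ι := j.isoImage_inv_ι W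
  exact ⟨(Scheme.Modules.restrictFunctorCongr h1.symm).app M ≪≫
    (Scheme.Modules.restrictFunctorComp φ.inv (W.ι ≫ j)).app M ≪≫
    (Scheme.Modules.restrictFunctor φ.inv).mapIso
      ((Scheme.Modules.restrictFunctorComp W.ι j).app M) ≪≫
    (Scheme.Modules.restrictFunctor φ.inv).mapIso e ≪≫ restrictFreeModIso φ.inv n⟩

/-- finite local freeness is local for open immersions. -/
theorem isFinLocFree_of_locally (M : X.Modules)
    (h : ∀ x : X, ∃ (U : Scheme.{u}) (j : U ⟶ X) (_ : IsOpenImmersion j) (y : U), j y = x ∧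
      FlatMod.IsFinLocFree ((Scheme.Modules.restrictFunctor j).obj M)) :
    FlatMod.IsFinLocFree M := by
  intro x
  obtain ⟨U, j, hj, y, hy, hM⟩ := h x
  obtain ⟨W, n, hyW, ⟨e⟩⟩ := hM y
  refine ⟨j ''ᵁ W, n, ?_, nonempty_free_on_image j M W n e⟩
  rw [← hy]
  exact ⟨y, hyW, rfl⟩

/-- **the kernel of an epimorphism of finite locally free modules is finite locally free.** -/
theorem isFinLocFree_kernel_of_epi {B C : X.Modules} (u : B ⟶ C) [Epi u]
    (hB : FlatMod.IsFinLocFree B) (hC : FlatMod.IsFinLocFree C) :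
    FlatMod.IsFinLocFree (kernel u) := by
  apply isFinLocFree_of_locally
  intro x
  obtain ⟨V, ψ, hxV, hψ⟩ := Groth.Agent.S0934.result u (𝟙 C) hC x
  have hBV := isFinLocFree_restrict V.ι B hB
  obtain ⟨W, n, hxW, ⟨e⟩⟩ := hBV ⟨x, hxV⟩
  let R := Scheme.Modules.restrictFunctor V.ι
  let R' := Scheme.Modules.restrictFunctor W.ι
  let u'' := R'.map (R.map u)
  have hs : R'.map ψ ≫ u'' = 𝟙 _ := by
    rw [← R'.map_comp, hψ, R.map_id, R'.map_id]
  let S := ShortComplex.mk (kernel.ι u'') u'' (kernel.condition u'')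
  have hS : S.Exact := ShortComplex.exact_of_f_is_kernel _ (kernelIsKernel u'')
  let σ := ShortComplex.Splitting.ofExactOfSection S hS (R'.map ψ) hs
    (inferInstanceAs (Mono (kernel.ι u'')))
  have hK : FlatMod.IsFinLocFree (kernel u'') :=
    Groth.Agent.S5626.result (kernel u'') (R'.obj (R.obj C)) n (σ.isoBinaryBiproduct.symm ≪≫ e)
  refine ⟨W, W.ι ≫ V.ι, inferInstance, ⟨⟨x, hxV⟩, hxW⟩, rfl, ?_⟩
  have e1 : (Scheme.Modules.restrictFunctor (W.ι ≫ V.ι)).obj (kernel u) ≅ kernel u'' :=
    (Scheme.Modules.restrictFunctorComp W.ι V.ι).app (kernel u) ≪≫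
      R'.mapIso (PreservesKernel.iso R u) ≪≫ PreservesKernel.iso R' (R.map u)
  exact isFinLocFree_of_iso e1.symm hK

/-- **the kernel of a morphism of finite locally free modules with finite locally free cokernel is
finite locally free.** -/
theorem isFinLocFree_kernel_of_cokernel {A B : X.Modules} (φ : A ⟶ B)
    (hA : FlatMod.IsFinLocFree A) (hB : FlatMod.IsFinLocFree B)
    (hC : FlatMod.IsFinLocFree (cokernel φ)) : FlatMod.IsFinLocFree (kernel φ) := by
  have hI : FlatMod.IsFinLocFree (kernel (cokernel.π φ)) :=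
    isFinLocFree_kernel_of_epi (cokernel.π φ) hB hC
  have hk : FlatMod.IsFinLocFree (kernel (Abelian.factorThruImage φ)) :=
    isFinLocFree_kernel_of_epi (Abelian.factorThruImage φ) hA hI
  have e : kernel (Abelian.factorThruImage φ) ≅ kernel φ :=
    (kernelCompMono (Abelian.factorThruImage φ) (Abelian.image.ι φ)).symm ≪≫
      kernelIsoOfEq (Abelian.image.fac φ)
  exact isFinLocFree_of_iso e hk

/-- **a finite locally free module whose stalk at `x` vanishes is zero on a neighbourhood of
`x`.** -/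
theorem exists_nhd_isZero_of_isZero_stalk (M : X.Modules) (hM : FlatMod.IsFinLocFree M) (x : X)
    (hx : IsZero ((DerSch.stalkFunctor X x).obj M)) :
    ∃ W : X.Opens, x ∈ W ∧ IsZero (M.restrict W.ι) := by
  obtain ⟨W, n, hxW, ⟨e⟩⟩ := hM x
  obtain ⟨τ, hτ⟩ := Groth.Agent.Lib.Helper29.FreeIso.exists_isBasisOn_of_iso M W n e
  have b := hτ.stalkBasis x hxW
  haveI : Subsingleton (M.presheaf.stalk x) := ModuleCat.subsingleton_of_isZero hx
  have hn : n = 0 := by
    have h1 : Module.finrank (X.presheaf.stalk x) (M.presheaf.stalk x) = n := by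
      rw [Module.finrank_eq_card_basis b]; simp
    rw [← h1]
    exact Module.finrank_zero_of_subsingleton
  subst hn
  exact ⟨W, hxW, IsZero.of_iso isZero_freeMod_zero e⟩

end Groth.Agent.Lib.Helper16.LocFree
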