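import Mathlib
import Groth.Agent.Lib.Helper16.TorAmp9

/-!
# Helper16 — LocFree2: all `opcycles` of a bounded above flat complex with tor amplitude in
`[i, i]` are flat
-/

set_option autoImplicit false
open CategoryTheory CategoryTheory.Limits DerivedCategory

namespace Groth.Agent.Lib.Helper16.LocFree

open Groth.Agent.Lib.Helper16.TorAmp Groth.Agent.Lib.Helper16.FlatKer

universe u

attribute [local instance] HasDerivedCategory.standard

variable {R : Type u} [CommRing R]

/-- the cokernel sequence `opcycles j ⟶ K^{j+1} ⟶ opcycles (j+1)`. -/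
lemma fromOpcycles_pOpcycles (K : DRing.Cx R) (j k : ℤ) :
    K.fromOpcycles j k ≫ K.pOpcycles k = 0 := by
  rw [← cancel_epi (K.pOpcycles j), HomologicalComplex.p_fromOpcycles_assoc, comp_zero]
  exact K.d_pOpcycles j k

/-- when `K` is exact at `j`, `0 → opcycles j → K^{j+1} → opcycles (j+1) → 0` is short exact. -/
lemma shortExact_opcycles (K : DRing.Cx R) (j k : ℤ) (hjk : j + 1 = k) (hj : K.ExactAt j) :
    (ShortComplex.mk (K.fromOpcycles j k) (K.pOpcycles k) (fromOpcycles_pOpcycles K j k)).ShortExact := by
  have hjk' : (ComplexShape.up ℤ).Rel j k := hjk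
  have hcok : IsColimit (CokernelCofork.ofπ (K.pOpcycles k) (fromOpcycles_pOpcycles K j k)) :=
    isCokernelOfComp (f := K.fromOpcycles j k) (K.pOpcycles j) (K.d j k)
      (K.opcyclesIsCokernel j k (by simp [← hjk]))
      (fromOpcycles_pOpcycles K j k) (K.p_fromOpcycles j k)
  have hmono : Mono (K.fromOpcycles j k) :=
    Preadditive.mono_of_isZero_kernel' _ (K.homologyIsKernel j k (by simp [← hjk]))
      ((K.exactAt_iff_isZero_homology j).1 hj)
  exact { exact := ShortComplex.exact_of_g_is_cokernel _ hcok
          mono_f := hmono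
          epi_g := inferInstanceAs (Epi (K.pOpcycles k)) }

/-- **all `opcycles` are flat.** -/
theorem flat_opcycles_of_torAmp (K : DRing.Cx R) (b : ℤ) (hb : DRing.VanishesAbove K b)
    (hflat : DRing.TermwiseFlat K) (i : ℤ)
    (hamp : DRing.HasTorAmplitudeIn R i i (DRing.toD K)) (j : ℤ) :
    Module.Flat R (K.opcycles j) := by
  by_cases hji : j ≤ i
  · have h1 := flat_coker_of_torAmp K b hb hflat j i (torAmp_mono _ i i j i hji le_rfl hamp)
    exact Module.Flat.of_linearEquiv (opcyclesIsoQuotient K (j - 1) j (by omega)).toLinearEquiv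
  · have key : ∀ n : ℕ, ∀ j : ℤ, i < j → b + 1 ≤ j + n → Module.Flat R (K.opcycles j) := by
      intro n
      induction n with
      | zero =>
        intro j _ hjb
        have hz : IsZero (K.X j) := hb j (by omega)
        have hz' : IsZero (K.opcycles j) := by
          rw [IsZero.iff_id_eq_zero, ← cancel_epi (K.pOpcycles j)]
          exact hz.eq_of_src _ _
        haveI := ModuleCat.subsingleton_of_isZero hz'
        infer_instance
      | succ n ih =>
        intro j hj hjb
        have hex : K.ExactAt j := exactAt_of_torAmp K i i hamp j (Or.inr hj)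
        have hS := shortExact_opcycles K j (j + 1) rfl hex
        haveI : Module.Flat R (K.opcycles (j + 1)) := ih (j + 1) (by omega) (by push_cast at hjb ⊢; omega)
        haveI : Module.Flat R (K.X (j + 1)) := hflat (j + 1)
        have hinj : Function.Injective (K.fromOpcycles j (j + 1)).hom :=
          (ModuleCat.mono_iff_injective _).1 hS.mono_f
        have hsurj : Function.Surjective (K.pOpcycles (j + 1)).hom :=
          (ModuleCat.epi_iff_surjective _).1 hS.epi_g
        have hexact : Function.Exact (K.fromOpcycles j (j + 1)).hom (K.pOpcycles (j + 1)).hom :=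
          (ShortComplex.ShortExact.moduleCat_exact_iff_function_exact _).1 hS.exact
        exact flat_of_exact _ _ hinj hsurj hexact
    exact key (b + 1 - j).toNat j (by omega) (by
      have := Int.self_le_toNat (b + 1 - j)
      omega)

end Groth.Agent.Lib.Helper16.LocFree
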