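import Mathlib
import Groth.Agent.Lib.Helper1.LocPerf3
import Groth.Agent.Lib.Helper16.TorAmp8
import Groth.Agent.Lib.Helper16.TorAmp9
import Groth.Agent.Lib.Helper16.TorBal6
import Groth.Agent.Lib.Helper16.TorAmp6
import Groth.Agent.Lib.Helper16.TorLoc7
import Groth.Agent.S6200

/-!
# Helper16 — PerfPt: pointwise criterion for perfection of pseudo-coherent complexes
(refactoring of helper1's `LocPerf3` with the tor amplitude hypothesis at one point only)
-/

set_option autoImplicit false
universe u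
open CategoryTheory CategoryTheory.Limits AlgebraicGeometry CategoryTheory.Pretriangulated

attribute [local instance] HasDerivedCategory.standard

namespace Groth.Agent.Lib.Helper16.PerfPt

open Groth.Agent.Lib.Helper16.RS Groth.Agent.Lib.Helper16.PC DerivedCategory
  Groth.Agent.Lib.Helper1.LocPC Groth.Agent.Lib.Helper1.LocPerf Groth.Agent.Lib.Helper16.Stk
  Groth.Agent.Lib.Helper16.FlatKer Groth.Agent.Lib.Helper16

section Ring

variable (R : Type u) [CommRing R]

/-- over a ring all of whose modules have finite tor dimension, complexes with bounded cohomology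
have finite tor amplitude. -/
theorem exists_torAmp_of_bounded_of_finiteTorDim
    (hR : ∀ (M : Type u) [AddCommGroup M] [Module R M], DRing.HasFiniteTorDim R M)
    (K : DRing.Cx R) (c d : ℤ) (hK : ∀ i : ℤ, i < c ∨ d < i → K.ExactAt i) :
    ∃ a : ℤ, a ≤ c ∧ DRing.HasTorAmplitudeIn R a d (DRing.toD K) := by
  choose n hn using fun i : ℤ => hR (Dual.HD R (DRing.toD K) i)
  let N : ℕ := (Finset.Icc c d).sup n
  have hsub : ∀ i : ℤ, i < c ∨ d < i → Subsingleton (Dual.HD R (DRing.toD K) i) := fun i hi =>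
    (TorAmp.subsingleton_HD_iff_exactAt K (Iso.refl _) i).2 (hK i hi)
  refine ⟨c - N, by omega, TorAmp.torAmp_of_bounded_homology (c - N) d (DRing.toD K)
    ⟨c, d, hsub⟩ (fun i => ?_)⟩
  by_cases hi : i < c ∨ d < i
  · have := hsub i hi
    apply TorAmp.torAmp_of_isZero
    exact Functor.map_isZero _ (ModuleCat.isZero_of_subsingleton _)
  · have hle : n i ≤ N := Finset.le_sup (f := n) (Finset.mem_Icc.2 ⟨by omega, by omega⟩)
    have h1 := (TorBal.hasTorDimLE_iff_torAmp (Dual.HD R (DRing.toD K) i) (n i)).1 (hn i)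
    exact TorAmp.torAmp_mono _ (-(n i : ℤ)) 0 _ _ (by omega) (by omega) h1

end Ring

section generic

universe w₁ w₂ v₁ v₂ u₁ u₂

variable {A : Type u₁} {B : Type u₂} [Category.{v₁} A] [Category.{v₂} B] [Abelian A] [Abelian B]
  [HasDerivedCategory.{w₁} A] [HasDerivedCategory.{w₂} B] (G : A ⥤ B) [G.Additive]
  [PreservesFiniteLimits G] [PreservesFiniteColimits G]

lemma map_isGE (K : DerivedCategory A) (b : ℤ) (hK : K.IsGE b) :
    (G.mapDerivedCategory.obj K).IsGE b := by
  obtain ⟨L, hL, ⟨e⟩⟩ := K.exists_iso_Q_obj_of_isGE b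
  have e' := G.mapDerivedCategory.mapIso e ≪≫ G.mapDerivedCategoryFactors.app L
  have : CochainComplex.IsStrictlyGE
      ((G.mapHomologicalComplex (ComplexShape.up ℤ)).obj L) b := by
    rw [CochainComplex.isStrictlyGE_iff]
    intro i hi
    exact Functor.map_isZero G (L.isZero_of_isStrictlyGE b i hi)
  have h2 : (Q.obj ((G.mapHomologicalComplex (ComplexShape.up ℤ)).obj L)).IsGE b := by
    rw [isGE_Q_obj_iff]
    infer_instance
  haveI : (TStructure.t).IsGE ((G.mapHomologicalComplex (ComplexShape.up ℤ) ⋙ Q).obj L) b := h2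
  exact (TStructure.t).isGE_of_iso e'.symm b

end generic

section Sch

variable {V : Scheme.{u}}

/-- the opcycles of a strictly perfect complex are finitely presented. -/
theorem isFinitePresentation_opcycles (P : CochainComplex V.Modules ℤ)
    (hP : DCoh.IsStrictlyPerfect P) (a : ℤ) :
    SheafOfModules.IsFinitePresentation.{u} (R := V.ringCatSheaf) (P.opcycles a) := by
  obtain ⟨-, hfree⟩ := hP
  haveI hfp1 : SheafOfModules.IsFinitePresentation.{u} (R := V.ringCatSheaf) (P.X (a - 1)) :=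
    Groth.Agent.Lib.Helper29.FPFree.isFinitePresentation_of_isFinLocFree _ (hfree _)
  haveI hfp2 : SheafOfModules.IsFinitePresentation.{u} (R := V.ringCatSheaf) (P.X a) :=
    Groth.Agent.Lib.Helper29.FPFree.isFinitePresentation_of_isFinLocFree _ (hfree _)
  haveI hfp3 := isFinitePresentation_cokernel (P.d (a - 1) a)
  have eo : cokernel (P.d (a - 1) a) ≅ P.opcycles a :=
    IsColimit.coconePointUniqueUpToIso (colimit.isColimit _)
      (P.opcyclesIsCokernel (a - 1) a (by simp))
  exact @isFinitePresentation_of_iso V _ _ eo hfp3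

/-- pointwise flatness of the opcycles. -/
theorem flat_stalk_opcycles_of_good (K : DCoh.D V) (a b : ℤ) (P : CochainComplex V.Modules ℤ)
    (α : Q.obj P ⟶ K) (hP : DCoh.IsStrictlyPerfect P) (hα : Good (a - 1) α) (y : V)
    (h2 : DRing.HasTorAmplitudeIn (V.presheaf.stalk y) a b
      ((DerSch.stalkFunctor V y).mapDerivedCategory.obj K)) :
    Module.Flat (V.presheaf.stalk y) ((P.opcycles a).presheaf.stalk y) := by
  obtain ⟨⟨a₁, b₁, hab₁⟩, hfree⟩ := hP
  obtain ⟨F, hF, hFflat, ⟨e⟩⟩ := h2
  let Sy := DerSch.stalkFunctor V y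
  let Py := (Sy.mapHomologicalComplex (ComplexShape.up ℤ)).obj P
  let αy : Q.obj Py ⟶ Q.obj F :=
    (Sy.mapDerivedCategoryFactors.app P).inv ≫ Sy.mapDerivedCategory.map α ≫ e.inv
  have hαy : Good (a - 1) αy :=
    (good_of_isIso _ _).comp ((map_good Sy α hα).comp (good_of_isIso _ _))
  have hproj : ∀ i : ℤ, Projective (Py.X i) := by
    intro i
    have hfr : Module.Free (V.presheaf.stalk y) ((P.X i).presheaf.stalk y) :=
      Groth.Agent.Lib.Helper29.FPFree.free_stalk_of_isFinLocFree _ (hfree i) y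
    have : Module.Projective (V.presheaf.stalk y) ((P.X i).presheaf.stalk y) :=
      Module.Projective.of_free
    exact (IsProjective.iff_projective (Sy.obj (P.X i))).1 this
  have h3 := flat_opcycles_of_good Py F a b b₁ hproj
    (fun i hi => Sy.map_isZero (hab₁ i (Or.inr hi))) hF hFflat αy hαy
  have e' : Py.opcycles a ≅ Sy.obj (P.opcycles a) := (P.sc a).mapOpcyclesIso Sy
  exact (flatProp _).prop_of_iso e' h3

/-- the truncation of the approximating complex, when its opcycles are finite locally free. -/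
theorem exists_strictlyPerfect_of_good_of_finLocFree_opcycles (K : DCoh.D V) (a : ℤ)
    (P : CochainComplex V.Modules ℤ) (α : Q.obj P ⟶ K) (hP : DCoh.IsStrictlyPerfect P)
    (hα : Good (a - 1) α) (hKge : K.IsGE a) (hM : FlatMod.IsFinLocFree (P.opcycles a)) :
    ∃ E : CochainComplex V.Modules ℤ, DCoh.IsStrictlyPerfect E ∧ Nonempty (Q.obj E ≅ K) := by
  obtain ⟨⟨a₁, b₁, hab₁⟩, hfree⟩ := hP
  have hE : DCoh.IsStrictlyPerfect (P.truncGE a) := by
    refine ⟨⟨a, max a b₁, fun i hi => ?_⟩, fun i => ?_⟩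
    · rcases hi with hi | hi
      · exact (P.truncGE a).isZero_of_isStrictlyGE a i hi
      · have h1 : a < i := lt_of_le_of_lt (le_max_left _ _) hi
        have h2 : b₁ < i := lt_of_le_of_lt (le_max_right _ _) hi
        exact (hab₁ i (Or.inr h2)).of_iso (P.truncGEXIso a i h1)
    · rcases lt_trichotomy i a with h | h | h
      · exact isFinLocFree_of_isZero _ ((P.truncGE a).isZero_of_isStrictlyGE a i h)
      · subst h
        exact isFinLocFree_of_iso (P.truncGEXIsoOpcycles i).symm hM
      · exact isFinLocFree_of_iso (P.truncGEXIso a i h).symm (hfree i)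
  refine ⟨P.truncGE a, hE, ?_⟩
  obtain ⟨G, ⟨e⟩⟩ := exists_rep K
  obtain ⟨G', f, s, hs, hfac⟩ := left_fac (α ≫ e.inv)
  let σ : K ≅ Q.obj G' := e.symm ≪≫ asIso (Q.map s)
  have hf : Q.map f = α ≫ σ.hom := by
    have : Q.map f = (α ≫ e.inv) ≫ Q.map s := by rw [hfac]; simp
    rw [this]
    simp [σ]
  have hgood : Good (a - 1) (Q.map f) := by
    rw [hf]
    exact good_comp_iso σ hα
  have hqi : ∀ i : ℤ, a ≤ i → QuasiIsoAt f i := fun i hi => by
    have h3 := hgood.1 i (by omega)
    rw [quasiIsoAt_iff_isIso_homologyMap]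
    exact (NatIso.isIso_map_iff (homologyFunctorFactors _ i) f).1 h3
  have hq1 : QuasiIso (CochainComplex.truncGEMap f a) :=
    (CochainComplex.quasiIso_truncGEMap_iff f a).2 hqi
  have hG'ge : G'.IsGE a := by
    rw [← isGE_Q_obj_iff]
    exact (TStructure.t).isGE_of_iso σ a
  have hq2 : QuasiIso (G'.πTruncGE a) := inferInstance
  have i1 : IsIso (Q.map (CochainComplex.truncGEMap f a)) := by
    rw [isIso_Q_map_iff_quasiIso]; exact hq1
  have i2 : IsIso (Q.map (G'.πTruncGE a)) := by
    rw [isIso_Q_map_iff_quasiIso]; exact hq2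
  exact ⟨asIso (Q.map (CochainComplex.truncGEMap f a)) ≪≫ (asIso (Q.map (G'.πTruncGE a))).symm ≪≫
    σ.symm⟩

/-- **pointwise criterion**: if `K` is `(a-1)`-pseudo-coherent (globally approximated), bounded
below by `a`, and the complex of stalks at `z` has tor amplitude in `[a, b]`, then `K` is strictly
perfect on a neighbourhood of `z`. -/
theorem exists_nhd_strictlyPerfect (K : DCoh.D V) (a b : ℤ) (h1 : PCat (a - 1) K)
    (hge : K.IsGE a) (z : V)
    (h2 : DRing.HasTorAmplitudeIn (V.presheaf.stalk z) a b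
      ((DerSch.stalkFunctor V z).mapDerivedCategory.obj K)) :
    ∃ W : V.Opens, z ∈ W ∧ ∃ E : CochainComplex (W : Scheme.{u}).Modules ℤ,
      DCoh.IsStrictlyPerfect E ∧ Nonempty (Q.obj E ≅ (RD W.ι).obj K) := by
  obtain ⟨P, α, hP, hα⟩ := h1
  haveI := isFinitePresentation_opcycles P hP a
  have hfl := flat_stalk_opcycles_of_good K a b P α hP hα z h2
  obtain ⟨U, hU, hzU, -⟩ := (TopologicalSpace.Opens.isBasis_iff_nbhd.1 V.isBasis_affineOpens)
    (show z ∈ (⊤ : V.Opens) from trivial)
  obtain ⟨g, n, τ, hzg, hτ⟩ := Groth.Agent.Lib.Helper29.FPFree.exists_isBasisOn_of_free_stalk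
    (P.opcycles a) hU z hzU
    (Groth.Agent.Lib.Helper29.FPFree.free_stalk_of_isFlatAt _ z hfl)
  obtain ⟨eM⟩ := hτ.nonempty_iso
  refine ⟨V.basicOpen g, hzg, ?_⟩
  have hP' : DCoh.IsStrictlyPerfect ((RCx (V.basicOpen g).ι).obj P) :=
    isStrictlyPerfect_RCx (V.basicOpen g).ι P hP
  have hα' : Good (a - 1) ((RDQIso (V.basicOpen g).ι P).inv ≫ (RD (V.basicOpen g).ι).map α) :=
    good_iso_comp (RDQIso (V.basicOpen g).ι P).symm (good_RD (V.basicOpen g).ι α hα)
  have hge' : ((RD (V.basicOpen g).ι).obj K).IsGE a :=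
    map_isGE (Scheme.Modules.restrictFunctor (V.basicOpen g).ι) K a hge
  have hM' : FlatMod.IsFinLocFree (((RCx (V.basicOpen g).ι).obj P).opcycles a) :=
    isFinLocFree_of_iso (((P.sc a).mapOpcyclesIso
      (Scheme.Modules.restrictFunctor (V.basicOpen g).ι)) ≪≫ eM).symm
      (isFinLocFree_freeMod n)
  exact exists_strictlyPerfect_of_good_of_finLocFree_opcycles _ a _ _ hP' hα' hge' hM'

end Sch

section Transfer

open Groth.Agent.Lib.Helper16.TorLoc

variable {U X V Y : Scheme.{u}} (f : X ⟶ Y) (f' : U ⟶ V) (j : U ⟶ X) (j' : V ⟶ Y)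

/-- pointwise version of `TorLoc.hasTorAmplitude_RCx_of_square`. -/
theorem hasTorAmplitudeAt_RCx_of_square [IsOpenImmersion j] [IsOpenImmersion j']
    (w : j ≫ f = f' ≫ j') (F : CochainComplex X.Modules ℤ) (m n : ℤ) (x : U)
    (hF : DerSch.HasTorAmplitudeAt f m n F (j.base x)) :
    DerSch.HasTorAmplitudeAt f' m n ((RS.RCx j).obj F) x := by
  obtain ⟨α, hα, hsq⟩ := exists_stalk_square f f' j j' w x
  have hαb : Function.Bijective α.hom := ConcreteCategory.bijective_of_isIso α
  have hβb : Function.Bijective (j.stalkMap x).hom := ConcreteCategory.bijective_of_isIso _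
  have hW : DRing.HasTorAmplitudeIn (Y.presheaf.stalk (f.base (j.base x))) m n
      (DRing.toD ((resCx (f.stalkMap (j.base x)).hom).obj (stkCx (j.base x) F))) :=
    TorAmp.hasTorAmplitudeIn_of_iso (Q.mapIso (Groth.Agent.S6188.stalkCxOverIso f (j.base x) F))
      m n hF
  have hsq' : (j.stalkMap x).hom.comp (f.stalkMap (j.base x)).hom =
      (f'.stalkMap x).hom.comp α.hom := by
    rw [← CommRingCat.hom_comp, ← CommRingCat.hom_comp, hsq]
  have key := torAmp_down (f.stalkMap (j.base x)).hom (f'.stalkMap x).hom α.hom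
    (j.stalkMap x).hom hsq' (RingHom.Flat.of_bijective hαb) (RingHom.Flat.of_bijective hβb)
    (nonempty_ext_res_iso_of_bijective α.hom hαb) (stkCx (j.base x) F) m n hW
  have e : (DerSch.stalkCxOver f' x).obj ((RS.RCx j).obj F) ≅
      (resCx (f'.stalkMap x).hom).obj
        ((extCx (j.stalkMap x).hom).obj (stkCx (j.base x) F)) :=
    Groth.Agent.S6188.stalkCxOverIso f' x _ ≪≫ (resCx (f'.stalkMap x).hom).mapIso
      (((stk x).mapHomologicalComplex (ComplexShape.up ℤ)).mapIso ((RS.RCxIsoPullCx j).app F) ≪≫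
        pullbackStkCxIso j x F)
  exact TorAmp.hasTorAmplitudeIn_of_iso (Q.mapIso e).symm _ _ key

/-- tor amplitude of the complex of stalks passes to open subschemes. -/
theorem stalk_torAmp_restrict {U X : Scheme.{u}} (j : U ⟶ X) [IsOpenImmersion j]
    (F : CochainComplex X.Modules ℤ) (z : U) (a b : ℤ)
    (h : DRing.HasTorAmplitudeIn (X.presheaf.stalk (j.base z)) a b
      (DRing.toD (stkCx (j.base z) F))) :
    DRing.HasTorAmplitudeIn (U.presheaf.stalk z) a b
      ((DerSch.stalkFunctor U z).mapDerivedCategory.obj ((RD j).obj (Q.obj F))) := by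
  have h1 : DerSch.HasTorAmplitudeAt (𝟙 X) a b F (j.base z) :=
    (Groth.Agent.S6200.hasTorAmplitudeAt_id_iff F a b (j.base z)).2 h
  have h2 := hasTorAmplitudeAt_RCx_of_square (𝟙 X) (𝟙 U) j j (by simp) F a b z h1
  have h3 := (Groth.Agent.S6200.hasTorAmplitudeAt_id_iff _ a b z).1 h2
  exact TorAmp.hasTorAmplitudeIn_of_iso
    ((DerSch.stalkFunctor U z).mapDerivedCategory.mapIso (RDQIso j F) ≪≫
      (DerSch.stalkFunctor U z).mapDerivedCategoryFactors.app _).symm a b h3

end Transfer

end Groth.Agent.Lib.Helper16.PerfPt
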