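import Mathlib
import Groth.Agent.Lib.Helper16.LocFree1
import Groth.Agent.Lib.Helper16.LocFree2
import Groth.Agent.Lib.Helper16.PerfPt

/-!
# Helper16 — LocFree3: a strictly perfect complex whose stalk at `x` has tor amplitude in `[i, i]`
is, near `x`, a finite locally free module placed in degree `i`
-/

set_option autoImplicit false
universe u
open CategoryTheory CategoryTheory.Limits AlgebraicGeometry DerivedCategory

attribute [local instance] HasDerivedCategory.standard

namespace Groth.Agent.Lib.Helper16.LocFree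

open Groth.Agent.Lib.Helper16.RS Groth.Agent.Lib.Helper16.Stk Groth.Agent.Lib.Helper16.TorAmp

section General

variable {C : Type*} [Category C] [Abelian C] (K : CochainComplex C ℤ)

lemma fromOpcycles_comp_pOpcycles (j k : ℤ) : K.fromOpcycles j k ≫ K.pOpcycles k = 0 := by
  rw [← cancel_epi (K.pOpcycles j), HomologicalComplex.p_fromOpcycles_assoc, comp_zero]
  exact K.d_pOpcycles j k

/-- the cokernel of `opcycles j ⟶ K^{j+1}` is `opcycles (j+1)`. -/
noncomputable def cokernelFromOpcyclesIso (j k : ℤ) (hjk : j + 1 = k) :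
    cokernel (K.fromOpcycles j k) ≅ K.opcycles k :=
  IsColimit.coconePointUniqueUpToIso (colimit.isColimit _)
    (isCokernelOfComp (f := K.fromOpcycles j k) (K.pOpcycles j) (K.d j k)
      (K.opcyclesIsCokernel j k (by simp [← hjk]))
      (fromOpcycles_comp_pOpcycles K j k) (K.p_fromOpcycles j k))

/-- the kernel of `opcycles j ⟶ K^{j+1}` is the homology. -/
noncomputable def kernelFromOpcyclesIso (j k : ℤ) (hjk : j + 1 = k) :
    kernel (K.fromOpcycles j k) ≅ K.homology j :=
  IsLimit.conePointUniqueUpToIso (limit.isLimit _) (K.homologyIsKernel j k (by simp [← hjk]))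

lemma isZero_opcycles_of_isZero (j : ℤ) (h : IsZero (K.X j)) : IsZero (K.opcycles j) := by
  rw [IsZero.iff_id_eq_zero, ← cancel_epi (K.pOpcycles j)]
  exact h.eq_of_src _ _

lemma isZero_homology_of_isZero (j : ℤ) (h : IsZero (K.X j)) : IsZero (K.homology j) :=
  ShortComplex.isZero_homology_of_isZero_X₂ _ h

variable [HasDerivedCategory C]

/-- a complex with homology only in degree `n` is a module placed in degree `n`. -/
theorem nonempty_iso_single (n : ℤ) (h : ∀ j : ℤ, j ≠ n → K.ExactAt j) :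
    Nonempty (Q.obj K ≅ (singleFunctor C n).obj (K.homology n)) := by
  haveI : (Q.obj K).IsGE n := by
    rw [isGE_Q_obj_iff, CochainComplex.isGE_iff]
    exact fun j hj => h j (by omega)
  haveI : (Q.obj K).IsLE n := by
    rw [isLE_Q_obj_iff, CochainComplex.isLE_iff]
    exact fun j hj => h j (by omega)
  obtain ⟨Y, ⟨e⟩⟩ := exists_iso_singleFunctor_obj_of_isGE_of_isLE (Q.obj K) n
  have eY : Y ≅ K.homology n :=
    ((singleFunctorCompHomologyFunctorIso C n).app Y).symm ≪≫
      (homologyFunctor C n).mapIso e.symm ≪≫ (homologyFunctorFactors C n).app K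
  exact ⟨e ≪≫ (singleFunctor C n).mapIso eY⟩

end General

section Sheaf

variable {V : Scheme.{u}}

/-- restriction of a zero restriction. -/
lemma isZero_restrict_of_le (M : V.Modules) {A B : V.Opens} (h : B ≤ A)
    (hA : IsZero (M.restrict A.ι)) : IsZero (M.restrict B.ι) :=
  IsZero.of_iso ((Scheme.Modules.restrictFunctor (V.homOfLE h)).map_isZero hA)
    ((Scheme.Modules.restrictFunctorCongr (V.homOfLE_ι h).symm).app M ≪≫
      (Scheme.Modules.restrictFunctorComp (V.homOfLE h) A.ι).app M)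

/-- all `opcycles` of a strictly perfect complex have flat stalks at a point where the complex of
stalks has tor amplitude in `[i, i]`. -/
lemma flat_stalk_opcycles (E : CochainComplex V.Modules ℤ) (hE : DCoh.IsStrictlyPerfect E) (i : ℤ)
    (x : V) (h : DRing.HasTorAmplitudeIn (V.presheaf.stalk x) i i (DRing.toD (stkCx x E)))
    (j : ℤ) : Module.Flat (V.presheaf.stalk x) ((E.opcycles j).presheaf.stalk x) := by
  obtain ⟨⟨a, b, hab⟩, hfree⟩ := hE
  have hflat : DRing.TermwiseFlat (stkCx x E) := fun k => by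
    haveI := Groth.Agent.Lib.Helper29.FPFree.free_stalk_of_isFinLocFree _ (hfree k) x
    exact (inferInstance : Module.Flat (V.presheaf.stalk x) ((E.X k).presheaf.stalk x))
  have hb : DRing.VanishesAbove (stkCx x E) b :=
    fun k hk => (stk x).map_isZero (hab k (Or.inr hk))
  have h3 := flat_opcycles_of_torAmp (stkCx x E) b hb hflat i h j
  have e' : (stkCx x E).opcycles j ≅ (stk x).obj (E.opcycles j) := (E.sc j).mapOpcyclesIso (stk x)
  exact (FlatKer.flatProp _).prop_of_iso e' h3

lemma isZero_stalk_homology (E : CochainComplex V.Modules ℤ) (i : ℤ)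
    (x : V) (h : DRing.HasTorAmplitudeIn (V.presheaf.stalk x) i i (DRing.toD (stkCx x E)))
    (j : ℤ) (hj : j ≠ i) : IsZero ((stk x).obj (E.homology j)) := by
  have hex : (stkCx x E).ExactAt j := exactAt_of_torAmp (stkCx x E) i i h j (by omega)
  exact IsZero.of_iso ((HomologicalComplex.exactAt_iff_isZero_homology _ _).1 hex)
    ((E.sc j).mapHomologyIso (stk x)).symm

/-- the tor amplitude of the stalks is unchanged by restriction to an open. -/
lemma stalk_torAmp_RCx {U X : Scheme.{u}} (j : U ⟶ X) [IsOpenImmersion j]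
    (F : CochainComplex X.Modules ℤ) (z : U) (a b : ℤ)
    (h : DRing.HasTorAmplitudeIn (X.presheaf.stalk (j.base z)) a b
      (DRing.toD (stkCx (j.base z) F))) :
    DRing.HasTorAmplitudeIn (U.presheaf.stalk z) a b (DRing.toD (stkCx z ((RCx j).obj F))) := by
  have h1 : DerSch.HasTorAmplitudeAt (𝟙 X) a b F (j.base z) :=
    (Groth.Agent.S6200.hasTorAmplitudeAt_id_iff F a b (j.base z)).2 h
  have h2 := PerfPt.hasTorAmplitudeAt_RCx_of_square (𝟙 X) (𝟙 U) j j (by simp) F a b z h1
  exact (Groth.Agent.S6200.hasTorAmplitudeAt_id_iff _ a b z).1 h2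

/-- a finitely presented module with a flat stalk at `x` is free near `x`. -/
lemma exists_free_nhd (M : V.Modules)
    [SheafOfModules.IsFinitePresentation.{u} (R := V.ringCatSheaf) M] (x : V)
    (hfl : Module.Flat (V.presheaf.stalk x) (M.presheaf.stalk x)) :
    ∃ (U : V.Opens) (n : ℕ), x ∈ U ∧
      Nonempty (M.restrict U.ι ≅ FlatMod.freeMod (U : Scheme.{u}) n) := by
  obtain ⟨U, hU, hxU, -⟩ := (TopologicalSpace.Opens.isBasis_iff_nbhd.1 V.isBasis_affineOpens)
    (show x ∈ (⊤ : V.Opens) from trivial)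
  obtain ⟨g, n, τ, hxg, hτ⟩ := Groth.Agent.Lib.Helper29.FPFree.exists_isBasisOn_of_free_stalk M hU x hxU
    (Groth.Agent.Lib.Helper29.FPFree.free_stalk_of_isFlatAt M x hfl)
  exact ⟨V.basicOpen g, n, hxg, hτ.nonempty_iso⟩

/-- **local structure**: a strictly perfect complex whose complex of stalks at `x` has tor
amplitude in `[i, i]` is, on a neighbourhood of `x`, a finite locally free module placed in
degree `i`. -/
theorem exists_nhd_single (E : CochainComplex V.Modules ℤ) (hE : DCoh.IsStrictlyPerfect E) (i : ℤ)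
    (x : V) (h : DRing.HasTorAmplitudeIn (V.presheaf.stalk x) i i (DRing.toD (stkCx x E))) :
    ∃ (U : Scheme.{u}) (j : U ⟶ V) (_ : IsOpenImmersion j) (y : U), j y = x ∧
      ∃ A : U.Modules, FlatMod.IsFinLocFree A ∧
        Nonempty (Q.obj ((RCx j).obj E) ≅ (singleFunctor U.Modules i).obj A) := by
  classical
  obtain ⟨⟨a, b, hab⟩, hfree⟩ := id hE
  -- Step 1: the opcycles are free near `x`
  have h1 : ∀ k : ℤ, ∃ (U : V.Opens) (n : ℕ), x ∈ U ∧
      Nonempty ((E.opcycles k).restrict U.ι ≅ FlatMod.freeMod (U : Scheme.{u}) n) := by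
    intro k
    haveI := PerfPt.isFinitePresentation_opcycles E hE k
    exact exists_free_nhd _ x (flat_stalk_opcycles E hE i x h k)
  choose Uk nk hxUk ek using h1
  let W₁ : V.Opens := (Finset.Icc a (b + 1)).inf Uk
  have hxW₁ : x ∈ W₁ := mem_finset_inf _ _ _ (fun k _ => hxUk k)
  let E₁ := (RCx W₁.ι).obj E
  have hE₁ : DCoh.IsStrictlyPerfect E₁ := isStrictlyPerfect_RCx W₁.ι E hE
  have hE₁z : ∀ k : ℤ, k < a ∨ b < k → IsZero (E₁.X k) :=
    fun k hk => (Scheme.Modules.restrictFunctor W₁.ι).map_isZero (hab k hk)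
  have hopc : ∀ k : ℤ, FlatMod.IsFinLocFree (E₁.opcycles k) := by
    intro k
    have e1 : E₁.opcycles k ≅ (Scheme.Modules.restrictFunctor W₁.ι).obj (E.opcycles k) :=
      (E.sc k).mapOpcyclesIso (Scheme.Modules.restrictFunctor W₁.ι)
    by_cases hk : k ∈ Finset.Icc a (b + 1)
    · obtain ⟨e2⟩ := restrict_free_of_le (E.opcycles k) (Finset.inf_le hk : W₁ ≤ Uk k) (nk k)
        (ek k).some
      exact isFinLocFree_of_iso (e1 ≪≫ e2).symm (isFinLocFree_freeMod _)
    · have hz : IsZero (E₁.X k) := hE₁z k (by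
        rw [Finset.mem_Icc] at hk
        omega)
      exact Groth.Agent.Lib.Helper1.LocPC.isFinLocFree_of_isZero _
        (isZero_opcycles_of_isZero E₁ k hz)
  -- Step 2: the cohomology sheaves are finite locally free
  have hhom : ∀ k : ℤ, FlatMod.IsFinLocFree (E₁.homology k) := by
    intro k
    have := isFinLocFree_kernel_of_cokernel (E₁.fromOpcycles k (k + 1)) (hopc k) (hE₁.2 (k + 1))
      (isFinLocFree_of_iso (cokernelFromOpcyclesIso E₁ k (k + 1) rfl).symm (hopc (k + 1)))
    exact isFinLocFree_of_iso (kernelFromOpcyclesIso E₁ k (k + 1) rfl) this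
  -- Step 3: they vanish near `x` outside degree `i`
  let x₁ : (W₁ : Scheme.{u}) := ⟨x, hxW₁⟩
  have hst₁ : DRing.HasTorAmplitudeIn ((W₁ : Scheme.{u}).presheaf.stalk x₁) i i
      (DRing.toD (stkCx x₁ E₁)) := stalk_torAmp_RCx W₁.ι E x₁ i i h
  have h4 : ∀ k : ℤ, ∃ W : (W₁ : Scheme.{u}).Opens, x₁ ∈ W ∧
      (k ≠ i → IsZero ((E₁.homology k).restrict W.ι)) := by
    intro k
    by_cases hk : k = i
    · exact ⟨⊤, trivial, fun h => absurd hk h⟩
    · obtain ⟨W, hW, hz⟩ := exists_nhd_isZero_of_isZero_stalk _ (hhom k) x₁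
        (isZero_stalk_homology E₁ i x₁ hst₁ k hk)
      exact ⟨W, hW, fun _ => hz⟩
  choose Wk hxWk hzWk using h4
  let W₂ : (W₁ : Scheme.{u}).Opens := (Finset.Icc a b).inf Wk
  have hxW₂ : x₁ ∈ W₂ := mem_finset_inf _ _ _ (fun k _ => hxWk k)
  let E₂ := (RCx W₂.ι).obj E₁
  have hex : ∀ k : ℤ, k ≠ i → E₂.ExactAt k := by
    intro k hk
    rw [HomologicalComplex.exactAt_iff_isZero_homology]
    refine IsZero.of_iso ?_ (homologyRCxIso W₂.ι E₁ k)
    by_cases hk' : k ∈ Finset.Icc a b
    · exact isZero_restrict_of_le _ (Finset.inf_le hk') (hzWk k hk)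
    · exact (Scheme.Modules.restrictFunctor W₂.ι).map_isZero
        (isZero_homology_of_isZero E₁ k (hE₁z k (by
          rw [Finset.mem_Icc] at hk'
          omega)))
  obtain ⟨e⟩ := nonempty_iso_single E₂ i hex
  refine ⟨W₂, W₂.ι ≫ W₁.ι, inferInstance, ⟨x₁, hxW₂⟩, rfl, E₂.homology i, ?_,
    ⟨(QRCxCompIso W₁.ι W₂.ι E).symm ≪≫ e⟩⟩
  exact isFinLocFree_of_iso (homologyRCxIso W₂.ι E₁ i).symm
    (isFinLocFree_restrict W₂.ι _ (hhom i))

end Sheaf

end Groth.Agent.Lib.Helper16.LocFree
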