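import Mathlib
import Groth.Agent.Lib.Helper16.LocFree3
import Groth.Agent.Lib.Helper16.KD8
import Groth.Agent.Lib.Helper16.RS7
import Groth.Agent.Lib.Helper16.EC2

/-!
# Helper16 — LocFree5: modules placed in one degree, under restriction and derived pullback
-/

set_option autoImplicit false
universe u
open CategoryTheory CategoryTheory.Limits AlgebraicGeometry DerivedCategory

attribute [local instance] HasDerivedCategory.standard

namespace Groth.Agent.Lib.Helper16.LocFree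

open Groth.Agent.Lib.Helper16.RS Groth.Agent.Lib.Helper16.Stk Groth.Agent.Lib.Helper16.KD

variable {X Y U : Scheme.{u}}

/-- the complex `A[-i]`. -/
noncomputable abbrev sglAt (i : ℤ) (A : X.Modules) : CochainComplex X.Modules ℤ :=
  (CochainComplex.singleFunctor X.Modules i).obj A

lemma isZero_sglAt_X (i : ℤ) (A : X.Modules) (k : ℤ) (hk : k ≠ i) : IsZero ((sglAt i A).X k) :=
  HomologicalComplex.isZero_single_obj_X _ _ _ _ hk

lemma isFlat_sglAt_X (i : ℤ) (A : X.Modules) (hA : FlatMod.IsFlat A) (k : ℤ) :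
    FlatMod.IsFlat ((sglAt i A).X k) := by
  by_cases h : k = i
  · subst h
    exact isFlat_of_iso (HomologicalComplex.singleObjXSelf (ComplexShape.up ℤ) k A).symm hA
  · exact isFlat_of_isZero (isZero_sglAt_X i A k h)

lemma isKFlat_sglAt (i : ℤ) (A : X.Modules) (hA : FlatMod.IsFlat A) : DCoh.IsKFlat (sglAt i A) :=
  isKFlat_of_boundedAbove_flat _ i inferInstance (isFlat_sglAt_X i A hA)

/-- `A[-i]` in the derived category. -/
noncomputable def singleQIso (i : ℤ) (A : X.Modules) :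
    (singleFunctor X.Modules i).obj A ≅ Q.obj (sglAt i A) :=
  (singleFunctorIsoCompQ X.Modules i).app A

/-- restriction of `A[-i]`. -/
noncomputable def RDSingleIso (j : U ⟶ X) [IsOpenImmersion j] (i : ℤ) (A : X.Modules) :
    (RD j).obj ((singleFunctor X.Modules i).obj A) ≅
      (singleFunctor U.Modules i).obj ((Scheme.Modules.restrictFunctor j).obj A) :=
  (RD j).mapIso (singleQIso i A) ≪≫ RDQIso j _ ≪≫
    Q.mapIso ((HomologicalComplex.singleMapHomologicalComplex (Scheme.Modules.restrictFunctor j)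
      (ComplexShape.up ℤ) i).app A) ≪≫ (singleQIso i _).symm

/-- derived pullback of `A[-i]` for a flat module `A`. -/
noncomputable def LpullSingleIso (g : Y ⟶ U) [DCoh.HasLpull g] (i : ℤ) (A : U.Modules)
    (hA : FlatMod.IsFlat A) :
    (DCoh.Lpull g).obj ((singleFunctor U.Modules i).obj A) ≅
      (singleFunctor Y.Modules i).obj ((Scheme.Modules.pullback g).obj A) :=
  (DCoh.Lpull g).mapIso (singleQIso i A) ≪≫ LpullIso g _ (isKFlat_sglAt i A hA) ≪≫
    Q.mapIso ((HomologicalComplex.singleMapHomologicalComplex (Scheme.Modules.pullback g)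
      (ComplexShape.up ℤ) i).app A) ≪≫ (singleQIso i _).symm

/-- **base change of a local description `P|_U ≅ A[-i]`** along `f : Y ⟶ X`. -/
theorem nonempty_iso_single_pullback (f : Y ⟶ X) (k : U ⟶ X) [IsOpenImmersion k]
    (P₀ : CochainComplex X.Modules ℤ) (hP₀ : DCoh.IsKFlat P₀) (i : ℤ) (A : U.Modules)
    (hA : FlatMod.IsFlat A)
    (e : Q.obj ((RCx k).obj P₀) ≅ (singleFunctor U.Modules i).obj A)
    {Y' : Scheme.{u}} (j' : Y' ⟶ Y) [IsOpenImmersion j'] (g : Y' ⟶ U) (hg : j' ≫ f = g ≫ k) :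
    Nonempty (Q.obj ((RCx j').obj ((pullCx f).obj P₀)) ≅
      (singleFunctor Y'.Modules i).obj ((Scheme.Modules.pullback g).obj A)) := by
  haveI : DCoh.HasLpull g := hasLpull g
  have hK : DCoh.IsKFlat ((RCx k).obj P₀) := isKFlat_RCx k P₀ hP₀
  exact ⟨Q.mapIso ((pullCxRCxIso f j' k g hg).app P₀) ≪≫ (LpullIso g _ hK).symm ≪≫
    (DCoh.Lpull g).mapIso e ≪≫ LpullSingleIso g i A hA⟩

theorem isFinLocFreeOfRank_of_iso {r : ℕ} {M N : X.Modules} (e : M ≅ N)
    (hM : FlatMod.IsFinLocFreeOfRank r M) : FlatMod.IsFinLocFreeOfRank r N := by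
  intro x
  obtain ⟨V, hx, ⟨i⟩⟩ := hM x
  exact ⟨V, hx, ⟨(Scheme.Modules.restrictFunctor V.ι).mapIso e.symm ≪≫ i⟩⟩

theorem isFinLocFree_of_isFinLocFreeOfRank {r : ℕ} {M : X.Modules}
    (hM : FlatMod.IsFinLocFreeOfRank r M) : FlatMod.IsFinLocFree M := by
  intro x
  obtain ⟨V, hx, hi⟩ := hM x
  exact ⟨V, r, hx, hi⟩

theorem isFinLocFreeOfRank_restrict {r : ℕ} (j : U ⟶ X) [IsOpenImmersion j] (M : X.Modules)
    (hM : FlatMod.IsFinLocFreeOfRank r M) :
    FlatMod.IsFinLocFreeOfRank r ((Scheme.Modules.restrictFunctor j).obj M) := by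
  intro x
  obtain ⟨V₀, hx, ⟨e⟩⟩ := hM (j x)
  refine ⟨j ⁻¹ᵁ V₀, hx, ⟨?_⟩⟩
  exact (Scheme.Modules.restrictFunctorComp (j ⁻¹ᵁ V₀).ι j).symm.app M ≪≫
    (Scheme.Modules.restrictFunctorCongr (morphismRestrict_ι j V₀).symm).app M ≪≫
    (Scheme.Modules.restrictFunctorComp (j ∣_ V₀) V₀.ι).app M ≪≫
    (Scheme.Modules.restrictFunctor (j ∣_ V₀)).mapIso e ≪≫ restrictFreeModIso (j ∣_ V₀) r

theorem isFinLocFreeOfRank_pullback {r : ℕ} (f : Y ⟶ X) (M : X.Modules)
    (hM : FlatMod.IsFinLocFreeOfRank r M) :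
    FlatMod.IsFinLocFreeOfRank r ((Scheme.Modules.pullback f).obj M) := by
  have h1 : FlatMod.IsFinLocFree ((Scheme.Modules.pullback f).obj M) :=
    isFinLocFree_pullback f M (isFinLocFree_of_isFinLocFreeOfRank hM)
  intro y
  obtain ⟨V₀, hx, ⟨e⟩⟩ := hM (f y)
  refine ⟨f ⁻¹ᵁ V₀, hx, ⟨?_⟩⟩
  exact ((pullbackRestrictIso f (f ⁻¹ᵁ V₀).ι V₀.ι (f ∣_ V₀) (morphismRestrict_ι f V₀).symm).app M) ≪≫
    (Scheme.Modules.pullback (f ∣_ V₀)).mapIso e ≪≫ pullbackFreeModIso (f ∣_ V₀) r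

/-- local freeness of rank `r` can be checked after restriction along open immersions. -/
theorem isFinLocFreeOfRank_of_locally {r : ℕ} (M : X.Modules)
    (h : ∀ x : X, ∃ (U : Scheme.{u}) (j : U ⟶ X) (_ : IsOpenImmersion j) (y : U), j y = x ∧
      FlatMod.IsFinLocFreeOfRank r ((Scheme.Modules.restrictFunctor j).obj M)) :
    FlatMod.IsFinLocFreeOfRank r M := by
  intro x
  obtain ⟨U, j, hj, y, hy, hM⟩ := h x
  obtain ⟨W, hyW, ⟨e⟩⟩ := hM y
  refine ⟨j ''ᵁ W, ?_, nonempty_free_on_image j M W r e⟩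
  rw [← hy]
  exact ⟨y, hyW, rfl⟩

/-- a module which vanishes locally vanishes. -/
theorem isZero_of_locally (M : X.Modules)
    (h : ∀ x : X, ∃ (U : Scheme.{u}) (j : U ⟶ X) (_ : IsOpenImmersion j) (y : U), j y = x ∧
      IsZero ((Scheme.Modules.restrictFunctor j).obj M)) : IsZero M := by
  have h0 : FlatMod.IsFinLocFreeOfRank 0 M := by
    apply isFinLocFreeOfRank_of_locally
    intro x
    obtain ⟨U, j, hj, y, hy, hz⟩ := h x
    refine ⟨U, j, hj, y, hy, fun y' => ⟨⊤, trivial, ⟨?_⟩⟩⟩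
    exact ((Scheme.Modules.restrictFunctor _).map_isZero hz).iso isZero_freeMod_zero
  apply isZero_of_forall_isZero_stalk
  intro x
  obtain ⟨W, hxW, ⟨e⟩⟩ := h0 x
  obtain ⟨τ, hτ⟩ := Groth.Agent.Lib.Helper29.FreeIso.exists_isBasisOn_of_iso M W 0 e
  have b := hτ.stalkBasis x hxW
  have : Subsingleton ((DerSch.stalkFunctor X x).obj M) := by
    refine ⟨fun u v => b.ext_elem (fun k => k.elim0)⟩
  exact ModuleCat.isZero_of_subsingleton _

/-- the rank of a free module on a nonempty scheme is well defined. -/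
theorem rank_eq_of_iso_freeMod (T : Scheme.{u}) (t : T) (n r : ℕ)
    (e : FlatMod.freeMod T n ≅ FlatMod.freeMod T r) : n = r := by
  obtain ⟨b₁⟩ := Groth.Agent.Lib.Helper16.EC.exists_basis_sections (FlatMod.freeMod T n) n (Iso.refl _)
  obtain ⟨b₂⟩ := Groth.Agent.Lib.Helper16.EC.exists_basis_sections (FlatMod.freeMod T n) r e
  haveI : Nonempty ((⊤ : T.Opens) : Type u) := ⟨⟨t, trivial⟩⟩
  haveI : Nontrivial Γ(T, ⊤) := Scheme.component_nontrivial T ⊤
  have h1 := Module.finrank_eq_card_basis b₁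
  have h2 := Module.finrank_eq_card_basis b₂
  simp only [Fintype.card_fin] at h1 h2
  omega

/-- the stalk complex of `A[-i]`, `A` flat, has tor amplitude in `[i, i]`. -/
theorem stalk_torAmp_sglAt (i : ℤ) (A : X.Modules) (hA : FlatMod.IsFlat A) (x : X) :
    DRing.HasTorAmplitudeIn (X.presheaf.stalk x) i i (DRing.toD (stkCx x (sglAt i A))) :=
  ⟨stkCx x (sglAt i A), fun k hk => (stk x).map_isZero (isZero_sglAt_X i A k (by omega)),
    fun k => isFlat_sglAt_X i A hA k x, ⟨Iso.refl _⟩⟩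

/-- the stalk complexes of a strictly perfect complex consist of finite free modules. -/
theorem termwiseFiniteFree_stkCx (E : CochainComplex X.Modules ℤ)
    (hE : DCoh.IsStrictlyPerfect E) (x : X) : DRing.TermwiseFiniteFree (stkCx x E) := by
  intro k
  haveI := Groth.Agent.Lib.Helper29.FPFree.isFinitePresentation_of_isFinLocFree _ (hE.2 k)
  haveI := Groth.Agent.Lib.Helper29.FPFree.fp_stalk (E.X k) x
  exact ⟨(inferInstance : Module.Finite (X.presheaf.stalk x) ((E.X k).presheaf.stalk x)),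
    Groth.Agent.Lib.Helper29.FPFree.free_stalk_of_isFinLocFree _ (hE.2 k) x⟩

end Groth.Agent.Lib.Helper16.LocFree
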