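import Mathlib
import Groth.Prelude.Def_DualSh
import Groth.Agent.Lib.Helper16.DRE2
import Groth.Agent.Lib.Helper16.KPR8
import Groth.Agent.Lib.Helper16.LDer3
import Groth.Agent.Lib.Helper16.RestrictD
import Groth.Agent.Lib.Helper16.KF8

/-!
# Helper16 — FlatBC: flat base change for restriction of scalars (complex level)
-/

set_option autoImplicit false
universe u
open CategoryTheory CategoryTheory.Limits TensorProduct ChangeOfRings

attribute [local instance] HasDerivedCategory.standard

namespace Groth.Agent.Lib.Helper16.RelBC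

variable (R A R' : Type u) [CommRing R] [CommRing A] [Algebra R A] [CommRing R'] [Algebra R R']

attribute [local instance] Algebra.TensorProduct.rightAlgebra

/-- `A → R' ⊗_R A`. -/
abbrev ι : A →+* R' ⊗[R] A := Algebra.TensorProduct.includeRight.toRingHom

section
variable (M : ModuleCat.{u} A)

/-- the `R`-module structure on an `A`-module. -/
@[reducible] def modR : Module R M := Module.compHom M (algebraMap R A)

attribute [local instance] modR

instance : IsScalarTower R A M := IsScalarTower.of_algebraMap_smul fun _ _ => rfl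

/-- the identity, as an additive equivalence. -/
noncomputable def c1 : ((R' ⊗[R] A) ⊗[A] M) ≃+ ((ModuleCat.extendScalars.{u,u,u} (ι R A R')).obj M) :=
  AddEquiv.refl _

lemma c1_smul (r : R') (x : (R' ⊗[R] A) ⊗[A] M) :
    (algebraMap R' (R' ⊗[R] A)) r • c1 R A R' M x = c1 R A R' M (r • x) := by
  induction x using TensorProduct.induction_on with
  | zero => rw [smul_zero, map_zero, smul_zero]
  | tmul s m =>
    rw [TensorProduct.smul_tmul', Algebra.smul_def]
    rfl
  | add x y hx hy => rw [map_add, smul_add, hx, hy, smul_add, map_add]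

/-- identity: `restrict (extend M)` is `(R' ⊗ A) ⊗_A M`. -/
noncomputable def e1 :
    ((ModuleCat.restrictScalars.{u} (algebraMap R' (R' ⊗[R] A))).obj
      ((ModuleCat.extendScalars.{u,u,u} (ι R A R')).obj M)) ≃ₗ[R'] ((R' ⊗[R] A) ⊗[A] M) where
  toFun := fun x => (c1 R A R' M).symm x
  invFun := fun x => c1 R A R' M x
  left_inv := fun _ => rfl
  right_inv := fun _ => rfl
  map_add' := fun _ _ => rfl
  map_smul' := by
    intro r x
    obtain ⟨y, rfl⟩ := (c1 R A R' M).surjective x
    change (c1 R A R' M).symm ((algebraMap R' (R' ⊗[R] A)) r • c1 R A R' M y) = r • (c1 R A R' M).symm (c1 R A R' M y)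
    rw [c1_smul, AddEquiv.symm_apply_apply, AddEquiv.symm_apply_apply]

/-- `R'` with its algebra module structure is `R'` with the `compHom` structure. -/
noncomputable def idR : R' ≃ₗ[R] KPR.asMod (algebraMap R R') where
  toFun := fun x => x
  invFun := fun x => x
  left_inv := fun _ => rfl
  right_inv := fun _ => rfl
  map_add' := fun _ _ => rfl
  map_smul' := fun r x => Algebra.smul_def r x

/-- the additive identification `R' ⊗_R M ≃ extend (restrict M)`. -/
noncomputable def c2 : (R' ⊗[R] M) ≃+
    ((ModuleCat.extendScalars.{u,u,u} (algebraMap R R')).obj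
      ((ModuleCat.restrictScalars.{u} (algebraMap R A)).obj M)) :=
  (TensorProduct.congr (idR R R') (LinearEquiv.refl R M)).toAddEquiv

lemma c2_tmul (s : R') (m : M) :
    c2 R A R' M (s ⊗ₜ[R] m) =
      ((s : R') ⊗ₜ[R, algebraMap R R'] (m : (ModuleCat.restrictScalars.{u} (algebraMap R A)).obj M)) := rfl

lemma c2_smul (r : R') (x : R' ⊗[R] M) : c2 R A R' M (r • x) = r • c2 R A R' M x := by
  induction x using TensorProduct.induction_on with
  | zero => rw [smul_zero, map_zero, smul_zero]
  | tmul s m =>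
    have h1 : r • (s ⊗ₜ[R] m : R' ⊗[R] M) = (r * s) ⊗ₜ[R] m := by
      rw [TensorProduct.smul_tmul', smul_eq_mul]
    rw [h1]
    exact (ModuleCat.ExtendScalars.smul_tmul (algebraMap R R')
      (M := (ModuleCat.restrictScalars.{u} (algebraMap R A)).obj M) r s m).symm
  | add x y hx hy => rw [smul_add, map_add, hx, hy, map_add, smul_add]

/-- `R' ⊗_R M ≃ extend (restrict M)`, `R'`-linearly. -/
noncomputable def e2 : (R' ⊗[R] M) ≃ₗ[R']
    ((ModuleCat.extendScalars.{u,u,u} (algebraMap R R')).obj
      ((ModuleCat.restrictScalars.{u} (algebraMap R A)).obj M)) :=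
  (c2 R A R' M).toLinearEquiv (fun r x => c2_smul R A R' M r x)

/-- **Base change**: `(A' ⊗_A M)|_{R'} ≃ R' ⊗_R M|_R` for `A' = R' ⊗_R A`. -/
noncomputable def bcEquiv :
    ((ModuleCat.restrictScalars.{u} (algebraMap R' (R' ⊗[R] A))).obj
      ((ModuleCat.extendScalars.{u,u,u} (ι R A R')).obj M)) ≃ₗ[R']
    ((ModuleCat.extendScalars.{u,u,u} (algebraMap R R')).obj
      ((ModuleCat.restrictScalars.{u} (algebraMap R A)).obj M)) :=
  (e1 R A R' M).trans ((Algebra.IsPushout.cancelBaseChange R R' A (R' ⊗[R] A) M).trans (e2 R A R' M))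

lemma bcEquiv_symm_tmul (s : R') (m : M) :
    (bcEquiv R A R' M).symm
      ((s : R') ⊗ₜ[R, algebraMap R R'] (m : (ModuleCat.restrictScalars.{u} (algebraMap R A)).obj M)) =
    ((algebraMap R' (R' ⊗[R] A) s : R' ⊗[R] A) ⊗ₜ[A, ι R A R'] (m : M)) := by
  have h : (e2 R A R' M).symm
      ((s : R') ⊗ₜ[R, algebraMap R R'] (m : (ModuleCat.restrictScalars.{u} (algebraMap R A)).obj M)) =
      s ⊗ₜ[R] m :=
    (e2 R A R' M).symm_apply_apply (s ⊗ₜ[R] m)
  change (e1 R A R' M).symm ((Algebra.IsPushout.cancelBaseChange R R' A (R' ⊗[R] A) M).symm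
    ((e2 R A R' M).symm _)) = _
  rw [h, Algebra.IsPushout.cancelBaseChange_symm_tmul]
  rfl

lemma bcEquiv_symm_naturality {M N : ModuleCat.{u} A} (f : M ⟶ N) :
    (bcEquiv R A R' M).symm.toModuleIso.hom ≫
      (ModuleCat.restrictScalars.{u} (algebraMap R' (R' ⊗[R] A))).map
        ((ModuleCat.extendScalars.{u,u,u} (ι R A R')).map f) =
    (ModuleCat.extendScalars.{u,u,u} (algebraMap R R')).map
        ((ModuleCat.restrictScalars.{u} (algebraMap R A)).map f) ≫
      (bcEquiv R A R' N).symm.toModuleIso.hom := by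
  apply ModuleCat.ExtendScalars.hom_ext
  intro m
  change ((ModuleCat.extendScalars.{u,u,u} (ι R A R')).map f).hom
      ((bcEquiv R A R' M).symm ((1 : R') ⊗ₜ[R, algebraMap R R'] m)) =
    (bcEquiv R A R' N).symm ((1 : R') ⊗ₜ[R, algebraMap R R'] (f.hom m))
  refine (congrArg ((ModuleCat.extendScalars.{u,u,u} (ι R A R')).map f).hom
    (bcEquiv_symm_tmul R A R' M 1 m)).trans (Eq.trans ?_ (bcEquiv_symm_tmul R A R' N 1 (f.hom m)).symm)
  rfl

end

/-- **Base change natural isomorphism** `(A' ⊗_A -)|_{R'} ≅ R' ⊗_R (-)|_R`. -/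
noncomputable def bcIso :
    ModuleCat.extendScalars.{u,u,u} (ι R A R') ⋙
        ModuleCat.restrictScalars.{u} (algebraMap R' (R' ⊗[R] A)) ≅
      ModuleCat.restrictScalars.{u} (algebraMap R A) ⋙
        ModuleCat.extendScalars.{u,u,u} (algebraMap R R') :=
  (NatIso.ofComponents (fun M => (bcEquiv R A R' M).symm.toModuleIso)
    (fun f => (bcEquiv_symm_naturality R A R' f).symm)).symm

section Derived

open DerivedCategory Groth.Agent.Lib.Helper16.LDer Groth.Agent.Lib.Helper16.RestrictD

/-- derived base change of a K-flat complex. -/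
noncomputable def lBaseChangeIsoOfKFlat {R S : Type u} [CommRing R] [CommRing S] (φ : R →+* S)
    [DRing.HasLBaseChange φ] (P : DRing.Cx R) (hP : DRing.IsKFlat R P) :
    (DRing.LBaseChange φ).obj (Q.obj P) ≅ Q.obj ((extCx φ).obj P) :=
  @asIso _ _ _ _ (((DRing.baseChangeKh φ).totalLeftDerivedCounit DerivedCategory.Qh
      (HomotopyCategory.quasiIso (ModuleCat.{u} R) (ComplexShape.up ℤ))).app
        ((HomotopyCategory.quotient _ _).obj P))
    (DRE.isIso_app_h_of_isKFlat (DRE.invertsKFlat_baseChangeKh φ) _ P hP)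

/-- the complex-level base change isomorphism. -/
noncomputable def bcCxIso (F : DRing.Cx A) :
    ((ModuleCat.restrictScalars.{u} (algebraMap R' (R' ⊗[R] A))).mapHomologicalComplex
        (ComplexShape.up ℤ)).obj ((extCx (ι R A R')).obj F) ≅
      (extCx (algebraMap R R')).obj
        (((ModuleCat.restrictScalars.{u} (algebraMap R A)).mapHomologicalComplex
          (ComplexShape.up ℤ)).obj F) :=
  (NatIso.mapHomologicalComplex (bcIso R A R') (ComplexShape.up ℤ)).app F

/-- **Flat base change**: `(K ⊗^L_A A')|_{R'} ≅ K|_R ⊗^L_R R'` for `K` represented by a bounded above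
complex of projective `A`-modules, `A` flat over `R` and `A' = R' ⊗_R A`. -/
theorem nonempty_restrict_LBaseChange_iso [Module.Flat R A]
    [DRing.HasLBaseChange (ι R A R')] [DRing.HasLBaseChange (algebraMap R R')]
    (F : DRing.Cx A) (b : ℤ) (hFb : DRing.VanishesAbove F b)
    (hFp : ∀ i, Module.Projective A (F.X i)) :
    Nonempty ((DRing.restrictD (algebraMap R' (R' ⊗[R] A))).obj
        ((DRing.LBaseChange (ι R A R')).obj (Q.obj F)) ≅
      (DRing.LBaseChange (algebraMap R R')).obj
        ((DRing.restrictD (algebraMap R A)).obj (Q.obj F))) := by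
  have hKF : DRing.IsKFlat R (((ModuleCat.restrictScalars.{u} (algebraMap R A)).mapHomologicalComplex
      (ComplexShape.up ℤ)).obj F) := by
    refine KF.isKFlat_of_boundedAbove _ b (fun i hi => ?_) (fun i => ?_)
    · exact (ModuleCat.restrictScalars.{u} (algebraMap R A)).map_isZero (hFb i hi)
    · haveI := hFp i
      haveI : Module.Flat A (F.X i) := Module.Flat.of_projective
      change Module.Flat R ((ModuleCat.restrictScalars.{u} (algebraMap R A)).obj (F.X i))
      letI : Module R (F.X i) := Module.compHom _ (algebraMap R A)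
      haveI : IsScalarTower R A (F.X i) := IsScalarTower.of_algebraMap_smul fun _ _ => rfl
      exact Module.Flat.trans R A (F.X i)
  exact ⟨(DRing.restrictD (algebraMap R' (R' ⊗[R] A))).mapIso
      (lBaseChangeIso' (ι R A R') F b hFb hFp) ≪≫
    restrictQIso (algebraMap R' (R' ⊗[R] A)) _ ≪≫ Q.mapIso (bcCxIso R A R' F) ≪≫
    (lBaseChangeIsoOfKFlat (algebraMap R R') _ hKF).symm ≪≫
    (DRing.LBaseChange (algebraMap R R')).mapIso (restrictQIso (algebraMap R A) F).symm⟩

end Derived

end Groth.Agent.Lib.Helper16.RelBC
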