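import Mathlib
import Groth.Agent.Lib.Helper16.LocFree5
import Groth.Agent.Lib.Helper16.LocFree4
import Groth.Agent.Lib.Helper16.LBCpc
import Groth.Agent.Lib.Helper16.RelBC1
import Groth.Agent.Lib.Helper16.PC7e
import Groth.Agent.Lib.Helper16.Sky5
import Groth.Agent.Lib.Helper16.BC1
import Groth.Agent.Lib.Helper16.KF8
import Groth.Agent.Lib.Helper16.TorAmp5
import Groth.Agent.Lib.Helper16.DRE2
import Groth.Agent.Lib.Helper16.TorLoc9
import Groth.Agent.Lib.Helper1.LocPC1

/-!
# Helper16 — PerfFib1: stalks of pseudo-coherent objects, and tor amplitude from a pullback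

* `extCxOfEqId`: extension of scalars along the identity, on complexes.
* `stalk_torAmp_of_RCx`: tor amplitude of the complex of stalks ascends from an open subscheme.
* `stalk_pc_of_PCat`, `stalk_pc'`: the complex of stalks of a pseudo-coherent object is
  pseudo-coherent over the local ring.
* `stalk_torAmp_of_pullback`: if the complex of stalks of `g^* P₀` at `y` has tor amplitude in
  `[a, b]` and the complex of stalks of `P₀` at `g y` is pseudo-coherent, the latter has tor
  amplitude in `[a, b]` (local criterion through the residue fields).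
-/

set_option autoImplicit false
universe u
open CategoryTheory CategoryTheory.Limits AlgebraicGeometry DerivedCategory

attribute [local instance] HasDerivedCategory.standard

namespace Groth.Agent.Lib.Helper16.PerfFib

open Groth.Agent.Lib.Helper16.RS Groth.Agent.Lib.Helper16.Stk Groth.Agent.Lib.Helper16.KD
  Groth.Agent.Lib.Helper16.PC Groth.Agent.Lib.Helper1.LocPC Groth.Agent.Lib.Helper16.LocFree
  Groth.Agent.Lib.Helper16

section Ring

variable {A B : Type u} [CommRing A] [CommRing B]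

/-- extension of scalars along (a ring homomorphism equal to) the identity, on complexes. -/
noncomputable def extCxOfEqId (φ : A →+* A) (h : φ = RingHom.id A) :
    TorLoc.extCx φ ≅ 𝟭 (DRing.Cx A) := by
  subst h
  exact NatIso.mapHomologicalComplex (ModuleCat.extendScalarsId A) (ComplexShape.up ℤ) ≪≫
    Functor.mapHomologicalComplexIdIso _ _

/-- derived base change of K-flat complexes only depends on the class in the derived category. -/
noncomputable def extCxQIso (φ : A →+* B) {P F : DRing.Cx A} (hP : DRing.IsKFlat A P)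
    (hF : DRing.IsKFlat A F) (e : DRing.toD P ≅ DRing.toD F) :
    DRing.toD ((TorLoc.extCx φ).obj P) ≅ DRing.toD ((TorLoc.extCx φ).obj F) :=
  haveI := DRE.hasLBaseChange φ
  (RelBC.lBaseChangeIsoOfKFlat φ P hP).symm ≪≫ (DRing.LBaseChange φ).mapIso e ≪≫
    RelBC.lBaseChangeIsoOfKFlat φ F hF

end Ring

section Sch

variable {X Y U : Scheme.{u}}

/-- the complex of stalks of a restriction, as an extension of scalars. -/
noncomputable def stkCxRCxIso (j : U ⟶ X) [IsOpenImmersion j] (F : CochainComplex X.Modules ℤ)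
    (z : U) : stkCx z ((RCx j).obj F) ≅ (TorLoc.extCx (φs j z)).obj (stkCx (j z) F) :=
  ((stk z).mapHomologicalComplex (ComplexShape.up ℤ)).mapIso ((RCxIsoPullCx j).app F) ≪≫
    pullbackStkCxIso j z F

lemma bijective_φs (j : U ⟶ X) [IsOpenImmersion j] (z : U) : Function.Bijective (φs j z) :=
  ConcreteCategory.bijective_of_isIso (j.stalkMap z)

/-- the tor amplitude of the complex of stalks ascends from an open subscheme. -/
theorem stalk_torAmp_of_RCx (j : U ⟶ X) [IsOpenImmersion j] (F : CochainComplex X.Modules ℤ)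
    (z : U) (a b : ℤ)
    (h : DRing.HasTorAmplitudeIn (U.presheaf.stalk z) a b (DRing.toD (stkCx z ((RCx j).obj F)))) :
    DRing.HasTorAmplitudeIn (X.presheaf.stalk (j z)) a b (DRing.toD (stkCx (j z) F)) := by
  letI : Algebra (X.presheaf.stalk (j z)) (U.presheaf.stalk z) := (φs j z).toAlgebra
  haveI : Module.FaithfullyFlat (X.presheaf.stalk (j z)) (U.presheaf.stalk z) :=
    RingHom.FaithfullyFlat.of_bijective (bijective_φs j z)
  exact TorAmp.torAmp_descent (B := U.presheaf.stalk z) (stkCx (j z) F) a b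
    (TorAmp.hasTorAmplitudeIn_of_iso (Q.mapIso (stkCxRCxIso j F z)) a b h)

/-- an `m`-pseudo-coherent restriction to an open neighbourhood of `j z` gives an
`m`-pseudo-coherent complex of stalks at `z`, over the local ring of the open subscheme. -/
theorem stalk_pc_of_PCat_aux (j : U ⟶ X) [IsOpenImmersion j] (z : U) (m : ℤ)
    (F : CochainComplex U.Modules ℤ) (h : PCat m (Q.obj F)) :
    DRing.IsPseudoCoherent (U.presheaf.stalk z) m (DRing.toD (stkCx z F)) := by
  obtain ⟨P, α, hP, hα⟩ := h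
  obtain ⟨⟨a, b, hab⟩, -⟩ := id hP
  have hg : Good m (((stk z).mapDerivedCategoryFactors.app P).inv ≫
      (stk z).mapDerivedCategory.map α ≫ ((stk z).mapDerivedCategoryFactors.app F).hom) :=
    (good_of_isIso m _).comp ((map_good (stk z) α hα).comp (good_of_isIso m _))
  exact ⟨stkCx z P, a, b, _, fun i hi => (stk z).map_isZero (hab i hi),
    termwiseFiniteFree_stkCx P hP z, hg.1, hg.2⟩

/-- the inverse of the stalk map of an open immersion. -/
noncomputable def θs (j : U ⟶ X) [IsOpenImmersion j] (z : U) :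
    U.presheaf.stalk z →+* X.presheaf.stalk (j z) := (inv (j.stalkMap z)).hom

lemma θs_comp_φs (j : U ⟶ X) [IsOpenImmersion j] (z : U) :
    (θs j z).comp (φs j z) = RingHom.id _ := by
  have h : j.stalkMap z ≫ inv (j.stalkMap z) = 𝟙 _ := IsIso.hom_inv_id _
  exact congrArg CommRingCat.Hom.hom h

/-- an `m`-pseudo-coherent restriction to an open neighbourhood of `j z` gives an
`m`-pseudo-coherent complex of stalks at `j z`. -/
theorem stalk_pc_of_PCat (j : U ⟶ X) [IsOpenImmersion j] (z : U) (m : ℤ)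
    (P₀ : CochainComplex X.Modules ℤ) (hP₀ : DCoh.IsKFlat P₀)
    (h : PCat m ((RD j).obj (Q.obj P₀))) :
    DRing.IsPseudoCoherent (X.presheaf.stalk (j z)) m (DRing.toD (stkCx (j z) P₀)) := by
  have h1 := stalk_pc_of_PCat_aux j z m ((RCx j).obj P₀) (h.of_iso (RDQIso j P₀))
  haveI := DRE.hasLBaseChange (θs j z)
  have h2 := LBCpc.pc_lBaseChange (θs j z) _ m h1
  have hF : DRing.IsKFlat (X.presheaf.stalk (j z)) (stkCx (j z) P₀) :=
    stalk_isKFlat_of_isKFlat (j z) P₀ hP₀
  have e : (DRing.LBaseChange (θs j z)).obj (DRing.toD (stkCx z ((RCx j).obj P₀))) ≅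
      DRing.toD (stkCx (j z) P₀) :=
    (DRing.LBaseChange (θs j z)).mapIso (Q.mapIso (stkCxRCxIso j P₀ z)) ≪≫
      RelBC.lBaseChangeIsoOfKFlat (θs j z) _ (BC.isKFlat_extendScalars (φs j z) _ hF) ≪≫
      Q.mapIso ((TorLoc.extCxCompIso (φs j z) (θs j z)).app (stkCx (j z) P₀)).symm ≪≫
      Q.mapIso ((extCxOfEqId _ (θs_comp_φs j z)).app (stkCx (j z) P₀))
  exact (isPseudoCoherent_iff m _).2 (((isPseudoCoherent_iff m _).1 h2).of_iso e)

/-- **the complex of stalks of a pseudo-coherent object is pseudo-coherent**, in the strong form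
(a bounded above complex of finite free modules over the local ring). -/
theorem stalk_pc' (x : X) (P₀ : CochainComplex X.Modules ℤ) (hP₀ : DCoh.IsKFlat P₀)
    (h : ∀ m : ℤ, PCAt m (Q.obj P₀) x) :
    DRing.IsPseudoCoherent' (X.presheaf.stalk x) (DRing.toD (stkCx x P₀)) := by
  apply pc'_of_pc
  intro m
  obtain ⟨V, hx, hV⟩ := h m
  obtain ⟨x₁, hx₁⟩ : ∃ x₁ : V, V.ι x₁ = x := ⟨⟨x, hx⟩, rfl⟩
  subst hx₁
  exact stalk_pc_of_PCat V.ι x₁ m P₀ hP₀ hV

/-- **local criterion**: if the complex of stalks of `P₀` at `g y` is pseudo-coherent and the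
complex of stalks of `g^* P₀` at `y` has tor amplitude in `[a, b]`, then the complex of stalks of
`P₀` at `g y` has tor amplitude in `[a, b]`. -/
theorem stalk_torAmp_of_pullback (g : Y ⟶ X) (y : Y) (P₀ : CochainComplex X.Modules ℤ)
    (hP₀ : DCoh.IsKFlat P₀)
    (hpc : DRing.IsPseudoCoherent' (X.presheaf.stalk (g y)) (DRing.toD (stkCx (g y) P₀)))
    (a b : ℤ)
    (h : DRing.HasTorAmplitudeIn (Y.presheaf.stalk y) a b
      (DRing.toD (stkCx y ((pullCx g).obj P₀)))) :
    DRing.HasTorAmplitudeIn (X.presheaf.stalk (g y)) a b (DRing.toD (stkCx (g y) P₀)) := by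
  obtain ⟨P, b', hPb, hff, ⟨e⟩⟩ := hpc
  have hF : DRing.IsKFlat (X.presheaf.stalk (g y)) (stkCx (g y) P₀) :=
    stalk_isKFlat_of_isKFlat (g y) P₀ hP₀
  have hPfl : DRing.TermwiseFlat P := fun i => by
    haveI := (hff i).2
    infer_instance
  have hPK : DRing.IsKFlat (X.presheaf.stalk (g y)) P := KF.isKFlat_of_boundedAbove P b' hPb hPfl
  letI : Algebra (X.presheaf.stalk (g y)) (Y.presheaf.stalk y) := (φs g y).toAlgebra
  haveI : IsLocalHom (algebraMap (X.presheaf.stalk (g y)) (Y.presheaf.stalk y)) :=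
    (inferInstance : IsLocalHom (g.stalkMap y).hom)
  have h1 : DRing.HasTorAmplitudeIn (Y.presheaf.stalk y) a b
      (DRing.toD ((TorLoc.extCx (φs g y)).obj P)) :=
    TorAmp.hasTorAmplitudeIn_of_iso
      (extCxQIso (φs g y) hPK hF e ≪≫ Q.mapIso (pullbackStkCxIso g y P₀).symm).symm a b h
  exact TorAmp.hasTorAmplitudeIn_of_iso e a b (torAmp_of_extCx_local P b' hPb hff a b h1)

/-- the complex of stalks of a perfect object has finite tor amplitude. -/
theorem exists_stalk_torAmp_of_isPerfect (K : DCoh.D Y) (hK : DCoh.IsPerfect K)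
    (F : CochainComplex Y.Modules ℤ) (e : Q.obj F ≅ K) (y : Y) :
    ∃ a b : ℤ, DRing.HasTorAmplitudeIn (Y.presheaf.stalk y) a b (DRing.toD (stkCx y F)) := by
  obtain ⟨W, hy, hW⟩ := hK y
  obtain ⟨E₀, hE₀, ⟨e₀⟩⟩ := hW F ⟨e⟩
  obtain ⟨⟨a, b, hab⟩, hfree⟩ := id hE₀
  obtain ⟨y₁, hy₁⟩ : ∃ y₁ : W, W.ι y₁ = y := ⟨⟨y, hy⟩, rfl⟩
  subst hy₁
  refine ⟨a, b, stalk_torAmp_of_RCx W.ι F y₁ a b ?_⟩
  have e₀' : DCoh.toD _ E₀ ≅ DCoh.toD _ ((RCx W.ι).obj F) := e₀.symm
  refine TorAmp.hasTorAmplitudeIn_of_iso (Groth.Agent.S6200.stkIsoOfIso y₁ e₀') a b ?_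
  have hfl : DRing.TermwiseFlat (stkCx y₁ E₀) := fun i => isFlat_of_isFinLocFree _ (hfree i) y₁
  exact ⟨stkCx y₁ E₀, fun i hi => (stk y₁).map_isZero (hab i hi), hfl, ⟨Iso.refl _⟩⟩

end Sch

end Groth.Agent.Lib.Helper16.PerfFib
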