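import Mathlib
import Groth.Prelude.Def_DualSch
import Groth.Agent.Lib.Helper16.CMDual
import Groth.Agent.Lib.Helper16.TildeLoc
import Groth.Agent.Lib.Helper16.PB1
import Groth.Agent.Lib.Helper16.PerfFib1
import Groth.Agent.Lib.Helper16.RS2
import Groth.Agent.Lib.Helper5.CMFlatLocal

/-!
# Helper16 — DualSchCM: stalks of cohomology sheaves of a dualizing complex on a scheme and the
Cohen–Macaulay locus (S1809).
-/

set_option autoImplicit false
universe u
open CategoryTheory CategoryTheory.Limits AlgebraicGeometry TopologicalSpace Opposite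
  DerivedCategory

attribute [local instance] HasDerivedCategory.standard

namespace Groth.Agent.Lib.Helper16.DualSchCM

open Groth.Agent.Lib.Helper16 Groth.Agent.Lib.Helper16.Stk Groth.Agent.Lib.Helper16.RS
  Groth.Agent.Lib.Helper16.TildeTor

section Mod

variable {X U : Scheme.{u}}

/-- nontriviality of stalks is invariant under isomorphisms of modules -/
lemma nontrivial_stalk_congr {M N : X.Modules} (e : M ≅ N) (x : X) :
    Nontrivial (M.presheaf.stalk x) ↔ Nontrivial (N.presheaf.stalk x) :=
  (((stk x).mapIso e).toLinearEquiv.toEquiv).nontrivial_congr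

/-- stalks of a restriction to an open subscheme -/
lemma nontrivial_stalk_restrict (j : U ⟶ X) [IsOpenImmersion j] (M : X.Modules) (z : U) :
    Nontrivial (((Scheme.Modules.restrictFunctor j).obj M).presheaf.stalk z) ↔
      Nontrivial (M.presheaf.stalk (j z)) := by
  let e : (stk z).obj ((Scheme.Modules.restrictFunctor j).obj M) ≅
      (ModuleCat.extendScalars.{u, u, u} (φs j z)).obj ((stk (j z)).obj M) :=
    (stk z).mapIso ((Scheme.Modules.restrictFunctorIsoPullback j).app M) ≪≫
      (pullbackStkIso j z).app M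
  have h1 : Nontrivial (((Scheme.Modules.restrictFunctor j).obj M).presheaf.stalk z) ↔
      Nontrivial ((ModuleCat.extendScalars.{u, u, u} (φs j z)).obj ((stk (j z)).obj M)) :=
    e.toLinearEquiv.toEquiv.nontrivial_congr
  refine h1.trans ?_
  letI : Algebra (X.presheaf.stalk (j z)) (U.presheaf.stalk z) := (φs j z).toAlgebra
  haveI : Module.FaithfullyFlat (X.presheaf.stalk (j z)) (U.presheaf.stalk z) :=
    RingHom.FaithfullyFlat.of_bijective (PerfFib.bijective_φs j z)
  change Nontrivial (TensorProduct (X.presheaf.stalk (j z)) (U.presheaf.stalk z)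
    (M.presheaf.stalk (j z))) ↔ _
  rw [← not_subsingleton_iff_nontrivial, ← not_subsingleton_iff_nontrivial,
    Module.FaithfullyFlat.subsingleton_tensorProduct_iff_right]

end Mod

section Tilde

variable (R : CommRingCat.{u})

/-- a prime as a point of `Spec R` -/
def pt (p : PrimeSpectrum R) : (Spec (CommRingCat.of R) : Scheme.{u}) := p

/-- stalks of `M~` are localizations -/
lemma nontrivial_stalk_tilde (M : ModuleCat.{u} R) (p : PrimeSpectrum R) :
    Nontrivial (((tilde.functor R).obj M).presheaf.stalk (pt R p)) ↔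
      Nontrivial (LocalizedModule p.asIdeal.primeCompl M) := by
  set x := pt R p with hx
  have h1 : Nontrivial (((tilde.functor R).obj M).presheaf.stalk x) ↔
      Nontrivial ((ModuleCat.extendScalars.{u, u, u} (ψ R x)).obj M) :=
    ((tildeStkIso R x).app M).toLinearEquiv.toEquiv.nontrivial_congr
  refine h1.trans ?_
  letI k : Algebra R ((Spec (CommRingCat.of R)).presheaf.stalk x) :=
    StructureSheaf.stalkAlgebra R p
  haveI : IsLocalization.AtPrime ((Spec (CommRingCat.of R)).presheaf.stalk x) p.asIdeal :=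
    StructureSheaf.IsLocalization.to_stalk R p
  change Nontrivial (TensorProduct R ((Spec (CommRingCat.of R)).presheaf.stalk x) M) ↔ _
  haveI : IsLocalizedModule p.asIdeal.primeCompl
      (TensorProduct.mk R ((Spec (CommRingCat.of R)).presheaf.stalk x) M 1) :=
    (isLocalizedModule_iff_isBaseChange p.asIdeal.primeCompl
      ((Spec (CommRingCat.of R)).presheaf.stalk x) _).2
      (TensorProduct.isBaseChange R M ((Spec (CommRingCat.of R)).presheaf.stalk x))
  exact (IsLocalizedModule.iso p.asIdeal.primeCompl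
    (TensorProduct.mk R ((Spec (CommRingCat.of R)).presheaf.stalk x) M 1)).toEquiv.nontrivial_congr.symm

/-- cohomology sheaves of `M~` -/
lemma nonempty_HD_tildeD_iso [PreservesFiniteLimits (tilde.functor R)]
    (M : DerivedCategory (ModuleCat.{u} R)) (i : ℤ) :
    Nonempty (DCoh.HD ((DCoh.tildeD R).obj M) i ≅
      (tilde.functor R).obj ((homologyFunctor (ModuleCat.{u} R) i).obj M)) := by
  let P0 := Q.objPreimage M
  let e0 : Q.obj P0 ≅ M := Q.objObjPreimageIso M
  have e3 : (DCoh.tildeD R).obj M ≅ Q.obj ((tildeCx R).obj P0) :=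
    (DCoh.tildeD R).mapIso e0.symm ≪≫ (tilde.functor R).mapDerivedCategoryFactors.app P0
  exact ⟨(homologyFunctor _ i).mapIso e3 ≪≫ (homologyFunctorFactors _ i).app _ ≪≫
    (P0.sc i).mapHomologyIso (tilde.functor R) ≪≫
    (tilde.functor R).mapIso (((homologyFunctorFactors _ i).app P0).symm ≪≫
      (homologyFunctor _ i).mapIso e0)⟩

/-- the stalk of `Spec R` at a prime is the localization -/
noncomputable def stalkRingEquiv (p : PrimeSpectrum R) :
    (Spec (CommRingCat.of R)).presheaf.stalk (pt R p) ≃+* Localization.AtPrime p.asIdeal :=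
  letI k : Algebra R ((Spec (CommRingCat.of R)).presheaf.stalk (pt R p)) :=
    StructureSheaf.stalkAlgebra R p
  haveI : IsLocalization.AtPrime ((Spec (CommRingCat.of R)).presheaf.stalk (pt R p)) p.asIdeal :=
    StructureSheaf.IsLocalization.to_stalk R p
  (IsLocalization.algEquiv p.asIdeal.primeCompl
    ((Spec (CommRingCat.of R)).presheaf.stalk (pt R p)) (Localization.AtPrime p.asIdeal)).toRingEquiv

end Tilde

section Restrict

variable {X U : Scheme.{u}} (j : U ⟶ X) [IsOpenImmersion j]

/-- cohomology sheaves of a restriction -/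
lemma nonempty_HD_restrictD_iso [PreservesFiniteLimits (Scheme.Modules.restrictFunctor j)]
    (K : DCoh.D X) (i : ℤ) :
    Nonempty (DCoh.HD ((DCoh.restrictD j).obj K) i ≅
      (Scheme.Modules.restrictFunctor j).obj (DCoh.HD K i)) := by
  let F := Q.objPreimage K
  let e0 : Q.obj F ≅ K := Q.objObjPreimageIso K
  have e3 : (DCoh.restrictD j).obj K ≅ Q.obj ((RCx j).obj F) :=
    (DCoh.restrictD j).mapIso e0.symm ≪≫
      (Scheme.Modules.restrictFunctor j).mapDerivedCategoryFactors.app F
  exact ⟨(homologyFunctor _ i).mapIso e3 ≪≫ (homologyFunctorFactors _ i).app _ ≪≫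
    homologyRCxIso j F i ≪≫
    (Scheme.Modules.restrictFunctor j).mapIso (((homologyFunctorFactors _ i).app F).symm ≪≫
      (homologyFunctor _ i).mapIso e0)⟩

/-- the stalk rings of an open subscheme -/
noncomputable def stalkRingEquivOfOpenImmersion (z : U) :
    X.presheaf.stalk (j z) ≃+* U.presheaf.stalk z :=
  (asIso (j.stalkMap z)).commRingCatIsoToRingEquiv

end Restrict

section Main

variable (X : Scheme.{u})
  [inst1 : ∀ (U : Scheme.{u}) (j : U ⟶ X) [IsOpenImmersion j],
    PreservesFiniteLimits (Scheme.Modules.restrictFunctor j)]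
  [inst2 : ∀ (R : CommRingCat.{u}), PreservesFiniteLimits (tilde.functor R)]

lemma cm_congr {A B : Type u} [CommRing A] [CommRing B] (e : A ≃+* B) :
    LocCoh.IsCohenMacaulayLocalRing A ↔ LocCoh.IsCohenMacaulayLocalRing B :=
  ⟨fun _ => Groth.Agent.Lib.Helper5.CMFlatLocal.isCohenMacaulayLocalRing_of_ringEquiv e,
    fun _ => Groth.Agent.Lib.Helper5.CMFlatLocal.isCohenMacaulayLocalRing_of_ringEquiv e.symm⟩

/-- the chart lemma -/
theorem chart (ω : DCoh.D X) (A : Type u) [CommRing A] (j : Spec (CommRingCat.of A) ⟶ X)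
    [IsOpenImmersion j] (ω' : Dual.D A)
    (e : (DCoh.restrictD j).obj ω ≅ (DCoh.tildeD (CommRingCat.of A)).obj ω')
    (p : PrimeSpectrum A) :
    (LocCoh.IsCohenMacaulayLocalRing (X.presheaf.stalk (j (pt (CommRingCat.of A) p))) ↔
      LocCoh.IsCohenMacaulayLocalRing (Localization.AtPrime p.asIdeal)) ∧
    ∀ i : ℤ, (Nontrivial ((DCoh.HD ω i).presheaf.stalk (j (pt (CommRingCat.of A) p))) ↔
      Nontrivial (LocalizedModule p.asIdeal.primeCompl (Dual.HD A ω' i))) := by
  constructor
  · exact (cm_congr (stalkRingEquivOfOpenImmersion j (pt (CommRingCat.of A) p))).trans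
      (cm_congr (stalkRingEquiv (CommRingCat.of A) p))
  · intro i
    obtain ⟨e1⟩ := nonempty_HD_restrictD_iso j ω i
    obtain ⟨e2⟩ := nonempty_HD_tildeD_iso (CommRingCat.of A) ω' i
    rw [← nontrivial_stalk_restrict j (DCoh.HD ω i) (pt (CommRingCat.of A) p),
      ← nontrivial_stalk_congr e1 (pt (CommRingCat.of A) p),
      nontrivial_stalk_congr ((homologyFunctor _ i).mapIso e) (pt (CommRingCat.of A) p),
      nontrivial_stalk_congr e2 (pt (CommRingCat.of A) p)]
    exact nontrivial_stalk_tilde (CommRingCat.of A) _ p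

/-- **S1809** -/
theorem main (ω : DCoh.D X) (hω : Dual2.IsDualizingSch X ω) :
    (∀ x : X, LocCoh.IsCohenMacaulayLocalRing (X.presheaf.stalk x) ↔
      ∃! i : ℤ, Nontrivial ((DCoh.HD ω i).presheaf.stalk x)) ∧
    IsOpen {x : X | LocCoh.IsCohenMacaulayLocalRing (X.presheaf.stalk x)} := by
  -- every point lies in an affine chart
  have hchart : ∀ x : X, ∃ (A : Type u) (_ : CommRing A) (j : Spec (CommRingCat.of A) ⟶ X)
      (_ : IsOpenImmersion j) (p : PrimeSpectrum A), j (pt (CommRingCat.of A) p) = x := by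
    intro x
    obtain ⟨z, hz⟩ := X.affineOpenCover.covers x
    exact ⟨X.affineOpenCover.X (X.affineOpenCover.idx x), inferInstance,
      X.affineOpenCover.f (X.affineOpenCover.idx x), inferInstance, z, hz⟩
  constructor
  · intro x
    obtain ⟨A, _, j, _, p, rfl⟩ := hchart x
    obtain ⟨ω', hω', ⟨e⟩⟩ := hω A j
    haveI := hω'.isNoetherianRing
    obtain ⟨h1, h2⟩ := chart X ω A j ω' e p
    rw [h1, Groth.Agent.Lib.Helper16.CMDual.isCM_iff_existsUnique ω' hω' p]
    exact existsUnique_congr (fun i => (h2 i).symm)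
  · rw [isOpen_iff_forall_mem_open]
    intro x hx
    obtain ⟨A, _, j, _, p, rfl⟩ := hchart x
    obtain ⟨ω', hω', ⟨e⟩⟩ := hω A j
    haveI := hω'.isNoetherianRing
    have hopen := (Groth.Agent.Lib.Helper8.Bidual.isOpen_dense_cmLocus_ring ω' hω').1
    refine ⟨j.base '' {q : PrimeSpectrum A |
      LocCoh.IsCohenMacaulayLocalRing (Localization.AtPrime q.asIdeal)}, ?_, ?_, ?_⟩
    · rintro _ ⟨q, hq, rfl⟩
      exact ((chart X ω A j ω' e q).1).2 hq
    · exact j.isOpenEmbedding.isOpenMap _ hopen
    · exact ⟨p, ((chart X ω A j ω' e p).1).1 hx, rfl⟩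

end Main

end Groth.Agent.Lib.Helper16.DualSchCM
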