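import Mathlib
import Groth.Agent.Lib.Helper16.DualSchCM
import Groth.Agent.Lib.Helper16.PtDual

/-!
# Helper16 — DualSchCM2: a dualizing complex on a scheme has nonzero stalk cohomology at every point;
charts through a point.
-/

set_option autoImplicit false
universe u
open CategoryTheory CategoryTheory.Limits AlgebraicGeometry TopologicalSpace Opposite
  DerivedCategory

attribute [local instance] HasDerivedCategory.standard

namespace Groth.Agent.Lib.Helper16.DualSchCM

variable (X : Scheme.{u})

/-- every point lies in an affine chart -/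
lemma exists_chart (x : X) : ∃ (A : Type u) (_ : CommRing A) (j : Spec (CommRingCat.of A) ⟶ X)
    (_ : IsOpenImmersion j) (p : PrimeSpectrum A), j (pt (CommRingCat.of A) p) = x := by
  obtain ⟨z, hz⟩ := X.affineOpenCover.covers x
  exact ⟨X.affineOpenCover.X (X.affineOpenCover.idx x), inferInstance,
    X.affineOpenCover.f (X.affineOpenCover.idx x), inferInstance, z, hz⟩

variable
  [inst1 : ∀ (U : Scheme.{u}) (j : U ⟶ X) [IsOpenImmersion j],
    PreservesFiniteLimits (Scheme.Modules.restrictFunctor j)]
  [inst2 : ∀ (R : CommRingCat.{u}), PreservesFiniteLimits (tilde.functor R)]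

omit inst2 in
/-- ring level: a dualizing complex has nonzero localized cohomology at every prime -/
lemma exists_nontrivial_localized_HD {A : Type u} [CommRing A] [IsNoetherianRing A]
    (ω : Dual.D A) (hω : Dual.IsDualizing A ω) (p : PrimeSpectrum A) :
    ∃ i : ℤ, Nontrivial (LocalizedModule p.asIdeal.primeCompl (Dual.HD A ω i)) := by
  obtain ⟨j, hj⟩ := Groth.Agent.Lib.Helper16.PtDual.exists_nontrivial_HD _
    (Groth.Agent.Lib.Helper8.Bidual.isDualizing_ε_atPrime p.asIdeal ω hω)
  exact ⟨j, (Groth.Agent.Lib.Helper8.Bidual.nontrivial_localizedModule_HD_iff p.asIdeal ω j).2 hj⟩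

/-- a dualizing complex on a scheme has a nonzero stalk of cohomology at every point -/
theorem exists_nontrivial_stalk_HD (ω : DCoh.D X) (hω : Dual2.IsDualizingSch X ω) (x : X) :
    ∃ i : ℤ, Nontrivial ((DCoh.HD ω i).presheaf.stalk x) := by
  obtain ⟨A, _, j, _, p, rfl⟩ := exists_chart X x
  obtain ⟨ω', hω', ⟨e⟩⟩ := hω A j
  haveI := hω'.isNoetherianRing
  obtain ⟨i, hi⟩ := exists_nontrivial_localized_HD ω' hω' p
  exact ⟨i, ((chart X ω A j ω' e p).2 i).2 hi⟩

omit inst1 inst2 in
/-- the stalk of a zero module is trivial -/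
lemma not_nontrivial_stalk_of_isZero {M : X.Modules} (hM : IsZero M) (x : X) :
    ¬ Nontrivial (M.presheaf.stalk x) := by
  intro hnt
  have hZ' : IsZero ((DerSch.stalkFunctor X x).obj M) := (DerSch.stalkFunctor X x).map_isZero hM
  haveI : Subsingleton ((DerSch.stalkFunctor X x).obj M) := ModuleCat.subsingleton_of_isZero hZ'
  exact not_subsingleton (M.presheaf.stalk x)
    (inferInstanceAs (Subsingleton ((DerSch.stalkFunctor X x).obj M)))

/-- if a module placed in degree `0` is a dualizing complex then all local rings are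
Cohen–Macaulay (**S3675**) -/
theorem cm_of_inD (ω : X.Modules) (hD : Dual2.IsDualizingSch X (DCoh.inD X ω)) (x : X) :
    LocCoh.IsCohenMacaulayLocalRing (X.presheaf.stalk x) := by
  rw [(main X (DCoh.inD X ω) hD).1 x]
  obtain ⟨j, hex⟩ := exists_nontrivial_stalk_HD X (DCoh.inD X ω) hD x
  have hzero : ∀ i : ℤ, i ≠ 0 → ¬ Nontrivial ((DCoh.HD (DCoh.inD X ω) i).presheaf.stalk x) := by
    intro i hi
    apply not_nontrivial_stalk_of_isZero
    have h1 : IsZero ((HomologicalComplex.homologyFunctor X.Modules (ComplexShape.up ℤ) i).obj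
        ((CochainComplex.singleFunctor X.Modules 0).obj ω)) := by
      apply HomologicalComplex.isZero_single_obj_homology
      exact hi
    exact h1.of_iso (((DerivedCategory.homologyFunctorFactors X.Modules i).app
      ((CochainComplex.singleFunctor X.Modules 0).obj ω)))
  refine ⟨j, hex, fun i hi => ?_⟩
  have hi0 : i = 0 := by by_contra h; exact hzero i h hi
  have hj0 : j = 0 := by by_contra h; exact hzero j h hex
  rw [hi0, hj0]

end Groth.Agent.Lib.Helper16.DualSchCM
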