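import Mathlib
import Groth.Agent.Lib.Helper16.DualS2a
import Groth.Agent.Lib.Helper16.DualSchCM2
import Groth.Agent.Lib.Helper8.EFB19

/-!
# Helper16 — DualS2b: transport of `(S_k)` and torsion-freeness along semilinear isomorphisms; the
lowest cohomology sheaf of a dualizing complex on a scheme is `(S_2)` and torsion free (S7873).
-/

set_option autoImplicit false
universe u
open CategoryTheory CategoryTheory.Limits AlgebraicGeometry TopologicalSpace Opposite
  DerivedCategory TensorProduct

attribute [local instance] HasDerivedCategory.standard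

namespace Groth.Agent.Lib.Helper16.DualS2

open Groth.Agent.Lib.Helper16 Groth.Agent.Lib.Helper16.Stk Groth.Agent.Lib.Helper16.RS
  Groth.Agent.Lib.Helper16.TildeTor Groth.Agent.Lib.Helper16.DualSchCM
  Groth.Agent.Lib.Helper16.FlatBC Groth.Agent.Lib.Helper8 Groth.Agent.Lib.Helper8.EFB
  Groth.Agent.Lib.Helper8.Bidual

section Transport

variable {R S : Type u} [CommRing R] [CommRing S]
  {M Y : Type u} [AddCommGroup M] [Module R M] [AddCommGroup Y] [Module S Y]

/-- `(S_k)` is transported along a semilinear isomorphism over a surjective ring map -/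
theorem hasSk_of_semilinear [Module.Finite R M] (φ : R →+* S) (hφ : Function.Surjective φ)
    (e : M ≃+ Y) (he : ∀ (a : R) (x : M), e (a • x) = φ a • e x) (k : ℕ)
    (h : LocCoh.HasSk k R M) : LocCoh.HasSk k S Y := by
  letI : Algebra R S := φ.toAlgebra
  letI : Module R Y := Module.compHom Y φ
  haveI : IsScalarTower R S Y := IsScalarTower.of_algebraMap_smul (fun _ _ => rfl)
  let e' : M ≃ₗ[R] Y := { e with map_smul' := he }
  have h1 : LocCoh.HasSk k R Y := (Groth.Agent.Lib.Helper21.SkOpen.hasSk_congr e' k).1 h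
  haveI : Module.Finite R Y := Module.Finite.equiv e'
  haveI : Module.Finite S Y := Module.Finite.of_restrictScalars_finite R S Y
  intro P hP
  rw [← Groth.Agent.Lib.Helper21.DepthKit.depth_localization_of_surjective (N := Y) hφ P,
    ← Groth.Agent.Lib.Helper21.DepthKit.supportDim_localization_of_surjective (N := Y) hφ P]
  exact h1 _

/-- torsion-freeness is transported along a semilinear isomorphism over a ring isomorphism -/
theorem isTorsionFree_of_semilinear (φ : R ≃+* S)
    (e : M ≃+ Y) (he : ∀ (a : R) (x : M), e (a • x) = φ a • e x)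
    (h : Module.IsTorsionFree R M) : Module.IsTorsionFree S Y := by
  constructor
  intro s hs y₁ y₂ hy
  have hr : IsRegular (φ.symm s) := by
    rw [Commute.isRegular_iff (fun b => Commute.all _ b)]
    intro a b hab
    have h3 : s * φ a = s * φ b := by
      have := congrArg φ hab
      simpa using this
    exact φ.injective (hs.left h3)
  have h2 := h.isSMulRegular hr
  apply e.symm.injective
  apply h2
  apply e.injective
  change e (φ.symm s • e.symm y₁) = e (φ.symm s • e.symm y₂)
  rw [he, he, φ.apply_symm_apply, e.apply_symm_apply, e.apply_symm_apply]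
  exact hy

/-- the semilinear isomorphism `C ⊗_B N ≃ N` for a bijective `B → C` -/
theorem exists_semilinear_tensor {B C : Type u} [CommRing B] [CommRing C] [Algebra B C]
    (hb : Function.Bijective (algebraMap B C)) (N : Type u) [AddCommGroup N] [Module B N] :
    ∃ e : (C ⊗[B] N) ≃+ N, ∀ (c : C) (t : C ⊗[B] N),
      e (c • t) = (RingEquiv.ofBijective (algebraMap B C) hb).symm c • e t := by
  let l : B ≃ₗ[B] C := LinearEquiv.ofBijective (Algebra.linearMap B C) hb
  let G : N ≃ₗ[B] C ⊗[B] N := (TensorProduct.lid B N).symm ≪≫ₗ LinearEquiv.rTensor N l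
  refine ⟨G.symm.toAddEquiv, fun c t => ?_⟩
  obtain ⟨b, rfl⟩ := hb.2 c
  have h1 : (RingEquiv.ofBijective (algebraMap B C) hb).symm (algebraMap B C b) = b :=
    (RingEquiv.ofBijective (algebraMap B C) hb).symm_apply_apply b
  rw [h1, algebraMap_smul]
  exact G.symm.map_smul b t

end Transport


section Sch

variable (X : Scheme.{u})
  [inst1 : ∀ (U : Scheme.{u}) (j : U ⟶ X) [IsOpenImmersion j],
    PreservesFiniteLimits (Scheme.Modules.restrictFunctor j)]
  [inst2 : ∀ (R : CommRingCat.{u}), PreservesFiniteLimits (tilde.functor R)]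

/-- the stalk of a cohomology sheaf in a chart, as a module over the stalk of the chart -/
lemma nonempty_stalk_iso (ω : DCoh.D X) (A : Type u) [CommRing A]
    (j : Spec (CommRingCat.of A) ⟶ X) [IsOpenImmersion j] (ω' : Dual.D A)
    (e : (DCoh.restrictD j).obj ω ≅ (DCoh.tildeD (CommRingCat.of A)).obj ω')
    (p : PrimeSpectrum A) (i : ℤ) :
    Nonempty ((ModuleCat.extendScalars.{u, u, u} (φs j (pt (CommRingCat.of A) p))).obj
        ((stk (j (pt (CommRingCat.of A) p))).obj (DCoh.HD ω i)) ≅
      (ModuleCat.extendScalars.{u, u, u} (ψ (CommRingCat.of A) (pt (CommRingCat.of A) p))).obj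
        ((homologyFunctor (ModuleCat.{u} A) i).obj ω')) := by
  obtain ⟨e1⟩ := nonempty_HD_restrictD_iso j ω i
  obtain ⟨e2⟩ := nonempty_HD_tildeD_iso (CommRingCat.of A) ω' i
  set z := pt (CommRingCat.of A) p
  exact ⟨((pullbackStkIso j z).app (DCoh.HD ω i)).symm ≪≫
    (stk z).mapIso ((Scheme.Modules.restrictFunctorIsoPullback j).app (DCoh.HD ω i)).symm ≪≫
    (stk z).mapIso e1.symm ≪≫ (stk z).mapIso ((homologyFunctor _ i).mapIso e) ≪≫
    (stk z).mapIso e2 ≪≫ (tildeStkIso (CommRingCat.of A) z).app _⟩


/-- ring-level data over the stalk of a chart -/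
theorem chart_data (ω : DCoh.D X) (A : Type u) [CommRing A] [IsNoetherianRing A]
    (j : Spec (CommRingCat.of A) ⟶ X) [IsOpenImmersion j] (ω' : Dual.D A)
    (hω' : Dual.IsDualizing A ω')
    (e : (DCoh.restrictD j).obj ω ≅ (DCoh.tildeD (CommRingCat.of A)).obj ω')
    (p : PrimeSpectrum A) (n : ℤ) (hlt : ∀ i : ℤ, i < n → IsZero (DCoh.HD ω i)) :
    LocCoh.HasSk 2 ((Spec (CommRingCat.of A)).presheaf.stalk (pt (CommRingCat.of A) p))
        ((ModuleCat.extendScalars.{u, u, u} (φs j (pt (CommRingCat.of A) p))).obj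
          ((stk (j (pt (CommRingCat.of A) p))).obj (DCoh.HD ω n))) ∧
      (IsDomain ((Spec (CommRingCat.of A)).presheaf.stalk (pt (CommRingCat.of A) p)) →
        Module.IsTorsionFree ((Spec (CommRingCat.of A)).presheaf.stalk (pt (CommRingCat.of A) p))
        ((ModuleCat.extendScalars.{u, u, u} (φs j (pt (CommRingCat.of A) p))).obj
          ((stk (j (pt (CommRingCat.of A) p))).obj (DCoh.HD ω n)))) ∧
      Module.Finite ((Spec (CommRingCat.of A)).presheaf.stalk (pt (CommRingCat.of A) p))
        ((ModuleCat.extendScalars.{u, u, u} (φs j (pt (CommRingCat.of A) p))).obj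
          ((stk (j (pt (CommRingCat.of A) p))).obj (DCoh.HD ω n))) := by
  set z := pt (CommRingCat.of A) p with hz
  letI k : Algebra A ((Spec (CommRingCat.of A)).presheaf.stalk z) :=
    StructureSheaf.stalkAlgebra (CommRingCat.of A) p
  haveI hloc : IsLocalization.AtPrime ((Spec (CommRingCat.of A)).presheaf.stalk z) p.asIdeal :=
    StructureSheaf.IsLocalization.to_stalk (CommRingCat.of A) p
  haveI : IsNoetherianRing ((Spec (CommRingCat.of A)).presheaf.stalk z) :=
    IsLocalization.isNoetherianRing p.asIdeal.primeCompl _ inferInstance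
  haveI : Module.Flat A ((Spec (CommRingCat.of A)).presheaf.stalk z) :=
    IsLocalization.flat _ p.asIdeal.primeCompl
  -- the dualizing complex of the stalk
  have hωC : Dual.IsDualizing ((Spec (CommRingCat.of A)).presheaf.stalk z)
      ((ε (algebraMap A ((Spec (CommRingCat.of A)).presheaf.stalk z))).obj ω') := by
    refine isDualizing_ε_of_maximal_extended (fun m hm => ⟨p.asIdeal, ?_⟩) ω' hω'
    rw [IsLocalization.AtPrime.map_eq_maximalIdeal p.asIdeal
      ((Spec (CommRingCat.of A)).presheaf.stalk z)]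
    exact (IsLocalRing.eq_maximalIdeal hm).symm
  -- identification of the cohomology
  have key : ∀ i : ℤ, Nonempty (Dual.HD ((Spec (CommRingCat.of A)).presheaf.stalk z)
      ((ε (algebraMap A ((Spec (CommRingCat.of A)).presheaf.stalk z))).obj ω') i
      ≃ₗ[(Spec (CommRingCat.of A)).presheaf.stalk z]
      ((ModuleCat.extendScalars.{u, u, u} (φs j z)).obj ((stk (j z)).obj (DCoh.HD ω i)))) := by
    intro i
    obtain ⟨e1⟩ := nonempty_HD_ε_equiv (B := (Spec (CommRingCat.of A)).presheaf.stalk z) ω' i
    obtain ⟨e2⟩ := nonempty_stalk_iso X ω A j ω' e p i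
    exact ⟨e1 ≪≫ₗ e2.symm.toLinearEquiv⟩
  have hlt' : ∀ i : ℤ, i < n → Subsingleton (Dual.HD ((Spec (CommRingCat.of A)).presheaf.stalk z)
      ((ε (algebraMap A ((Spec (CommRingCat.of A)).presheaf.stalk z))).obj ω') i) := by
    intro i hi
    obtain ⟨e1⟩ := key i
    have hZ : IsZero ((ModuleCat.extendScalars.{u, u, u} (φs j z)).obj
        ((stk (j z)).obj (DCoh.HD ω i))) :=
      Functor.map_isZero _ (Functor.map_isZero _ (hlt i hi))
    haveI := ModuleCat.subsingleton_of_isZero hZ
    exact e1.toEquiv.subsingleton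
  obtain ⟨e1⟩ := key n
  haveI := hω'.finite_cohomology n
  haveI := finite_HD_ε (B := (Spec (CommRingCat.of A)).presheaf.stalk z) ω' n
  refine ⟨(Groth.Agent.Lib.Helper21.SkOpen.hasSk_congr e1 2).1
    (hasSk_two_lowest _ hωC n hlt'), fun hdom => ?_, Module.Finite.equiv e1⟩
  haveI := hdom
  have htf := isTorsionFree_lowest _ hωC n hlt'
  exact isTorsionFree_of_semilinear (RingEquiv.refl ((Spec (CommRingCat.of A)).presheaf.stalk z)) e1.toAddEquiv
    (fun a x => e1.map_smul a x) htf


/-- **S7873**: the lowest cohomology sheaf of a dualizing complex satisfies `(S_2)` and is torsion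
free at the points whose local ring is a domain -/
theorem main (K : DCoh.D X) (hK : Dual2.IsDualizingSch X K) (n : ℤ)
    (hlt : ∀ i : ℤ, i < n → IsZero (DCoh.HD K i)) (x : X) :
    LocCoh.HasSk 2 (X.presheaf.stalk x) ((DCoh.HD K n).presheaf.stalk x) ∧
      (IsDomain (X.presheaf.stalk x) →
        Module.IsTorsionFree (X.presheaf.stalk x) ((DCoh.HD K n).presheaf.stalk x)) := by
  obtain ⟨A, _, j, _, p, rfl⟩ := exists_chart X x
  obtain ⟨ω', hω', ⟨e⟩⟩ := hK A j
  haveI := hω'.isNoetherianRing
  obtain ⟨h1, h2, h3⟩ := chart_data X K A j ω' hω' e p n hlt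
  letI : Algebra (X.presheaf.stalk (j (pt (CommRingCat.of A) p)))
      ((Spec (CommRingCat.of A)).presheaf.stalk (pt (CommRingCat.of A) p)) :=
    (φs j (pt (CommRingCat.of A) p)).toAlgebra
  have hb : Function.Bijective (algebraMap (X.presheaf.stalk (j (pt (CommRingCat.of A) p)))
      ((Spec (CommRingCat.of A)).presheaf.stalk (pt (CommRingCat.of A) p))) :=
    PerfFib.bijective_φs j (pt (CommRingCat.of A) p)
  obtain ⟨e0, he0⟩ := exists_semilinear_tensor hb
    ((DCoh.HD K n).presheaf.stalk (j (pt (CommRingCat.of A) p)))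
  constructor
  · haveI : Module.Finite ((Spec (CommRingCat.of A)).presheaf.stalk (pt (CommRingCat.of A) p))
        (((Spec (CommRingCat.of A)).presheaf.stalk (pt (CommRingCat.of A) p))
          ⊗[X.presheaf.stalk (j (pt (CommRingCat.of A) p))]
          ((DCoh.HD K n).presheaf.stalk (j (pt (CommRingCat.of A) p)))) := h3
    exact hasSk_of_semilinear (RingEquiv.ofBijective _ hb).symm.toRingHom
      (RingEquiv.ofBijective _ hb).symm.surjective e0 he0 2 h1
  · intro hdom
    haveI := hdom
    haveI : IsDomain ((Spec (CommRingCat.of A)).presheaf.stalk (pt (CommRingCat.of A) p)) :=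
      (RingEquiv.ofBijective _ hb).symm.toMulEquiv.isDomain
    exact isTorsionFree_of_semilinear (RingEquiv.ofBijective _ hb).symm e0 he0 (h2 inferInstance)

end Sch

end Groth.Agent.Lib.Helper16.DualS2
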