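import Mathlib
import Groth.Agent.Lib.Helper16.DualS2b
import Groth.Agent.Lib.Helper8.Gor2
import Groth.Agent.Lib.Helper8.Ord2
import Groth.Agent.Lib.Helper8.End1
import Groth.Agent.Lib.Helper12.SerreNormalC
import Groth.Agent.S0342

/-!
# Helper16 — DualS2c: over a normal Noetherian local domain the lowest cohomology module of a
dualizing complex is reflexive; transport of reflexivity along semilinear isomorphisms; the
scheme-level statement (S7877).
-/

set_option autoImplicit false
universe u
open CategoryTheory CategoryTheory.Limits AlgebraicGeometry TopologicalSpace Opposite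
  DerivedCategory TensorProduct

attribute [local instance] HasDerivedCategory.standard

namespace Groth.Agent.Lib.Helper16.DualS2

open Groth.Agent.Lib.Helper16 Groth.Agent.Lib.Helper16.Stk Groth.Agent.Lib.Helper16.RS
  Groth.Agent.Lib.Helper16.TildeTor Groth.Agent.Lib.Helper16.DualSchCM
  Groth.Agent.Lib.Helper16.FlatBC Groth.Agent.Lib.Helper8 Groth.Agent.Lib.Helper8.EFB
  Groth.Agent.Lib.Helper8.Bidual

section Local

variable {B : Type u} [CommRing B] [IsLocalRing B] [IsNoetherianRing B]

/-- over a local domain every prime is in the support of the lowest cohomology module -/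
theorem support_lowest_eq_univ [IsDomain B] (ω : Dual.D B) (hω : Dual.IsDualizing B ω) (n : ℤ)
    (hlt : ∀ i : ℤ, i < n → Subsingleton (Dual.HD B ω i)) (hn : Nontrivial (Dual.HD B ω n))
    (p : PrimeSpectrum B) : p ∈ Module.support B (Dual.HD B ω n) := by
  obtain ⟨s, d, hd, hω', hs, ⟨e⟩⟩ := lowest_eq ω hω n hlt hn
  rw [← e.support_eq, (dualizingModule_support_and_S2 (ω⟦s⟧) hω' hs d hd).1]
  refine ⟨⊥, ?_, bot_le, ?_⟩
  · rw [IsDomain.minimalPrimes_eq_singleton_bot]; rfl
  · rw [← hd]
    exact ringKrullDim_eq_of_ringEquiv (RingEquiv.quotientBot B)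


/-- over a normal Noetherian local domain the lowest cohomology module of a dualizing complex is
reflexive -/
theorem isReflexive_lowest [IsDomain B]
    (hnorm : ∀ (p : Ideal B) [p.IsPrime], IsIntegrallyClosed (Localization.AtPrime p))
    (ω : Dual.D B) (hω : Dual.IsDualizing B ω) (n : ℤ)
    (hlt : ∀ i : ℤ, i < n → Subsingleton (Dual.HD B ω i)) :
    Module.IsReflexive B (Dual.HD B ω n) := by
  by_cases hn : Nontrivial (Dual.HD B ω n)
  · obtain ⟨d, hd⟩ := exists_nat_dim (B := B)
    have hΩ := isDualizing_shift ω hω n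
    let k : ∀ i j : ℤ, n + i = j → (Dual.HD B (ω⟦n⟧) i ≃ₗ[B] Dual.HD B ω j) := fun i j hij =>
      (((homologyFunctor (ModuleCat.{u} B) 0).shiftIso n i j hij).app ω).toLinearEquiv
    -- the Gorenstein locus
    have hopen := isOpen_gorensteinLocus ω hω
    obtain ⟨J, hJ⟩ := (PrimeSpectrum.isClosed_iff_zeroLocus_ideal _).1 hopen.isClosed_compl
    have hJ2 : 2 ≤ J.height := by
      rw [Ideal.height_eq_inf_minimalPrimes]
      refine le_iInf₂ (fun P hP => ?_)
      haveI hPp : P.IsPrime := hP.1.1
      by_contra hlt2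
      rw [not_le] at hlt2
      have h1 : P.height ≤ 1 := ENat.lt_two_iff.1 hlt2
      haveI := hnorm P
      have hreg : IsRegularLocalRing (Localization.AtPrime P) := by
        apply Groth.Agent.Lib.Helper12.SerreNormal.isRegularLocalRing_of_normal_of_dim_le_one
        rw [IsLocalization.AtPrime.ringKrullDim_eq_height P]
        exact_mod_cast h1
      have hgor : LocCoh.IsGorensteinLocalRing (Localization.AtPrime P) :=
        Groth.Agent.S0342.result _
      have hmem : (⟨P, hPp⟩ : PrimeSpectrum B) ∈ PrimeSpectrum.zeroLocus (J : Set B) := hP.1.2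
      rw [← hJ] at hmem
      exact hmem hgor
    have hoff : ∀ p : PrimeSpectrum B, ¬ J ≤ p.asIdeal →
        (∀ i : ℤ, i ≠ 0 → p ∉ Module.support B (Dual.HD B (ω⟦n⟧) i)) ∧
        Module.Free (Localization.AtPrime p.asIdeal)
          (LocalizedModule p.asIdeal.primeCompl (Dual.HD B (ω⟦n⟧) 0)) ∧
        Module.finrank (Localization.AtPrime p.asIdeal)
          (LocalizedModule p.asIdeal.primeCompl (Dual.HD B (ω⟦n⟧) 0)) = 1 := by
      intro p hp
      have hgor : LocCoh.IsGorensteinLocalRing (Localization.AtPrime p.asIdeal) := by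
        by_contra hng
        have : p ∈ PrimeSpectrum.zeroLocus (J : Set B) := by
          rw [← hJ]; exact hng
        exact hp this
      have hΩp := isDualizing_ε_atPrime p.asIdeal (ω⟦n⟧) hΩ
      obtain ⟨m, hm1, ⟨hm2⟩⟩ := (isGorensteinLocalRing_iff_of_isDualizing _ hΩp).1 hgor
      have eq : ∀ i : ℤ, Nonempty (Dual.HD (Localization.AtPrime p.asIdeal)
          ((ε (algebraMap B (Localization.AtPrime p.asIdeal))).obj (ω⟦n⟧)) i
          ≃ₗ[Localization.AtPrime p.asIdeal]
          LocalizedModule p.asIdeal.primeCompl (Dual.HD B (ω⟦n⟧) i)) :=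
        fun i => nonempty_HD_ε_atPrime_equiv p.asIdeal (ω⟦n⟧) i
      have hsupp : p ∈ Module.support B (Dual.HD B (ω⟦n⟧) 0) := by
        rw [(k 0 n (by omega)).support_eq]
        exact support_lowest_eq_univ ω hω n hlt hn p
      rw [Module.mem_support_iff] at hsupp
      have hm0 : m = 0 := by
        by_contra hne
        haveI := hm1 0 (fun h => hne h.symm)
        obtain ⟨e0⟩ := eq 0
        haveI := e0.symm.toEquiv.subsingleton
        exact not_subsingleton _ ‹_›
      subst hm0
      obtain ⟨e0⟩ := eq 0
      refine ⟨fun i hi => ?_, Module.Free.of_equiv (hm2.symm.trans e0), ?_⟩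
      · haveI := hm1 i hi
        obtain ⟨ei⟩ := eq i
        haveI := ei.symm.toEquiv.subsingleton
        rw [Module.notMem_support_iff]
        infer_instance
      · rw [← (hm2.symm.trans e0).finrank_eq, Module.finrank_self]
    have hS2 : LocCoh.HasSk 2 B B :=
      (Groth.Agent.Lib.Helper12.SerreNormal.forward (fun p _ => ⟨inferInstance, hnorm p⟩)).2
    have hS1 : LocCoh.HasSk 1 B B := hasSk_mono (by norm_num) B hS2
    haveI := ((dualizingModule_reflexive_of_invertible_off (ω⟦n⟧) hΩ d hd J hJ2 hoff).1 hS1).2.1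
    exact Module.equiv (k 0 n (by omega))
  · rw [not_nontrivial_iff_subsingleton] at hn
    infer_instance

end Local


section Transport

variable {R S : Type u} [CommRing R] [CommRing S]
  {M Y : Type u} [AddCommGroup M] [Module R M] [AddCommGroup Y] [Module S Y]

/-- transport of a linear form along a semilinear isomorphism -/
def dualSemi (φ : R ≃+* S) (e : M ≃+ Y) (he : ∀ (a : R) (x : M), e (a • x) = φ a • e x)
    (f : Module.Dual R M) : Module.Dual S Y where
  toFun y := φ (f (e.symm y))
  map_add' y₁ y₂ := by simp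
  map_smul' s y := by
    have h1 : e.symm (s • y) = φ.symm s • e.symm y := by
      apply e.injective
      rw [he, e.apply_symm_apply, φ.apply_symm_apply, e.apply_symm_apply]
    simp only [h1, map_smul, smul_eq_mul, map_mul, RingEquiv.apply_symm_apply, RingHom.id_apply]

/-- reflexivity is transported along a semilinear isomorphism over a ring isomorphism -/
theorem isReflexive_of_semilinear (φ : R ≃+* S) (e : M ≃+ Y)
    (he : ∀ (a : R) (x : M), e (a • x) = φ a • e x) [Module.IsReflexive R M] :
    Module.IsReflexive S Y := by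
  have he' : ∀ (s : S) (y : Y), e.symm (s • y) = φ.symm s • e.symm y := by
    intro s y
    apply e.injective
    rw [he, e.apply_symm_apply, φ.apply_symm_apply, e.apply_symm_apply]
  have hφ' : ∀ (s : S) (x : Y), e.symm (s • x) = φ.symm s • e.symm x := he'
  -- every form on `Y` comes from a form on `M`
  have hD : ∀ g : Module.Dual S Y, ∃ f : Module.Dual R M, dualSemi φ e he f = g := by
    intro g
    refine ⟨dualSemi φ.symm e.symm (fun a x => by rw [he' a x]) g, ?_⟩
    ext y
    simp [dualSemi]
  constructor
  constructor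
  · rw [injective_iff_map_eq_zero]
    intro y hy
    have h1 : Module.Dual.eval R M (e.symm y) = 0 := by
      ext f
      have h2 : Module.Dual.eval S Y y (dualSemi φ e he f) = 0 := by rw [hy]; rfl
      have h3 : φ (f (e.symm y)) = 0 := h2
      have h4 : f (e.symm y) = 0 := by
        have := congrArg φ.symm h3
        simpa using this
      simpa using h4
    have h5 := (injective_iff_map_eq_zero _).1 (Module.bijective_dual_eval R M).1 _ h1
    have := congrArg e h5
    simpa using this
  · intro ξ
    let ξ' : Module.Dual R (Module.Dual R M) :=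
      { toFun := fun f => φ.symm (ξ (dualSemi φ e he f))
        map_add' := fun f₁ f₂ => by
          have : dualSemi φ e he (f₁ + f₂) = dualSemi φ e he f₁ + dualSemi φ e he f₂ := by
            ext y; simp [dualSemi]
          rw [this, map_add, map_add]
        map_smul' := fun a f => by
          have : dualSemi φ e he (a • f) = φ a • dualSemi φ e he f := by
            ext y; simp [dualSemi]
          rw [this, map_smul, smul_eq_mul, map_mul, φ.symm_apply_apply]
          rfl }
    obtain ⟨x, hx⟩ := (Module.bijective_dual_eval R M).2 ξ'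
    refine ⟨e x, ?_⟩
    ext g
    obtain ⟨f, rfl⟩ := hD g
    have h1 : f x = φ.symm (ξ (dualSemi φ e he f)) := by
      have := congrArg (fun t => t f) hx
      exact this
    change φ (f (e.symm (e x))) = ξ (dualSemi φ e he f)
    rw [e.symm_apply_apply, h1, φ.apply_symm_apply]

end Transport


section Sch

variable (X : Scheme.{u})
  [inst1 : ∀ (U : Scheme.{u}) (j : U ⟶ X) [IsOpenImmersion j],
    PreservesFiniteLimits (Scheme.Modules.restrictFunctor j)]
  [inst2 : ∀ (R : CommRingCat.{u}), PreservesFiniteLimits (tilde.functor R)]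

/-- in a chart, the stalk of the chart carries a dualizing complex whose cohomology modules are
the (base changed) stalks of the cohomology sheaves -/
theorem chart_exists (ω : DCoh.D X) (A : Type u) [CommRing A] [IsNoetherianRing A]
    (j : Spec (CommRingCat.of A) ⟶ X) [IsOpenImmersion j] (ω' : Dual.D A)
    (hω' : Dual.IsDualizing A ω')
    (e : (DCoh.restrictD j).obj ω ≅ (DCoh.tildeD (CommRingCat.of A)).obj ω')
    (p : PrimeSpectrum A) :
    ∃ Ω : Dual.D ((Spec (CommRingCat.of A)).presheaf.stalk (pt (CommRingCat.of A) p)),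
      Dual.IsDualizing ((Spec (CommRingCat.of A)).presheaf.stalk (pt (CommRingCat.of A) p)) Ω ∧
      ∀ i : ℤ, Nonempty (Dual.HD ((Spec (CommRingCat.of A)).presheaf.stalk
          (pt (CommRingCat.of A) p)) Ω i
        ≃ₗ[(Spec (CommRingCat.of A)).presheaf.stalk (pt (CommRingCat.of A) p)]
        ((ModuleCat.extendScalars.{u, u, u} (φs j (pt (CommRingCat.of A) p))).obj
          ((stk (j (pt (CommRingCat.of A) p))).obj (DCoh.HD ω i)))) := by
  set z := pt (CommRingCat.of A) p with hz
  letI k : Algebra A ((Spec (CommRingCat.of A)).presheaf.stalk z) :=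
    StructureSheaf.stalkAlgebra (CommRingCat.of A) p
  haveI hloc : IsLocalization.AtPrime ((Spec (CommRingCat.of A)).presheaf.stalk z) p.asIdeal :=
    StructureSheaf.IsLocalization.to_stalk (CommRingCat.of A) p
  haveI : IsNoetherianRing ((Spec (CommRingCat.of A)).presheaf.stalk z) :=
    IsLocalization.isNoetherianRing p.asIdeal.primeCompl _ inferInstance
  haveI : Module.Flat A ((Spec (CommRingCat.of A)).presheaf.stalk z) :=
    IsLocalization.flat _ p.asIdeal.primeCompl
  have hωC : Dual.IsDualizing ((Spec (CommRingCat.of A)).presheaf.stalk z)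
      ((ε (algebraMap A ((Spec (CommRingCat.of A)).presheaf.stalk z))).obj ω') := by
    refine isDualizing_ε_of_maximal_extended (fun m hm => ⟨p.asIdeal, ?_⟩) ω' hω'
    rw [IsLocalization.AtPrime.map_eq_maximalIdeal p.asIdeal
      ((Spec (CommRingCat.of A)).presheaf.stalk z)]
    exact (IsLocalRing.eq_maximalIdeal hm).symm
  refine ⟨_, hωC, fun i => ?_⟩
  obtain ⟨e1⟩ := nonempty_HD_ε_equiv (B := (Spec (CommRingCat.of A)).presheaf.stalk z) ω' i
  obtain ⟨e2⟩ := nonempty_stalk_iso X ω A j ω' e p i
  exact ⟨e1 ≪≫ₗ e2.symm.toLinearEquiv⟩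

/-- **S7877**: on a normal scheme the lowest cohomology sheaf of a dualizing complex has
reflexive stalks -/
theorem main_reflexive (K : DCoh.D X) (hK : Dual2.IsDualizingSch X K) (n : ℤ)
    (hlt : ∀ i : ℤ, i < n → IsZero (DCoh.HD K i)) (x : X)
    [IsDomain (X.presheaf.stalk x)] [IsIntegrallyClosed (X.presheaf.stalk x)] :
    Module.IsReflexive (X.presheaf.stalk x) ((DCoh.HD K n).presheaf.stalk x) := by
  obtain ⟨A, _, j, _, p, hx⟩ := exists_chart X x
  subst hx
  obtain ⟨ω', hω', ⟨e⟩⟩ := hK A j
  haveI := hω'.isNoetherianRing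
  obtain ⟨Ω, hΩ, key⟩ := chart_exists X K A j ω' hω' e p
  haveI := hΩ.isNoetherianRing
  letI : Algebra (X.presheaf.stalk (j (pt (CommRingCat.of A) p)))
      ((Spec (CommRingCat.of A)).presheaf.stalk (pt (CommRingCat.of A) p)) :=
    (φs j (pt (CommRingCat.of A) p)).toAlgebra
  have hb : Function.Bijective (algebraMap (X.presheaf.stalk (j (pt (CommRingCat.of A) p)))
      ((Spec (CommRingCat.of A)).presheaf.stalk (pt (CommRingCat.of A) p))) :=
    PerfFib.bijective_φs j (pt (CommRingCat.of A) p)
  let σ := RingEquiv.ofBijective _ hb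
  haveI : IsDomain ((Spec (CommRingCat.of A)).presheaf.stalk (pt (CommRingCat.of A) p)) :=
    σ.symm.toMulEquiv.isDomain
  haveI : IsIntegrallyClosed ((Spec (CommRingCat.of A)).presheaf.stalk (pt (CommRingCat.of A) p)) :=
    IsIntegrallyClosed.of_equiv σ
  have hnorm : ∀ (P : Ideal ((Spec (CommRingCat.of A)).presheaf.stalk (pt (CommRingCat.of A) p)))
      [P.IsPrime], IsIntegrallyClosed (Localization.AtPrime P) := fun P _ =>
    isIntegrallyClosed_of_isLocalization _ P.primeCompl P.primeCompl_le_nonZeroDivisors
  have hlt' : ∀ i : ℤ, i < n → Subsingleton (Dual.HD _ Ω i) := by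
    intro i hi
    obtain ⟨e1⟩ := key i
    have hZ : IsZero ((ModuleCat.extendScalars.{u, u, u} (φs j (pt (CommRingCat.of A) p))).obj
        ((stk (j (pt (CommRingCat.of A) p))).obj (DCoh.HD K i))) :=
      Functor.map_isZero _ (Functor.map_isZero _ (hlt i hi))
    haveI := ModuleCat.subsingleton_of_isZero hZ
    exact e1.toEquiv.subsingleton
  haveI h1 := isReflexive_lowest hnorm Ω hΩ n hlt'
  obtain ⟨e1⟩ := key n
  haveI h2 : Module.IsReflexive ((Spec (CommRingCat.of A)).presheaf.stalk (pt (CommRingCat.of A) p))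
      (((Spec (CommRingCat.of A)).presheaf.stalk (pt (CommRingCat.of A) p))
        ⊗[X.presheaf.stalk (j (pt (CommRingCat.of A) p))]
        ((DCoh.HD K n).presheaf.stalk (j (pt (CommRingCat.of A) p)))) := Module.equiv e1
  obtain ⟨e0, he0⟩ := exists_semilinear_tensor hb
    ((DCoh.HD K n).presheaf.stalk (j (pt (CommRingCat.of A) p)))
  exact isReflexive_of_semilinear σ.symm e0 he0

end Sch

end Groth.Agent.Lib.Helper16.DualS2
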