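import Mathlib
import Groth.Agent.Lib.Helper16.DualSchCM2
import Groth.Agent.Lib.Helper28.FinType
import Groth.Agent.Lib.Helper17.FinTypeConv

/-!
# Helper16 — DualSchCoh: the cohomology sheaves of a dualizing complex on a scheme are coherent.
-/

set_option autoImplicit false
universe u
open CategoryTheory CategoryTheory.Limits AlgebraicGeometry TopologicalSpace Opposite
  DerivedCategory
open AlgebraicGeometry.Scheme.Modules

attribute [local instance] HasDerivedCategory.standard

namespace Groth.Agent.Lib.Helper16.DualSchCM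

open Groth.Agent.Lib.Helper28.QCohLoc Groth.Agent.Lib.Helper28.FinType

section Crit

variable {X : Scheme.{u}} (M : X.Modules)

/-- a module whose restrictions to all affine charts are quasi-coherent is quasi-coherent -/
theorem isQuasicoherent_of_restrict_fromSpec
    (h : ∀ (U : X.Opens) (hU : IsAffineOpen U), (M.restrict hU.fromSpec).IsQuasicoherent) :
    M.IsQuasicoherent := by
  refine isQuasicoherent_of_presentation_cover M (fun U : X.affineOpens => U.1)
    (iSup_affineOpens_eq_top X) fun U => ?_
  haveI := h U.1 U.2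
  exact presentationOfFromSpec M U.2 (presentationOfIsIsoFromTildeΓ _
    (Scheme.Modules.isIso_fromTildeΓ_of_isQuasicoherent _))

/-- finiteness of sections over an affine open from the restriction to the chart -/
theorem finite_sections_of_restrict_fromSpec {U : X.Opens} (hU : IsAffineOpen U)
    (N : ModuleCat.{u} Γ(X, U)) [Module.Finite Γ(X, U) N]
    (e : M.restrict hU.fromSpec ≅ tilde N) : Module.Finite Γ(X, U) Γ(M, U) := by
  have h1 : Module.Finite Γ(X, U) (moduleSpecΓFunctor.obj (M.restrict hU.fromSpec)) := by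
    let e1 : moduleSpecΓFunctor.obj (M.restrict hU.fromSpec) ≅ N :=
      moduleSpecΓFunctor.mapIso e ≪≫ (tilde.toTildeΓNatIso.app N).symm
    exact Module.Finite.equiv e1.symm.toLinearEquiv
  have hle : U ≤ hU.fromSpec ''ᵁ ⊤ := by
    rw [Scheme.Hom.image_top_eq_opensRange, hU.opensRange_fromSpec]
  have hge : hU.fromSpec ''ᵁ ⊤ ≤ U := image_le hU ⊤
  let ℓ : (moduleSpecΓFunctor.obj (M.restrict hU.fromSpec)) →ₗ[Γ(X, U)] Γ(M, U) :=
    { toFun := fun y => res M hle (show Γ(M, hU.fromSpec ''ᵁ ⊤) from y)
      map_add' := fun y y' => res_add M hle _ _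
      map_smul' := fun a y => by
        have h3 := smul_restrict_eq M hU ⊤ hge a y
        have h4 : resO hle (resO hge a) = a := by
          refine (resO_resO hge hle a).trans ?_
          have : (homOfLE (le_refl U)).op = 𝟙 (op U) := rfl
          change X.presheaf.map (homOfLE (le_refl U)).op a = a
          rw [this, X.presheaf.map_id]
          rfl
        refine (congrArg (res M hle) h3).trans ((res_smul M hle _ _).trans ?_)
        rw [h4]
        rfl }
  refine Module.Finite.of_surjective ℓ fun x => ⟨res M hge x, ?_⟩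
  change res M hle (res M hge x) = x
  rw [res_res, res_self]

end Crit

section Main

variable (X : Scheme.{u})
  [inst1 : ∀ (U : Scheme.{u}) (j : U ⟶ X) [IsOpenImmersion j],
    PreservesFiniteLimits (Scheme.Modules.restrictFunctor j)]
  [inst2 : ∀ (R : CommRingCat.{u}), PreservesFiniteLimits (tilde.functor R)]

/-- on an affine chart the cohomology sheaves of a dualizing complex are tildes of finite modules -/
theorem exists_restrict_HD_iso_tilde (K : DCoh.D X) (hK : Dual2.IsDualizingSch X K) (i : ℤ)
    {U : X.Opens} (hU : IsAffineOpen U) :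
    ∃ (N : ModuleCat.{u} Γ(X, U)) (_ : Module.Finite Γ(X, U) N),
      Nonempty ((DCoh.HD K i).restrict hU.fromSpec ≅ tilde N) := by
  obtain ⟨ω, hω, ⟨e⟩⟩ := hK Γ(X, U) hU.fromSpec
  obtain ⟨e1⟩ := nonempty_HD_restrictD_iso hU.fromSpec K i
  obtain ⟨e3⟩ := nonempty_HD_tildeD_iso (CommRingCat.of Γ(X, U)) ω i
  refine ⟨(homologyFunctor (ModuleCat.{u} Γ(X, U)) i).obj ω, hω.finite_cohomology i, ⟨?_⟩⟩
  exact e1.symm ≪≫ (homologyFunctor _ i).mapIso e ≪≫ e3

/-- **the cohomology sheaves of a dualizing complex are coherent** -/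
theorem isCoh_HD (K : DCoh.D X) (hK : Dual2.IsDualizingSch X K) (i : ℤ) :
    Coh.IsCoh (DCoh.HD K i) := by
  haveI hq : (DCoh.HD K i).IsQuasicoherent := by
    refine isQuasicoherent_of_restrict_fromSpec _ fun U hU => ?_
    obtain ⟨N, _, ⟨e⟩⟩ := exists_restrict_HD_iso_tilde X K hK i hU
    have h0 : (tilde N).IsQuasicoherent := inferInstance
    exact (SheafOfModules.isQuasicoherent (Spec Γ(X, U)).ringCatSheaf).prop_of_iso e.symm h0
  refine ⟨hq, ?_⟩
  refine Groth.Agent.Lib.Helper17.FinTypeConv.isFiniteType_of_forall_finite_sections _ fun U => ?_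
  obtain ⟨N, _, ⟨e⟩⟩ := exists_restrict_HD_iso_tilde X K hK i U.2
  exact finite_sections_of_restrict_fromSpec _ U.2 N e

end Main

end Groth.Agent.Lib.Helper16.DualSchCM
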