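import Mathlib
import Groth.Agent.Lib.Helper16.DualSchCM2
import Groth.Agent.Lib.Helper8.Gor2
import Groth.Agent.Lib.Helper5.GorIso

/-!
# Helper16 — DualSchGor: the Gorenstein locus of a scheme with a dualizing complex is open (S3621).
-/

set_option autoImplicit false
universe u
open CategoryTheory CategoryTheory.Limits AlgebraicGeometry TopologicalSpace Opposite
  DerivedCategory

attribute [local instance] HasDerivedCategory.standard

namespace Groth.Agent.Lib.Helper16.DualSchCM

variable (X : Scheme.{u})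

lemma gor_congr {A B : Type u} [CommRing A] [CommRing B] (e : A ≃+* B) :
    LocCoh.IsGorensteinLocalRing A ↔ LocCoh.IsGorensteinLocalRing B :=
  ⟨fun _ => Groth.Agent.Lib.Helper5.GorIso.isGorensteinLocalRing_of_ringEquiv e,
    fun _ => Groth.Agent.Lib.Helper5.GorIso.isGorensteinLocalRing_of_ringEquiv e.symm⟩

/-- the local ring at a point of a chart -/
lemma gor_chart (A : Type u) [CommRing A] (j : Spec (CommRingCat.of A) ⟶ X)
    [IsOpenImmersion j] (p : PrimeSpectrum A) :
    LocCoh.IsGorensteinLocalRing (X.presheaf.stalk (j (pt (CommRingCat.of A) p))) ↔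
      LocCoh.IsGorensteinLocalRing (Localization.AtPrime p.asIdeal) :=
  (gor_congr (stalkRingEquivOfOpenImmersion j (pt (CommRingCat.of A) p))).trans
    (gor_congr (stalkRingEquiv (CommRingCat.of A) p))

variable
  [inst1 : ∀ (U : Scheme.{u}) (j : U ⟶ X) [IsOpenImmersion j],
    PreservesFiniteLimits (Scheme.Modules.restrictFunctor j)]
  [inst2 : ∀ (R : CommRingCat.{u}), PreservesFiniteLimits (tilde.functor R)]

/-- **S3621** -/
theorem isOpen_gorensteinLocus (K : DCoh.D X) (hK : Dual2.IsDualizingSch X K) :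
    IsOpen {x : X | LocCoh.IsGorensteinLocalRing (X.presheaf.stalk x)} := by
  rw [isOpen_iff_forall_mem_open]
  intro x hx
  obtain ⟨A, _, j, _, p, rfl⟩ := exists_chart X x
  obtain ⟨ω', hω', ⟨e⟩⟩ := hK A j
  haveI := hω'.isNoetherianRing
  have hopen := Groth.Agent.Lib.Helper8.Bidual.isOpen_gorensteinLocus ω' hω'
  refine ⟨j.base '' {q : PrimeSpectrum A |
    LocCoh.IsGorensteinLocalRing (Localization.AtPrime q.asIdeal)}, ?_, ?_, ?_⟩
  · rintro _ ⟨q, hq, rfl⟩
    exact (gor_chart X A j q).2 hq
  · exact j.isOpenEmbedding.isOpenMap _ hopen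
  · exact ⟨p, (gor_chart X A j p).1 hx, rfl⟩

end Groth.Agent.Lib.Helper16.DualSchCM
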