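import Mathlib
import Groth.Agent.Lib.Helper16.DualSchGor
import Groth.Agent.Lib.Helper16.PtDual
import Groth.Agent.Lib.Helper16.RS6
import Groth.Agent.Lib.Helper8.Gor1
import Groth.Agent.Lib.Helper8.Dim4
import Groth.Prelude.Def_Dual3

/-!
# Helper16 — DualSchGor2: on a Gorenstein scheme with a dualizing complex the structure sheaf is a
dualizing complex (S3622).
-/

set_option autoImplicit false
universe u
open CategoryTheory CategoryTheory.Limits AlgebraicGeometry TopologicalSpace Opposite
  DerivedCategory TensorProduct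

attribute [local instance] HasDerivedCategory.standard

namespace Groth.Agent.Lib.Helper16.DualSchCM

open Groth.Agent.Lib.Helper16.FlatBC Groth.Agent.Lib.Helper8 Groth.Agent.Lib.Helper8.EFB
  Groth.Agent.Lib.Helper8.Bidual Groth.Agent.Lib.Helper16.RS

section Ring

variable {A : Type u} [CommRing A] [IsNoetherianRing A]

/-- over a Gorenstein ring of finite Krull dimension the ring itself is a dualizing complex -/
theorem isDualizing_self_of_gorenstein
    (hgor : ∀ p : PrimeSpectrum A, LocCoh.IsGorensteinLocalRing (Localization.AtPrime p.asIdeal))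
    (hdim : ringKrullDim A < ⊤) : Dual.IsDualizing A (Dual.inD A A) := by
  obtain ⟨h1, -, -⟩ := inD_self_conditions (A := A)
  refine Groth.Agent.Lib.Helper16.PtDual.isDualizing_of_pointwise hdim (Dual.inD A A) h1
    ⟨0, fun i hi => ModuleCat.subsingleton_of_isZero (isZero_HD_inD (A := A) A i (by omega))⟩
    (fun p => ?_)
  haveI := hgor p
  have hD : Dual.IsDualizing (Localization.AtPrime p.asIdeal)
      (Dual.inD (Localization.AtPrime p.asIdeal) (Localization.AtPrime p.asIdeal)) :=
    isGorensteinLocalRing_iff_isDualizing_self.1 (hgor p)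
  let l : (Localization.AtPrime p.asIdeal) ⊗[A] A ≃ₗ[Localization.AtPrime p.asIdeal]
      Localization.AtPrime p.asIdeal :=
    TensorProduct.AlgebraTensorModule.rid A (Localization.AtPrime p.asIdeal)
      (Localization.AtPrime p.asIdeal)
  exact isDualizing_of_iso
    ((singleFunctor (ModuleCat.{u} (Localization.AtPrime p.asIdeal)) 0).mapIso l.symm.toModuleIso ≪≫
      inDExtIso (B := Localization.AtPrime p.asIdeal) A) hD

end Ring


section Tilde

variable (R : CommRingCat.{u}) [PreservesFiniteLimits (tilde.functor R)]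

/-- the derived tilde of the ring is the structure sheaf -/
lemma nonempty_tildeD_self_iso :
    Nonempty ((DCoh.tildeD R).obj ((singleFunctor (ModuleCat.{u} R) 0).obj (ModuleCat.of R R)) ≅
      DCoh.inD (Spec (CommRingCat.of R)) (Coh.structureModule (Spec (CommRingCat.of R)))) := by
  let e3 : (DCoh.tildeD R).obj ((singleFunctor (ModuleCat.{u} R) 0).obj (ModuleCat.of R R)) ≅
      DCoh.inD _ ((tilde.functor R).obj (ModuleCat.of R R)) :=
    ((tilde.functor R).mapDerivedCategorySingleFunctor 0).app _
  let e4 : (tilde.functor R).obj (ModuleCat.of R R) ≅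
      Coh.structureModule (Spec (CommRingCat.of R)) := tildeSelf
  exact ⟨e3 ≪≫ (singleFunctor _ 0).mapIso e4⟩

end Tilde

section Sch

variable (X : Scheme.{u})
  [inst1 : ∀ (U : Scheme.{u}) (j : U ⟶ X) [IsOpenImmersion j],
    PreservesFiniteLimits (Scheme.Modules.restrictFunctor j)]
  [inst2 : ∀ (R : CommRingCat.{u}), PreservesFiniteLimits (tilde.functor R)]

/-- the restriction of the structure sheaf to an affine chart is the tilde of the ring -/
lemma nonempty_restrictD_structure_iso (A : Type u) [CommRing A]
    (j : Spec (CommRingCat.of A) ⟶ X) [IsOpenImmersion j] :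
    Nonempty ((DCoh.restrictD j).obj (DCoh.inD X (Coh.structureModule X)) ≅
      (DCoh.tildeD (CommRingCat.of A)).obj (Dual.inD A A)) := by
  let e1 : (DCoh.restrictD j).obj (DCoh.inD X (Coh.structureModule X)) ≅
      DCoh.inD _ ((Scheme.Modules.restrictFunctor j).obj (Coh.structureModule X)) :=
    ((Scheme.Modules.restrictFunctor j).mapDerivedCategorySingleFunctor 0).app _
  let e2 : (Scheme.Modules.restrictFunctor j).obj (Coh.structureModule X) ≅
      Coh.structureModule (Spec (CommRingCat.of A)) :=
    (Scheme.Modules.restrictFunctorIsoPullback j).app _ ≪≫ pullbackUnitIso j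
  obtain ⟨e3⟩ := nonempty_tildeD_self_iso (CommRingCat.of A)
  exact ⟨e1 ≪≫ (singleFunctor _ 0).mapIso e2 ≪≫ e3.symm⟩

/-- **S3622** (the nontrivial direction) -/
theorem isDualizingSch_structure_of_gorenstein
    (hX : ∀ x : X, LocCoh.IsGorensteinLocalRing (X.presheaf.stalk x))
    (K : DCoh.D X) (hK : Dual2.IsDualizingSch X K) :
    Dual2.IsDualizingSch X (DCoh.inD X (Coh.structureModule X)) := by
  intro A _ j _
  obtain ⟨ω', hω', -⟩ := hK A j
  haveI := hω'.isNoetherianRing
  have hdim := ringKrullDim_lt_top_of_isDualizing ω' hω'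
  exact ⟨Dual.inD A A, isDualizing_self_of_gorenstein
    (fun p => (gor_chart X A j p).1 (hX _)) hdim, nonempty_restrictD_structure_iso X A j⟩

end Sch

end Groth.Agent.Lib.Helper16.DualSchCM
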