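import Mathlib
import Groth.Agent.Lib.Helper16.DualS2c
import Groth.Agent.Lib.Helper16.DualSchGor2
import Groth.Agent.Lib.Helper16.DualSchCoh
import Groth.Agent.Lib.Helper16.StalkTor1
import Groth.Agent.Lib.Helper7.StalkFree
import Groth.Agent.Lib.Helper29.FreeIso2

/-!
# Helper16 — DualSchGor3: a locally Noetherian scheme with a dualizing complex `K` is Gorenstein iff
`K` is an invertible object of `D(O_X)` (S3620).
-/

set_option autoImplicit false
universe u
open CategoryTheory CategoryTheory.Limits AlgebraicGeometry TopologicalSpace Opposite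
  DerivedCategory TensorProduct

attribute [local instance] HasDerivedCategory.standard

namespace Groth.Agent.Lib.Helper16.DualSchCM

open Groth.Agent.Lib.Helper16 Groth.Agent.Lib.Helper16.Stk Groth.Agent.Lib.Helper16.RS
  Groth.Agent.Lib.Helper16.TildeTor Groth.Agent.Lib.Helper16.DualS2
  Groth.Agent.Lib.Helper16.FlatBC Groth.Agent.Lib.Helper8 Groth.Agent.Lib.Helper8.EFB
  Groth.Agent.Lib.Helper8.Bidual

section Transport

variable {R S M Y : Type*} [CommRing R] [CommRing S] [AddCommGroup M] [Module R M]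
  [AddCommGroup Y] [Module S Y]

/-- "free of rank one" is transported along a semilinear isomorphism over a ring isomorphism -/
theorem nonempty_linearEquiv_self_of_semilinear (φ : R ≃+* S) (e : M ≃+ Y)
    (he : ∀ (a : R) (x : M), e (a • x) = φ a • e x) (h : Nonempty (M ≃ₗ[R] R)) :
    Nonempty (Y ≃ₗ[S] S) := by
  obtain ⟨f⟩ := h
  have he' : ∀ (s : S) (y : Y), e.symm (s • y) = φ.symm s • e.symm y := by
    intro s y
    apply e.injective
    rw [he, e.apply_symm_apply, φ.apply_symm_apply, e.apply_symm_apply]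
  refine ⟨{ toFun := fun y => φ (f (e.symm y))
            invFun := fun s => e (f.symm (φ.symm s))
            map_add' := fun y₁ y₂ => by simp
            map_smul' := fun s y => by
              simp only [he', map_smul, smul_eq_mul, map_mul, RingEquiv.apply_symm_apply,
                RingHom.id_apply]
            left_inv := fun y => by simp
            right_inv := fun s => by simp }⟩

/-- transfer of "zero" and "free of rank one" along a bijective base change -/
theorem tensor_transfer {B C : Type u} [CommRing B] [CommRing C] [Algebra B C]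
    (hb : Function.Bijective (algebraMap B C)) (N : Type u) [AddCommGroup N] [Module B N] :
    (Subsingleton (C ⊗[B] N) ↔ Subsingleton N) ∧
      (Nonempty ((C ⊗[B] N) ≃ₗ[C] C) ↔ Nonempty (N ≃ₗ[B] B)) := by
  obtain ⟨e0, he0⟩ := exists_semilinear_tensor hb N
  let σ := RingEquiv.ofBijective _ hb
  have he0' : ∀ (b : B) (n : N), e0.symm (b • n) = σ b • e0.symm n := by
    intro b n
    apply e0.injective
    rw [he0, e0.apply_symm_apply, e0.apply_symm_apply, σ.symm_apply_apply]
  refine ⟨e0.toEquiv.subsingleton_congr, ?_, ?_⟩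
  · exact nonempty_linearEquiv_self_of_semilinear σ.symm e0 he0
  · exact nonempty_linearEquiv_self_of_semilinear σ e0.symm he0'

end Transport

section Restrict

variable {X U : Scheme.{u}} (j : U ⟶ X) [IsOpenImmersion j]

/-- stalks of a restriction to an open subscheme: zero / free of rank one -/
theorem stalk_restrict_transfer (M : X.Modules) (z : U) :
    (Subsingleton (((Scheme.Modules.restrictFunctor j).obj M).presheaf.stalk z) ↔
      Subsingleton (M.presheaf.stalk (j z))) ∧
    (Nonempty (((Scheme.Modules.restrictFunctor j).obj M).presheaf.stalk z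
        ≃ₗ[U.presheaf.stalk z] U.presheaf.stalk z) ↔
      Nonempty (M.presheaf.stalk (j z) ≃ₗ[X.presheaf.stalk (j z)] X.presheaf.stalk (j z))) := by
  let e : (stk z).obj ((Scheme.Modules.restrictFunctor j).obj M) ≅
      (ModuleCat.extendScalars.{u, u, u} (φs j z)).obj ((stk (j z)).obj M) :=
    (stk z).mapIso ((Scheme.Modules.restrictFunctorIsoPullback j).app M) ≪≫
      (pullbackStkIso j z).app M
  letI : Algebra (X.presheaf.stalk (j z)) (U.presheaf.stalk z) := (φs j z).toAlgebra
  have hb : Function.Bijective (algebraMap (X.presheaf.stalk (j z)) (U.presheaf.stalk z)) :=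
    PerfFib.bijective_φs j z
  obtain ⟨h1, h2⟩ := tensor_transfer hb (M.presheaf.stalk (j z))
  let l : ((Scheme.Modules.restrictFunctor j).obj M).presheaf.stalk z ≃ₗ[U.presheaf.stalk z]
      (U.presheaf.stalk z) ⊗[X.presheaf.stalk (j z)] (M.presheaf.stalk (j z)) := e.toLinearEquiv
  refine ⟨l.toEquiv.subsingleton_congr.trans h1, ?_⟩
  refine Iff.trans ⟨?_, ?_⟩ h2
  · rintro ⟨f⟩
    exact ⟨l.symm ≪≫ₗ f⟩
  · rintro ⟨f⟩
    exact ⟨l ≪≫ₗ f⟩

end Restrict

section Sch

variable (X : Scheme.{u})
  [inst1 : ∀ (U : Scheme.{u}) (j : U ⟶ X) [IsOpenImmersion j],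
    PreservesFiniteLimits (Scheme.Modules.restrictFunctor j)]
  [inst2 : ∀ (R : CommRingCat.{u}), PreservesFiniteLimits (tilde.functor R)]

/-- **pointwise criterion**: the local ring at `x` is Gorenstein iff exactly one cohomology sheaf of
the dualizing complex has a nonzero stalk at `x`, and that stalk is free of rank one -/
theorem gor_iff_stalk (K : DCoh.D X) (hK : Dual2.IsDualizingSch X K) (x : X) :
    LocCoh.IsGorensteinLocalRing (X.presheaf.stalk x) ↔
      ∃ n : ℤ, (∀ i : ℤ, i ≠ n → Subsingleton ((DCoh.HD K i).presheaf.stalk x)) ∧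
        Nonempty ((DCoh.HD K n).presheaf.stalk x ≃ₗ[X.presheaf.stalk x] X.presheaf.stalk x) := by
  obtain ⟨A, _, j, _, p, rfl⟩ := exists_chart X x
  obtain ⟨ω', hω', ⟨e⟩⟩ := hK A j
  haveI := hω'.isNoetherianRing
  obtain ⟨Ω, hΩ, key⟩ := chart_exists X K A j ω' hω' e p
  haveI := hΩ.isNoetherianRing
  letI : Algebra (X.presheaf.stalk (j (pt (CommRingCat.of A) p)))
      ((Spec (CommRingCat.of A)).presheaf.stalk (pt (CommRingCat.of A) p)) :=
    (φs j (pt (CommRingCat.of A) p)).toAlgebra
  have hb : Function.Bijective (algebraMap (X.presheaf.stalk (j (pt (CommRingCat.of A) p)))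
      ((Spec (CommRingCat.of A)).presheaf.stalk (pt (CommRingCat.of A) p))) :=
    PerfFib.bijective_φs j (pt (CommRingCat.of A) p)
  let σ := RingEquiv.ofBijective _ hb
  rw [gor_congr σ, isGorensteinLocalRing_iff_of_isDualizing Ω hΩ]
  -- the semilinear identifications
  have e0 := fun i : ℤ => exists_semilinear_tensor hb
    ((DCoh.HD K i).presheaf.stalk (j (pt (CommRingCat.of A) p)))
  choose e0 he0 using e0
  have hsub : ∀ i : ℤ, Subsingleton (Dual.HD _ Ω i) ↔
      Subsingleton ((DCoh.HD K i).presheaf.stalk (j (pt (CommRingCat.of A) p))) := by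
    intro i
    obtain ⟨e1⟩ := key i
    exact e1.toEquiv.subsingleton_congr.trans (e0 i).toEquiv.subsingleton_congr
  have hfree : ∀ i : ℤ, Nonempty (Dual.HD _ Ω i ≃ₗ[(Spec (CommRingCat.of A)).presheaf.stalk
        (pt (CommRingCat.of A) p)] (Spec (CommRingCat.of A)).presheaf.stalk
        (pt (CommRingCat.of A) p)) ↔
      Nonempty ((DCoh.HD K i).presheaf.stalk (j (pt (CommRingCat.of A) p))
        ≃ₗ[X.presheaf.stalk (j (pt (CommRingCat.of A) p))]
        X.presheaf.stalk (j (pt (CommRingCat.of A) p))) := by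
    intro i
    obtain ⟨e1⟩ := key i
    have he0' : ∀ (b : X.presheaf.stalk (j (pt (CommRingCat.of A) p)))
        (n : (DCoh.HD K i).presheaf.stalk (j (pt (CommRingCat.of A) p))),
        (e0 i).symm (b • n) = σ b • (e0 i).symm n := by
      intro b n
      apply (e0 i).injective
      rw [he0 i, (e0 i).apply_symm_apply, (e0 i).apply_symm_apply, σ.symm_apply_apply]
    constructor
    · rintro ⟨f⟩
      exact nonempty_linearEquiv_self_of_semilinear σ.symm (e0 i) (he0 i) ⟨e1.symm ≪≫ₗ f⟩
    · rintro ⟨f⟩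
      obtain ⟨g⟩ := nonempty_linearEquiv_self_of_semilinear σ (e0 i).symm he0' ⟨f⟩
      exact ⟨e1 ≪≫ₗ g⟩
  constructor
  · rintro ⟨n, h1, h2⟩
    exact ⟨n, fun i hi => (hsub i).1 (h1 i hi), (hfree n).1 h2⟩
  · rintro ⟨n, h1, h2⟩
    exact ⟨n, fun i hi => (hsub i).2 (h1 i hi), (hfree n).2 h2⟩

/-- **(⟸)**: if the dualizing complex is invertible then every local ring is Gorenstein -/
theorem gor_of_isInvertibleD (K : DCoh.D X) (hK : Dual2.IsDualizingSch X K)
    (hinv : Dual3.IsInvertibleD K) (x : X) :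
    LocCoh.IsGorensteinLocalRing (X.presheaf.stalk x) := by
  obtain ⟨U, n, hxU, ⟨ε⟩⟩ := hinv x
  let z : (U : Scheme.{u}) := ⟨x, hxU⟩
  have hz : U.ι z = x := rfl
  rw [gor_iff_stalk X K hK x]
  have b := fun i : ℤ => nonempty_HD_restrictD_iso U.ι K i
  refine ⟨-n, fun i hi => ?_, ?_⟩
  · obtain ⟨b⟩ := b i
    have a : DCoh.HD ((DCoh.restrictD U.ι).obj K) i ≅
        (homologyFunctor _ (n + i)).obj
          (DCoh.inD (U : Scheme.{u}) (Coh.structureModule (U : Scheme.{u}))) :=
      (homologyFunctor _ i).mapIso ε ≪≫ ((homologyFunctor _ 0).shiftIso n i (n + i) rfl).app _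
    have hZ : IsZero ((homologyFunctor (U : Scheme.{u}).Modules (n + i)).obj
        (DCoh.inD (U : Scheme.{u}) (Coh.structureModule (U : Scheme.{u})))) := by
      rcases lt_or_gt_of_ne (show n + i ≠ 0 by omega) with h | h
      · exact (DCoh.inD (U : Scheme.{u}) (Coh.structureModule (U : Scheme.{u}))).isZero_of_isGE
          0 _ h
      · exact (DCoh.inD (U : Scheme.{u}) (Coh.structureModule (U : Scheme.{u}))).isZero_of_isLE
          0 _ h
    have hZ' : IsZero ((Scheme.Modules.restrictFunctor U.ι).obj (DCoh.HD K i)) :=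
      hZ.of_iso (b.symm ≪≫ a)
    haveI : Subsingleton (((Scheme.Modules.restrictFunctor U.ι).obj
        (DCoh.HD K i)).presheaf.stalk z) :=
      ModuleCat.subsingleton_of_isZero ((stk z).map_isZero hZ')
    exact (stalk_restrict_transfer U.ι (DCoh.HD K i) z).1.1 inferInstance
  · obtain ⟨b⟩ := b (-n)
    have a : DCoh.HD ((DCoh.restrictD U.ι).obj K) (-n) ≅ Coh.structureModule (U : Scheme.{u}) :=
      (homologyFunctor _ (-n)).mapIso ε ≪≫
        ((homologyFunctor _ 0).shiftIso n (-n) 0 (by omega)).app _ ≪≫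
        (singleFunctorCompHomologyFunctorIso _ 0).app _
    let l : ((Scheme.Modules.restrictFunctor U.ι).obj (DCoh.HD K (-n))).presheaf.stalk z
        ≃ₗ[(U : Scheme.{u}).presheaf.stalk z]
        (Coh.structureModule (U : Scheme.{u})).presheaf.stalk z :=
      ((stk z).mapIso (b.symm ≪≫ a)).toLinearEquiv
    exact (stalk_restrict_transfer U.ι (DCoh.HD K (-n)) z).2.1
      ⟨l ≪≫ₗ (Groth.Agent.Lib.Helper16.StalkTor.e (U : Scheme.{u}) z).symm⟩

/-- **(⟹)**: on a Gorenstein scheme a dualizing complex is invertible -/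
theorem isInvertibleD_of_gor [IsLocallyNoetherian X] (K : DCoh.D X)
    (hK : Dual2.IsDualizingSch X K)
    (hgor : ∀ x : X, LocCoh.IsGorensteinLocalRing (X.presheaf.stalk x)) :
    Dual3.IsInvertibleD K := by
  intro x
  obtain ⟨n, h1, ⟨l⟩⟩ := (gor_iff_stalk X K hK x).1 (hgor x)
  haveI : Module.Free (X.presheaf.stalk x) ((DCoh.HD K n).presheaf.stalk x) :=
    Module.Free.of_equiv l.symm
  have hrk : Module.finrank (X.presheaf.stalk x) ((DCoh.HD K n).presheaf.stalk x) = 1 := by
    rw [LinearEquiv.finrank_eq l, Module.finrank_self]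
  obtain ⟨U, hxU, ⟨e⟩⟩ := Groth.Agent.Lib.Helper7.StalkFree.exists_iso_freeMod_of_free_stalk X
    (DCoh.HD K n) (isCoh_HD X K hK n) x
  rw [hrk] at e
  -- stalks at the points of `U`
  have hU : ∀ y ∈ U, ∀ i : ℤ, i ≠ n → Subsingleton ((DCoh.HD K i).presheaf.stalk y) := by
    intro y hy i hi
    obtain ⟨m, g1, -⟩ := (gor_iff_stalk X K hK y).1 (hgor y)
    obtain ⟨f1, f2, f3⟩ := Groth.Agent.Lib.Helper7.StalkFree.free_stalk_of_iso
      (DCoh.HD K n) y U hy 1 e
    have hnm : n = m := by
      by_contra hne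
      haveI := g1 n hne
      have h0 : Module.finrank (X.presheaf.stalk y) ((DCoh.HD K n).presheaf.stalk y) = 0 :=
        Module.finrank_zero_of_subsingleton
      omega
    subst hnm
    exact g1 i hi
  refine ⟨U, -n, hxU, ?_⟩
  have hzero : ∀ i : ℤ, i ≠ n → IsZero (DCoh.HD ((DCoh.restrictD U.ι).obj K) i) := by
    intro i hi
    obtain ⟨b⟩ := nonempty_HD_restrictD_iso U.ι K i
    refine IsZero.of_iso ?_ b
    apply Groth.Agent.Lib.Helper16.Stk.isZero_of_forall_isZero_stalk
    intro z
    have hs := (stalk_restrict_transfer U.ι (DCoh.HD K i) z).1.2 (hU (U.ι z) z.2 i hi)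
    haveI : Subsingleton ↑((DerSch.stalkFunctor (↑U) z).obj
        ((Scheme.Modules.restrictFunctor U.ι).obj (DCoh.HD K i))) := hs
    exact ModuleCat.isZero_of_subsingleton _
  haveI : ((DCoh.restrictD U.ι).obj K).IsGE n :=
    (isGE_iff _ n).2 fun i hi => hzero i (by omega)
  haveI : ((DCoh.restrictD U.ι).obj K).IsLE n :=
    (isLE_iff _ n).2 fun i hi => hzero i (by omega)
  obtain ⟨e1⟩ := Groth.Agent.Lib.Helper16.DerT.nonempty_iso_single_homology
    ((DCoh.restrictD U.ι).obj K) n
  obtain ⟨b⟩ := nonempty_HD_restrictD_iso U.ι K n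
  let e2 : DCoh.HD ((DCoh.restrictD U.ι).obj K) n ≅ Coh.structureModule (U : Scheme.{u}) :=
    b ≪≫ e ≪≫ coproductUniqueIso _
  let e3 : (singleFunctor (U : Scheme.{u}).Modules n).obj (Coh.structureModule (U : Scheme.{u})) ≅
      (DCoh.inD (U : Scheme.{u}) (Coh.structureModule (U : Scheme.{u})))⟦-n⟧ :=
    (((singleFunctors (U : Scheme.{u}).Modules).shiftIso (-n) n 0 (by omega)).app _).symm
  exact ⟨e1 ≪≫ (singleFunctor _ n).mapIso e2 ≪≫ e3⟩

end Sch

end Groth.Agent.Lib.Helper16.DualSchCM
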