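import Mathlib
import Groth.Prelude.Def_DCoh4
import Groth.Agent.Lib.Helper16.Stk7

/-!
# Helper16 — TA1: the associator of the tensor product of `O_X`-modules
-/

set_option autoImplicit false
universe u
open CategoryTheory CategoryTheory.Limits AlgebraicGeometry MonoidalCategory

namespace Groth.Agent.Lib.Helper16.TA

open Groth.Agent.Lib.Helper16.Stk

variable {X : Scheme.{u}}

/-- short name for the forgetful functor to presheaves of modules. -/
noncomputable abbrev tP : X.Modules ⥤ CohB1.PMod X := DCoh.toP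
/-- short name for the sheafification functor. -/
noncomputable abbrev sP : CohB1.PMod X ⥤ X.Modules := DCoh.shP
/-- short name for the unit of the sheafification adjunction. -/
noncomputable abbrev η : 𝟭 (CohB1.PMod X) ⟶ sP ⋙ tP := (adjSh (X := X)).unit

/-- isomorphisms of `O_X`-modules are detected on stalks. -/
lemma isIso_of_forall_stalk {M N : X.Modules} (f : M ⟶ N) (h : ∀ x : X, IsIso ((stk x).map f)) :
    IsIso f := by
  haveI := mono_of_forall_stalk f (fun x => by haveI := h x; infer_instance)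
  haveI := epi_of_forall_stalk f (fun x => by haveI := h x; infer_instance)
  exact isIso_of_mono_of_epi f

/-- sheafification inverts morphisms which are isomorphisms on all (presheaf) stalks. -/
lemma isIso_shP_map_of_forall_pst {A B : CohB1.PMod X} (g : A ⟶ B)
    (h : ∀ x : X, IsIso ((pst x).map g)) : IsIso (DCoh.shP.map g) := by
  apply isIso_of_forall_stalk
  intro x
  haveI := h x
  have nat := (pstShIso x).hom.naturality g
  have e : ((pstShIso x).app A).inv ≫ ((pst x).map g ≫ (pstShIso x).hom.app B) =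
      (stk x).map (DCoh.shP.map g) := (Iso.inv_comp_eq ((pstShIso x).app A)).2 nat
  have hI : IsIso (((pstShIso x).app A).inv ≫ ((pst x).map g ≫ (pstShIso x).hom.app B)) :=
    inferInstance
  exact (congrArg IsIso e).mp hI

/-- the unit of sheafification is an isomorphism on stalks, also after tensoring on the right. -/
instance isIso_shP_map_unit_whiskerRight (A C : CohB1.PMod X) :
    IsIso (sP.map (η.app A ▷ C)) := by
  apply isIso_shP_map_of_forall_pst
  intro x
  have nat := pstTensorIso_naturality x ((adjSh (X := X)).unit.app A) (𝟙 C)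
  rw [tensorHom_id] at nat
  have e : (pstTensorIso x A C).inv ≫ (((pst x).map ((adjSh (X := X)).unit.app A) ⊗ₘ
      (pst x).map (𝟙 C)) ≫ (pstTensorIso x _ C).hom) =
      (pst x).map ((adjSh (X := X)).unit.app A ▷ C) := (Iso.inv_comp_eq _).2 nat
  haveI : IsIso ((pst x).map (𝟙 C)) := by rw [CategoryTheory.Functor.map_id]; infer_instance
  have hI : IsIso ((pstTensorIso x A C).inv ≫ (((pst x).map ((adjSh (X := X)).unit.app A) ⊗ₘ
      (pst x).map (𝟙 C)) ≫ (pstTensorIso x _ C).hom)) := inferInstance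
  exact (congrArg IsIso e).mp hI

/-- the unit of sheafification is an isomorphism on stalks, also after tensoring on the left. -/
instance isIso_shP_map_whiskerLeft_unit (A C : CohB1.PMod X) :
    IsIso (sP.map (A ◁ η.app C)) := by
  apply isIso_shP_map_of_forall_pst
  intro x
  have nat := pstTensorIso_naturality x (𝟙 A) ((adjSh (X := X)).unit.app C)
  rw [id_tensorHom] at nat
  have e : (pstTensorIso x A C).inv ≫ (((pst x).map (𝟙 A) ⊗ₘ
      (pst x).map ((adjSh (X := X)).unit.app C)) ≫ (pstTensorIso x A _).hom) =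
      (pst x).map (A ◁ (adjSh (X := X)).unit.app C) := (Iso.inv_comp_eq _).2 nat
  haveI : IsIso ((pst x).map (𝟙 A)) := by rw [CategoryTheory.Functor.map_id]; infer_instance
  have hI : IsIso ((pstTensorIso x A C).inv ≫ (((pst x).map (𝟙 A) ⊗ₘ
      (pst x).map ((adjSh (X := X)).unit.app C)) ≫ (pstTensorIso x A _).hom)) := inferInstance
  exact (congrArg IsIso e).mp hI

/-! ### naturality of the whiskered units -/

section


lemma unit_nat {A A' : CohB1.PMod X} (g : A ⟶ A') :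
    g ≫ η.app A' = η.app A ≫ tP.map (sP.map g) := η.naturality g

lemma unitL_nat₁ {A A' : CohB1.PMod X} (g : A ⟶ A') (C : CohB1.PMod X) :
    sP.map (g ▷ C) ≫ sP.map (η.app A' ▷ C) =
      sP.map (η.app A ▷ C) ≫ sP.map (tP.map (sP.map g) ▷ C) := by
  rw [← Functor.map_comp, ← Functor.map_comp, ← comp_whiskerRight, ← comp_whiskerRight, unit_nat]

lemma unitL_nat₂ (A : CohB1.PMod X) {C C' : CohB1.PMod X} (h : C ⟶ C') :
    sP.map (A ◁ h) ≫ sP.map (η.app A ▷ C') =
      sP.map (η.app A ▷ C) ≫ sP.map (tP.obj (sP.obj A) ◁ h) := by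
  rw [← Functor.map_comp, ← Functor.map_comp]
  exact congrArg sP.map (show A ◁ h ≫ η.app A ▷ C' = η.app A ▷ C ≫ tP.obj (sP.obj A) ◁ h from
    whisker_exchange (η.app A) h)

lemma unitR_nat₁ {A A' : CohB1.PMod X} (f : A ⟶ A') (B : CohB1.PMod X) :
    sP.map (f ▷ B) ≫ sP.map (A' ◁ η.app B) =
      sP.map (A ◁ η.app B) ≫ sP.map (f ▷ tP.obj (sP.obj B)) := by
  rw [← Functor.map_comp, ← Functor.map_comp]
  exact congrArg sP.map (show f ▷ B ≫ A' ◁ η.app B = A ◁ η.app B ≫ f ▷ tP.obj (sP.obj B) from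
    (whisker_exchange f (η.app B)).symm)

lemma unitR_nat₂ (A : CohB1.PMod X) {B B' : CohB1.PMod X} (g : B ⟶ B') :
    sP.map (A ◁ g) ≫ sP.map (A ◁ η.app B') =
      sP.map (A ◁ η.app B) ≫ sP.map (A ◁ tP.map (sP.map g)) := by
  rw [← Functor.map_comp, ← Functor.map_comp, ← MonoidalCategory.whiskerLeft_comp,
    ← MonoidalCategory.whiskerLeft_comp, unit_nat]

/-- `sh((M ⊗ N) ⊗ L) ≅ (M ⊗ N) ⊗ L`. -/
noncomputable def assocL (M N L : X.Modules) :
    sP.obj ((tP.obj M ⊗ tP.obj N) ⊗ tP.obj L) ≅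
      (DCoh.tensorBi.obj ((DCoh.tensorBi.obj M).obj N)).obj L :=
  (asIso (sP.map (η.app (tP.obj M ⊗ tP.obj N) ▷ tP.obj L)) :
    sP.obj ((tP.obj M ⊗ tP.obj N) ⊗ tP.obj L) ≅
      sP.obj (tP.obj (sP.obj (tP.obj M ⊗ tP.obj N)) ⊗ tP.obj L))

/-- `sh(M ⊗ (N ⊗ L)) ≅ M ⊗ (N ⊗ L)`. -/
noncomputable def assocR (M N L : X.Modules) :
    sP.obj (tP.obj M ⊗ (tP.obj N ⊗ tP.obj L)) ≅
      (DCoh.tensorBi.obj M).obj ((DCoh.tensorBi.obj N).obj L) :=
  (asIso (sP.map (tP.obj M ◁ η.app (tP.obj N ⊗ tP.obj L))) :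
    sP.obj (tP.obj M ⊗ (tP.obj N ⊗ tP.obj L)) ≅
      sP.obj (tP.obj M ⊗ tP.obj (sP.obj (tP.obj N ⊗ tP.obj L))))

/-- **the associator of the tensor product of `O_X`-modules.** -/
noncomputable def assocIso (M N L : X.Modules) :
    (DCoh.tensorBi.obj ((DCoh.tensorBi.obj M).obj N)).obj L ≅
      (DCoh.tensorBi.obj M).obj ((DCoh.tensorBi.obj N).obj L) :=
  (assocL M N L).symm ≪≫ sP.mapIso (α_ (tP.obj M) (tP.obj N) (tP.obj L)) ≪≫ assocR M N L

lemma assocL_hom (M N L : X.Modules) :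
    (assocL M N L).hom = sP.map (η.app (tP.obj M ⊗ tP.obj N) ▷ tP.obj L) := rfl

lemma assocR_hom (M N L : X.Modules) :
    (assocR M N L).hom = sP.map (tP.obj M ◁ η.app (tP.obj N ⊗ tP.obj L)) := rfl

lemma assocL_nat₁ {M M' : X.Modules} (f : M ⟶ M') (N L : X.Modules) :
    sP.map ((tP.map f ▷ tP.obj N) ▷ tP.obj L) ≫ (assocL M' N L).hom =
      (assocL M N L).hom ≫ (DCoh.tensorBi.map ((DCoh.tensorBi.map f).app N)).app L := by
  rw [assocL_hom, assocL_hom]
  exact unitL_nat₁ (tP.map f ▷ tP.obj N) (tP.obj L)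

lemma assocL_nat₂ (M : X.Modules) {N N' : X.Modules} (g : N ⟶ N') (L : X.Modules) :
    sP.map ((tP.obj M ◁ tP.map g) ▷ tP.obj L) ≫ (assocL M N' L).hom =
      (assocL M N L).hom ≫ (DCoh.tensorBi.map ((DCoh.tensorBi.obj M).map g)).app L := by
  rw [assocL_hom, assocL_hom]
  exact unitL_nat₁ (tP.obj M ◁ tP.map g) (tP.obj L)

lemma assocL_nat₃ (M N : X.Modules) {L L' : X.Modules} (h : L ⟶ L') :
    sP.map ((tP.obj M ⊗ tP.obj N) ◁ tP.map h) ≫ (assocL M N L').hom =
      (assocL M N L).hom ≫ (DCoh.tensorBi.obj ((DCoh.tensorBi.obj M).obj N)).map h := by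
  rw [assocL_hom, assocL_hom]
  exact unitL_nat₂ (tP.obj M ⊗ tP.obj N) (tP.map h)

lemma assocR_nat₁ {M M' : X.Modules} (f : M ⟶ M') (N L : X.Modules) :
    sP.map (tP.map f ▷ (tP.obj N ⊗ tP.obj L)) ≫ (assocR M' N L).hom =
      (assocR M N L).hom ≫ (DCoh.tensorBi.map f).app ((DCoh.tensorBi.obj N).obj L) := by
  rw [assocR_hom, assocR_hom]
  exact unitR_nat₁ (tP.map f) (tP.obj N ⊗ tP.obj L)

lemma assocR_nat₂ (M : X.Modules) {N N' : X.Modules} (g : N ⟶ N') (L : X.Modules) :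
    sP.map (tP.obj M ◁ (tP.map g ▷ tP.obj L)) ≫ (assocR M N' L).hom =
      (assocR M N L).hom ≫ (DCoh.tensorBi.obj M).map ((DCoh.tensorBi.map g).app L) := by
  rw [assocR_hom, assocR_hom]
  exact unitR_nat₂ (tP.obj M) (tP.map g ▷ tP.obj L)

lemma assocR_nat₃ (M N : X.Modules) {L L' : X.Modules} (h : L ⟶ L') :
    sP.map (tP.obj M ◁ (tP.obj N ◁ tP.map h)) ≫ (assocR M N L').hom =
      (assocR M N L).hom ≫ (DCoh.tensorBi.obj M).map ((DCoh.tensorBi.obj N).map h) := by
  rw [assocR_hom, assocR_hom]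
  exact unitR_nat₂ (tP.obj M) (tP.obj N ◁ tP.map h)

end

end Groth.Agent.Lib.Helper16.TA
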