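import Mathlib
import Groth.Prelude.Def_DCoh4
import Groth.Agent.Lib.Helper16.TA1

/-!
# Helper16 — TA2: naturality of the associator of the tensor product of `O_X`-modules;
the associator as an isomorphism of trifunctors
-/

set_option autoImplicit false
universe u
open CategoryTheory CategoryTheory.Limits AlgebraicGeometry MonoidalCategory

namespace Groth.Agent.Lib.Helper16.TA

open Groth.Agent.Lib.Helper16.Stk

variable {X : Scheme.{u}}

lemma assocIso_hom (M N L : X.Modules) :
    (assocIso M N L).hom =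
      (assocL M N L).inv ≫ sP.map (α_ (tP.obj M) (tP.obj N) (tP.obj L)).hom ≫
        (assocR M N L).hom := rfl

/-- abstract pasting lemma. -/
lemma paste {C : Type*} [Category C] {A₁ A₂ A₃ A₄ B₁ B₂ B₃ B₄ : C}
    (aL : A₂ ≅ A₁) (aL' : B₂ ≅ B₁) (a : A₂ ⟶ A₃) (a' : B₂ ⟶ B₃) (aR : A₃ ≅ A₄) (aR' : B₃ ≅ B₄)
    (G : A₁ ⟶ B₁) (S : A₂ ⟶ B₂) (S₂ : A₃ ⟶ B₃) (H : A₄ ⟶ B₄)
    (h1 : S ≫ aL'.hom = aL.hom ≫ G) (h2 : S ≫ a' = a ≫ S₂) (h3 : S₂ ≫ aR'.hom = aR.hom ≫ H) :
    G ≫ (aL'.inv ≫ a' ≫ aR'.hom) = (aL.inv ≫ a ≫ aR.hom) ≫ H := by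
  have h1' : G ≫ aL'.inv = aL.inv ≫ S := by
    rw [Iso.eq_inv_comp, ← Category.assoc, Iso.comp_inv_eq, h1]
  rw [← Category.assoc, h1', Category.assoc, Category.assoc, Category.assoc,
    ← h3, ← Category.assoc a, ← h2, Category.assoc]

lemma assocIso_nat₁ {M M' : X.Modules} (f : M ⟶ M') (N L : X.Modules) :
    (DCoh.tensorBi.map ((DCoh.tensorBi.map f).app N)).app L ≫ (assocIso M' N L).hom =
      (assocIso M N L).hom ≫ (DCoh.tensorBi.map f).app ((DCoh.tensorBi.obj N).obj L) := by
  rw [assocIso_hom, assocIso_hom]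
  refine paste (assocL M N L) (assocL M' N L) _ _ (assocR M N L) (assocR M' N L) _ _ _ _
    (assocL_nat₁ f N L) ?_ (assocR_nat₁ f N L)
  rw [← Functor.map_comp, ← Functor.map_comp, associator_naturality_left]

lemma assocIso_nat₂ (M : X.Modules) {N N' : X.Modules} (g : N ⟶ N') (L : X.Modules) :
    (DCoh.tensorBi.map ((DCoh.tensorBi.obj M).map g)).app L ≫ (assocIso M N' L).hom =
      (assocIso M N L).hom ≫ (DCoh.tensorBi.obj M).map ((DCoh.tensorBi.map g).app L) := by
  rw [assocIso_hom, assocIso_hom]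
  refine paste (assocL M N L) (assocL M N' L) _ _ (assocR M N L) (assocR M N' L) _ _ _ _
    (assocL_nat₂ M g L) ?_ (assocR_nat₂ M g L)
  rw [← Functor.map_comp, ← Functor.map_comp, associator_naturality_middle]

lemma assocIso_nat₃ (M N : X.Modules) {L L' : X.Modules} (h : L ⟶ L') :
    (DCoh.tensorBi.obj ((DCoh.tensorBi.obj M).obj N)).map h ≫ (assocIso M N L').hom =
      (assocIso M N L).hom ≫ (DCoh.tensorBi.obj M).map ((DCoh.tensorBi.obj N).map h) := by
  rw [assocIso_hom, assocIso_hom]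
  refine paste (assocL M N L) (assocL M N L') _ _ (assocR M N L) (assocR M N L') _ _ _ _
    (assocL_nat₃ M N h) ?_ (assocR_nat₃ M N h)
  rw [← Functor.map_comp, ← Functor.map_comp, associator_naturality_right]

/-- **the associator of the tensor product of `O_X`-modules, as an isomorphism of
trifunctors.** -/
noncomputable def assocNatIso :
    bifunctorComp₁₂ (DCoh.tensorBi (X := X)) (DCoh.tensorBi (X := X)) ≅
      bifunctorComp₂₃ (DCoh.tensorBi (X := X)) (DCoh.tensorBi (X := X)) :=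
  NatIso.ofComponents (fun M => NatIso.ofComponents (fun N => NatIso.ofComponents
    (fun L => assocIso M N L) (fun {L L'} h => assocIso_nat₃ M N h))
    (fun {N N'} g => by
      apply NatTrans.ext; funext L; exact assocIso_nat₂ M g L))
    (fun {M M'} f => by
      apply NatTrans.ext; funext N; apply NatTrans.ext; funext L; exact assocIso_nat₁ f N L)

@[simp]
lemma assocNatIso_hom_app_app_app (M N L : X.Modules) :
    (((assocNatIso (X := X)).hom.app M).app N).app L = (assocIso M N L).hom := rfl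

end Groth.Agent.Lib.Helper16.TA
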