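import Mathlib
import Groth.Prelude.Def_DCoh4
import Groth.Agent.Lib.Helper16.TA2
import Groth.Agent.Lib.Helper16.KD4

/-!
# Helper16 — TA3: the tensor product of `O_X`-modules preserves coproducts in each variable
-/

set_option autoImplicit false
universe u
open CategoryTheory CategoryTheory.Limits AlgebraicGeometry MonoidalCategory

namespace Groth.Agent.Lib.Helper16.TA

open Groth.Agent.Lib.Helper16.Stk

variable {X : Scheme.{u}}

/-- a functor `G : X.Modules ⥤ X.Modules` preserves a colimit as soon as all `G ⋙ stk x` do. -/
lemma preservesColimit_of_forall_stalk {J : Type*} [Category J] (K : J ⥤ X.Modules)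
    (G : X.Modules ⥤ X.Modules) [HasColimit K] [HasColimit (K ⋙ G)]
    [∀ x : X, HasColimit ((K ⋙ G) ⋙ stk x)]
    (h₁ : ∀ x : X, PreservesColimit (K ⋙ G) (stk x))
    (h₂ : ∀ x : X, PreservesColimit K (G ⋙ stk x)) : PreservesColimit K G := by
  haveI : IsIso (colimit.post K G) := by
    apply isIso_of_forall_stalk
    intro x
    haveI := h₁ x
    haveI := h₂ x
    have e := colimit.post_post K G (stk x)
    haveI : IsIso (colimit.post (K ⋙ G) (stk x) ≫ (stk x).map (colimit.post K G)) := by
      rw [e]; infer_instance
    exact IsIso.of_isIso_comp_left (colimit.post (K ⋙ G) (stk x)) _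
  exact preservesColimit_of_isIso_post G K

/-- the stalk of `M ⊗ N`, naturally in `N`. -/
noncomputable def tensorLeftModStkIso (M : X.Modules) (x : X) :
    DCoh.tensorBi.obj M ⋙ stk x ≅ stk x ⋙ tensorLeft ((stk x).obj M) :=
  NatIso.ofComponents (fun N => (stalkTensorIso x M N).symm) (fun {N N'} g => by
    change (stk x).map ((DCoh.tensorBi.obj M).map g) ≫ (stalkTensorIso x M N').inv =
      (stalkTensorIso x M N).inv ≫ ((stk x).obj M ◁ (stk x).map g)
    rw [Iso.comp_inv_eq, Category.assoc, Iso.eq_inv_comp]
    exact (stalkTensorIso_natR x M g).symm)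

instance preservesColimitsOfShape_discrete_stk (J : Type) (x : X) :
    PreservesColimitsOfShape (Discrete J) (stk x) :=
  preservesColimitsOfShape_stalkFunctor x (Discrete J)

instance preservesColimitsOfShape_tensorBi_obj (M : X.Modules) (J : Type) :
    PreservesColimitsOfShape (Discrete J) (DCoh.tensorBi.obj M) where
  preservesColimit {K} := by
    apply preservesColimit_of_forall_stalk K (DCoh.tensorBi.obj M) (fun x => inferInstance)
    intro x
    exact preservesColimit_of_natIso K (tensorLeftModStkIso M x).symm

instance preservesColimitsOfShape_tensorBi_flip_obj (N : X.Modules) (J : Type) :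
    PreservesColimitsOfShape (Discrete J) (DCoh.tensorBi.flip.obj N) where
  preservesColimit {K} := by
    apply preservesColimit_of_forall_stalk K (DCoh.tensorBi.flip.obj N) (fun x => inferInstance)
    intro x
    exact preservesColimit_of_natIso K (Groth.Agent.Lib.Helper16.KD.tensorRightModStkIso N x).symm

end Groth.Agent.Lib.Helper16.TA
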