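import Mathlib
import Groth.Prelude.Def_KFlatSite
import Groth.Agent.Lib.Helper16.BiCx2
import Groth.Agent.Lib.Helper16.SMod1

/-!
# Helper16 — BiCx3: K-flat complexes of modules on a ringed site (general homological facts)
-/

set_option autoImplicit false
universe u
open CategoryTheory CategoryTheory.Limits HomologicalComplex

namespace Groth.Agent.Lib.Helper16.BiCx

open Groth.Agent.Lib.Helper16.KF (Idx)

variable {C : Type u} [SmallCategory C] {J : GrothendieckTopology C} (O : Sheaf J CommRingCat.{u})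

instance hasExactColimitsOfShape_idx (n : ℤ) :
    HasExactColimitsOfShape (Discrete (Idx n)) (ModSite.Mod O) :=
  Groth.Agent.Lib.Helper16.SMod.ab4₀ O _

lemma isKFlat_iff (K : CochainComplex (ModSite.Mod O) ℤ) :
    ModSite.IsKFlat K ↔ IsKFlatR (ModSite.tensorBi O) K := Iff.rfl

/-- tensoring with a K-flat complex preserves quasi-isomorphisms. -/
theorem quasiIso_mapL_of_isKFlat {K : CochainComplex (ModSite.Mod O) ℤ} (hK : ModSite.IsKFlat K)
    {L₁ L₂ : CochainComplex (ModSite.Mod O) ℤ} (f : L₁ ⟶ L₂) [QuasiIso f] :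
    QuasiIso (mapL (ModSite.tensorBi O) f K) :=
  quasiIso_mapL_of_isKFlatR (ModSite.tensorBi O) hK f

open CochainComplex in
theorem isKFlat_mappingCone_two_out_of_three {K₁ K₂ : CochainComplex (ModSite.Mod O) ℤ}
    (φ : K₁ ⟶ K₂) :
    (ModSite.IsKFlat K₁ → ModSite.IsKFlat K₂ → ModSite.IsKFlat (mappingCone φ)) ∧
    (ModSite.IsKFlat K₁ → ModSite.IsKFlat (mappingCone φ) → ModSite.IsKFlat K₂) ∧
    (ModSite.IsKFlat K₂ → ModSite.IsKFlat (mappingCone φ) → ModSite.IsKFlat K₁) :=
  isKFlatR_mappingCone_two_out_of_three (ModSite.tensorBi O) φ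

end Groth.Agent.Lib.Helper16.BiCx
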