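import Mathlib
import Groth.Prelude.Def_KFlatSite
import Groth.Agent.Lib.Helper16.BiCx3
import Groth.Agent.Lib.Helper16.BiCx5
import Groth.Agent.Lib.Helper1.ModFlat

/-!
# Helper16 — BiCx6: sequential colimits of K-flat complexes on a ringed site
-/

set_option autoImplicit false
universe u
open CategoryTheory CategoryTheory.Limits HomologicalComplex

namespace Groth.Agent.Lib.Helper16.BiCx

variable {C : Type u} [SmallCategory C] {J : GrothendieckTopology C} (O : Sheaf J CommRingCat.{u})

instance preservesColimitsOfShape_nat_tensorBi_obj (M : ModSite.Mod O) :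
    PreservesColimitsOfShape ℕ ((ModSite.tensorBi O).obj M) := by
  haveI : PreservesColimitsOfSize.{u, u} ((ModSite.tensorBi O).obj M) :=
    inferInstanceAs (PreservesColimitsOfSize.{u, u} (Groth.Agent.Lib.Helper1.ModFlat.tensL O M))
  haveI : PreservesColimitsOfSize.{0, 0} ((ModSite.tensorBi O).obj M) :=
    preservesColimitsOfSize_shrink.{0, u, 0, u} _
  infer_instance

theorem isKFlat_colimit_nat (K : ℕ ⥤ CochainComplex (ModSite.Mod O) ℤ)
    (hK : ∀ n : ℕ, ModSite.IsKFlat (K.obj n)) : ModSite.IsKFlat (colimit K) := by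
  haveI := Groth.Agent.Lib.Helper16.SMod.ab5Nat O
  exact isKFlatR_of_isColimit (ModSite.tensorBi O) (colimit.isColimit K) hK

end Groth.Agent.Lib.Helper16.BiCx
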