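import Mathlib
import Groth.Agent.Lib.Helper16.DComp1

/-!
# Derived completeness vs adic completeness (elementary part)
-/

namespace Groth.Agent.Lib.Helper16.DComp

universe u v

variable {R : Type u} [CommRing R] {M : Type v} [AddCommGroup M] [Module R M]

lemma pow_smul_mem (I : Ideal R) {f : R} (hf : f ∈ I) {a j : ℕ} (h : a ≤ j) (x : M) :
    f ^ j • x ∈ (I ^ a • ⊤ : Submodule R M) :=
  Submodule.smul_mem_smul (Ideal.pow_le_pow_right h (Ideal.pow_mem_pow hf j)) Submodule.mem_top

/-- An `I`-adically complete module is derived complete with respect to every `f ∈ I`. -/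
theorem DCf.of_isAdicComplete (I : Ideal R) [IsAdicComplete I M] {f : R} (hf : f ∈ I) : DCf f M := by
  constructor
  · rw [injective_iff_map_eq_zero]
    intro m hm
    have h1 : ∀ n, m n = f • m (n + 1) := by
      intro n
      have := congrFun hm n
      simpa [Phi_apply, sub_eq_zero] using this
    have h2 : ∀ k n, m n = f ^ k • m (n + k) := by
      intro k
      induction k with
      | zero => intro n; simp
      | succ k ih =>
        intro n
        rw [ih n, h1 (n + k), smul_smul, ← pow_succ, add_assoc]
    funext n
    apply IsHausdorff.haus (I := I) inferInstance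
    intro k
    rw [SModEq.sub_mem, sub_zero, h2 k n]
    exact pow_smul_mem I hf le_rfl _
  · intro c
    let s : ℕ → ℕ → M := fun n k => ∑ j ∈ Finset.range k, f ^ j • c (n + j)
    have hs : ∀ n a b, a ≤ b → s n a ≡ s n b [SMOD (I ^ a • ⊤ : Submodule R M)] := by
      intro n a b hab
      induction b, hab using Nat.le_induction with
      | base => rfl
      | succ b hab ih =>
        refine ih.trans ?_
        rw [SModEq.sub_mem]
        have : s n b - s n (b + 1) = -(f ^ b • c (n + b)) := by
          simp only [s, Finset.sum_range_succ]; abel
        rw [this]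
        exact Submodule.neg_mem _ (pow_smul_mem I hf hab _)
    have hL : ∀ n, ∃ L : M, ∀ k, s n k ≡ L [SMOD (I ^ k • ⊤ : Submodule R M)] := fun n =>
      IsPrecomplete.prec (I := I) inferInstance (fun {a b} hab => hs n a b hab)
    choose L hL using hL
    refine ⟨L, ?_⟩
    funext n
    rw [Phi_apply, ← sub_eq_zero]
    apply IsHausdorff.haus (I := I) inferInstance
    intro k
    rw [SModEq.sub_mem, sub_zero]
    have h1 : s n (k + 1) = c n + f • s (n + 1) k := by
      simp only [s]
      rw [Finset.sum_range_succ', Finset.smul_sum, add_comm]
      congr 1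
      · simp
      · apply Finset.sum_congr rfl
        intro j _
        rw [smul_smul, ← pow_succ', add_assoc, add_comm 1 j]
    have h2 : L n - f • L (n + 1) - c n =
        (L n - s n (k + 1)) + f • (s (n + 1) k - L (n + 1)) := by
      rw [h1, smul_sub]; abel
    rw [h2]
    apply Submodule.add_mem
    · have := (hL n (k + 1)).symm
      rw [SModEq.sub_mem] at this
      exact Submodule.smul_mono_left (Ideal.pow_le_pow_right (Nat.le_succ k)) this
    · have := hL (n + 1) k
      rw [SModEq.sub_mem] at this
      exact Submodule.smul_mem _ f this

end Groth.Agent.Lib.Helper16.DComp
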