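import Mathlib
import Groth.Agent.Lib.Helper16.DComp1

/-!
# Derived complete modules are precomplete (for finitely generated ideals); Nakayama
-/

namespace Groth.Agent.Lib.Helper16.DComp

universe u v

variable {R : Type u} [CommRing R] {M : Type v} [AddCommGroup M] [Module R M]

lemma partialSum_smodEq (J : Ideal R) (a : ℕ → M) (ha : ∀ n, a n ∈ (J ^ n • ⊤ : Submodule R M))
    {m n : ℕ} (h : m ≤ n) :
    ∑ k ∈ Finset.range m, a k ≡ ∑ k ∈ Finset.range n, a k [SMOD (J ^ m • ⊤ : Submodule R M)] := by
  induction n, h using Nat.le_induction with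
  | base => rfl
  | succ n hmn ih =>
    refine ih.trans ?_
    rw [SModEq.sub_mem, Finset.sum_range_succ]
    have : ∑ k ∈ Finset.range n, a k - (∑ k ∈ Finset.range n, a k + a n) = -a n := by abel
    rw [this]
    exact Submodule.neg_mem _ (Submodule.smul_mono_left (Ideal.pow_le_pow_right hmn) (ha n))

theorem isPrecomplete_sup {I₁ I₂ : Ideal R} (h₁ : IsPrecomplete I₁ M) (h₂ : IsPrecomplete I₂ M) :
    IsPrecomplete (I₁ ⊔ I₂) M := by
  refine ⟨fun x hx => ?_⟩
  have hz : ∀ n, ∃ a ∈ (I₁ ^ n • ⊤ : Submodule R M), ∃ b ∈ (I₂ ^ n • ⊤ : Submodule R M),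
      x (n + 1 + (n + 1)) - x (n + n) = a + b := by
    intro n
    have h := (hx (show n + n ≤ n + 1 + (n + 1) by omega)).symm
    rw [SModEq.sub_mem] at h
    have h2 : ((I₁ ⊔ I₂) ^ (n + n) • ⊤ : Submodule R M) ≤ I₁ ^ n • ⊤ ⊔ I₂ ^ n • ⊤ := by
      rw [← Submodule.sup_smul]
      exact Submodule.smul_mono_left Ideal.sup_pow_add_le_pow_sup_pow
    obtain ⟨a, ha, b, hb, hab⟩ := Submodule.mem_sup.mp (h2 h)
    exact ⟨a, ha, b, hb, hab.symm⟩
  choose a ha b hb hab using hz
  obtain ⟨LA, hLA⟩ := h₁.prec (f := fun n => ∑ k ∈ Finset.range n, a k)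
    (fun {m n} h => partialSum_smodEq I₁ a ha h)
  obtain ⟨LB, hLB⟩ := h₂.prec (f := fun n => ∑ k ∈ Finset.range n, b k)
    (fun {m n} h => partialSum_smodEq I₂ b hb h)
  have htel : ∀ n, x (n + n) = x 0 + ∑ k ∈ Finset.range n, a k + ∑ k ∈ Finset.range n, b k := by
    intro n
    induction n with
    | zero => simp
    | succ n ih =>
      have := hab n
      rw [Finset.sum_range_succ, Finset.sum_range_succ]
      have e : x (n + 1 + (n + 1)) = x (n + n) + (a n + b n) := by rw [← this]; abel
      rw [e, ih]; abel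
  refine ⟨x 0 + LA + LB, fun n => ?_⟩
  have h1 : x n ≡ x (n + n) [SMOD ((I₁ ⊔ I₂) ^ n • ⊤ : Submodule R M)] := hx (by omega)
  refine h1.trans ?_
  rw [SModEq.sub_mem, htel n]
  have e : x 0 + ∑ k ∈ Finset.range n, a k + ∑ k ∈ Finset.range n, b k - (x 0 + LA + LB) =
      (∑ k ∈ Finset.range n, a k - LA) + (∑ k ∈ Finset.range n, b k - LB) := by abel
  rw [e]
  apply Submodule.add_mem
  · have := hLA n
    rw [SModEq.sub_mem] at this
    exact Submodule.smul_mono_left (Ideal.pow_right_mono le_sup_left n) this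
  · have := hLB n
    rw [SModEq.sub_mem] at this
    exact Submodule.smul_mono_left (Ideal.pow_right_mono le_sup_right n) this

theorem isPrecomplete_span_singleton {a : R} (h : DCf a M) :
    IsPrecomplete (Ideal.span {a}) M := by
  refine ⟨fun x hx => ?_⟩
  have hc : ∀ n, ∃ c : M, x (n + 1) - x n = a ^ n • c := by
    intro n
    have := (hx (Nat.le_succ n)).symm
    rw [SModEq.sub_mem, Ideal.span_singleton_pow, Submodule.ideal_span_singleton_smul,
      Submodule.mem_smul_pointwise_iff_exists] at this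
    obtain ⟨y, -, hy⟩ := this
    exact ⟨y, hy.symm⟩
  choose c hc using hc
  have htel : ∀ n, x n = x 0 + ∑ k ∈ Finset.range n, a ^ k • c k := by
    intro n
    induction n with
    | zero => simp
    | succ n ih =>
      rw [Finset.sum_range_succ, ← hc n, ← add_assoc, ← ih]; abel
  refine ⟨x 0 + h.sigma c, fun n => ?_⟩
  rw [SModEq.sub_mem, htel n, h.sigma_eq_partial c n]
  have e : x 0 + ∑ k ∈ Finset.range n, a ^ k • c k -
      (x 0 + (∑ k ∈ Finset.range n, a ^ k • c k + a ^ n • h.sigma ((⇑(shift R M))^[n] c))) =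
      -(a ^ n • h.sigma ((⇑(shift R M))^[n] c)) := by abel
  rw [e]
  apply Submodule.neg_mem
  exact Submodule.smul_mem_smul (Ideal.pow_mem_pow (Ideal.mem_span_singleton_self a) n)
    Submodule.mem_top

theorem isPrecomplete_of_finset (s : Finset R) (h : ∀ f ∈ s, DCf f M) :
    IsPrecomplete (Ideal.span (s : Set R)) M := by
  classical
  induction s using Finset.induction_on with
  | empty =>
    simp only [Finset.coe_empty, Ideal.span_empty]
    infer_instance
  | insert a s _ ih =>
    rw [Finset.coe_insert, Ideal.span_insert]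
    exact isPrecomplete_sup (isPrecomplete_span_singleton (h a (Finset.mem_insert_self a s)))
      (ih (fun f hf => h f (Finset.mem_insert_of_mem hf)))

theorem isPrecomplete_of_fg (I : Ideal R) (hI : I.FG) (h : ∀ f ∈ I, DCf f M) :
    IsPrecomplete I M := by
  obtain ⟨s, rfl⟩ := hI
  exact isPrecomplete_of_finset s (fun f hf => h f (Ideal.subset_span hf))

/-- Nakayama's lemma for derived complete modules. -/
theorem subsingleton_of_finset (s : Finset R) :
    ∀ (M : Type v) [AddCommGroup M] [Module R M], (∀ f ∈ s, DCf f M) →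
      (Ideal.span (s : Set R) • (⊤ : Submodule R M) = ⊤) → Subsingleton M := by
  classical
  induction s using Finset.induction_on with
  | empty =>
    intro M _ _ _ h
    simp only [Finset.coe_empty, Ideal.span_empty, Submodule.bot_smul] at h
    exact (Submodule.subsingleton_iff R).mp (subsingleton_of_bot_eq_top h)
  | insert a s _ ih =>
    intro M _ _ h htop
    let u : M →ₗ[R] M := LinearMap.lsmul R M a
    have hQ : ∀ f ∈ s, DCf f (M ⧸ LinearMap.range u) := fun f hf =>
      (h f (Finset.mem_insert_of_mem hf)).coker (h f (Finset.mem_insert_of_mem hf)) u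
    have hQtop : Ideal.span (s : Set R) • (⊤ : Submodule R (M ⧸ LinearMap.range u)) = ⊤ := by
      rw [eq_top_iff]
      rintro q -
      obtain ⟨m, rfl⟩ := Submodule.mkQ_surjective _ q
      have hm : m ∈ Ideal.span ((insert a s : Finset R) : Set R) • (⊤ : Submodule R M) := by
        rw [htop]; trivial
      rw [Finset.coe_insert, Ideal.span_insert, Submodule.sup_smul] at hm
      obtain ⟨m₁, hm₁, m₂, hm₂, rfl⟩ := Submodule.mem_sup.mp hm
      have h1 : (LinearMap.range u).mkQ m₁ = 0 := by
        rw [Submodule.ideal_span_singleton_smul, Submodule.mem_smul_pointwise_iff_exists] at hm₁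
        obtain ⟨y, -, rfl⟩ := hm₁
        simp only [Submodule.mkQ_apply, Submodule.Quotient.mk_eq_zero]
        exact ⟨y, rfl⟩
      rw [map_add, h1, zero_add]
      have : (LinearMap.range u).mkQ m₂ ∈
          Submodule.map (LinearMap.range u).mkQ (Ideal.span (s : Set R) • (⊤ : Submodule R M)) :=
        Submodule.mem_map_of_mem hm₂
      rw [Submodule.map_smul''] at this
      exact Submodule.smul_mono le_rfl le_top this
    have hsub := ih (M ⧸ LinearMap.range u) hQ hQtop
    have hr : LinearMap.range u = ⊤ := Submodule.Quotient.subsingleton_iff.mp hsub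
    apply (h a (Finset.mem_insert_self a s)).subsingleton_of_surjective
    intro m
    have : m ∈ LinearMap.range u := by rw [hr]; trivial
    obtain ⟨y, hy⟩ := this
    exact ⟨y, hy⟩

theorem subsingleton_of_fg (I : Ideal R) (hI : I.FG) (h : ∀ f ∈ I, DCf f M)
    (htop : I • (⊤ : Submodule R M) = ⊤) : Subsingleton M := by
  obtain ⟨s, rfl⟩ := hI
  exact subsingleton_of_finset s M (fun f hf => h f (Ideal.subset_span hf)) htop

end Groth.Agent.Lib.Helper16.DComp
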