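import Mathlib
import Groth.Agent.Lib.Helper16.DComp5

/-!
# Derived complete rings: `⋂ I^n` is nilpotent
-/

namespace Groth.Agent.Lib.Helper16.DComp

universe u v

section

variable {R : Type u} [CommRing R] {M : Type v} [AddCommGroup M] [Module R M]

lemma smul_eq_zero_of_mem_iInf {f : R} (h : DCf f M) {a : R}
    (ha : a ∈ ⨅ n : ℕ, Ideal.span {f ^ n}) {x : M} (hx : ∀ n : ℕ, ∃ y : M, f ^ n • y = x) :
    a • x = 0 := by
  have ha' : ∀ n : ℕ, ∃ c, c * f ^ n = a := fun n =>
    Ideal.mem_span_singleton'.mp ((Ideal.mem_iInf.mp ha) n)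
  choose c hc using ha'
  choose y hy using hx
  have hu : ∀ n, c n • x = f • c (n + 1) • x := by
    intro n
    rw [← sub_eq_zero, smul_smul, ← sub_smul]
    nth_rw 1 [← hy n]
    rw [smul_smul]
    have : (c n - f * c (n + 1)) * f ^ n = 0 := by
      have h1 := hc n
      have h2 := hc (n + 1)
      rw [pow_succ] at h2
      rw [sub_mul, h1, ← h2]
      ring
    rw [this, zero_smul]
  have := congrFun (h.eq_zero_of_forall (fun n => c n • x) hu) 0
  have h0 : c 0 = a := by simpa using hc 0
  rw [← h0]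
  exact this

lemma iInf_span_pow_mul_self {f : R} (h : DCf f R) :
    (⨅ n : ℕ, Ideal.span {f ^ n}) * (⨅ n : ℕ, Ideal.span {f ^ n}) = (⊥ : Ideal R) := by
  rw [eq_bot_iff, Ideal.mul_le]
  intro a ha x hx
  rw [Ideal.mem_bot, ← smul_eq_mul]
  apply smul_eq_zero_of_mem_iInf h ha
  intro n
  obtain ⟨c, hc⟩ := Ideal.mem_span_singleton'.mp ((Ideal.mem_iInf.mp hx) n)
  exact ⟨c, by rw [smul_eq_mul, mul_comm, hc]⟩

end

/-- `DCf` for a quotient ring as module over itself. -/
lemma DCf_quotient_ring {A : Type u} [CommRing A] (K : Ideal A) (g : A)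
    (h : DCf g (A ⧸ K)) : DCf (Ideal.Quotient.mk K g) (A ⧸ K) := by
  have : Phi (Ideal.Quotient.mk K g) (A ⧸ K) = fun m => Phi g (A ⧸ K) m := by
    funext m n
    simp only [Phi_apply]
    congr 1
  rw [DCf, this]
  exact h

theorem iInf_pow_pow_eq_bot : ∀ (k : ℕ) (A : Type u) [CommRing A] (s : Finset A),
    s.card ≤ k → (∀ f ∈ s, DCf f A) →
      (⨅ n : ℕ, (Ideal.span (s : Set A)) ^ n) ^ (2 ^ k) = ⊥ := by
  classical
  intro k
  induction k with
  | zero =>
    intro A _ s hs _
    have : s = ∅ := Finset.card_eq_zero.mp (Nat.le_zero.mp hs)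
    subst this
    simp only [Finset.coe_empty, Ideal.span_empty, pow_zero, pow_one]
    rw [eq_bot_iff]
    refine (iInf_le _ 1).trans ?_
    simp
  | succ k ih =>
    intro A _ s hs hDC
    by_cases hs' : s.card ≤ k
    · have := ih A s hs' hDC
      rw [pow_succ, pow_mul, this]
      simp
    have hne : s.Nonempty := by
      rw [Finset.nonempty_iff_ne_empty]
      rintro rfl
      simp at hs'
    obtain ⟨f, hf⟩ := hne
    let s' := s.erase f
    have hs'card : s'.card ≤ k := by
      rw [Finset.card_erase_of_mem hf]; omega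
    have hspan : Ideal.span (s : Set A) = Ideal.span {f} ⊔ Ideal.span (s' : Set A) := by
      rw [← Ideal.span_insert, ← Finset.coe_insert, Finset.insert_erase hf]
    set J := ⨅ n : ℕ, (Ideal.span (s : Set A)) ^ n with hJ
    -- key: J^(2^k) ≤ span {f^n} for all n
    have key : ∀ n : ℕ, J ^ (2 ^ k) ≤ Ideal.span {f ^ n} := by
      intro n
      let K : Ideal A := Ideal.span {f ^ n}
      let π := Ideal.Quotient.mk K
      let sbar : Finset (A ⧸ K) := s'.image π
      have hsbar : sbar.card ≤ k := Finset.card_image_le.trans hs'card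
      have hDCbar : ∀ g ∈ sbar, DCf g (A ⧸ K) := by
        intro g hg
        obtain ⟨g₀, hg₀, rfl⟩ := Finset.mem_image.mp hg
        have hg₀' : DCf g₀ A := hDC g₀ (Finset.mem_of_mem_erase hg₀)
        apply DCf_quotient_ring
        have h1 : DCf g₀ (A ⧸ LinearMap.range (LinearMap.lsmul A A (f ^ n))) :=
          hg₀'.coker hg₀' _
        have e : LinearMap.range (LinearMap.lsmul A A (f ^ n)) = K := by
          ext x
          simp only [LinearMap.mem_range, LinearMap.lsmul_apply, smul_eq_mul, K,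
            Ideal.mem_span_singleton']
          constructor
          · rintro ⟨y, rfl⟩; exact ⟨y, mul_comm _ _⟩
          · rintro ⟨y, rfl⟩; exact ⟨y, mul_comm _ _⟩
        exact h1.of_equiv (Submodule.quotEquivOfEq _ _ e)
      have hih := ih (A ⧸ K) sbar hsbar hDCbar
      have hmap : Ideal.map π J ≤ ⨅ m : ℕ, (Ideal.span (sbar : Set (A ⧸ K))) ^ m := by
        rw [le_iInf_iff]
        intro m
        have h1 : J ≤ (Ideal.span (s' : Set A)) ^ m ⊔ K := by
          refine (iInf_le _ (n + m)).trans ?_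
          rw [hspan]
          refine Ideal.sup_pow_add_le_pow_sup_pow.trans ?_
          rw [sup_comm, Ideal.span_singleton_pow]
        refine (Ideal.map_mono h1).trans ?_
        rw [Ideal.map_sup, Ideal.map_pow, Ideal.map_span, Ideal.map_quotient_self, sup_bot_eq,
          Finset.coe_image]
      have h2 : Ideal.map π (J ^ (2 ^ k)) = ⊥ := by
        rw [Ideal.map_pow, eq_bot_iff, ← hih]
        exact Ideal.pow_right_mono hmap _
      intro x hx
      have : π x ∈ Ideal.map π (J ^ (2 ^ k)) := Ideal.mem_map_of_mem π hx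
      rw [h2, Ideal.mem_bot] at this
      exact Ideal.Quotient.eq_zero_iff_mem.mp this
    have key' : J ^ (2 ^ k) ≤ ⨅ n : ℕ, Ideal.span {f ^ n} := le_iInf key
    rw [pow_succ, pow_mul, pow_two, eq_bot_iff, ← iInf_span_pow_mul_self (hDC f hf)]
    exact Ideal.mul_mono key' key'

end Groth.Agent.Lib.Helper16.DComp
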