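import Mathlib
import Groth.Agent.Lib.Helper16.DComp7

/-!
# Derived complete rings are henselian
-/

namespace Groth.Agent.Lib.Helper16.DComp

universe u v w

section

variable {R : Type u} [CommRing R] {M : Type v} [AddCommGroup M] [Module R M]
  {N : Type w} [AddCommGroup N] [Module R N]

theorem isPrecomplete_of_surjective (I : Ideal R) (g : M →ₗ[R] N) (hg : Function.Surjective g)
    (h : IsPrecomplete I M) : IsPrecomplete I N := by
  refine ⟨fun x hx => ?_⟩
  have hmap : ∀ n : ℕ, Submodule.map g (I ^ n • ⊤ : Submodule R M) = (I ^ n • ⊤ : Submodule R N) := by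
    intro n
    rw [Submodule.map_smul'', Submodule.map_top, LinearMap.range_eq_top.mpr hg]
  have hd : ∀ n, ∃ d ∈ (I ^ n • ⊤ : Submodule R M), g d = x (n + 1) - x n := by
    intro n
    have := (hx (Nat.le_succ n)).symm
    rw [SModEq.sub_mem, ← hmap] at this
    exact this
  choose d hd hgd using hd
  obtain ⟨a0, ha0⟩ := hg (x 0)
  obtain ⟨L, hL⟩ := h.prec (f := fun n => ∑ k ∈ Finset.range n, d k)
    (fun {m n} h => partialSum_smodEq I d hd h)
  have hx' : ∀ n, x n = g (a0 + ∑ k ∈ Finset.range n, d k) := by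
    intro n
    induction n with
    | zero => simp [ha0]
    | succ n ih =>
      rw [Finset.sum_range_succ, ← add_assoc, map_add, ← ih, hgd n]; abel
  refine ⟨g (a0 + L), fun n => ?_⟩
  rw [hx', SModEq.sub_mem, ← map_sub, ← hmap]
  refine Submodule.mem_map_of_mem ?_
  have := hL n
  rw [SModEq.sub_mem] at this
  have e : a0 + ∑ k ∈ Finset.range n, d k - (a0 + L) = ∑ k ∈ Finset.range n, d k - L := by abel
  rw [e]
  exact this

end

section Ring

variable {A : Type u} [CommRing A]

lemma isUnit_of_isUnit_mk {I : Ideal A} (hjac : I ≤ Ideal.jacobson ⊥) {u : A}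
    (hu : IsUnit (Ideal.Quotient.mk I u)) : IsUnit u := by
  obtain ⟨v', hv'⟩ := hu.exists_right_inv
  obtain ⟨v, rfl⟩ := Ideal.Quotient.mk_surjective v'
  rw [← map_mul, ← map_one (Ideal.Quotient.mk I), Ideal.Quotient.eq] at hv'
  have h1 : IsUnit ((u * v - 1) * 1 + 1) := Ideal.mem_jacobson_bot.mp (hjac hv') 1
  have h2 : (u * v - 1) * 1 + 1 = u * v := by ring
  rw [h2] at h1
  exact isUnit_of_mul_isUnit_left h1

lemma le_jacobson_bot_of_DCf (I : Ideal A) (h : ∀ f ∈ I, DCf f A) : I ≤ Ideal.jacobson ⊥ := by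
  intro x hx
  rw [Ideal.mem_jacobson_bot]
  intro y
  have hr : -(x * y) ∈ I := I.neg_mem (I.mul_mem_right y hx)
  obtain ⟨m, hm⟩ := (h _ hr).one_sub_bijective.2 1
  simp only [smul_eq_mul] at hm
  exact IsUnit.of_mul_eq_one m (by linear_combination hm)

/-- `A ⧸ ⋂ f^n A` is `f`-adically complete when `A` is `f`-derived complete. -/
lemma isAdicComplete_quotient_iInf {f : A} (h : DCf f A) :
    IsAdicComplete (Ideal.span {f}) (A ⧸ (⨅ n : ℕ, Ideal.span {f ^ n})) := by
  set J : Ideal A := ⨅ n : ℕ, Ideal.span {f ^ n} with hJ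
  have hp : IsPrecomplete (Ideal.span {f}) (A ⧸ J) :=
    isPrecomplete_of_surjective _ (Submodule.mkQ J) (Submodule.mkQ_surjective J)
      (isPrecomplete_span_singleton h)
  have hh : IsHausdorff (Ideal.span {f}) (A ⧸ J) := by
    refine ⟨fun x hx => ?_⟩
    obtain ⟨a, rfl⟩ := Ideal.Quotient.mk_surjective x
    rw [Ideal.Quotient.eq_zero_iff_mem, hJ, Ideal.mem_iInf]
    intro n
    have := hx n
    rw [SModEq.sub_mem, sub_zero, Ideal.span_singleton_pow, Submodule.ideal_span_singleton_smul,
      Submodule.mem_smul_pointwise_iff_exists] at this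
    obtain ⟨y, -, hy⟩ := this
    obtain ⟨b, rfl⟩ := Ideal.Quotient.mk_surjective y
    have h1 : f ^ n * b - a ∈ J := by
      rw [← Ideal.Quotient.eq]
      rw [← hy]
      rfl
    have h2 : f ^ n * b - a ∈ Ideal.span {f ^ n} := (iInf_le (fun n : ℕ => Ideal.span {f ^ n}) n) h1
    have h3 : f ^ n * b ∈ Ideal.span {f ^ n} := Ideal.mul_mem_right _ _ (Ideal.mem_span_singleton_self _)
    have : a = f ^ n * b - (f ^ n * b - a) := by ring
    rw [this]
    exact Ideal.sub_mem _ h3 h2
  exact { toIsHausdorff := hh, toIsPrecomplete := hp }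

open Polynomial in
theorem henselianRing_of_DCf (I : Ideal A) (h : ∀ f ∈ I, DCf f A) : HenselianRing A I where
  jac := le_jacobson_bot_of_DCf I h
  is_henselian := by
    intro F hF a₀ hFa hu
    have hjac := le_jacobson_bot_of_DCf I h
    set f := F.eval a₀ with hf
    have hDC : DCf f A := h f hFa
    set J : Ideal A := ⨅ n : ℕ, Ideal.span {f ^ n} with hJ
    have hJ2 : J * J = ⊥ := iInf_span_pow_mul_self hDC
    have hJf : J ≤ Ideal.span {f} := by
      refine (iInf_le _ 1).trans ?_
      rw [pow_one]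
    have hfI : Ideal.span {f} ≤ I := (Ideal.span_singleton_le_iff_mem (I := I)).mpr hFa
    let π := Ideal.Quotient.mk J
    have hc1 : IsAdicComplete (Ideal.span {f}) (A ⧸ J) := isAdicComplete_quotient_iInf hDC
    have hc2 : IsAdicComplete ((Ideal.span {f}).map (algebraMap A (A ⧸ J))) (A ⧸ J) :=
      (IsAdicComplete.map_algebraMap_iff (Ideal.span {f}) (A ⧸ J) (S := A ⧸ J)).mpr hc1
    have hmap : (Ideal.span {f}).map (algebraMap A (A ⧸ J)) = Ideal.span {π f} := by
      rw [Ideal.map_span, Set.image_singleton]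
      rfl
    rw [hmap] at hc2
    have hHens : HenselianRing (A ⧸ J) (Ideal.span {π f}) := inferInstance
    have hu₀ : IsUnit (F.derivative.eval a₀) := isUnit_of_isUnit_mk hjac hu
    obtain ⟨b, hb, hbI⟩ := hHens.is_henselian (F.map π) (hF.map π) (π a₀)
      (by rw [eval_map_apply]; exact Ideal.mem_span_singleton_self _)
      (by
        rw [derivative_map, eval_map_apply]
        exact (hu₀.map π).map _)
    obtain ⟨c', hc'⟩ := Ideal.mem_span_singleton'.mp hbI
    obtain ⟨c, rfl⟩ := Ideal.Quotient.mk_surjective c'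
    set a₁ := a₀ + c * f with ha₁
    have hπa₁ : π a₁ = b := by
      rw [ha₁, map_add, map_mul, hc']; ring
    have hFa₁ : F.eval a₁ ∈ J := by
      rw [← Ideal.Quotient.eq_zero_iff_mem, ← eval_map_apply, hπa₁]
      exact hb
    have hu₁ : IsUnit (F.derivative.eval a₁) := by
      apply isUnit_of_isUnit_mk hjac
      have : Ideal.Quotient.mk I (F.derivative.eval a₁) = Ideal.Quotient.mk I (F.derivative.eval a₀) := by
        rw [Ideal.Quotient.eq]
        obtain ⟨q, hq⟩ := Polynomial.sub_dvd_eval_sub a₁ a₀ F.derivative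
        rw [hq]
        apply Ideal.mul_mem_right
        have : a₁ - a₀ = c * f := by rw [ha₁]; ring
        rw [this]
        exact I.mul_mem_left c hFa
      rw [this]
      exact hu
    obtain ⟨u, hu'⟩ := hu₁
    set hh := -(F.eval a₁) * (↑u⁻¹ : A) with hhh
    have hhJ : hh ∈ J := J.mul_mem_right _ (J.neg_mem hFa₁)
    have hh2 : hh ^ 2 = 0 := by
      have : hh * hh ∈ J * J := Ideal.mul_mem_mul hhJ hhJ
      rw [hJ2, Ideal.mem_bot] at this
      rw [pow_two, this]
    obtain ⟨k, hk⟩ := Polynomial.binomExpansion F a₁ hh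
    refine ⟨a₁ + hh, ?_, ?_⟩
    · rw [IsRoot, hk, hh2, mul_zero, add_zero, ← hu', hhh]
      have : (↑u : A) * (-eval a₁ F * ↑u⁻¹) = -eval a₁ F := by
        rw [mul_comm, mul_assoc, Units.inv_mul, mul_one]
      rw [this]; ring
    · have : a₁ + hh - a₀ = c * f + hh := by rw [ha₁]; ring
      rw [this]
      exact I.add_mem (I.mul_mem_left c hFa) (hfI (hJf hhJ))

end Ring

end Groth.Agent.Lib.Helper16.DComp
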