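import Mathlib

/-!
# Helper16 — StalkPB: local rings of fibre products
For `x'` a point of `X ×_Y Y'`, with `B₀ = O_{X,x}`, `A₀ = O_{Y,y}`, `A₀' = O_{Y',y'}`,
`B₀' = O_{X',x'}`: the canonical map `B₀ ⊗_{A₀} A₀' → B₀'` is flat.
-/

set_option autoImplicit false

open CategoryTheory CategoryTheory.Limits AlgebraicGeometry TensorProduct

namespace Groth.Agent.Lib.Helper16.StalkPB

universe u

/-- `Spec O_{X,x} ⟶ X` is flat. -/
instance flat_fromSpecStalk (X : Scheme.{u}) (x : X) : Flat (X.fromSpecStalk x) := by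
  obtain ⟨_, ⟨U, hU : IsAffineOpen U, rfl⟩, hxU, -⟩ :=
    (X.isBasis_affineOpens.exists_subset_of_mem_open (Set.mem_univ x) isOpen_univ)
  rw [← IsAffineOpen.fromSpecStalk_eq_fromSpecStalk hU hxU, IsAffineOpen.fromSpecStalk]
  haveI : Flat (Spec.map (X.presheaf.germ U x hxU)) := by
    rw [Flat.SpecMap_iff]
    letI : Algebra Γ(X, U) (X.presheaf.stalk x) :=
      TopCat.Presheaf.algebra_section_stalk X.presheaf (⟨x, hxU⟩ : U)
    haveI : IsLocalization.AtPrime (X.presheaf.stalk x) (hU.primeIdealOf ⟨x, hxU⟩).asIdeal :=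
      hU.isLocalization_stalk ⟨x, hxU⟩
    have := IsLocalization.flat (X.presheaf.stalk x) (hU.primeIdealOf ⟨x, hxU⟩).asIdeal.primeCompl
    exact RingHom.flat_algebraMap_iff.mpr this
  infer_instance

section Cat

variable {C : Type*} [Category C] {W X Y Z S T : C} (f₁ : W ⟶ S) (f₂ : X ⟶ S) [HasPullback f₁ f₂]
  (g₁ : Y ⟶ T) (g₂ : Z ⟶ T) [HasPullback g₁ g₂] (i₁ : W ⟶ Y) (i₂ : X ⟶ Z) (i₃ : S ⟶ T)
  (eq₁ : f₁ ≫ i₃ = i₁ ≫ g₁) (eq₂ : f₂ ≫ i₃ = i₂ ≫ g₂)

lemma mono_pullback_map [Mono i₁] [Mono i₂] :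
    Mono (pullback.map f₁ f₂ g₁ g₂ i₁ i₂ i₃ eq₁ eq₂) := by
  refine ⟨fun {Q} a b hab => ?_⟩
  apply pullback.hom_ext
  · rw [← cancel_mono i₁]
    have := congrArg (· ≫ pullback.fst g₁ g₂) hab
    simp only [Category.assoc, pullback.map, pullback.lift_fst] at this
    simpa using this
  · rw [← cancel_mono i₂]
    have := congrArg (· ≫ pullback.snd g₁ g₂) hab
    simp only [Category.assoc, pullback.map, pullback.lift_snd] at this
    simpa using this

end Cat

section Square

variable {U X V Y : Scheme.{u}} (f : X ⟶ Y) (f' : U ⟶ V) (j : U ⟶ X) (j' : V ⟶ Y)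
  (w : j ≫ f = f' ≫ j') (x : U)

/-- the map `O_{Y, f (j x)} ⟶ O_{V, f' x}` of a commutative square. -/
noncomputable def sqα : Y.presheaf.stalk (f.base (j.base x)) ⟶ V.presheaf.stalk (f'.base x) :=
  (Y.presheaf.stalkCongr (.of_eq (by rw [← Scheme.Hom.comp_apply, w]; rfl))).hom ≫
    j'.stalkMap (f'.base x)

lemma sq_comm : f.stalkMap (j.base x) ≫ j.stalkMap x = sqα f f' j j' w x ≫ f'.stalkMap x := by
  rw [sqα, Category.assoc, ← Scheme.Hom.stalkMap_comp, ← Scheme.Hom.stalkMap_comp]
  exact Scheme.Hom.stalkMap_congr_hom _ _ w x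

lemma sq_spec : Spec.map (sqα f f' j j' w x) ≫ Y.fromSpecStalk (f.base (j.base x)) =
    V.fromSpecStalk (f'.base x) ≫ j' := by
  rw [sqα, Spec.map_comp, Category.assoc, ← Scheme.SpecMap_stalkMap_fromSpecStalk]
  congr 1
  have e : Inseparable (f.base (j.base x)) (j'.base (f'.base x)) :=
    .of_eq (by rw [← Scheme.Hom.comp_apply, w]; rfl)
  exact Scheme.SpecMap_stalkSpecializes_fromSpecStalk e.ge

lemma sq_flat [Flat j'] : (sqα f f' j j' w x).hom.Flat := by
  rw [sqα, CommRingCat.hom_comp]
  refine RingHom.Flat.comp (RingHom.Flat.of_bijective ?_) (Flat.stalkMap j' (f'.base x))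
  exact ConcreteCategory.bijective_of_isIso _

end Square


section Key

open CommRingCat in
/-- abstract form: a flat morphism from `Spec B'` to a fibre product `X ×_Y Y'` which factors
through monomorphisms from `Spec B`, `Spec A'`, `Spec A` gives a flat map `B ⊗[A] A' → B'`. -/
theorem exists_flat_tensor_map_aux {A B A' B' : Type u} [CommRing A] [CommRing B] [CommRing A']
    [CommRing B'] [Algebra A B] [Algebra A A'] (β : B →+* B') (φ' : A' →+* B')
    (hsq : β.comp (algebraMap A B) = φ'.comp (algebraMap A A'))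
    {X Y Y' : Scheme.{u}} (f : X ⟶ Y) (h : Y' ⟶ Y)
    (iX : Spec (.of B) ⟶ X) (iY : Spec (.of A) ⟶ Y) (iY' : Spec (.of A') ⟶ Y') [Mono iX] [Mono iY']
    (e₁ : Spec.map (ofHom (algebraMap A B)) ≫ iY = iX ≫ f)
    (e₂ : Spec.map (ofHom (algebraMap A A')) ≫ iY = iY' ≫ h)
    (c : Spec (.of B') ⟶ pullback f h) [Flat c]
    (hc₁ : c ≫ pullback.fst f h = Spec.map (ofHom β) ≫ iX)
    (hc₂ : c ≫ pullback.snd f h = Spec.map (ofHom φ') ≫ iY') :
    ∃ γ : B ⊗[A] A' →+* B', γ.Flat ∧ γ.comp Algebra.TensorProduct.includeLeftRingHom = β ∧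
      γ.comp (Algebra.TensorProduct.includeRight : A' →ₐ[A] B ⊗[A] A').toRingHom = φ' := by
  let v : pullback (Spec.map (ofHom (algebraMap A B))) (Spec.map (ofHom (algebraMap A A'))) ⟶
      pullback f h := pullback.map _ _ f h iX iY' iY e₁ e₂
  haveI : Mono v := mono_pullback_map _ _ _ _ _ _ _ _ _
  let u : Spec (.of B') ⟶
      pullback (Spec.map (ofHom (algebraMap A B))) (Spec.map (ofHom (algebraMap A A'))) :=
    pullback.lift (Spec.map (ofHom β)) (Spec.map (ofHom φ')) (by
      rw [← Spec.map_comp, ← Spec.map_comp, ← ofHom_comp, ← ofHom_comp, hsq])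
  have huv : u ≫ v = c := by
    apply pullback.hom_ext
    · simp only [u, v, Category.assoc, pullback.map, pullback.lift_fst, pullback.lift_fst_assoc,
        hc₁]
    · simp only [u, v, Category.assoc, pullback.map, pullback.lift_snd, pullback.lift_snd_assoc,
        hc₂]
  have hu : Flat u := by
    haveI : MorphismProperty.HasOfPostcompProperty @Flat
        (MorphismProperty.monomorphisms Scheme.{u}) :=
      MorphismProperty.IsStableUnderBaseChange.hasOfPostcompProperty_monomorphisms
    refine MorphismProperty.of_postcomp (W := @Flat) (W' := MorphismProperty.monomorphisms _)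
      u v (inferInstanceAs (Mono v)) ?_
    rw [huv]; infer_instance
  let γ' : CommRingCat.of (B ⊗[A] A') ⟶ CommRingCat.of B' :=
    Spec.preimage (u ≫ (pullbackSpecIso A B A').hom)
  have hγ' : Spec.map γ' = u ≫ (pullbackSpecIso A B A').hom := Spec.map_preimage _
  refine ⟨γ'.hom, ?_, ?_, ?_⟩
  · rw [← Flat.SpecMap_iff, hγ']
    infer_instance
  · have : ofHom Algebra.TensorProduct.includeLeftRingHom ≫ γ' = ofHom β := by
      apply Spec.map_injective
      rw [Spec.map_comp, hγ', Category.assoc, pullbackSpecIso_hom_fst]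
      exact pullback.lift_fst _ _ _
    exact congrArg CommRingCat.Hom.hom this
  · have : ofHom (Algebra.TensorProduct.includeRight : A' →ₐ[A] B ⊗[A] A').toRingHom ≫ γ' =
        ofHom φ' := by
      apply Spec.map_injective
      rw [Spec.map_comp, hγ', Category.assoc]
      exact (congrArg (u ≫ ·) (pullbackSpecIso_hom_snd A B A')).trans (pullback.lift_snd _ _ _)
    exact congrArg CommRingCat.Hom.hom this

end Key


section Main

variable {X Y Y' : Scheme.{u}} (f : X ⟶ Y) (h : Y' ⟶ Y) (x' : ↑(pullback f h))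

/-- the map `O_{Y, f (g x')} ⟶ O_{Y', f' x'}` for a point `x'` of `X ×_Y Y'`. -/
noncomputable abbrev pbα : Y.presheaf.stalk (f.base ((pullback.fst f h).base x')) ⟶
    Y'.presheaf.stalk ((pullback.snd f h).base x') :=
  sqα f (pullback.snd f h) (pullback.fst f h) h pullback.condition x'

/-- **local rings of fibre products**: `O_{X,x} ⊗_{O_{Y,y}} O_{Y',y'} → O_{X',x'}` is flat. -/
theorem exists_flat_tensor_map
    [Algebra (Y.presheaf.stalk (f.base ((pullback.fst f h).base x')))
      (X.presheaf.stalk ((pullback.fst f h).base x'))]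
    [Algebra (Y.presheaf.stalk (f.base ((pullback.fst f h).base x')))
      (Y'.presheaf.stalk ((pullback.snd f h).base x'))]
    (h1 : algebraMap (Y.presheaf.stalk (f.base ((pullback.fst f h).base x')))
      (X.presheaf.stalk ((pullback.fst f h).base x')) =
        (f.stalkMap ((pullback.fst f h).base x')).hom)
    (h2 : algebraMap (Y.presheaf.stalk (f.base ((pullback.fst f h).base x')))
      (Y'.presheaf.stalk ((pullback.snd f h).base x')) = (pbα f h x').hom) :
    ∃ γ : (X.presheaf.stalk ((pullback.fst f h).base x')) ⊗[Y.presheaf.stalk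
        (f.base ((pullback.fst f h).base x'))] (Y'.presheaf.stalk ((pullback.snd f h).base x')) →+*
        (pullback f h).presheaf.stalk x',
      γ.Flat ∧ γ.comp Algebra.TensorProduct.includeLeftRingHom =
        ((pullback.fst f h).stalkMap x').hom ∧
      γ.comp (Algebra.TensorProduct.includeRight :
        (Y'.presheaf.stalk ((pullback.snd f h).base x')) →ₐ[Y.presheaf.stalk
          (f.base ((pullback.fst f h).base x'))] _).toRingHom =
        ((pullback.snd f h).stalkMap x').hom := by
  refine exists_flat_tensor_map_aux ((pullback.fst f h).stalkMap x').hom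
    ((pullback.snd f h).stalkMap x').hom ?_ f h
    (X.fromSpecStalk ((pullback.fst f h).base x'))
    (Y.fromSpecStalk (f.base ((pullback.fst f h).base x')))
    (Y'.fromSpecStalk ((pullback.snd f h).base x')) ?_ ?_
    ((pullback f h).fromSpecStalk x') ?_ ?_
  · rw [h1, h2, ← CommRingCat.hom_comp, ← CommRingCat.hom_comp]
    exact congrArg CommRingCat.Hom.hom (sq_comm f (pullback.snd f h) (pullback.fst f h) h
      pullback.condition x')
  · rw [h1]
    exact Scheme.SpecMap_stalkMap_fromSpecStalk f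
  · rw [h2]
    exact sq_spec f (pullback.snd f h) (pullback.fst f h) h pullback.condition x'
  · exact (Scheme.SpecMap_stalkMap_fromSpecStalk (pullback.fst f h)).symm
  · exact (Scheme.SpecMap_stalkMap_fromSpecStalk (pullback.snd f h)).symm

end Main

end Groth.Agent.Lib.Helper16.StalkPB
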