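import Mathlib.Algebra.Polynomial.Expand
import Mathlib.Algebra.Polynomial.Div
import Mathlib.Algebra.Polynomial.AlgebraMap
import Mathlib.LinearAlgebra.Dimension.OrzechProperty
import Mathlib.LinearAlgebra.Dimension.Free
import Mathlib.RingTheory.Nilpotent.Basic
import Mathlib.Tactic

/-!
# Abstract Adams-Riemann-Roch computation for a finite free algebra generated by a unit (helper16)
-/

set_option autoImplicit false
open Polynomial

namespace Groth.Agent.Lib.Helper16.ARR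


section Div
variable {A : Type*} [CommRing A]

/-- the normalisation of `Λ` by the inverse of a unit -/
noncomputable def nrm (Λ : A[X]) (u : Aˣ) : A[X] := C (↑u⁻¹ : A) * Λ

lemma nrm_monic (Λ : A[X]) (u : Aˣ) (r : ℕ) (hdeg : Λ.natDegree ≤ r + 1) (hu : Λ.coeff (r + 1) = u) :
    (nrm Λ u).Monic := by
  apply monic_of_natDegree_le_of_coeff_eq_one (r + 1)
  · exact (natDegree_C_mul_le _ _).trans hdeg
  · unfold nrm
    rw [coeff_C_mul, hu]
    simp

lemma mul_nrm (Λ : A[X]) (u : Aˣ) (q : A[X]) : nrm Λ u * (C (u : A) * q) = Λ * q := by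
  unfold nrm
  have : C (↑u⁻¹ : A) * C (u : A) = 1 := by rw [← C_mul]; simp
  calc C (↑u⁻¹ : A) * Λ * (C (u : A) * q) = (C (↑u⁻¹ : A) * C (u : A)) * (Λ * q) := by ring
    _ = Λ * q := by rw [this, one_mul]

lemma natDegree_nrm [Nontrivial A] (Λ : A[X]) (u : Aˣ) (r : ℕ) (hdeg : Λ.natDegree ≤ r + 1)
    (hu : Λ.coeff (r + 1) = u) : (nrm Λ u).natDegree = r + 1 := by
  apply le_antisymm
  · exact (natDegree_C_mul_le _ _).trans hdeg
  · apply le_natDegree_of_ne_zero
    unfold nrm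
    rw [coeff_C_mul, hu]
    simp

/-- division with remainder -/
lemma exists_div_rem (Λ : A[X]) (u : Aˣ) (r : ℕ) (hdeg : Λ.natDegree ≤ r + 1) (hu : Λ.coeff (r + 1) = u)
    (g : A[X]) : ∃ q ρ : A[X], g = Λ * q + ρ ∧ ρ.natDegree ≤ r := by
  rcases subsingleton_or_nontrivial A with hA | hA
  · have hg : g = 0 := Subsingleton.elim _ _
    refine ⟨0, 0, ?_, ?_⟩
    · rw [hg]; simp
    · simp
  have hm := nrm_monic Λ u r hdeg hu
  refine ⟨C (↑u⁻¹ : A) * (g /ₘ nrm Λ u), g %ₘ nrm Λ u, ?_, ?_⟩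
  · have h1 : Λ * (C (↑u⁻¹ : A) * (g /ₘ nrm Λ u)) = nrm Λ u * (g /ₘ nrm Λ u) := by
      unfold nrm; ring
    rw [h1, add_comm]
    exact (modByMonic_add_div g (nrm Λ u)).symm
  · have h1 := natDegree_modByMonic_lt g hm (by
      intro h
      have := natDegree_nrm Λ u r hdeg hu
      rw [h] at this; simp at this)
    rw [natDegree_nrm Λ u r hdeg hu] at h1
    omega

/-- the `Λ`-functional: constant coefficient of the remainder -/
noncomputable def cj (Λ : A[X]) (u : Aˣ) (g : A[X]) : A := (g %ₘ nrm Λ u).coeff 0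

lemma cj_spec (Λ : A[X]) (u : Aˣ) (r : ℕ) (hdeg : Λ.natDegree ≤ r + 1) (hu : Λ.coeff (r + 1) = u)
    (q ρ : A[X]) (hρ : ρ.natDegree ≤ r) : cj Λ u (Λ * q + ρ) = ρ.coeff 0 := by
  rcases subsingleton_or_nontrivial A with hA | hA
  · exact Subsingleton.elim _ _
  have hm := nrm_monic Λ u r hdeg hu
  unfold cj
  have h := div_modByMonic_unique (f := Λ * q + ρ) (C (u : A) * q) ρ hm
    ⟨by rw [mul_nrm, add_comm], by
      rw [degree_eq_natDegree hm.ne_zero, natDegree_nrm Λ u r hdeg hu]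
      exact lt_of_le_of_lt degree_le_natDegree (by exact_mod_cast Nat.lt_succ_of_le hρ)⟩
  rw [h.2]

end Div



section Main
variable {A E : Type*} [CommRing A] [CommRing E] [Algebra A E]
variable (L Linv : E) (hL : Linv * L = 1) (F : E →ₗ[A] A) (r : ℕ)
  (hF : ∀ n : ℕ, n ≤ r → F (L ^ n) = if n = 0 then 1 else 0)

include hF in
lemma F1 (ρ : A[X]) (hρ : ρ.natDegree ≤ r) : F (aeval L ρ) = ρ.coeff 0 := by
  rw [aeval_eq_sum_range' (Nat.lt_succ_of_le hρ), map_sum]
  rw [Finset.sum_eq_single 0]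
  · rw [map_smul, hF 0 (Nat.zero_le _)]; simp
  · intro n hn hn0
    rw [map_smul, hF n (Nat.lt_succ_iff.mp (Finset.mem_range.mp hn)), if_neg hn0, smul_zero]
  · intro h; exact absurd (Finset.mem_range.mpr (Nat.succ_pos r)) h

include hL hF in
lemma ind : ∀ (d : ℕ) (ρ : A[X]), ρ.natDegree ≤ d → d ≤ r → aeval L ρ = 0 → ρ = 0 := by
  intro d
  induction d with
  | zero =>
    intro ρ hρ _ h0
    have h1 := F1 L F r hF ρ (hρ.trans (Nat.zero_le _))
    rw [h0, map_zero] at h1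
    rw [eq_C_of_natDegree_le_zero hρ, ← h1, C_0]
  | succ d ih =>
    intro ρ hρ hd h0
    have h1 := F1 L F r hF ρ (hρ.trans hd)
    rw [h0, map_zero] at h1
    have h2 : ρ = divX ρ * X := by
      conv_lhs => rw [← divX_mul_X_add ρ, ← h1, C_0, add_zero]
    have h3 : aeval L (divX ρ) = 0 := by
      have h4 : aeval L (divX ρ) * L = 0 := by
        rw [← h0]; conv_rhs => rw [h2]
        rw [map_mul, aeval_X]
      calc aeval L (divX ρ) = aeval L (divX ρ) * L * Linv := by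
            rw [mul_assoc, mul_comm L Linv, hL, mul_one]
        _ = 0 := by rw [h4, zero_mul]
    have h5 : (divX ρ).natDegree ≤ d := by
      rw [natDegree_divX_eq_natDegree_tsub_one]; omega
    rw [h2, ih (divX ρ) h5 (Nat.le_of_succ_le hd) h3, zero_mul]

end Main



section Pow
variable {A E : Type*} [CommRing A] [CommRing E] [Algebra A E] (r : ℕ)

lemma aeval_eq_fin_sum (y : E) (ρ : A[X]) (hρ : ρ.natDegree ≤ r) :
    aeval y ρ = ∑ i : Fin (r + 1), ρ.coeff (i : ℕ) • y ^ (i : ℕ) := by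
  rw [aeval_eq_sum_range' (Nat.lt_succ_of_le hρ)]
  exact (Fin.sum_univ_eq_sum_range (fun n => ρ.coeff n • y ^ n) (r + 1)).symm

lemma li_of_ind (y : E) (hind : ∀ ρ : A[X], ρ.natDegree ≤ r → aeval y ρ = 0 → ρ = 0) :
    LinearIndependent A (fun i : Fin (r + 1) => y ^ (i : ℕ)) := by
  rw [Fintype.linearIndependent_iff]
  intro c hc i
  set c' : ℕ → A := fun n => if h : n < r + 1 then c ⟨n, h⟩ else 0 with hc'
  set ρ : A[X] := ∑ n ∈ Finset.range (r + 1), monomial n (c' n) with hρ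
  have hck : ∀ k : Fin (r + 1), c' (k : ℕ) = c k := by
    intro k
    simp only [hc']
    rw [dif_pos k.2]
  have hdeg : ρ.natDegree ≤ r := by
    apply natDegree_sum_le_of_forall_le
    intro n hn
    exact (natDegree_monomial_le _).trans (Nat.lt_succ_iff.mp (Finset.mem_range.mp hn))
  have hcoeff : ∀ n, n < r + 1 → ρ.coeff n = c' n := by
    intro n hn
    rw [hρ, finsetSum_coeff, Finset.sum_eq_single n]
    · rw [coeff_monomial, if_pos rfl]
    · intro b _ hb
      rw [coeff_monomial, if_neg hb]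
    · intro h; exact absurd (Finset.mem_range.mpr hn) h
  have h0 : aeval y ρ = 0 := by
    rw [aeval_eq_fin_sum r y ρ hdeg, ← hc]
    apply Finset.sum_congr rfl
    intro k _
    rw [hcoeff k k.2, hck]
  have := hind ρ hdeg h0
  have h1 := hcoeff i i.2
  rw [this, coeff_zero, hck] at h1
  exact h1.symm

lemma ind_of_li (y : E) (hli : LinearIndependent A (fun i : Fin (r + 1) => y ^ (i : ℕ)))
    (ρ : A[X]) (hρ : ρ.natDegree ≤ r) (h0 : aeval y ρ = 0) : ρ = 0 := by
  rw [aeval_eq_fin_sum r y ρ hρ] at h0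
  have h1 := Fintype.linearIndependent_iff.mp hli (fun i => ρ.coeff (i : ℕ)) h0
  ext n
  rw [coeff_zero]
  by_cases hn : n < r + 1
  · exact h1 ⟨n, hn⟩
  · exact coeff_eq_zero_of_natDegree_lt (by omega)

lemma span_pow (y : E) (hy : ∀ x : E, ∃ ρ : A[X], ρ.natDegree ≤ r ∧ aeval y ρ = x) :
    ⊤ ≤ Submodule.span A (Set.range fun i : Fin (r + 1) => y ^ (i : ℕ)) := by
  intro x _
  obtain ⟨ρ, hρ, rfl⟩ := hy x
  rw [aeval_eq_fin_sum r y ρ hρ]
  apply Submodule.sum_mem
  intro i _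
  exact Submodule.smul_mem _ _ (Submodule.subset_span ⟨i, rfl⟩)

end Pow




section Surj
variable {A E : Type*} [CommRing A] [CommRing E] [Algebra A E]

/-- `(1 - L^j)^k = j^k (1-L)^k + (1-L)^{k+1} z`. -/
lemma one_sub_pow_pow (L : E) (j k : ℕ) :
    ∃ z : E, (1 - L ^ j) ^ k = (j : E) ^ k * (1 - L) ^ k + (1 - L) ^ (k + 1) * z := by
  set U : E := ∑ i ∈ Finset.range j, L ^ i with hU
  have h1 : (1 - L) * U = 1 - L ^ j := mul_neg_geom_sum L j
  have h2 : (1 - L) ∣ U - (j : E) := by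
    have : U - (j : E) = ∑ i ∈ Finset.range j, (L ^ i - 1) := by
      rw [Finset.sum_sub_distrib, hU]; simp
    rw [this]
    apply Finset.dvd_sum
    intro i _
    have h3 : L - 1 ∣ L ^ i - 1 := by
      have := sub_dvd_pow_sub_pow L 1 i
      rwa [one_pow] at this
    have h4 : (1 - L) ∣ (L - 1) := ⟨-1, by ring⟩
    exact h4.trans h3
  have h5 : (1 - L) ∣ U ^ k - (j : E) ^ k := h2.trans (sub_dvd_pow_sub_pow U (j : E) k)
  obtain ⟨z, hz⟩ := h5
  refine ⟨z, ?_⟩
  rw [← h1, mul_pow]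
  have : U ^ k = (j : E) ^ k + (1 - L) * z := by rw [← hz]; ring
  rw [this]; ring

lemma exists_const_add (L : E) (hspan : ∀ x : E, ∃ g : A[X], aeval L g = x) (x : E) :
    ∃ (a : A) (x' : E), x = algebraMap A E a + (1 - L) * x' := by
  obtain ⟨g, rfl⟩ := hspan x
  obtain ⟨q, hq⟩ := X_sub_C_dvd_sub_C_eval (a := (1 : A)) (p := g)
  refine ⟨g.eval 1, - aeval L q, ?_⟩
  have h1 : g = C (g.eval 1) + (X - C 1) * q := by rw [← hq]; ring
  conv_lhs => rw [h1]
  simp only [map_add, map_mul, map_sub, aeval_C, aeval_X, map_one]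
  ring

lemma one_sub_mem (L : E) (j : ℕ) (hju : IsUnit (j : A))
    (hspan : ∀ x : E, ∃ g : A[X], aeval L g = x) :
    ∀ k : ℕ, ∃ (h : A[X]) (x : E), 1 - L = aeval (L ^ j) h + (1 - L) ^ (k + 1) * x := by
  intro k
  induction k with
  | zero => exact ⟨0, 1, by simp⟩
  | succ k ih =>
    obtain ⟨h, x, h1⟩ := ih
    obtain ⟨a, x', h2⟩ := exists_const_add L hspan x
    obtain ⟨z, h3⟩ := one_sub_pow_pow L j (k + 1)
    obtain ⟨ju, hju'⟩ := hju
    have h4 : algebraMap A E (↑ju⁻¹ : A) ^ (k + 1) * (j : E) ^ (k + 1) = 1 := by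
      rw [← mul_pow, ← map_natCast (algebraMap A E) j, ← map_mul, ← hju']
      simp
    refine ⟨h + C (a * (↑ju⁻¹ : A) ^ (k + 1)) * (1 - X) ^ (k + 1),
      x' - algebraMap A E a * algebraMap A E (↑ju⁻¹ : A) ^ (k + 1) * z, ?_⟩
    simp only [map_add, map_mul, map_sub, map_pow, aeval_C, aeval_X, map_one]
    refine h1.trans ?_
    rw [h2]
    linear_combination (-(algebraMap A E a) * algebraMap A E (↑ju⁻¹ : A) ^ (k + 1)) * h3 +
      (-(algebraMap A E a) * (1 - L) ^ (k + 1)) * h4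

lemma surj_pow (L : E) (j : ℕ) (hju : IsUnit (j : A)) (hnil : IsNilpotent (1 - L))
    (hspan : ∀ x : E, ∃ g : A[X], aeval L g = x) (x : E) :
    ∃ h : A[X], aeval (L ^ j) h = x := by
  obtain ⟨M, hM⟩ := hnil
  obtain ⟨h, y, h1⟩ := one_sub_mem L j hju hspan M
  rw [pow_eq_zero_of_le (Nat.le_succ M) hM, zero_mul, add_zero] at h1
  have h2 : L = aeval (L ^ j) (1 - h) := by
    rw [map_sub, map_one, ← h1]; ring
  obtain ⟨g, rfl⟩ := hspan x
  refine ⟨g.comp (1 - h), ?_⟩
  rw [aeval_comp, ← h2]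

end Surj



section Contract
variable {A : Type*} [CommRing A]

lemma natDegree_contract_le (j : ℕ) (hj : 0 < j) (f : A[X]) (d : ℕ) (hf : f.natDegree < (d + 1) * j) :
    (contract j f).natDegree ≤ d := by
  rw [natDegree_le_iff_coeff_eq_zero]
  intro N hN
  rw [coeff_contract hj.ne']
  apply coeff_eq_zero_of_natDegree_lt
  calc f.natDegree < (d + 1) * j := hf
    _ ≤ N * j := Nat.mul_le_mul_right j hN

lemma coeff_zero_contract (j : ℕ) (hj : 0 < j) (f : A[X]) : (contract j f).coeff 0 = f.coeff 0 := by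
  rw [coeff_contract hj.ne', zero_mul]

lemma contract_monomial (j : ℕ) (hj : 0 < j) (n : ℕ) (a : A) :
    contract j (monomial n a) = if j ∣ n then monomial (n / j) a else 0 := by
  ext k
  rw [coeff_contract hj.ne', coeff_monomial]
  split_ifs with h1 h2 h2
  · rw [coeff_monomial, if_pos]
    rw [h1, Nat.mul_div_cancel _ hj]
  · exact absurd ⟨k, by rw [h1, mul_comm]⟩ h2
  · rw [coeff_monomial, if_neg]
    intro h3
    apply h1
    rw [← h3, Nat.div_mul_cancel h2]
  · simp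

lemma exists_unique_residue (j : ℕ) (hj : 0 < j) (i : ℕ) :
    ∃ d₀, d₀ < j ∧ j ∣ i + d₀ ∧ ∀ b, b < j → j ∣ i + b → b = d₀ := by
  have hmod := Nat.mod_lt i hj
  have hdm := Nat.div_add_mod i j
  by_cases h0 : i % j = 0
  · refine ⟨0, hj, ?_, ?_⟩
    · rw [add_zero]; exact Nat.dvd_of_mod_eq_zero h0
    · intro b hb hdvd
      have h1 : j ∣ b := (Nat.dvd_add_right (Nat.dvd_of_mod_eq_zero h0)).mp hdvd
      exact Nat.eq_zero_of_dvd_of_lt h1 hb
  · refine ⟨j - i % j, by omega, ?_, ?_⟩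
    · refine ⟨i / j + 1, ?_⟩
      rw [mul_add, mul_one]; omega
    · intro b hb hdvd
      obtain ⟨c, hc⟩ := hdvd
      have h1 : j * c = j * (i / j) + (i % j + b) := by omega
      have h2 : j ∣ i % j + b := by
        have h3 : j ∣ j * (i / j) + (i % j + b) := ⟨c, h1.symm⟩
        exact (Nat.dvd_add_right (dvd_mul_right j (i / j))).mp h3
      obtain ⟨t, ht⟩ := h2
      have ht1 : t = 1 := by
        have h4 : 0 < t := by
          rcases Nat.eq_zero_or_pos t with h | h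
          · rw [h, mul_zero] at ht; omega
          · exact h
        have h5 : t < 2 := by
          by_contra h6
          have : j * 2 ≤ j * t := Nat.mul_le_mul_left j (by omega)
          omega
        omega
      rw [ht1, mul_one] at ht
      omega

/-- decomposition of a polynomial along residues of exponents mod `j`. -/
lemma decomp (j : ℕ) (hj : 0 < j) (g : A[X]) :
    X ^ j * g = ∑ d ∈ Finset.range j, X ^ (j - d) * expand A j (contract j (X ^ d * g)) := by
  induction g using Polynomial.induction_on' with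
  | add p q hp hq =>
    rw [mul_add, hp, hq, ← Finset.sum_add_distrib]
    apply Finset.sum_congr rfl
    intro d _
    rw [mul_add, contract_add hj.ne', map_add, mul_add]
  | monomial i a =>
    obtain ⟨d₀, hd₀, hdvd, huniq⟩ := exists_unique_residue j hj i
    rw [Finset.sum_eq_single_of_mem d₀ (Finset.mem_range.mpr hd₀)]
    · rw [X_pow_mul_monomial, X_pow_mul_monomial, contract_monomial j hj, if_pos hdvd, expand_monomial,
        Nat.div_mul_cancel hdvd, X_pow_mul_monomial]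
      have h7 : i + d₀ + (j - d₀) = i + j := by omega
      rw [h7]
    · intro b hb hne
      rw [X_pow_mul_monomial, contract_monomial j hj, if_neg, map_zero, mul_zero]
      intro h
      exact hne (huniq b (Finset.mem_range.mp hb) h)

end Contract



section Core
variable {A E : Type*} [CommRing A] [CommRing E] [Algebra A E]
variable (L Linv : E) (F : E →ₗ[A] A) (r : ℕ) (Λ1 Λj Θ : A[X]) (u1 uj : Aˣ) (j : ℕ)

/-- the hypotheses of the abstract computation -/
structure Hyp : Prop where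
  hL : Linv * L = 1
  hF : ∀ n : ℕ, n ≤ r → F (L ^ n) = if n = 0 then 1 else 0
  hd1 : Λ1.natDegree ≤ r + 1
  hu1 : Λ1.coeff (r + 1) = u1
  hc1 : Λ1.coeff 0 = 1
  hdj : Λj.natDegree ≤ r + 1
  huj : Λj.coeff (r + 1) = uj
  hcj : Λj.coeff 0 = 1
  hfac : Λ1 * Θ = expand A j Λj
  hroot : aeval L Λ1 = 0
  hspan : ∀ x : E, ∃ g : A[X], aeval L g = x
  hj : 0 < j
  hju : IsUnit (j : A)
  hnil : IsNilpotent (1 - L)

variable {L Linv F r Λ1 Λj Θ u1 uj j}
variable (H : Hyp L Linv F r Λ1 Λj Θ u1 uj j)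
include H

lemma Hyp.ind1 (ρ : A[X]) (hρ : ρ.natDegree ≤ r) (h0 : aeval L ρ = 0) : ρ = 0 :=
  ind L Linv H.hL F r H.hF r ρ hρ le_rfl h0

lemma Hyp.div1 (g : A[X]) (h0 : aeval L g = 0) : ∃ q : A[X], g = Λ1 * q := by
  obtain ⟨q, ρ, hg, hρ⟩ := exists_div_rem Λ1 u1 r H.hd1 H.hu1 g
  refine ⟨q, ?_⟩
  have h1 : aeval L ρ = 0 := by
    have := h0
    rw [hg, map_add, map_mul, H.hroot, zero_mul, zero_add] at this
    exact this
  rw [hg, H.ind1 ρ hρ h1, add_zero]

lemma Hyp.red1 (x : E) : ∃ ρ : A[X], ρ.natDegree ≤ r ∧ aeval L ρ = x := by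
  obtain ⟨g, rfl⟩ := H.hspan x
  obtain ⟨q, ρ, hg, hρ⟩ := exists_div_rem Λ1 u1 r H.hd1 H.hu1 g
  refine ⟨ρ, hρ, ?_⟩
  rw [hg, map_add, map_mul, H.hroot, zero_mul, zero_add]

lemma Hyp.finrank [Nontrivial A] : Module.finrank A E = r + 1 := by
  have hli := li_of_ind r L (fun ρ hρ h0 => H.ind1 ρ hρ h0)
  have hsp := span_pow r L H.red1
  have b := Module.Basis.mk hli hsp
  rw [Module.finrank_eq_card_basis b, Fintype.card_fin]

lemma Hyp.rootj : aeval (L ^ j) Λj = 0 := by
  rw [← expand_aeval, ← H.hfac, map_mul, H.hroot, zero_mul]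

end Core




section Core2
variable {A E : Type*} [CommRing A] [CommRing E] [Algebra A E]
variable {L Linv : E} {F : E →ₗ[A] A} {r : ℕ} {Λ1 Λj Θ : A[X]} {u1 uj : Aˣ} {j : ℕ}
variable (H : Hyp L Linv F r Λ1 Λj Θ u1 uj j)
include H

lemma Hyp.surj (x : E) : ∃ h : A[X], aeval (L ^ j) h = x :=
  surj_pow L j H.hju H.hnil H.hspan x

lemma Hyp.redj (x : E) : ∃ ρ : A[X], ρ.natDegree ≤ r ∧ aeval (L ^ j) ρ = x := by
  obtain ⟨g, rfl⟩ := H.surj x
  obtain ⟨q, ρ, hg, hρ⟩ := exists_div_rem Λj uj r H.hdj H.huj g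
  refine ⟨ρ, hρ, ?_⟩
  rw [hg, map_add, map_mul, H.rootj, zero_mul, zero_add]

lemma Hyp.indj [Nontrivial A] (ρ : A[X]) (hρ : ρ.natDegree ≤ r) (h0 : aeval (L ^ j) ρ = 0) : ρ = 0 := by
  have hsp := span_pow r (L ^ j) H.redj
  have hli : LinearIndependent A (fun i : Fin (r + 1) => (L ^ j) ^ (i : ℕ)) :=
    linearIndependent_of_top_le_span_of_card_eq_finrank hsp (by rw [Fintype.card_fin, H.finrank])
  exact ind_of_li r (L ^ j) hli ρ hρ h0

lemma Hyp.divj [Nontrivial A] (g : A[X]) (h0 : aeval (L ^ j) g = 0) : ∃ q : A[X], g = Λj * q := by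
  obtain ⟨q, ρ, hg, hρ⟩ := exists_div_rem Λj uj r H.hdj H.huj g
  refine ⟨q, ?_⟩
  have h1 : aeval (L ^ j) ρ = 0 := by
    have := h0
    rw [hg, map_add, map_mul, H.rootj, zero_mul, zero_add] at this
    exact this
  rw [hg, H.indj ρ hρ h1, add_zero]

lemma Hyp.theta_coeff_zero : Θ.coeff 0 = 1 := by
  have h1 := congrArg (fun p => p.coeff 0) H.hfac
  simp only [mul_coeff_zero, H.hc1, one_mul] at h1
  rw [h1, coeff_zero_eq_eval_zero, expand_eval, zero_pow H.hj.ne', ← coeff_zero_eq_eval_zero, H.hcj]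

lemma Hyp.natDegree_theta [Nontrivial A] : Θ.natDegree + (r + 1) ≤ (r + 1) * j := by
  by_cases hΘ : Θ = 0
  · rw [hΘ, natDegree_zero, zero_add]
    exact Nat.le_mul_of_pos_right _ H.hj
  have hm := nrm_monic Λ1 u1 r H.hd1 H.hu1
  have h1 : nrm Λ1 u1 * Θ = C (↑u1⁻¹ : A) * expand A j Λj := by
    unfold nrm; rw [mul_assoc, H.hfac]
  have h2 : (nrm Λ1 u1 * Θ).natDegree = (nrm Λ1 u1).natDegree + Θ.natDegree := hm.natDegree_mul' hΘ
  rw [natDegree_nrm Λ1 u1 r H.hd1 H.hu1, h1] at h2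
  have h3 : (C (↑u1⁻¹ : A) * expand A j Λj).natDegree ≤ (r + 1) * j := by
    refine (natDegree_C_mul_le _ _).trans ?_
    rw [natDegree_expand]
    exact Nat.mul_le_mul_right j H.hdj
  omega

/-- the adjunction formula -/
lemma Hyp.adj (g : A[X]) : F (aeval L g) = cj Λj uj (contract j (g * Θ)) := by
  rcases subsingleton_or_nontrivial A with hA | hA
  · exact Subsingleton.elim _ _
  obtain ⟨q, ρ, hg, hρ⟩ := exists_div_rem Λ1 u1 r H.hd1 H.hu1 g
  have h1 : aeval L g = aeval L ρ := by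
    rw [hg, map_add, map_mul, H.hroot, zero_mul, zero_add]
  rw [h1, F1 L F r H.hF ρ hρ]
  have h2 : g * Θ = q * expand A j Λj + ρ * Θ := by
    rw [hg, ← H.hfac]; ring
  rw [h2, contract_add H.hj.ne', contract_mul_expand H.hj.ne', mul_comm (contract j q) Λj]
  have h3 : (ρ * Θ).natDegree < (r + 1) * j := by
    have := H.natDegree_theta
    have := natDegree_mul_le (p := ρ) (q := Θ)
    omega
  rw [cj_spec Λj uj r H.hdj H.huj _ _ (natDegree_contract_le j H.hj _ r h3),
    coeff_zero_contract j H.hj, mul_coeff_zero, H.theta_coeff_zero, mul_one]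

lemma Hyp.unit_pow (n : ℕ) : Linv ^ n * L ^ n = 1 := by rw [← mul_pow, H.hL, one_pow]

/-- `T_d(s) = L^d T_0(s)`. -/
lemma Hyp.T_d (d : ℕ) :
    aeval (L ^ j) (contract j (X ^ d * Θ)) = L ^ d * aeval (L ^ j) (contract j Θ) := by
  obtain ⟨Y, hY⟩ := H.surj (L ^ d)
  have h1 : aeval L (X ^ d - expand A j Y) = 0 := by
    rw [map_sub, map_pow, aeval_X, expand_aeval, hY, sub_self]
  obtain ⟨q, hq⟩ := H.div1 _ h1
  have h2 : X ^ d * Θ = Θ * expand A j Y + q * expand A j Λj := by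
    rw [← H.hfac]
    have : X ^ d = expand A j Y + Λ1 * q := by rw [← hq]; ring
    rw [this]; ring
  rw [h2, contract_add H.hj.ne', contract_mul_expand H.hj.ne', contract_mul_expand H.hj.ne',
    map_add, map_mul, map_mul, hY, H.rootj, mul_zero, add_zero, mul_comm]

/-- `Θ(L) = j T_0(L^j)`. -/
lemma Hyp.theta_eval : aeval L Θ = (j : E) * aeval (L ^ j) (contract j Θ) := by
  have h1 := congrArg (aeval L) (decomp j H.hj Θ)
  rw [map_mul, map_pow, aeval_X, map_sum] at h1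
  have h2 : ∀ d ∈ Finset.range j, aeval L (X ^ (j - d) * expand A j (contract j (X ^ d * Θ))) =
      L ^ j * aeval (L ^ j) (contract j Θ) := by
    intro d hd
    rw [map_mul, map_pow, aeval_X, expand_aeval, H.T_d d, ← mul_assoc, ← pow_add,
      Nat.sub_add_cancel (Finset.mem_range.mp hd).le]
  rw [Finset.sum_congr rfl h2, Finset.sum_const, Finset.card_range, nsmul_eq_mul] at h1
  calc aeval L Θ = Linv ^ j * L ^ j * aeval L Θ := by rw [H.unit_pow, one_mul]
    _ = Linv ^ j * (L ^ j * aeval L Θ) := by ring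
    _ = Linv ^ j * ((j : E) * (L ^ j * aeval (L ^ j) (contract j Θ))) := by rw [h1]
    _ = (Linv ^ j * L ^ j) * ((j : E) * aeval (L ^ j) (contract j Θ)) := by ring
    _ = (j : E) * aeval (L ^ j) (contract j Θ) := by rw [H.unit_pow, one_mul]

/-- the abstract Adams-Riemann-Roch identity -/
theorem Hyp.main (w : E) (hw : w * aeval L Θ = 1) (n : ℕ) (hn : n ≤ r) :
    F ((j : E) * w * L ^ (j * n)) = if n = 0 then 1 else 0 := by
  rcases subsingleton_or_nontrivial A with hA | hA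
  · exact Subsingleton.elim _ _
  obtain ⟨W, hW⟩ := H.surj w
  set T0 := contract j Θ with hT0
  have h1 : aeval (L ^ j) (C (j : A) * W * T0 - 1) = 0 := by
    rw [map_sub, map_mul, map_mul, aeval_C, hW, map_one, map_natCast]
    rw [H.theta_eval] at hw
    rw [← hw]; ring
  obtain ⟨q, hq⟩ := H.divj _ h1
  have h2 : (j : E) * w * L ^ (j * n) = aeval L (expand A j (C (j : A) * W * X ^ n)) := by
    rw [expand_aeval, map_mul, map_mul, aeval_C, hW, map_pow, aeval_X, map_natCast, ← pow_mul]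
  rw [h2, H.adj, mul_comm, contract_mul_expand H.hj.ne', ← hT0]
  have h3 : T0 * (C (j : A) * W * X ^ n) = Λj * (q * X ^ n) + X ^ n := by
    have : C (j : A) * W * T0 = Λj * q + 1 := by rw [← hq]; ring
    calc T0 * (C (j : A) * W * X ^ n) = (C (j : A) * W * T0) * X ^ n := by ring
      _ = Λj * (q * X ^ n) + X ^ n := by rw [this]; ring
  rw [h3, cj_spec Λj uj r H.hdj H.huj _ _ ((natDegree_X_pow_le n).trans hn), coeff_X_pow]
  by_cases h0 : n = 0
  · rw [if_pos h0, if_pos h0.symm]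
  · rw [if_neg h0, if_neg (fun h => h0 h.symm)]

end Core2


end Groth.Agent.Lib.Helper16.ARR
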