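import Groth.Agent.Lib.Helper16.DetLine

/-!
# Helper library (helper16): `det (e g) = det(e)^{ε g} det(g)^{ε e}` and `D = 1` on `F^2`.
-/

set_option autoImplicit false
set_option linter.unusedSectionVars false
universe u

open Finset

namespace Groth.Agent.Lib.Helper16.DL

open LambdaRing Groth.Agent.Lib.Helper20.LR Groth.Agent.Lib.Helper20.GFP Groth.Agent.Lib.Helper16.GN

section lines
variable {K : Type u} [CommRing K] [LambdaOps K] (P : PosStructure K)

lemma det_lines (s : Multiset K) (hs : ∀ u ∈ s, P.IsLine u) : det P s.sum = s.prod := by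
  unfold det
  rw [aug_multiset_sum_lines P s hs, Int.toNat_natCast, lam_lines P s hs, coeff_card_aPoly]

/-- the multiset of pairwise products. -/
def pairMul (s t : Multiset K) : Multiset K := (s ×ˢ t).map fun p => p.1 * p.2

lemma pairMul_zero (t : Multiset K) : pairMul (0 : Multiset K) t = 0 := by
  unfold pairMul
  rw [Multiset.zero_product, Multiset.map_zero]

lemma pairMul_cons (a : K) (s t : Multiset K) :
    pairMul (a ::ₘ s) t = t.map (fun v => a * v) + pairMul s t := by
  unfold pairMul
  rw [Multiset.cons_product, Multiset.map_add, Multiset.map_map]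
  rfl

lemma pairMul_sum (s t : Multiset K) : (pairMul s t).sum = s.sum * t.sum := by
  induction s using Multiset.induction_on with
  | empty => rw [pairMul_zero]; simp
  | cons a s ih =>
    rw [pairMul_cons, Multiset.sum_add, ih, Multiset.sum_cons, Multiset.sum_map_mul_left]
    simp only [Multiset.map_id']
    ring

lemma pairMul_prod (s t : Multiset K) :
    (pairMul s t).prod = s.prod ^ (Multiset.card t) * t.prod ^ (Multiset.card s) := by
  induction s using Multiset.induction_on with
  | empty => rw [pairMul_zero]; simp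
  | cons a s ih =>
    rw [pairMul_cons, Multiset.prod_add, ih, Multiset.prod_cons, Multiset.card_cons,
      Multiset.prod_map_mul, Multiset.map_const', Multiset.prod_replicate, Multiset.map_id']
    ring

lemma pairMul_lines (s t : Multiset K) (hs : ∀ u ∈ s, P.IsLine u) (ht : ∀ v ∈ t, P.IsLine v) :
    ∀ w ∈ pairMul s t, P.IsLine w := by
  intro w hw
  unfold pairMul at hw
  rw [Multiset.mem_map] at hw
  obtain ⟨p, hp, rfl⟩ := hw
  rw [Multiset.mem_product] at hp
  exact isLine_mul P (hs _ hp.1) (ht _ hp.2)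

lemma det_mul_lines (s t : Multiset K) (hs : ∀ u ∈ s, P.IsLine u) (ht : ∀ v ∈ t, P.IsLine v) :
    det P (s.sum * t.sum) =
      det P s.sum ^ (P.aug t.sum).toNat * det P t.sum ^ (P.aug s.sum).toNat := by
  rw [← pairMul_sum, det_lines P _ (pairMul_lines P s t hs ht), pairMul_prod, det_lines P s hs,
    det_lines P t ht, aug_multiset_sum_lines P s hs, aug_multiset_sum_lines P t ht,
    Int.toNat_natCast, Int.toNat_natCast]

end lines

section ext
variable {K L M : Type u} [CommRing K] [LambdaOps K] [CommRing L] [LambdaOps L] [CommRing M]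
  [LambdaOps M] {P : PosStructure K} {P' : PosStructure L} {P'' : PosStructure M}

lemma isExtension_comp (f1 : K →+* L) (f2 : L →+* M) (h1 : IsExtension P P' f1)
    (h2 : IsExtension P' P'' f2) : IsExtension P P'' (f2.comp f1) where
  isLambdaHom := by
    intro i x
    rw [RingHom.comp_apply, RingHom.comp_apply, h1.isLambdaHom, h2.isLambdaHom]
  injective := h2.injective.comp h1.injective
  aug_comp := by
    intro x
    rw [RingHom.comp_apply, h2.aug_comp, h1.aug_comp]
  pos_subset := by
    intro e he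
    exact h2.pos_subset _ (h1.pos_subset e he)

end ext

section cls
variable (C : Set PosLambdaRing.{u})
  (hC : ∀ L ∈ C, ∀ e ∈ L.posStr.pos, ∃ L' ∈ C, ∃ f : L.carrier →+* L'.carrier,
      IsExtension L.posStr L'.posStr f ∧
      ∃ s : Multiset L'.carrier, (∀ u ∈ s, L'.posStr.IsLine u) ∧ s.sum = f e)

include hC

lemma hasSplitting_of_mem (L : PosLambdaRing.{u}) (hL : L ∈ C) : HasSplitting L.carrier L.posStr :=
  ⟨C, hL, hC⟩

/-- two positive elements split simultaneously. -/
lemma exists_double_split (L : PosLambdaRing.{u}) (hL : L ∈ C) (e g : L.carrier)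
    (he : e ∈ L.posStr.pos) (hg : g ∈ L.posStr.pos) :
    ∃ L'' ∈ C, ∃ F : L.carrier →+* L''.carrier, IsExtension L.posStr L''.posStr F ∧
      ∃ s t : Multiset L''.carrier, (∀ u ∈ s, L''.posStr.IsLine u) ∧ (∀ v ∈ t, L''.posStr.IsLine v) ∧
        s.sum = F e ∧ t.sum = F g := by
  obtain ⟨L', hL', f1, h1, s, hs, hse⟩ := hC L hL e he
  obtain ⟨L'', hL'', f2, h2, t, ht, hte⟩ := hC L' hL' (f1 g) (h1.pos_subset g hg)
  refine ⟨L'', hL'', f2.comp f1, isExtension_comp f1 f2 h1 h2, s.map f2, t, ?_, ht, ?_, hte⟩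
  · intro u hu
    rw [Multiset.mem_map] at hu
    obtain ⟨u', hu', rfl⟩ := hu
    exact isLine_map f2 h2 (hs u' hu')
  · rw [RingHom.comp_apply, ← hse, map_multiset_sum]

lemma det_mul (L : PosLambdaRing.{u}) (hL : L ∈ C) (e g : L.carrier)
    (he : e ∈ L.posStr.pos) (hg : g ∈ L.posStr.pos) :
    det L.posStr (e * g) =
      det L.posStr e ^ (L.posStr.aug g).toNat * det L.posStr g ^ (L.posStr.aug e).toNat := by
  obtain ⟨L'', _, F, hF, s, t, hs, ht, hse, hte⟩ := exists_double_split C hC L hL e g he hg
  apply hF.injective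
  rw [map_det F hF, map_mul, map_mul, map_pow, map_pow, map_det F hF, map_det F hF, ← hse, ← hte,
    det_mul_lines L''.posStr s t hs ht, hse, hte, hF.aug_comp, hF.aug_comp]

/-- `D(xy) = 1` when `ε x = ε y = 0`. -/
lemma D_mul_eq_one (L : PosLambdaRing.{u}) (hL : L ∈ C) (x y : L.carrier)
    (hx : L.posStr.aug x = 0) (hy : L.posStr.aug y = 0) : D L.posStr (x * y) = 1 := by
  set P := L.posStr with hP
  obtain ⟨e, f, he, hf, rfl⟩ := P.exists_sub x
  obtain ⟨g, h, hg, hh, rfl⟩ := P.exists_sub y
  have hm : P.aug e = P.aug f := by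
    rw [map_sub] at hx; exact sub_eq_zero.mp hx
  have hn : P.aug g = P.aug h := by
    rw [map_sub] at hy; exact sub_eq_zero.mp hy
  have h1 : (e - f) * (g - h) = (e * g + f * h) - (e * h + f * g) := by ring
  have p1 := P.add_mem _ _ (P.mul_mem e g he hg) (P.mul_mem f h hf hh)
  have p2 := P.add_mem _ _ (P.mul_mem e h he hh) (P.mul_mem f g hf hg)
  rw [D_eq P p1 p2 h1, mul_inv_eq_one]
  apply Units.ext
  rw [detU_val, detU_val, det_add P (P.mul_mem e g he hg) (P.mul_mem f h hf hh),
    det_add P (P.mul_mem e h he hh) (P.mul_mem f g hf hg),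
    det_mul C hC L hL e g he hg, det_mul C hC L hL f h hf hh, det_mul C hC L hL e h he hh,
    det_mul C hC L hL f g hf hg, hm, hn]
  ring

end cls

end Groth.Agent.Lib.Helper16.DL
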