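import Groth.Agent.Lib.Helper16.ARRLam2
import Groth.Agent.Lib.Helper16.DetLine2
import Groth.Agent.Lib.Helper20.AdamsFilt

set_option autoImplicit false
universe u v
open Polynomial

namespace Groth.Agent.Lib.Helper16.ARRL

open Groth.Agent.Lib.Helper20 LambdaRing Groth.Agent.Lib.Helper20.LR Groth.Agent.Lib.Helper16.KRRBott

section Scale
variable {K : Type v} [CommRing K] [LambdaOps K] (P : PosStructure K)

omit [LambdaOps K] in
lemma rescale_lin (v a : K) : PowerSeries.rescale v (1 + PowerSeries.C a * PowerSeries.X) =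
    1 + PowerSeries.C (v * a) * PowerSeries.X := by
  rw [map_add, map_one, map_mul, PowerSeries.rescale_X]
  have : PowerSeries.rescale v (PowerSeries.C a) = PowerSeries.C a := by
    ext n
    rw [PowerSeries.coeff_rescale, PowerSeries.coeff_C]
    split_ifs with h
    · rw [h, pow_zero, one_mul]
    · rw [mul_zero]
  rw [this, map_mul]; ring

lemma lamSeries_line_mul_lines (v : K) (hv : P.IsLine v) (s : Multiset K) (hs : ∀ u ∈ s, P.IsLine u) :
    lamSeries (v * s.sum) = PowerSeries.rescale v (lamSeries s.sum) := by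
  have h0 : v * s.sum = (s.map fun a => v * a).sum := by
    rw [Multiset.sum_map_mul_left, Multiset.map_id']
  rw [h0, lamSeries_multiset_sum, lamSeries_multiset_sum, map_multiset_prod,
    Multiset.map_map, Multiset.map_map]
  congr 1
  apply Multiset.map_congr rfl
  intro a ha
  simp only [Function.comp_apply]
  rw [lamSeries_line P (isLine_mul P hv (hs a ha)), lamSeries_line P (hs a ha), rescale_lin]

lemma lamSeries_line_mul_sub (v : K) (hv : P.IsLine v) (s t : Multiset K) (hs : ∀ u ∈ s, P.IsLine u)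
    (ht : ∀ u ∈ t, P.IsLine u) :
    lamSeries (v * (s.sum - t.sum)) = PowerSeries.rescale v (lamSeries (s.sum - t.sum)) := by
  have h1 : lamSeries (v * (s.sum - t.sum)) * lamSeries (v * t.sum) = lamSeries (v * s.sum) := by
    rw [← lamSeries_add]; congr 1; ring
  have h2 : lamSeries (s.sum - t.sum) * lamSeries t.sum = lamSeries s.sum := by
    rw [← lamSeries_add]; congr 1; ring
  have h3 : lamSeries t.sum * lamSeries (-t.sum) = 1 := by
    rw [← lamSeries_add, add_neg_cancel, lamSeries_zero]
  rw [lamSeries_line_mul_lines P v hv t ht, lamSeries_line_mul_lines P v hv s hs, ← h2, map_mul] at h1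
  have h4 := congrArg (fun z => z * PowerSeries.rescale v (lamSeries (-t.sum))) h1
  simp only [mul_assoc, ← map_mul, h3, map_one, mul_one] at h4
  exact h4

end Scale

section Cls
variable (Cl : Set PosLambdaRing.{v})
  (hC : ∀ L ∈ Cl, ∀ e ∈ L.posStr.pos, ∃ L' ∈ Cl, ∃ f : L.carrier →+* L'.carrier,
      IsExtension L.posStr L'.posStr f ∧
      ∃ s : Multiset L'.carrier, (∀ u ∈ s, L'.posStr.IsLine u) ∧ s.sum = f e)
include hC

lemma lam_line_mul (L : PosLambdaRing.{v}) (hL : L ∈ Cl) (u : L.carrier) (hu : L.posStr.IsLine u)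
    (x : L.carrier) (i : ℕ) : LambdaOps.lam i (u * x) = u ^ i * LambdaOps.lam i x := by
  obtain ⟨a, b, ha, hb, rfl⟩ := L.posStr.exists_sub x
  obtain ⟨L'', _, G, hG, s, t, hs, ht, hsa, htb⟩ := DL.exists_double_split Cl hC L hL a b ha hb
  apply hG.injective
  rw [hG.isLambdaHom, map_mul, map_sub, map_mul, map_pow, hG.isLambdaHom, map_sub, ← hsa, ← htb]
  have h := congrArg (PowerSeries.coeff i)
    (lamSeries_line_mul_sub L''.posStr (G u) (isLine_map G hG hu) s t hs ht)
  rw [coeff_lamSeries, PowerSeries.coeff_rescale, coeff_lamSeries] at h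
  exact h

end Cls

section Top
variable {K : Type v} [CommRing K] [LambdaOps K] (P : PosStructure K)

lemma lam_top_adams (hK : HasSplitting K P) (e : K) (he : e ∈ P.pos) (j m : ℕ)
    (hm : (P.aug e).toNat = m) : LambdaOps.lam m (adams P j e) = LambdaOps.lam m e ^ j := by
  obtain ⟨Cl, hKC, hC⟩ := hK
  obtain ⟨L', hL', g, hg, s, hs, hse⟩ := hC ⟨K, P⟩ hKC e he
  have hcard : Multiset.card s = m := by
    have h1 := aug_multiset_sum_lines L'.posStr s hs
    rw [hse, hg.aug_comp] at h1
    have : (P.aug e).toNat = Multiset.card s := by rw [h1]; simp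
    rw [← this, hm]
  apply hg.injective
  rw [hg.isLambdaHom, map_adams g hg, map_pow, hg.isLambdaHom]
  change LambdaOps.lam m (adams L'.posStr j (g e)) = LambdaOps.lam m (g e) ^ j
  have hs' : ∀ u ∈ s.map (fun u => u ^ j), L'.posStr.IsLine u := by
    intro u hu
    rw [Multiset.mem_map] at hu
    obtain ⟨a, ha, rfl⟩ := hu
    exact isLine_pow L'.posStr (hs a ha) j
  rw [← hse, adams_multiset_sum L'.posStr j s hs, lam_lines L'.posStr _ hs', lam_lines L'.posStr s hs]
  have h1 := coeff_card_aPoly (s.map fun u => u ^ j)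
  rw [Multiset.card_map, hcard] at h1
  have h2 := coeff_card_aPoly s
  rw [hcard] at h2
  rw [h1, h2, Multiset.prod_map_pow, Multiset.map_id']

lemma pow_eq_zero_of_aug_eq_zero (N : ℕ) (hN : gammaFiltration P N = ⊥)
    (x : K) (hx : P.aug x = 0) : x ^ N = 0 := by
  have h1 : x ∈ gammaFiltration P 1 := by
    have := GFP.gamma_mem P hx 1
    rwa [GF.gamma_one_left] at this
  have h2 := AF.pow_mem P h1 N
  rw [Nat.mul_one, hN] at h2
  exact (AddSubgroup.mem_bot).mp h2

end Top

end Groth.Agent.Lib.Helper16.ARRL
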