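import Groth.Agent.Lib.Helper16.ARRAbstract
import Groth.Agent.Lib.Helper16.ARRLam3

set_option autoImplicit false
universe v
open Polynomial

namespace Groth.Agent.Lib.Helper16.ARRG

open Groth.Agent.Lib.Helper20 LambdaRing Groth.Agent.Lib.Helper20.LR Groth.Agent.Lib.Helper16.KRRBott
  Groth.Agent.Lib.Helper16.ARRL Groth.Agent.Lib.Helper16.ARR

section AugBott
variable {K : Type v} [CommRing K] [LambdaOps K] (P : PosStructure K)

lemma aug_bott (hK : HasSplitting K P) (e : K) (he : e ∈ P.pos) (j : ℕ) :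
    P.aug (KRR.bott P j e) = (j : ℤ) ^ (P.aug e).toNat := by
  obtain ⟨Cl, hKC, hC⟩ := hK
  obtain ⟨L', hL', g, hg, s, hs, hse⟩ := hC ⟨K, P⟩ hKC e he
  have hcard : (P.aug e).toNat = Multiset.card s := by
    have h1 := aug_multiset_sum_lines L'.posStr s hs
    rw [hse, hg.aug_comp] at h1
    rw [h1]; simp
  have h2 : L'.posStr.aug (g (KRR.bott P j e)) = P.aug (KRR.bott P j e) := hg.aug_comp _
  rw [← h2, map_bott g hg]
  change L'.posStr.aug (KRR.bott L'.posStr j (g e)) = _
  rw [← hse, bott_lines L'.posStr j s hs, map_multiset_prod, Multiset.map_map, hcard]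
  have h3 : ∀ a ∈ s, (L'.posStr.aug ∘ fun u => ∑ k ∈ Finset.range j, u ^ k) a = (j : ℤ) := by
    intro a ha
    simp only [Function.comp_apply, map_sum, map_pow, (hs a ha).2, one_pow, Finset.sum_const,
      Finset.card_range, nsmul_eq_mul, mul_one]
  rw [Multiset.map_congr rfl h3, Multiset.map_const', Multiset.prod_replicate]

lemma bott_eq_bottEval (j : ℕ) (e : K) (m : ℕ) (hm : (P.aug e).toNat = m) :
    KRR.bott P j e = bottEval j m (fun i : Fin m => LambdaOps.lam (i.1 + 1) e) := by
  subst hm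
  rfl

end AugBott

section Gen
variable {K : Type v} [CommRing K] [LambdaOps K] (P : PosStructure K)
  {B : Type v} [CommRing B] [LambdaOps B] [Algebra K B] (Pe : PosStructure B)

/-- the abstract setting of an elementary extension generated by a line element -/
structure Setting (e : K) (r : ℕ) (ℓ linv : B) (f : B →ₗ[K] K) (N : ℕ) : Prop where
  hK : HasSplitting K P
  he : e ∈ P.pos
  hr : P.aug e = r + 1
  hext : IsExtension P Pe (algebraMap K B)
  hlinv : linv * ℓ = 1
  hline : Pe.IsLine ℓ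
  hsplit : HasSplitting B Pe
  hN : gammaFiltration Pe N = ⊥
  hgen : ∀ b : B, ∃ g : K[X], aeval ℓ g = b
  hrel : aeval linv (lamPoly (r + 1) e) = 0
  hf0 : f 1 = 1
  hfn : ∀ n : ℕ, 1 ≤ n → n ≤ r → f (linv ^ n) = 0

variable {P Pe} {e : K} {r : ℕ} {ℓ linv : B} {f : B →ₗ[K] K} {N : ℕ}
variable (S : Setting P Pe e r ℓ linv f N)
include S

lemma Setting.hm : (P.aug e).toNat = r + 1 := by rw [S.hr]; omega

lemma Setting.aug_linv : Pe.aug linv = 1 := by
  have h := congrArg Pe.aug S.hlinv
  rw [map_mul, S.hline.2, mul_one, map_one] at h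
  exact h

lemma Setting.lam_y (i : ℕ) : LambdaOps.lam i (algebraMap K B e * linv) =
    algebraMap K B (LambdaOps.lam i e) * linv ^ i := by
  obtain ⟨Cl, hBC, hC⟩ := S.hsplit
  have h1 := lam_line_mul Cl hC ⟨B, Pe⟩ hBC ℓ S.hline (algebraMap K B e * linv) i
  have h2 : ℓ * (algebraMap K B e * linv) = algebraMap K B e := by
    calc ℓ * (algebraMap K B e * linv) = algebraMap K B e * (linv * ℓ) := by ring
      _ = algebraMap K B e := by rw [S.hlinv, mul_one]
  change LambdaOps.lam i (ℓ * (algebraMap K B e * linv)) =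
    ℓ ^ i * LambdaOps.lam i (algebraMap K B e * linv) at h1
  rw [h2, ← S.hext.isLambdaHom] at h1
  rw [h1]
  calc LambdaOps.lam i (algebraMap K B e * linv)
      = (linv * ℓ) ^ i * LambdaOps.lam i (algebraMap K B e * linv) := by rw [S.hlinv, one_pow, one_mul]
    _ = ℓ ^ i * LambdaOps.lam i (algebraMap K B e * linv) * linv ^ i := by rw [mul_pow]; ring

lemma Setting.aug_y : (Pe.aug (algebraMap K B e * linv)).toNat = r + 1 := by
  rw [map_mul, S.aug_linv, mul_one, S.hext.aug_comp, S.hm]

lemma Setting.theta_eq (j : ℕ) :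
    KRR.bott Pe j (algebraMap K B e * linv) = aeval linv (thetaPoly j (r + 1) e) := by
  rw [bott_eq_bottEval Pe j _ (r + 1) S.aug_y]
  unfold thetaPoly
  have h := map_bottEval ((aeval linv : K[X] →ₐ[K] B) : K[X] →+* B) j (r + 1)
    (fun i : Fin (r + 1) => (C (LambdaOps.lam (i.1 + 1) e) * X ^ (i.1 + 1) : K[X]))
  rw [RingHom.coe_coe] at h
  rw [h]
  congr 1
  funext i
  rw [S.lam_y, map_mul, aeval_C, map_pow, aeval_X]

lemma Setting.aug_theta (j : ℕ) :
    Pe.aug (KRR.bott Pe j (algebraMap K B e * linv)) = (j : ℤ) ^ (r + 1) := by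
  have h1 : Pe.aug.comp ((aeval linv : K[X] →ₐ[K] B) : K[X] →+* B) =
      P.aug.comp (evalRingHom (1 : K)) := by
    apply Polynomial.ringHom_ext
    · intro a
      simp only [RingHom.comp_apply, RingHom.coe_coe, aeval_C, coe_evalRingHom, eval_C]
      exact S.hext.aug_comp a
    · simp only [RingHom.comp_apply, RingHom.coe_coe, aeval_X, coe_evalRingHom, eval_X, map_one]
      exact S.aug_linv
  have h2 := congrArg (fun φ => φ (thetaPoly j (r + 1) e)) h1
  simp only [RingHom.comp_apply, RingHom.coe_coe] at h2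
  rw [S.theta_eq, h2]
  have h3 : evalRingHom (1 : K) (thetaPoly j (r + 1) e) = KRR.bott P j e := by
    rw [bott_eq_bottEval P j e (r + 1) S.hm]
    unfold thetaPoly
    rw [map_bottEval]
    congr 1
    funext i
    simp
  rw [h3, aug_bott P S.hK e S.he, S.hm]

end Gen

end Groth.Agent.Lib.Helper16.ARRG
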