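import Groth.Agent.Lib.Helper16.ARRAbstract
import Mathlib.RingTheory.TensorProduct.Basic
import Mathlib.RingTheory.Localization.Away.Basic

set_option autoImplicit false
universe v
open Polynomial TensorProduct

namespace Groth.Agent.Lib.Helper16.ARRT

section Tens
variable {K B : Type v} [CommRing K] [CommRing B] [Algebra K B] (R : Type) [CommRing R]

/-- `R ⊗ K → R ⊗ B` -/
noncomputable def iota : (R ⊗[ℤ] K) →+* (R ⊗[ℤ] B) :=
  (Algebra.TensorProduct.map (AlgHom.id ℤ R) (algebraMap K B).toIntAlgHom).toRingHom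

lemma iota_tmul (a : R) (k : K) : iota (B := B) R (a ⊗ₜ[ℤ] k) = a ⊗ₜ[ℤ] (algebraMap K B k) := by
  unfold iota
  simp

/-- `k ↦ 1 ⊗ k` -/
noncomputable def inc (M : Type v) [CommRing M] : M →+* R ⊗[ℤ] M :=
  (Algebra.TensorProduct.includeRight (R := ℤ) (A := R) (B := M)).toRingHom

lemma inc_apply (M : Type v) [CommRing M] (x : M) : inc R M x = (1 : R) ⊗ₜ[ℤ] x := rfl

/-- the algebra structure of `R ⊗ B` over `R ⊗ K` -/
noncomputable abbrev algAE : Algebra (R ⊗[ℤ] K) (R ⊗[ℤ] B) := (iota R).toAlgebra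

attribute [local instance] algAE

lemma algebraMap_AE (a : R ⊗[ℤ] K) : algebraMap (R ⊗[ℤ] K) (R ⊗[ℤ] B) a = iota R a := rfl

lemma algebraMap_inc (k : K) :
    algebraMap (R ⊗[ℤ] K) (R ⊗[ℤ] B) (inc R K k) = inc R B (algebraMap K B k) := by
  rw [algebraMap_AE, inc_apply, iota_tmul, inc_apply]

lemma aeval_inc (y : B) (q : K[X]) :
    aeval (inc R B y) (q.map (inc R K)) = inc R B (aeval y q) := by
  rw [aeval_def, eval₂_map, aeval_def, hom_eval₂]
  congr 1

/-- `R ⊗ f` as a linear map over `R ⊗ K` -/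
noncomputable def FA (f : B →ₗ[K] K) : (R ⊗[ℤ] B) →ₗ[R ⊗[ℤ] K] (R ⊗[ℤ] K) :=
  { toFun := LinearMap.lTensor R f.toAddMonoidHom.toIntLinearMap
    map_add' := map_add _
    map_smul' := by
      intro a x
      rw [Algebra.smul_def, algebraMap_AE, RingHom.id_apply, smul_eq_mul]
      induction a using TensorProduct.induction_on with
      | zero => simp
      | add a₁ a₂ h₁ h₂ => rw [map_add, add_mul, map_add, h₁, h₂, add_mul]
      | tmul s k =>
        induction x using TensorProduct.induction_on with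
        | zero => simp
        | add x₁ x₂ h₁ h₂ => rw [mul_add, map_add, h₁, h₂, map_add, mul_add]
        | tmul s' b =>
          rw [iota_tmul, Algebra.TensorProduct.tmul_mul_tmul, LinearMap.lTensor_tmul,
            LinearMap.lTensor_tmul, Algebra.TensorProduct.tmul_mul_tmul]
          congr 1
          change f (algebraMap K B k * b) = k * f b
          rw [← Algebra.smul_def, map_smul, smul_eq_mul] }

lemma FA_apply (f : B →ₗ[K] K) (x : R ⊗[ℤ] B) :
    FA R f x = LinearMap.lTensor R f.toAddMonoidHom.toIntLinearMap x := rfl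

lemma FA_inc (f : B →ₗ[K] K) (b : B) : FA R f (inc R B b) = inc R K (f b) := by
  rw [FA_apply, inc_apply, LinearMap.lTensor_tmul, inc_apply]
  rfl

end Tens

end Groth.Agent.Lib.Helper16.ARRT
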