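import Groth.Agent.Lib.Helper16.ARRGen1
import Groth.Agent.Lib.Helper16.ARRTens

set_option autoImplicit false
universe v
open Polynomial TensorProduct

namespace Groth.Agent.Lib.Helper16.ARRG

open Groth.Agent.Lib.Helper20 LambdaRing Groth.Agent.Lib.Helper20.LR Groth.Agent.Lib.Helper16.KRRBott
  Groth.Agent.Lib.Helper16.ARRL Groth.Agent.Lib.Helper16.ARR Groth.Agent.Lib.Helper16.ARRT

lemma lamPoly_coeff_zero {K : Type v} [CommRing K] [LambdaOps K] (r : ℕ) (x : K) :
    (lamPoly (r + 1) x).coeff 0 = 1 := by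
  rw [coeff_lamPoly (r + 1) x 0 (Nat.zero_le _), pow_zero, one_mul, LambdaOps.lam_zero]

section Gen2
variable {K : Type v} [CommRing K] [LambdaOps K] {P : PosStructure K}
  {B : Type v} [CommRing B] [LambdaOps B] [Algebra K B] {Pe : PosStructure B}
variable {e : K} {r : ℕ} {ℓ linv : B} {f : B →ₗ[K] K} {N : ℕ}
variable (S : Setting P Pe e r ℓ linv f N)
include S

lemma Setting.unit1 : ∃ u : Kˣ, (lamPoly (r + 1) e).coeff (r + 1) = u := by
  have h := P.isUnit_lam e S.he
  rw [S.hm] at h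
  have h2 : IsUnit ((-1 : K) ^ (r + 1) * LambdaOps.lam (r + 1) e) := (isUnit_one.neg.pow _).mul h
  refine ⟨h2.unit, ?_⟩
  rw [coeff_lamPoly (r + 1) e (r + 1) le_rfl]
  rfl

lemma Setting.unitj (j : ℕ) : ∃ u : Kˣ, (lamPoly (r + 1) (adams P j e)).coeff (r + 1) = u := by
  have h := P.isUnit_lam e S.he
  rw [S.hm] at h
  have h2 : IsUnit ((-1 : K) ^ (r + 1) * LambdaOps.lam (r + 1) (adams P j e)) := by
    rw [lam_top_adams P S.hK e S.he j (r + 1) S.hm]
    exact (isUnit_one.neg.pow _).mul (h.pow j)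
  refine ⟨h2.unit, ?_⟩
  rw [coeff_lamPoly (r + 1) _ (r + 1) le_rfl]
  rfl

lemma Setting.ell_eq : ℓ = aeval linv (-(divX (lamPoly (r + 1) e))) := by
  have h1 := S.hrel
  rw [← divX_mul_X_add (lamPoly (r + 1) e), lamPoly_coeff_zero, map_add, map_mul, aeval_X, map_one,
    map_one] at h1
  rw [map_neg]
  linear_combination ℓ * h1 - aeval linv (divX (lamPoly (r + 1) e)) * S.hlinv

lemma Setting.gen_linv (b : B) : ∃ ρ : K[X], ρ.natDegree ≤ r ∧ aeval linv ρ = b := by
  obtain ⟨g, rfl⟩ := S.hgen b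
  obtain ⟨u, hu⟩ := S.unit1
  obtain ⟨q, ρ, hg, hρ⟩ := exists_div_rem (lamPoly (r + 1) e) u r (natDegree_lamPoly_le _ _) hu
    (g.comp (-(divX (lamPoly (r + 1) e))))
  refine ⟨ρ, hρ, ?_⟩
  have h1 : aeval ℓ g = aeval linv (g.comp (-(divX (lamPoly (r + 1) e)))) := by
    rw [aeval_comp, ← S.ell_eq]
  rw [h1, hg, map_add, map_mul, S.hrel, zero_mul, zero_add]

lemma Setting.adams_term (j : ℕ) (a : K) (n : ℕ) :
    adams Pe j (algebraMap K B a * linv ^ n) = algebraMap K B (adams P j a) * linv ^ (j * n) := by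
  obtain ⟨Cl, hBC, hC⟩ := S.hsplit
  have hmul : ∀ x y : B, adams Pe j (x * y) = adams Pe j x * adams Pe j y :=
    fun x y => adams_mul Cl hC ⟨B, Pe⟩ hBC j x y
  have hone : adams Pe j (1 : B) = 1 := by
    rw [adams_line Pe (isLine_one Pe), one_pow]
  have hl : adams Pe j linv = linv ^ j := by
    have h := hmul linv ℓ
    rw [S.hlinv, hone, adams_line Pe S.hline] at h
    calc adams Pe j linv = adams Pe j linv * ℓ ^ j * linv ^ j := by
          rw [mul_assoc, ← mul_pow, mul_comm ℓ linv, S.hlinv, one_pow, mul_one]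
      _ = linv ^ j := by rw [← h, one_mul]
  have hpow : ∀ n : ℕ, adams Pe j (linv ^ n) = linv ^ (j * n) := by
    intro n
    induction n with
    | zero => rw [pow_zero, hone, Nat.mul_zero, pow_zero]
    | succ n ih => rw [pow_succ, hmul, ih, hl, Nat.mul_succ, pow_add]
  rw [hmul, hpow, ← map_adams (algebraMap K B) S.hext]

end Gen2

end Groth.Agent.Lib.Helper16.ARRG
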