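import Groth.Agent.Lib.Helper16.ARRGen2

set_option autoImplicit false
universe v
open Polynomial TensorProduct

namespace Groth.Agent.Lib.Helper16.ARRG

open Groth.Agent.Lib.Helper20 LambdaRing Groth.Agent.Lib.Helper20.LR Groth.Agent.Lib.Helper16.KRRBott
  Groth.Agent.Lib.Helper16.ARRL Groth.Agent.Lib.Helper16.ARR Groth.Agent.Lib.Helper16.ARRT

attribute [local instance] algAE

section Gen3
variable {K : Type v} [CommRing K] [LambdaOps K] {P : PosStructure K}
  {B : Type v} [CommRing B] [LambdaOps B] [Algebra K B] {Pe : PosStructure B}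
variable {e : K} {r : ℕ} {ℓ linv : B} {f : B →ₗ[K] K} {N : ℕ}
variable (S : Setting P Pe e r ℓ linv f N)
include S

lemma Setting.span_E (R : Type) [CommRing R] (x : R ⊗[ℤ] B) :
    ∃ g : (R ⊗[ℤ] K)[X], aeval (inc R B linv) g = x := by
  induction x using TensorProduct.induction_on with
  | zero => exact ⟨0, by simp⟩
  | add x₁ x₂ h₁ h₂ =>
    obtain ⟨g₁, rfl⟩ := h₁
    obtain ⟨g₂, rfl⟩ := h₂
    exact ⟨g₁ + g₂, by rw [map_add]⟩
  | tmul s b =>
    obtain ⟨ρ, _, rfl⟩ := S.gen_linv b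
    refine ⟨C (s ⊗ₜ[ℤ] (1 : K)) * ρ.map (inc R K), ?_⟩
    rw [map_mul, aeval_C, aeval_inc, algebraMap_AE, iota_tmul, inc_apply, map_one,
      Algebra.TensorProduct.tmul_mul_tmul, mul_one, one_mul]

lemma Setting.hyp (j : ℕ) (hj : 1 ≤ j) (R : Type) [CommRing R] (hjR : IsUnit ((j : ℕ) : R))
    (u1 uj : Kˣ) (hu1 : (lamPoly (r + 1) e).coeff (r + 1) = u1)
    (huj : (lamPoly (r + 1) (adams P j e)).coeff (r + 1) = uj) :
    Hyp (inc R B linv) (inc R B ℓ) (FA R f) r ((lamPoly (r + 1) e).map (inc R K))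
      ((lamPoly (r + 1) (adams P j e)).map (inc R K)) ((thetaPoly j (r + 1) e).map (inc R K))
      (Units.map (inc R K : K →* R ⊗[ℤ] K) u1) (Units.map (inc R K : K →* R ⊗[ℤ] K) uj) j where
  hL := by rw [← map_mul, mul_comm, S.hlinv, map_one]
  hF := by
    intro n hn
    rw [← map_pow, FA_inc]
    by_cases h0 : n = 0
    · rw [if_pos h0, h0, pow_zero, S.hf0, map_one]
    · rw [if_neg h0, S.hfn n (Nat.one_le_iff_ne_zero.mpr h0) hn, map_zero]
  hd1 := natDegree_map_le.trans (natDegree_lamPoly_le _ _)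
  hu1 := by rw [coeff_map, hu1]; rfl
  hc1 := by rw [coeff_map, lamPoly_coeff_zero, map_one]
  hdj := natDegree_map_le.trans (natDegree_lamPoly_le _ _)
  huj := by rw [coeff_map, huj]; rfl
  hcj := by rw [coeff_map, lamPoly_coeff_zero, map_one]
  hfac := by
    rw [← Polynomial.map_mul, lamPoly_mul_thetaPoly P S.hK e S.he j (r + 1) S.hm, map_expand]
  hroot := by rw [aeval_inc, S.hrel, map_zero]
  hspan := S.span_E R
  hj := hj
  hju := by
    have := hjR.map (Algebra.TensorProduct.includeLeft : R →ₐ[ℤ] R ⊗[ℤ] K)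
    rwa [map_natCast] at this
  hnil := by
    refine ⟨N, ?_⟩
    have h1 : (1 - linv) ^ N = 0 :=
      pow_eq_zero_of_aug_eq_zero Pe N S.hN (1 - linv) (by rw [map_sub, map_one, S.aug_linv, sub_self])
    rw [← map_one (inc R B), ← map_sub, ← map_pow, h1, map_zero]

end Gen3

end Groth.Agent.Lib.Helper16.ARRG
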