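import Groth.Agent.Lib.Helper16.ARRGen3

set_option autoImplicit false
universe v
open Polynomial TensorProduct

namespace Groth.Agent.Lib.Helper16.ARRG

open Groth.Agent.Lib.Helper20 LambdaRing Groth.Agent.Lib.Helper20.LR Groth.Agent.Lib.Helper16.KRRBott
  Groth.Agent.Lib.Helper16.ARRL Groth.Agent.Lib.Helper16.ARR Groth.Agent.Lib.Helper16.ARRT

attribute [local instance] algAE

section Gen4
variable {K : Type v} [CommRing K] [LambdaOps K] {P : PosStructure K}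
  {B : Type v} [CommRing B] [LambdaOps B] [Algebra K B] {Pe : PosStructure B}
variable {e : K} {r : ℕ} {ℓ linv : B} {f : B →ₗ[K] K} {N : ℕ}
variable (S : Setting P Pe e r ℓ linv f N)
include S

lemma Setting.isUnit_theta (j : ℕ) (R : Type) [CommRing R] (hjR : IsUnit ((j : ℕ) : R)) :
    IsUnit ((1 : R) ⊗ₜ[ℤ] KRR.bott Pe j (algebraMap K B e * linv)) := by
  set θ := KRR.bott Pe j (algebraMap K B e * linv) with hθ
  have h1 : (θ - (j : B) ^ (r + 1)) ^ N = 0 :=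
    pow_eq_zero_of_aug_eq_zero Pe N S.hN _ (by
      rw [map_sub, S.aug_theta, map_pow, map_natCast, sub_self])
  have hjE : IsUnit ((j : ℕ) : R ⊗[ℤ] B) := by
    have := hjR.map (Algebra.TensorProduct.includeLeft : R →ₐ[ℤ] R ⊗[ℤ] B)
    rwa [map_natCast] at this
  have h2 : (1 : R) ⊗ₜ[ℤ] θ = ((j : ℕ) : R ⊗[ℤ] B) ^ (r + 1) + inc R B (θ - (j : B) ^ (r + 1)) := by
    rw [map_sub, map_pow, map_natCast, inc_apply]; ring
  rw [h2]
  apply IsNilpotent.isUnit_add_left_of_commute ⟨N, by rw [← map_pow, h1, map_zero]⟩ (hjE.pow _)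
    (Commute.all _ _)

theorem Setting.main (j : ℕ) (hj : 1 ≤ j) (R : Type) [CommRing R] (hjR : IsUnit ((j : ℕ) : R)) :
    (∃ w : R ⊗[ℤ] B, w * ((1 : R) ⊗ₜ[ℤ] KRR.bott Pe j (algebraMap K B e * linv)) = 1) ∧
    ∀ w : R ⊗[ℤ] B, w * ((1 : R) ⊗ₜ[ℤ] KRR.bott Pe j (algebraMap K B e * linv)) = 1 →
      ∀ x : B, (1 : R) ⊗ₜ[ℤ] adams P j (f x) =
        LinearMap.lTensor R f.toAddMonoidHom.toIntLinearMap
          (((j : ℕ) : R ⊗[ℤ] B) * w * ((1 : R) ⊗ₜ[ℤ] adams Pe j x)) := by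
  constructor
  · obtain ⟨u, hu⟩ := S.isUnit_theta j R hjR
    exact ⟨↑u⁻¹, by rw [← hu]; exact Units.inv_mul u⟩
  intro w hw x
  obtain ⟨u1, hu1⟩ := S.unit1
  obtain ⟨uj, huj⟩ := S.unitj j
  have H := S.hyp j hj R hjR u1 uj hu1 huj
  have hwΘ : w * aeval (inc R B linv) ((thetaPoly j (r + 1) e).map (inc R K)) = 1 := by
    rw [aeval_inc, ← S.theta_eq, inc_apply]; exact hw
  have key := H.main w hwΘ
  obtain ⟨ρ, hρ, rfl⟩ := S.gen_linv x
  rw [aeval_eq_sum_range' (Nat.lt_succ_of_le hρ)]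
  refine Finset.sum_induction (fun n => ρ.coeff n • linv ^ n)
    (fun x => (1 : R) ⊗ₜ[ℤ] adams P j (f x) =
        LinearMap.lTensor R f.toAddMonoidHom.toIntLinearMap
          (((j : ℕ) : R ⊗[ℤ] B) * w * ((1 : R) ⊗ₜ[ℤ] adams Pe j x))) ?_ ?_ ?_
  · intro a b ha hb
    rw [map_add, adams_add, tmul_add, ha, hb, adams_add, tmul_add, mul_add, map_add]
  · rw [map_zero, adams_zero, adams_zero, tmul_zero, tmul_zero, mul_zero, map_zero]
  · intro n hn
    have hn' : n ≤ r := Nat.lt_succ_iff.mp (Finset.mem_range.mp hn)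
    rw [map_smul, smul_eq_mul, Algebra.smul_def, S.adams_term]
    have h1 : ((j : ℕ) : R ⊗[ℤ] B) * w * ((1 : R) ⊗ₜ[ℤ] (algebraMap K B (adams P j (ρ.coeff n)) * linv ^ (j * n))) =
        (inc R K (adams P j (ρ.coeff n))) • (((j : ℕ) : R ⊗[ℤ] B) * w * inc R B linv ^ (j * n)) := by
      rw [Algebra.smul_def, algebraMap_inc, ← inc_apply, map_mul, map_pow]; ring
    rw [h1, ← FA_apply, map_smul, key n hn', smul_eq_mul]
    by_cases h0 : n = 0
    · rw [if_pos h0, h0, pow_zero, S.hf0, mul_one, mul_one, inc_apply]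
    · rw [if_neg h0, S.hfn n (Nat.one_le_iff_ne_zero.mpr h0) hn', mul_zero, mul_zero, adams_zero,
        tmul_zero]

end Gen4

end Groth.Agent.Lib.Helper16.ARRG
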