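import Groth.Prelude.Def_KRR
import Groth.Agent.Lib.Helper20.LambdaInv
import Groth.Agent.Lib.Helper20.SymCore
import Mathlib.Tactic

/-!
# `λ_{-1}` and Bott classes on sums of line elements (helper16)

`lamAlt_lines`: `λ_{-1}(Σ u) = Π (1 - u)`; `lam_lines_esymm`: `λ^k(Σ u) = e_k(u)`;
`bott_lines`: `θ^j(Σ u) = Π (1 + u + ⋯ + u^{j-1})`; `map_bott`, `map_lamAlt`: compatibility with
extensions; `adams_multiset_prod`: `ψ^j` of a product in a class with splitting.
-/

set_option autoImplicit false
universe u v
open LambdaRing Finset Groth.Agent.Lib.Helper20.LR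

namespace Groth.Agent.Lib.Helper16.KRRBott

section L1
variable {K : Type v} [CommRing K] [LambdaOps K] (P : PosStructure K)

omit [LambdaOps K] in
theorem eval_aPoly (s : Multiset K) (x : K) :
    Polynomial.eval x (aPoly s) = (s.map fun v => 1 + v * x).prod := by
  unfold aPoly
  rw [Polynomial.eval_multiset_prod, Multiset.map_map]
  congr 1
  apply Multiset.map_congr rfl
  intro v _
  simp

theorem lamAlt_lines (s : Multiset K) (hs : ∀ u ∈ s, P.IsLine u) :
    KRR.lamAlt P s.sum = (s.map fun v => 1 - v).prod := by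
  have h1 : (P.aug s.sum).toNat = Multiset.card s := by
    rw [aug_multiset_sum_lines P s hs]; simp
  unfold KRR.lamAlt
  rw [h1]
  have h2 := Polynomial.eval_eq_sum_range' (p := aPoly s) (n := Multiset.card s + 1)
    (Nat.lt_succ_of_le (aPoly_spec s).1) (-1 : K)
  rw [eval_aPoly] at h2
  have h3 : (s.map fun v => 1 + v * (-1 : K)).prod = (s.map fun v => 1 - v).prod := by
    congr 1
    apply Multiset.map_congr rfl
    intro v _
    ring
  rw [← h3, h2]
  apply Finset.sum_congr rfl
  intro i _
  rw [lam_lines P s hs, mul_comm]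

end L1

section L3
open MvPolynomial

theorem aeval_esymm_bottPoly (j m : ℕ) :
    MvPolynomial.aeval (fun i : Fin m => MvPolynomial.esymm (Fin m) ℤ (i + 1)) (KRR.bottPoly j m) =
      KRR.bottSym j m := by
  have h := congrArg Subtype.val ((MvPolynomial.esymmAlgEquiv (Fin m) ℤ (Fintype.card_fin m)).apply_symm_apply
    ⟨KRR.bottSym j m, KRR.bottSym_isSymmetric j m⟩)
  rw [MvPolynomial.esymmAlgEquiv_apply, MvPolynomial.esymmAlgHom_apply] at h
  exact h

theorem aeval_bottPoly_list {R : Type v} [CommRing R] (j : ℕ) (l : List R) :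
    MvPolynomial.aeval (fun i : Fin l.length => (l : Multiset R).esymm (i.1 + 1)) (KRR.bottPoly j l.length) =
      ((l : Multiset R).map fun u => ∑ k ∈ Finset.range j, u ^ k).prod := by
  have hv : (Finset.univ.val.map fun i : Fin l.length => l.get i) = (l : Multiset R) := by
    rw [Fin.univ_val_map, List.ofFn_get]
  have h1 : (fun i : Fin l.length => (l : Multiset R).esymm (i.1 + 1)) =
      fun i : Fin l.length => MvPolynomial.aeval (fun i : Fin l.length => l.get i)
        (MvPolynomial.esymm (Fin l.length) ℤ (i.1 + 1)) := by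
    funext i
    rw [MvPolynomial.aeval_esymm_eq_multiset_esymm, hv]
  rw [h1]
  have h2 : MvPolynomial.aeval (fun i : Fin l.length => MvPolynomial.aeval (fun i : Fin l.length => l.get i)
        (MvPolynomial.esymm (Fin l.length) ℤ (i.1 + 1))) (KRR.bottPoly j l.length) =
      MvPolynomial.aeval (fun i : Fin l.length => l.get i)
        (MvPolynomial.aeval (fun i : Fin l.length => MvPolynomial.esymm (Fin l.length) ℤ (i + 1))
          (KRR.bottPoly j l.length)) := by
    exact (MvPolynomial.aeval_bind₁ (fun i : Fin l.length => l.get i)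
      (fun i : Fin l.length => MvPolynomial.esymm (Fin l.length) ℤ (i + 1)) (KRR.bottPoly j l.length)).symm
  rw [h2, aeval_esymm_bottPoly]
  unfold KRR.bottSym
  rw [map_prod, ← hv, Multiset.map_map]
  simp only [map_sum, map_pow, MvPolynomial.aeval_X]
  rfl

end L3

section L4
variable {K : Type v} [CommRing K] [LambdaOps K] (P : PosStructure K)

theorem lam_lines_esymm (s : Multiset K) (hs : ∀ u ∈ s, P.IsLine u) (k : ℕ) :
    LambdaOps.lam k s.sum = s.esymm k := by
  rw [lam_lines P s hs]
  exact Groth.Agent.Lib.Helper20.Sym.coeff_gp s k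

theorem bott_lines (j : ℕ) (s : Multiset K) (hs : ∀ u ∈ s, P.IsLine u) :
    KRR.bott P j s.sum = (s.map fun u => ∑ k ∈ Finset.range j, u ^ k).prod := by
  obtain ⟨l, hl⟩ : ∃ l : List K, (l : Multiset K) = s := ⟨s.toList, Multiset.coe_toList s⟩
  subst hl
  have h1 : (P.aug (Multiset.sum (l : Multiset K))).toNat = l.length := by
    rw [aug_multiset_sum_lines P _ hs]; simp
  unfold KRR.bott
  have key : ∀ (m : ℕ) (hm : m = l.length),
      MvPolynomial.aeval (fun i : Fin m => LambdaOps.lam (i.1 + 1) (Multiset.sum (l : Multiset K)))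
        (KRR.bottPoly j m) =
      ((l : Multiset K).map fun u => ∑ k ∈ Finset.range j, u ^ k).prod := by
    intro m hm
    subst hm
    rw [← aeval_bottPoly_list j l]
    congr 2
    funext i
    exact lam_lines_esymm P _ hs _
  exact key _ h1

end L4

section L5
variable {K K' : Type v} [CommRing K] [LambdaOps K] [CommRing K'] [LambdaOps K']

theorem map_bott {P : PosStructure K} {P' : PosStructure K'} (f : K →+* K')
    (hf : IsExtension P P' f) (j : ℕ) (x : K) : f (KRR.bott P j x) = KRR.bott P' j (f x) := by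
  unfold KRR.bott
  have h1 : (P'.aug (f x)).toNat = (P.aug x).toNat := by rw [hf.aug_comp]
  have key : ∀ (m : ℕ) (hm : m = (P.aug x).toNat),
      MvPolynomial.aeval (fun i : Fin m => LambdaOps.lam (i.1 + 1) (f x)) (KRR.bottPoly j m) =
      f (MvPolynomial.aeval (fun i : Fin (P.aug x).toNat => LambdaOps.lam (i.1 + 1) x)
        (KRR.bottPoly j (P.aug x).toNat)) := by
    intro m hm
    subst hm
    have := MvPolynomial.comp_aeval_apply (R := ℤ) (f := fun i : Fin (P.aug x).toNat => LambdaOps.lam (i.1 + 1) x)
      f.toIntAlgHom (KRR.bottPoly j (P.aug x).toNat)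
    rw [RingHom.toIntAlgHom_apply] at this
    rw [this]
    congr 2
    funext i
    exact (hf.isLambdaHom _ _).symm
  exact (key _ h1).symm

theorem map_lamAlt {P : PosStructure K} {P' : PosStructure K'} (f : K →+* K')
    (hf : IsExtension P P' f) (x : K) : f (KRR.lamAlt P x) = KRR.lamAlt P' (f x) := by
  unfold KRR.lamAlt
  rw [hf.aug_comp, map_sum]
  apply Finset.sum_congr rfl
  intro i _
  rw [map_mul, map_pow, map_neg, map_one, hf.isLambdaHom]

end L5

section L2
variable (C : Set PosLambdaRing.{v})
  (hC : ∀ L ∈ C, ∀ e ∈ L.posStr.pos, ∃ L' ∈ C, ∃ f : L.carrier →+* L'.carrier,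
      IsExtension L.posStr L'.posStr f ∧
      ∃ s : Multiset L'.carrier, (∀ u ∈ s, L'.posStr.IsLine u) ∧ s.sum = f e)
include hC

theorem adams_multiset_prod (L : PosLambdaRing.{v}) (hL : L ∈ C) (j : ℕ) (t : Multiset L.carrier) :
    adams L.posStr j t.prod = (t.map (adams L.posStr j)).prod := by
  induction t using Multiset.induction_on with
  | empty =>
    rw [Multiset.prod_zero, Multiset.map_zero, Multiset.prod_zero,
      adams_line L.posStr (isLine_one L.posStr), one_pow]
  | cons a t ih =>
    rw [Multiset.prod_cons, Multiset.map_cons, Multiset.prod_cons, adams_mul C hC L hL, ih]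

end L2


end Groth.Agent.Lib.Helper16.KRRBott
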