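import Groth.Prelude.Def_KRR
import Groth.Agent.Lib.Helper20.LambdaInv
import Groth.Agent.Lib.Helper20.SymCore
import Groth.Agent.Lib.Helper16.KRRBott
import Mathlib.RingTheory.Polynomial.Vieta
import Mathlib.Algebra.Polynomial.Expand
import Mathlib.Tactic

set_option autoImplicit false
universe u v
open Polynomial

namespace Groth.Agent.Lib.Helper16.ARRL

open Groth.Agent.Lib.Helper20

section Poly
variable {R : Type v} [CommRing R]

/-- `Π (1 - a X)` -/
noncomputable def Qp (s : Multiset R) : R[X] := (s.map fun a => (1 - C a * X : R[X])).prod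

lemma Qp_eq_gp (s : Multiset R) : Qp s = Sym.gp (s.map Neg.neg) := by
  unfold Qp Sym.gp
  rw [Multiset.map_map]
  congr 1
  apply Multiset.map_congr rfl
  intro a _
  simp only [Function.comp_apply, map_neg]
  ring

lemma coeff_Qp (s : Multiset R) (k : ℕ) : (Qp s).coeff k = (-1) ^ k * s.esymm k := by
  rw [Qp_eq_gp, Sym.coeff_gp, Multiset.esymm_neg]

lemma natDegree_Qp_le (s : Multiset R) : (Qp s).natDegree ≤ Multiset.card s := by
  unfold Qp
  refine (natDegree_multiset_prod_le _).trans ?_
  rw [Multiset.map_map]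
  have h : ∀ a ∈ s, ((natDegree ∘ fun a => (1 - C a * X : R[X])) a) ≤ 1 := by
    intro a _
    simp only [Function.comp_apply]
    refine (natDegree_sub_le _ _).trans (max_le (by simp) ?_)
    exact (natDegree_C_mul_le _ _).trans natDegree_X_le
  calc (s.map (natDegree ∘ fun a => (1 - C a * X : R[X]))).sum
      ≤ (s.map fun _ => 1).sum := Multiset.sum_map_le_sum_map _ _ h
    _ = Multiset.card s := by simp

lemma Qp_eq_sum (s : Multiset R) (m : ℕ) (hm : Multiset.card s = m) :
    Qp s = ∑ k ∈ Finset.range (m + 1), C ((-1) ^ k * s.esymm k) * X ^ k := by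
  have h := as_sum_range_C_mul_X_pow' (p := Qp s) (n := m + 1)
    (Nat.lt_succ_of_le (hm ▸ natDegree_Qp_le s))
  rw [h]
  apply Finset.sum_congr rfl
  intro k _
  rw [coeff_Qp]

lemma esymm_map_CX (s : Multiset R) (k : ℕ) :
    (s.map fun a => (C a * X : R[X])).esymm k = C (s.esymm k) * X ^ k := by
  unfold Multiset.esymm
  rw [Multiset.powersetCard_map, Multiset.map_map, map_multiset_sum, Multiset.map_map,
    ← Multiset.sum_map_mul_right]
  congr 1
  apply Multiset.map_congr rfl
  intro t ht
  rw [Multiset.mem_powersetCard] at ht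
  simp only [Function.comp_apply]
  rw [Multiset.prod_map_mul, Multiset.map_const', Multiset.prod_replicate, ht.2,
    map_multiset_prod]

lemma Qp_factor (s : Multiset R) (j : ℕ) :
    Qp s * (s.map fun a => ∑ k ∈ Finset.range j, (C a * X : R[X]) ^ k).prod =
      expand R j (Qp (s.map fun a => a ^ j)) := by
  unfold Qp
  rw [← Multiset.prod_map_mul, map_multiset_prod, Multiset.map_map, Multiset.map_map]
  congr 1
  apply Multiset.map_congr rfl
  intro a _
  simp only [Function.comp_apply]
  rw [mul_neg_geom_sum, map_sub, map_one, map_mul, expand_C, expand_X, mul_pow, ← C_pow]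

end Poly

end Groth.Agent.Lib.Helper16.ARRL
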