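import Groth.Prelude.Def_KRR
import Groth.Agent.Lib.Helper20.LambdaInv
import Groth.Agent.Lib.Helper20.SymCore
import Groth.Agent.Lib.Helper16.KRRBott
import Groth.Agent.Lib.Helper16.ARRLam1
import Mathlib.RingTheory.Polynomial.Vieta
import Mathlib.Algebra.Polynomial.Expand
import Mathlib.Tactic

set_option autoImplicit false
universe u v
open Polynomial

namespace Groth.Agent.Lib.Helper16.ARRL

open Groth.Agent.Lib.Helper20 LambdaRing Groth.Agent.Lib.Helper20.LR Groth.Agent.Lib.Helper16.KRRBott

section Lam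
variable {K : Type v} [CommRing K] [LambdaOps K]

/-- `Σ_{k ≤ m} (-1)^k λ^k(e) X^k` -/
noncomputable def lamPoly (m : ℕ) (e : K) : K[X] :=
  ∑ k ∈ Finset.range (m + 1), C ((-1) ^ k * LambdaOps.lam k e) * X ^ k

/-- evaluation of the Bott polynomial in a commutative ring -/
noncomputable def bottEval {R : Type v} [CommRing R] (j m : ℕ) (w : Fin m → R) : R :=
  MvPolynomial.aeval w (KRR.bottPoly j m)

lemma map_bottEval {R S : Type v} [CommRing R] [CommRing S] (φ : R →+* S) (j m : ℕ) (w : Fin m → R) :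
    φ (bottEval j m w) = bottEval j m (fun i => φ (w i)) := by
  unfold bottEval
  have := MvPolynomial.comp_aeval_apply (R := ℤ) (f := w) φ.toIntAlgHom (KRR.bottPoly j m)
  rw [RingHom.toIntAlgHom_apply] at this
  rw [this]
  rfl

/-- the polynomial `Θ` -/
noncomputable def thetaPoly (j m : ℕ) (e : K) : K[X] :=
  bottEval j m (fun i : Fin m => (C (LambdaOps.lam (i.1 + 1) e) * X ^ (i.1 + 1) : K[X]))

lemma natDegree_lamPoly_le (m : ℕ) (e : K) : (lamPoly m e).natDegree ≤ m := by
  unfold lamPoly
  apply natDegree_sum_le_of_forall_le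
  intro k hk
  exact (natDegree_C_mul_X_pow_le _ _).trans (Nat.lt_succ_iff.mp (Finset.mem_range.mp hk))

lemma coeff_lamPoly (m : ℕ) (e : K) (k : ℕ) (hk : k ≤ m) :
    (lamPoly m e).coeff k = (-1) ^ k * LambdaOps.lam k e := by
  unfold lamPoly
  rw [finsetSum_coeff, Finset.sum_eq_single k]
  · rw [coeff_C_mul, coeff_X_pow, if_pos rfl, mul_one]
  · intro b _ hb
    rw [coeff_C_mul, coeff_X_pow, if_neg (fun h => hb h.symm), mul_zero]
  · intro h; exact absurd (Finset.mem_range.mpr (Nat.lt_succ_of_le hk)) h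

lemma lamPoly_lines (P : PosStructure K) (s : Multiset K) (hs : ∀ u ∈ s, P.IsLine u) (m : ℕ)
    (hm : Multiset.card s = m) : lamPoly m s.sum = Qp s := by
  rw [Qp_eq_sum s m hm]
  unfold lamPoly
  apply Finset.sum_congr rfl
  intro k _
  rw [lam_lines_esymm P s hs]

variable {K' : Type v} [CommRing K'] [LambdaOps K']

lemma map_lamPoly (g : K →+* K') (hg : IsLambdaHom g) (m : ℕ) (e : K) :
    (lamPoly m e).map g = lamPoly m (g e) := by
  unfold lamPoly
  rw [Polynomial.map_sum]
  apply Finset.sum_congr rfl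
  intro k _
  rw [Polynomial.map_mul, Polynomial.map_pow, map_X, map_C, map_mul, map_pow, map_neg, map_one, hg]

lemma map_thetaPoly (g : K →+* K') (hg : IsLambdaHom g) (j m : ℕ) (e : K) :
    (thetaPoly j m e).map g = thetaPoly j m (g e) := by
  unfold thetaPoly
  rw [← coe_mapRingHom, map_bottEval]
  congr 1
  funext i
  rw [coe_mapRingHom, Polynomial.map_mul, Polynomial.map_pow, map_X, map_C, hg]

lemma aeval_bottPoly_of_esymm {R : Type v} [CommRing R] (j : ℕ) (l : List R) (m : ℕ)
    (hm : l.length = m) (w : Fin m → R) (hw : ∀ i : Fin m, w i = (l : Multiset R).esymm (i.1 + 1)) :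
    bottEval j m w =
      ((l : Multiset R).map fun u => ∑ k ∈ Finset.range j, u ^ k).prod := by
  unfold bottEval
  subst hm
  have : w = fun i : Fin l.length => (l : Multiset R).esymm (i.1 + 1) := funext hw
  subst this
  exact aeval_bottPoly_list j l

lemma thetaPoly_lines (P : PosStructure K) (j : ℕ) (s : Multiset K) (hs : ∀ u ∈ s, P.IsLine u) (m : ℕ)
    (hm : Multiset.card s = m) :
    thetaPoly j m s.sum = (s.map fun a => ∑ k ∈ Finset.range j, (C a * X : K[X]) ^ k).prod := by
  obtain ⟨l, hl⟩ : ∃ l : List K, (l : Multiset K) = s := ⟨s.toList, Multiset.coe_toList s⟩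
  subst hl
  unfold thetaPoly
  rw [aeval_bottPoly_of_esymm j (l.map fun a => (C a * X : K[X])) m
    (by rw [List.length_map]; simpa using hm)]
  · rw [← Multiset.map_coe, Multiset.map_map]
    rfl
  · intro i
    rw [← Multiset.map_coe, esymm_map_CX, lam_lines_esymm P _ hs]

theorem lamPoly_mul_thetaPoly (P : PosStructure K) (hK : HasSplitting K P) (e : K) (he : e ∈ P.pos)
    (j m : ℕ) (hm : (P.aug e).toNat = m) :
    lamPoly m e * thetaPoly j m e = expand K j (lamPoly m (adams P j e)) := by
  obtain ⟨Cl, hKC, hC⟩ := hK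
  obtain ⟨L', hL', g, hg, s, hs, hse⟩ := hC ⟨K, P⟩ hKC e he
  have hcard : Multiset.card s = m := by
    have h1 := aug_multiset_sum_lines L'.posStr s hs
    rw [hse, hg.aug_comp] at h1
    have : (P.aug e).toNat = Multiset.card s := by rw [h1]; simp
    rw [← this, hm]
  apply Polynomial.map_injective (g : K →+* L'.carrier) hg.injective
  rw [Polynomial.map_mul, map_expand, map_lamPoly g hg.isLambdaHom, map_thetaPoly g hg.isLambdaHom,
    map_lamPoly g hg.isLambdaHom, map_adams g hg]
  change lamPoly m (g e) * thetaPoly j m (g e) = _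
  rw [← hse, adams_multiset_sum L'.posStr j s hs, lamPoly_lines L'.posStr s hs m hcard,
    thetaPoly_lines L'.posStr j s hs m hcard,
    lamPoly_lines L'.posStr (s.map fun u => u ^ j) ?_ m (by rw [Multiset.card_map, hcard]), Qp_factor]
  intro u hu
  rw [Multiset.mem_map] at hu
  obtain ⟨a, ha, rfl⟩ := hu
  exact isLine_pow L'.posStr (hs a ha) j

end Lam

end Groth.Agent.Lib.Helper16.ARRL
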