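import Mathlib

/-!
# Left derived functors computed on K-projective complexes are pointwise (hence absolute)
-/

open CategoryTheory CategoryTheory.Limits CategoryTheory.Functor DerivedCategory

namespace Groth.Agent.Lib.Helper16.AbsDer

universe w v u v' u'

variable {A : Type u} [Category.{v} A] [Abelian A] [HasDerivedCategory.{w} A]
  {H : Type u'} [Category.{v'} H]
  (Φ : HomotopyCategory A (ComplexShape.up ℤ) ⥤ H) (LF : DerivedCategory A ⥤ H)
  (α : Qh ⋙ LF ⟶ Φ)

/-- for a K-projective `P`, the identity of `Qh P` is initial among structured arrows. -/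
noncomputable def isInitialMkId (P : CochainComplex A ℤ) [P.IsKProjective] :
    IsInitial (StructuredArrow.mk (𝟙 (Qh.obj ((HomotopyCategory.quotient A (ComplexShape.up ℤ)).obj P))) :
      StructuredArrow (Qh.obj ((HomotopyCategory.quotient A (ComplexShape.up ℤ)).obj P)) Qh) :=
  IsInitial.ofUniqueHom
    (fun g => StructuredArrow.homMk
      ((CochainComplex.IsKProjective.Qh_map_bijective P g.right).surjective g.hom).choose (by
        have := ((CochainComplex.IsKProjective.Qh_map_bijective P g.right).surjective g.hom).choose_spec
        simpa using this))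
    (fun g m => by
      apply StructuredArrow.hom_ext
      apply (CochainComplex.IsKProjective.Qh_map_bijective P g.right).injective
      have h1 := ((CochainComplex.IsKProjective.Qh_map_bijective P g.right).surjective g.hom).choose_spec
      have h2 := StructuredArrow.w m
      simp only [StructuredArrow.homMk_right]
      rw [h1]
      simpa using h2)

lemma nonempty_isPointwiseRightKanExtensionAt (P : CochainComplex A ℤ) [P.IsKProjective]
    (hα : IsIso (α.app ((HomotopyCategory.quotient A (ComplexShape.up ℤ)).obj P))) :
    Nonempty ((RightExtension.mk LF α).IsPointwiseRightKanExtensionAt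
      (Qh.obj ((HomotopyCategory.quotient A (ComplexShape.up ℤ)).obj P))) := by
  let E := RightExtension.mk LF α
  let X := (HomotopyCategory.quotient A (ComplexShape.up ℤ)).obj P
  let X₀ : StructuredArrow (Qh.obj X) Qh := StructuredArrow.mk (𝟙 (Qh.obj X))
  let tX : IsInitial X₀ := isInitialMkId P
  have hiso : IsIso ((E.coneAt (Qh.obj X)).π.app X₀) := by
    have : (E.coneAt (Qh.obj X)).π.app X₀ = α.app X := by
      simp only [RightExtension.coneAt_π_app, E, X₀]
      erw [CategoryTheory.Functor.map_id, Category.id_comp]
      rfl
    rw [this]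
    exact hα
  refine ⟨IsLimit.ofIsoLimit (limitOfDiagramInitial tX _)
    (Cone.ext (asIso ((E.coneAt (Qh.obj X)).π.app X₀)).symm (fun j => ?_))⟩
  have := (E.coneAt (Qh.obj X)).w (tX.to j)
  simp only [coneOfDiagramInitial_π_app, Iso.symm_hom, asIso_inv, IsIso.eq_inv_comp]
  exact this

/-- **A left derived functor whose counit is invertible on K-projective complexes** (when these
generate) is a left derived functor; the criterion is stable under postcomposition. -/
theorem isLeftDerivedFunctor_of_isIso
    (hres : ∀ Y : DerivedCategory A, ∃ (P : CochainComplex A ℤ), P.IsKProjective ∧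
      Nonempty (Q.obj P ≅ Y))
    (hα : ∀ (P : CochainComplex A ℤ) [P.IsKProjective],
      IsIso (α.app ((HomotopyCategory.quotient A (ComplexShape.up ℤ)).obj P))) :
    LF.IsLeftDerivedFunctor α (HomotopyCategory.quasiIso A (ComplexShape.up ℤ)) where
  isRightKanExtension := by
    have pw' : ∀ Y, Nonempty ((RightExtension.mk LF α).IsPointwiseRightKanExtensionAt Y) := by
      intro Y
      obtain ⟨P, hP, ⟨e⟩⟩ := hres Y
      haveI := hP
      exact ⟨(RightExtension.mk LF α).isPointwiseRightKanExtensionAtEquivOfIso' e
        (nonempty_isPointwiseRightKanExtensionAt Φ LF α P (hα P)).some⟩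
    have pw : (RightExtension.mk LF α).IsPointwiseRightKanExtension := fun Y => (pw' Y).some
    exact pw.isRightKanExtension

end Groth.Agent.Lib.Helper16.AbsDer
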