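import Mathlib
import Groth.Prelude.Def_CxOX
import Groth.Agent.Lib.Helper26.OpenBC1

/-!
# Helper16 — AffRed1: module-level base change for the square of affine charts
-/

set_option autoImplicit false
universe u
open CategoryTheory CategoryTheory.Limits AlgebraicGeometry

namespace Groth.Agent.Lib.Helper16.AffRed

open Scheme.Modules

section Iso

variable {S V : Scheme.{u}} (c : S ≅ V)

/-- for an isomorphism of schemes, pushforward along the inverse is restriction. -/
noncomputable def pushInvIsoRestrict : pushforward c.inv ≅ restrictFunctor c.hom :=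
  (Functor.rightUnitor _).symm ≪≫
    Functor.isoWhiskerLeft (pushforward c.inv) (restrictFunctorAdjCounitIso c.hom).symm ≪≫
    (Functor.associator _ _ _).symm ≪≫
    Functor.isoWhiskerRight (pushforwardComp c.inv c.hom ≪≫ pushforwardCongr c.inv_hom_id ≪≫
      pushforwardId V) (restrictFunctor c.hom) ≪≫
    Functor.leftUnitor _

end Iso

section Square

variable {X Y : Scheme.{u}} (f : X ⟶ Y) (V : Y.Opens) {W' V' : Scheme.{u}}
  (a : W' ≅ ((f ⁻¹ᵁ V : X.Opens) : Scheme.{u})) (b : V' ≅ (V : Scheme.{u})) (f' : W' ⟶ V')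
  (sq : a.hom ≫ (f ∣_ V) = f' ≫ b.hom)

include sq in
lemma sq_inv : (f ∣_ V) ≫ b.inv = a.inv ≫ f' := by
  rw [Iso.eq_inv_comp, ← Category.assoc, sq, Category.assoc, Iso.hom_inv_id, Category.comp_id]

/-- base change of the direct image of modules for charts of `V` and `f⁻¹V`. -/
noncomputable def bcGen :
    pushforward f ⋙ restrictFunctor (b.hom ≫ V.ι) ≅
      restrictFunctor (a.hom ≫ (f ⁻¹ᵁ V).ι) ⋙ pushforward f' :=
  Functor.isoWhiskerLeft (pushforward f) (restrictFunctorComp b.hom V.ι) ≪≫
    (Functor.associator _ _ _).symm ≪≫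
    Functor.isoWhiskerRight (Groth.Agent.Lib.Helper26.OpenBC1.bc f V) (restrictFunctor b.hom) ≪≫
    Functor.associator _ _ _ ≪≫
    Functor.isoWhiskerLeft (restrictFunctor (f ⁻¹ᵁ V).ι)
      (Functor.isoWhiskerLeft (pushforward (f ∣_ V)) (pushInvIsoRestrict b).symm ≪≫
        pushforwardComp (f ∣_ V) b.inv ≪≫ pushforwardCongr (sq_inv f V a b f' sq) ≪≫
        (pushforwardComp a.inv f').symm ≪≫
        Functor.isoWhiskerRight (pushInvIsoRestrict a) (pushforward f')) ≪≫
    (Functor.associator _ _ _).symm ≪≫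
    Functor.isoWhiskerRight (restrictFunctorComp a.hom (f ⁻¹ᵁ V).ι).symm (pushforward f')

end Square

end Groth.Agent.Lib.Helper16.AffRed
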