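import Mathlib
import Groth.Prelude.Def_CxOX
import Groth.Prelude.Def_DCoh3
import Groth.Agent.Lib.Helper16.AffRed1
import Groth.Agent.Lib.Helper16.RS2
import Groth.Agent.Lib.Helper26.MVMod4

/-!
# Helper16 — AffRed2: derived base change of `Rf_*` along charts of `V` and `f⁻¹V`
-/

set_option autoImplicit false
set_option linter.style.haveILetI false
universe u
open CategoryTheory CategoryTheory.Limits AlgebraicGeometry

attribute [local instance] HasDerivedCategory.standard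

namespace Groth.Agent.Lib.Helper16.AffRed

open Scheme.Modules Groth.Agent.Lib.Helper16.RS Groth.Agent.Lib.Helper26.MVMod4

section KInj

variable {S V : Scheme.{u}} (c : S ≅ V)

/-- for an isomorphism, restriction has an exact left adjoint. -/
noncomputable def restrictInvAdj : restrictFunctor c.inv ⊣ restrictFunctor c.hom :=
  (restrictAdjunction c.inv).ofNatIsoRight (pushInvIsoRestrict c)

lemma isKInjective_RCx_iso (I : CochainComplex V.Modules ℤ) [I.IsKInjective] :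
    CochainComplex.IsKInjective ((RCx c.hom).obj I) :=
  Groth.Agent.Lib.Helper26.KInjComp.isKInjective_map_of_adj (restrictInvAdj c) I

lemma isKInjective_RCx_chart {X : Scheme.{u}} (W : X.Opens) {W' : Scheme.{u}}
    (a : W' ≅ (W : Scheme.{u})) (I : CochainComplex X.Modules ℤ) [I.IsKInjective] :
    CochainComplex.IsKInjective ((RCx (a.hom ≫ W.ι)).obj I) := by
  haveI : CochainComplex.IsKInjective ((RCx W.ι).obj I) := isKInjective_restrict W I
  haveI : CochainComplex.IsKInjective ((RCx W.ι ⋙ RCx a.hom).obj I) :=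
    isKInjective_RCx_iso a ((RCx W.ι).obj I)
  exact CochainComplex.isKInjective_of_iso ((RCxComp W.ι a.hom).app I)

end KInj

section Square

variable {X Y : Scheme.{u}} (f : X ⟶ Y) (V : Y.Opens) {W' V' : Scheme.{u}}
  (a : W' ≅ ((f ⁻¹ᵁ V : X.Opens) : Scheme.{u})) (b : V' ≅ (V : Scheme.{u})) (f' : W' ⟶ V')
  (sq : a.hom ≫ (f ∣_ V) = f' ≫ b.hom) [DCoh.HasRpush f] [DCoh.HasRpush f']

include sq in
/-- derived base change: `(Rf_* E)|_{V'} ≅ Rf'_* (E|_{W'})`. -/
theorem nonempty_bcD (E : DCoh.D X) :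
    Nonempty ((RD (b.hom ≫ V.ι)).obj ((DCoh.Rpush f).obj E) ≅
      (DCoh.Rpush f').obj ((RD (a.hom ≫ (f ⁻¹ᵁ V).ι)).obj E)) := by
  obtain ⟨I, hI, -, ⟨e⟩⟩ := exists_kinj E
  haveI := hI
  haveI := isKInjective_RCx_chart (f ⁻¹ᵁ V) a I
  let e1 : (DCoh.Rpush f).obj E ≅
      DerivedCategory.Q.obj (((pushforward f).mapHomologicalComplex (ComplexShape.up ℤ)).obj I) :=
    (DCoh.Rpush f).mapIso e.symm ≪≫ (unitIso (pushforward f) I).symm
  let e2 : (DCoh.Rpush f').obj ((RD (a.hom ≫ (f ⁻¹ᵁ V).ι)).obj E) ≅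
      DerivedCategory.Q.obj (((pushforward f').mapHomologicalComplex (ComplexShape.up ℤ)).obj
        ((RCx (a.hom ≫ (f ⁻¹ᵁ V).ι)).obj I)) :=
    (DCoh.Rpush f').mapIso ((RD (a.hom ≫ (f ⁻¹ᵁ V).ι)).mapIso e.symm ≪≫
      RDQIso (a.hom ≫ (f ⁻¹ᵁ V).ι) I) ≪≫
      (unitIso (pushforward f') ((RCx (a.hom ≫ (f ⁻¹ᵁ V).ι)).obj I)).symm
  let e3 := (NatIso.mapHomologicalComplex (bcGen f V a b f' sq) (ComplexShape.up ℤ)).app I
  exact ⟨(RD (b.hom ≫ V.ι)).mapIso e1 ≪≫ RDQIso (b.hom ≫ V.ι) _ ≪≫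
    DerivedCategory.Q.mapIso e3 ≪≫ e2.symm⟩

end Square

end Groth.Agent.Lib.Helper16.AffRed
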