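import Mathlib
import Groth.Prelude.Def_CxOX
import Groth.Prelude.Def_DCoh3
import Groth.Agent.Lib.Helper16.RS2
import Groth.Agent.Lib.Helper1.LocPC1

/-!
# Helper16 — AffRed3: pseudo-coherence and restriction along arbitrary open immersions
-/

set_option autoImplicit false
set_option linter.style.haveILetI false
universe u
open CategoryTheory CategoryTheory.Limits AlgebraicGeometry

attribute [local instance] HasDerivedCategory.standard

namespace Groth.Agent.Lib.Helper16.AffRed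

open Groth.Agent.Lib.Helper16.RS Groth.Agent.Lib.Helper1.LocPC

variable {X U : Scheme.{u}} (j : U ⟶ X) [IsOpenImmersion j]

/-- restriction along an open immersion preserves `m`-pseudo-coherence. -/
theorem isPseudoCoherentD_RD (m : ℤ) (K : DCoh.D X) (h : DCoh.IsPseudoCoherentD m K) :
    DCoh.IsPseudoCoherentD m ((RD j).obj K) := by
  rw [isPseudoCoherentD_iff] at h ⊢
  intro u
  obtain ⟨V, hV, hK⟩ := h (j u)
  refine ⟨j ⁻¹ᵁ V, hV, ?_⟩
  obtain ⟨e⟩ := nonempty_RD_comp_iso j (j ⁻¹ᵁ V).ι K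
  refine PCat.of_iso ?_ e.symm
  have hr : Set.range ((j ⁻¹ᵁ V).ι ≫ j) ⊆ Set.range V.ι := by
    rintro _ ⟨x, rfl⟩
    simp only [Scheme.Opens.range_ι]
    exact x.2
  let k := IsOpenImmersion.lift V.ι ((j ⁻¹ᵁ V).ι ≫ j) hr
  have hk : k ≫ V.ι = (j ⁻¹ᵁ V).ι ≫ j := IsOpenImmersion.lift_fac _ _ _
  haveI : IsOpenImmersion (k ≫ V.ι) := by rw [hk]; infer_instance
  haveI : IsOpenImmersion k := IsOpenImmersion.of_comp k V.ι
  exact hK.restrict_of_fac V.ι k _ hk

/-- if the restriction along an open immersion is `m`-pseudo-coherent, then `K` is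
`m`-pseudo-coherent at the points of the image. -/
theorem pcAt_of_isPseudoCoherentD_RD (m : ℤ) (K : DCoh.D X)
    (h : DCoh.IsPseudoCoherentD m ((RD j).obj K)) (u : U) : PCAt m K (j u) := by
  rw [isPseudoCoherentD_iff] at h
  obtain ⟨V', hV', hK⟩ := h u
  obtain ⟨e⟩ := nonempty_RD_comp_iso j V'.ι K
  have h1 : PCat m ((RD (V'.ι ≫ j)).obj K) := hK.of_iso e
  refine ⟨j ''ᵁ V', ⟨u, hV', rfl⟩, ?_⟩
  exact h1.restrict_of_fac (V'.ι ≫ j) (j.isoImage V').inv _ (by simp)

/-- `m`-pseudo-coherence can be checked on a family of open immersions covering `X`. -/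
theorem isPseudoCoherentD_of_cover (m : ℤ) (K : DCoh.D X)
    (h : ∀ x : X, ∃ (U : Scheme.{u}) (j : U ⟶ X) (_ : IsOpenImmersion j),
      x ∈ Set.range j ∧ DCoh.IsPseudoCoherentD m ((RD j).obj K)) :
    DCoh.IsPseudoCoherentD m K := by
  rw [isPseudoCoherentD_iff]
  intro x
  obtain ⟨U, j, hj, ⟨u, rfl⟩, hK⟩ := h x
  exact pcAt_of_isPseudoCoherentD_RD j m K hK u

end Groth.Agent.Lib.Helper16.AffRed
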