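import Mathlib
import Groth.Prelude.Def_Coh
import Groth.Prelude.Def_DCoh2
import Groth.Agent.Lib.Helper26.PushComp

/-!
# Helper16 — AffRed4: `Rf_*` of a quasi-coherent module along an affine morphism
-/

set_option autoImplicit false
set_option linter.style.haveILetI false
universe u
open CategoryTheory CategoryTheory.Limits AlgebraicGeometry

attribute [local instance] HasDerivedCategory.standard

namespace Groth.Agent.Lib.Helper16.AffRed

open Groth.Agent.Lib.Helper26 Groth.Agent.Lib.Helper26.PushComp DerivedCategory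

variable {X Y : Scheme.{u}}

/-- for an affine morphism and a quasi-coherent module, `Rf_* (G[0]) ≅ (f_* G)[0]`. -/
theorem nonempty_Rpush_inD_iso (f : X ⟶ Y) [IsAffineHom f] [DCoh.HasRpush f]
    [HasInjectiveResolutions X.Modules] (G : X.Modules) [Coh.IsQCoh G] :
    Nonempty ((DCoh.Rpush f).obj (DCoh.inD X G) ≅
      DCoh.inD Y ((Scheme.Modules.pushforward f).obj G)) := by
  let E : DCoh.D X := DCoh.inD X G
  haveI : E.IsGE 0 := by dsimp [E]; infer_instance
  haveI : E.IsLE 0 := by dsimp [E]; infer_instance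
  let Y' : DCoh.D Y := (DCoh.Rpush f).obj E
  haveI : Y'.IsGE 0 := RpushGE.Rpush_isGE f E 0
  have hq : ∀ q : ℕ, Nonempty (DCoh.HD Y' (q : ℤ) ≅ (Coh.Rpush f q).obj G) := fun q => by
    obtain ⟨e⟩ := HD_Rpush_of_single f E 0 q (q : ℤ) (by simp)
    exact ⟨e ≪≫ (Coh.Rpush f q).mapIso (HDinD G)⟩
  haveI : Y'.IsLE 0 := by
    rw [DerivedCategory.isLE_iff]
    intro k hk
    obtain ⟨q, rfl⟩ := Int.eq_ofNat_of_zero_le (le_of_lt hk)
    obtain ⟨e⟩ := hq q
    exact IsZero.of_iso (isZero_Rpush_of_isAffineHom f G q (by exact_mod_cast hk)) e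
  obtain ⟨e0⟩ := hq 0
  haveI : PreservesFiniteLimits (Scheme.Modules.pushforward f) := by
    haveI : (Scheme.Modules.pushforward f).IsRightAdjoint :=
      (Scheme.Modules.pullbackPushforwardAdjunction f).isRightAdjoint
    infer_instance
  let e0' : DCoh.HD Y' 0 ≅ (Scheme.Modules.pushforward f).obj G :=
    e0 ≪≫ (Functor.rightDerivedZeroIsoSelf (Scheme.Modules.pushforward f)).app G
  obtain ⟨Y₀, ⟨e1⟩⟩ := exists_iso_singleFunctor_obj_of_isGE_of_isLE Y' 0
  let e2 : Y₀ ≅ (Scheme.Modules.pushforward f).obj G :=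
    ((DerivedCategory.singleFunctorCompHomologyFunctorIso Y.Modules 0).app Y₀).symm ≪≫
      (DerivedCategory.homologyFunctor Y.Modules 0).mapIso e1.symm ≪≫ e0'
  exact ⟨e1 ≪≫ (DerivedCategory.singleFunctor Y.Modules 0).mapIso e2⟩

end Groth.Agent.Lib.Helper16.AffRed
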