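import Mathlib
import Groth.Prelude.Def_Coh
import Groth.Prelude.Def_DCoh3
import Groth.Prelude.Def_DDual2
import Groth.Agent.Lib.Helper16.AffRed2
import Groth.Agent.Lib.Helper16.AffRed3
import Groth.Agent.Lib.Helper16.AffRed4
import Groth.Agent.Lib.Helper16.RestrictD3
import Groth.Agent.Lib.Helper26.SuppD2
import Groth.Agent.Lib.Helper26.SuppD3
import Groth.Agent.S9498
import Groth.Agent.S1004

/-!
# Helper16 — AffRed5: pseudo-coherence of `Rf_* E` on an affine chart, for `f` affine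

The two inputs on `D_QCoh` of an affine scheme (essential surjectivity of `M ↦ M~`, and
`Rf_*(M~) ≅ (M_A)~`) are taken as hypotheses `HEss`, `HPush`.
-/

set_option autoImplicit false
set_option linter.style.haveILetI false
universe u
open CategoryTheory CategoryTheory.Limits AlgebraicGeometry

attribute [local instance] HasDerivedCategory.standard

namespace Groth.Agent.Lib.Helper16.AffRed

open Scheme.Modules Groth.Agent.Lib.Helper16.RS Groth.Agent.Lib.Helper1.LocPC
  Groth.Agent.Lib.Helper16.PC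

attribute [local instance] Groth.Agent.Lib.Helper26.SuppD3.hasRpush

instance tildeLex (R : CommRingCat.{u}) : PreservesFiniteLimits (tilde.functor R) :=
  (Groth.Agent.S9498.main R).1

instance tildeLexOf (A : Type u) [CommRing A] :
    PreservesFiniteLimits (tilde.functor (CommRingCat.of A)) :=
  (Groth.Agent.S9498.main _).1

/-- every object of `D_QCoh(Spec R)` is in the essential image of `M ↦ M~`. -/
def HEss : Prop :=
  ∀ (R : CommRingCat.{u}) (K : DCoh.D (Spec (CommRingCat.of R))), DCoh.IsQCohD K →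
    ∃ M, Nonempty ((DCoh.tildeD R).obj M ≅ K)

/-- `Rf_*(M~) ≅ (M_A)~` for `f = Spec φ`. -/
def HPush : Prop :=
  ∀ {A B : Type u} [CommRing A] [CommRing B] (φ : A →+* B),
    Nonempty (DCoh.tildeD (CommRingCat.of B) ⋙ DCoh.Rpush (Spec.map (CommRingCat.ofHom φ)) ≅
      DRing.restrictD φ ⋙ DCoh.tildeD (CommRingCat.of A))

section Basic

variable {X U : Scheme.{u}} (j : U ⟶ X) [IsOpenImmersion j]

theorem isQCohD_RD (E : DCoh.D X) (hE : DCoh.IsQCohD E) : DCoh.IsQCohD ((RD j).obj E) := by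
  intro i
  have e := Groth.Agent.Lib.Helper26.SuppD2.homologyIso (restrictFunctor j) E i
  haveI : (DCoh.HD E i).IsQuasicoherent := hE i
  have h : ((restrictFunctor j).obj (DCoh.HD E i)).IsQuasicoherent := inferInstance
  exact (SheafOfModules.isQuasicoherent U.ringCatSheaf).prop_of_iso e.symm h

theorem isPseudoCoherentD_of_iso {m : ℤ} {K K' : DCoh.D X} (e : K ≅ K')
    (h : DCoh.IsPseudoCoherentD m K) : DCoh.IsPseudoCoherentD m K' := by
  rw [isPseudoCoherentD_iff] at h ⊢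
  exact fun x => (h x).of_iso e

end Basic

section Chart

variable {X Y : Scheme.{u}} (f : X ⟶ Y) [DCoh.HasRpush f] (V : Y.Opens)
  {A B : Type u} [CommRing A] [CommRing B] [Algebra A B]
  (a : Spec (CommRingCat.of B) ≅ ((f ⁻¹ᵁ V : X.Opens) : Scheme.{u}))
  (b : Spec (CommRingCat.of A) ≅ (V : Scheme.{u}))
  (sq : a.hom ≫ (f ∣_ V) = Spec.map (CommRingCat.ofHom (algebraMap A B)) ≫ b.hom)

include sq in
theorem nonempty_RD_Rpush_iso (hPush : HPush.{u}) (E : DCoh.D X) (M : Dual.D B)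
    (e : (DCoh.tildeD (CommRingCat.of B)).obj M ≅ (RD (a.hom ≫ (f ⁻¹ᵁ V).ι)).obj E) :
    Nonempty ((RD (b.hom ≫ V.ι)).obj ((DCoh.Rpush f).obj E) ≅
      (DCoh.tildeD (CommRingCat.of A)).obj ((DRing.restrictD (algebraMap A B)).obj M)) := by
  obtain ⟨e1⟩ := nonempty_bcD f V a b (Spec.map (CommRingCat.ofHom (algebraMap A B))) sq E
  obtain ⟨e2⟩ := hPush (algebraMap A B)
  exact ⟨e1 ≪≫ (DCoh.Rpush (Spec.map (CommRingCat.ofHom (algebraMap A B)))).mapIso e.symm ≪≫
    e2.app M⟩

include sq in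
/-- on a chart, and with `B` pseudo-coherent over `A`: `E|_{Spec B}` is `m`-pseudo-coherent iff
`(Rf_* E)|_{Spec A}` is. -/
theorem chart_iff (hEss : HEss.{u}) (hPush : HPush.{u})
    (hB : ∀ m : ℤ, DRing.IsPseudoCoherent A m (Dual.inD A B))
    (E : DCoh.D X) (hE : DCoh.IsQCohD E) (m : ℤ) :
    DCoh.IsPseudoCoherentD m ((RD (a.hom ≫ (f ⁻¹ᵁ V).ι)).obj E) ↔
      DCoh.IsPseudoCoherentD m ((RD (b.hom ≫ V.ι)).obj ((DCoh.Rpush f).obj E)) := by
  obtain ⟨M, ⟨e⟩⟩ := hEss (CommRingCat.of B) _ (isQCohD_RD (a.hom ≫ (f ⁻¹ᵁ V).ι) E hE)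
  obtain ⟨e'⟩ := nonempty_RD_Rpush_iso f V a b sq hPush E M e
  have h1 := Groth.Agent.S1004.result B M m
  have h2 := Groth.Agent.S1004.result A ((DRing.restrictD (algebraMap A B)).obj M) m
  constructor
  · intro h
    refine isPseudoCoherentD_of_iso e'.symm (h2.2 ?_)
    exact Groth.Agent.Lib.Helper16.RestrictD.pc_restrict_of_pc hB M m
      (h1.1 (isPseudoCoherentD_of_iso e.symm h))
  · intro h
    refine isPseudoCoherentD_of_iso e (h1.2 ?_)
    exact Groth.Agent.Lib.Helper16.RestrictD.pc_of_pc_restrict hB M m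
      (h2.1 (isPseudoCoherentD_of_iso e' h))

end Chart

end Groth.Agent.Lib.Helper16.AffRed
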