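import Mathlib
import Groth.Agent.Lib.Helper16.AffRed5

/-!
# Helper16 — AffRed6: pseudo-coherence of `f_* O_X` gives pseudo-coherence of the chart algebra
-/

set_option autoImplicit false
set_option linter.style.haveILetI false
universe u
open CategoryTheory CategoryTheory.Limits AlgebraicGeometry

attribute [local instance] HasDerivedCategory.standard

namespace Groth.Agent.Lib.Helper16.AffRed

open Scheme.Modules Groth.Agent.Lib.Helper16.RS Groth.Agent.Lib.Helper1.LocPC
  Groth.Agent.Lib.Helper16.PC Groth.Agent.Lib.Helper26.MVMod4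

attribute [local instance] Groth.Agent.Lib.Helper26.SuppD3.hasRpush

theorem isQCoh_structureModule (X : Scheme.{u}) : Coh.IsQCoh (Coh.structureModule X) := by
  have e : SheafOfModules.free (R := X.ringCatSheaf) PUnit.{u + 1} ≅ Coh.structureModule X :=
    coproductUniqueIso _
  have h : (SheafOfModules.free (R := X.ringCatSheaf) PUnit.{u + 1}).IsQuasicoherent :=
    inferInstance
  exact (SheafOfModules.isQuasicoherent X.ringCatSheaf).prop_of_iso e h

/-- tilde commutes with placing a module in degree `0`. -/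
noncomputable def tildeDSingleIso (R : CommRingCat.{u}) (M : ModuleCat.{u} R) :
    (DCoh.tildeD R).obj ((DerivedCategory.singleFunctor _ 0).obj M) ≅
      (DerivedCategory.singleFunctor _ 0).obj ((tilde.functor R).obj M) :=
  ((tilde.functor R).mapDerivedCategorySingleFunctor 0).app M

section Single

variable {X : Scheme.{u}} {B : Type u} [CommRing B] (j : Spec (CommRingCat.of B) ⟶ X)
  [IsOpenImmersion j]

/-- `(B[0])~ ≅ (O_X[0])|_{Spec B}` -/
noncomputable def tildeDSelfIso :
    (DCoh.tildeD (CommRingCat.of B)).obj (Dual.inD B B) ≅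
      (RD j).obj (DCoh.inD X (Coh.structureModule X)) :=
  tildeDSingleIso (CommRingCat.of B) (ModuleCat.of B B) ≪≫
    (DerivedCategory.singleFunctor _ 0).mapIso
      ((tildeSelf (R := CommRingCat.of B)) ≪≫ (restrictUnitIso j).symm) ≪≫
    (((restrictFunctor j).mapDerivedCategorySingleFunctor 0).app (Coh.structureModule X)).symm

end Single

section Chart

variable {X Y : Scheme.{u}} (f : X ⟶ Y) [DCoh.HasRpush f] [IsAffineHom f] (V : Y.Opens)
  {A B : Type u} [CommRing A] [CommRing B] [Algebra A B]
  (a : Spec (CommRingCat.of B) ≅ ((f ⁻¹ᵁ V : X.Opens) : Scheme.{u}))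
  (b : Spec (CommRingCat.of A) ≅ (V : Scheme.{u}))
  (sq : a.hom ≫ (f ∣_ V) = Spec.map (CommRingCat.ofHom (algebraMap A B)) ≫ b.hom)

include sq in
theorem pc_algebra_of_pc_push (hPush : HPush.{u})
    (hO : ∀ m : ℤ, DCoh.IsPseudoCoherentD m
      (DCoh.inD Y ((Scheme.Modules.pushforward f).obj (Coh.structureModule X)))) (m : ℤ) :
    DRing.IsPseudoCoherent A m (Dual.inD A B) := by
  haveI : Coh.IsQCoh (Coh.structureModule X) := isQCoh_structureModule X
  obtain ⟨e1⟩ := nonempty_Rpush_inD_iso f (Coh.structureModule X)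
  have h1 : DCoh.IsPseudoCoherentD m ((DCoh.Rpush f).obj (DCoh.inD X (Coh.structureModule X))) :=
    isPseudoCoherentD_of_iso e1.symm (hO m)
  have h2 := isPseudoCoherentD_RD (b.hom ≫ V.ι) m _ h1
  obtain ⟨e2⟩ := nonempty_RD_Rpush_iso f V a b sq hPush (DCoh.inD X (Coh.structureModule X))
    (Dual.inD B B) (tildeDSelfIso (a.hom ≫ (f ⁻¹ᵁ V).ι))
  have h3 := (Groth.Agent.S1004.result A _ m).1 (isPseudoCoherentD_of_iso e2 h2)
  refine pc_of_iso h3 ?_
  exact ((ModuleCat.restrictScalars.{u} (algebraMap A B)).mapDerivedCategorySingleFunctor 0).app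
      (ModuleCat.of B B) ≪≫
    (DerivedCategory.singleFunctor _ 0).mapIso
      Groth.Agent.Lib.Helper16.RestrictD.ofIsoRestrict.symm

end Chart

end Groth.Agent.Lib.Helper16.AffRed
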