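import Mathlib
import Groth.Agent.Lib.Helper16.AffRed6
import Groth.Agent.Lib.Helper16.RS10
import Groth.Agent.Lib.Helper25.PushComplQuot

/-!
# Helper16 — AffRed10: perfectness is local for open immersions; the chart form of `f_* O_X`
-/

set_option autoImplicit false
set_option linter.style.haveILetI false
universe u
open CategoryTheory CategoryTheory.Limits AlgebraicGeometry

attribute [local instance] HasDerivedCategory.standard

namespace Groth.Agent.Lib.Helper16.AffRed

open Scheme.Modules Groth.Agent.Lib.Helper16.RS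

section Cover

variable {X : Scheme.{u}}

/-- perfectness can be checked on a family of open immersions covering `X`. -/
theorem isPerfect_of_cover (K : DCoh.D X)
    (h : ∀ x : X, ∃ (U : Scheme.{u}) (j : U ⟶ X) (_ : IsOpenImmersion j),
      x ∈ Set.range j ∧ DCoh.IsPerfect ((RD j).obj K)) :
    DCoh.IsPerfect K := by
  obtain ⟨F₀, ⟨e₀⟩⟩ := exists_rep K
  rw [isPerfect_iff_isOn K F₀ e₀]
  intro x
  obtain ⟨U, j, hj, ⟨u, rfl⟩, hK⟩ := h x
  have e₁ : DerivedCategory.Q.obj ((RCx j).obj F₀) ≅ (RD j).obj K :=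
    (RDQIso j F₀).symm ≪≫ (RD j).mapIso e₀
  obtain ⟨V', hu, E, hE, ⟨e⟩⟩ := (isPerfect_iff_isOn _ _ e₁).1 hK u
  have h1 : IsOn spProp (V'.ι ≫ j) F₀ := ⟨E, hE, ⟨(QRCxCompIso j V'.ι F₀).symm ≪≫ e⟩⟩
  refine ⟨j ''ᵁ V', ⟨u, hu, rfl⟩, ?_⟩
  exact h1.of_fac (j.isoImage V').inv _ (by simp)

end Cover

section PushTilde

variable {R S : CommRingCat.{u}} (φ : R ⟶ S) (N : ModuleCat.{u} S)

/-- the direct image of `N~` along `Spec S ⟶ Spec R` is the tilde of `N` as an `R`-module. -/
noncomputable def pushTildeIso :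
    (Scheme.Modules.pushforward (Spec.map φ)).obj (tilde N) ≅
      tilde ((ModuleCat.restrictScalars φ.hom).obj N) :=
  (asIso (Groth.Agent.Lib.Helper25.PushCompl.pushT φ N).fromTildeΓ).symm ≪≫
    (tilde.functor R).mapIso (Groth.Agent.Lib.Helper25.PushCompl.e0 φ N)

end PushTilde

section Chart

variable {X Y : Scheme.{u}} (f : X ⟶ Y) (V : Y.Opens)
  {A B : Type u} [CommRing A] [CommRing B] [Algebra A B]
  (a : Spec (CommRingCat.of B) ≅ ((f ⁻¹ᵁ V : X.Opens) : Scheme.{u}))
  (b : Spec (CommRingCat.of A) ≅ (V : Scheme.{u}))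
  (sq : a.hom ≫ (f ∣_ V) = Spec.map (CommRingCat.ofHom (algebraMap A B)) ≫ b.hom)

/-- on a chart, `f_* O_X` (in degree `0`) is the tilde of `B` as an `A`-module. -/
noncomputable def chartPushUnitIso :
    (RD (b.hom ≫ V.ι)).obj
        (DCoh.inD Y ((Scheme.Modules.pushforward f).obj (Coh.structureModule X))) ≅
      (DCoh.tildeD (CommRingCat.of A)).obj (Dual.inD A B) :=
  ((restrictFunctor (b.hom ≫ V.ι)).mapDerivedCategorySingleFunctor 0).app _ ≪≫
    (DerivedCategory.singleFunctor _ 0).mapIso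
      ((bcGen f V a b (Spec.map (CommRingCat.ofHom (algebraMap A B))) sq).app
          (Coh.structureModule X) ≪≫
        (Scheme.Modules.pushforward (Spec.map (CommRingCat.ofHom (algebraMap A B)))).mapIso
          (restrictUnitIso (a.hom ≫ (f ⁻¹ᵁ V).ι) ≪≫
            (tildeSelf (R := CommRingCat.of B)).symm) ≪≫
        pushTildeIso (CommRingCat.ofHom (algebraMap A B)) (ModuleCat.of B B) ≪≫
        (tilde.functor (CommRingCat.of A)).mapIso
          Groth.Agent.Lib.Helper16.RestrictD.ofIsoRestrict.symm) ≪≫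
    (tildeDSingleIso (CommRingCat.of A) (ModuleCat.of A B)).symm

end Chart

end Groth.Agent.Lib.Helper16.AffRed
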