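import Mathlib
import Groth.Agent.Lib.Helper16.StalkPB

/-!
# Helper16 — StalkPB2: local rings of fibre products, for arbitrary pullback squares
-/

set_option autoImplicit false

open CategoryTheory CategoryTheory.Limits AlgebraicGeometry TensorProduct

namespace Groth.Agent.Lib.Helper16.StalkPB

universe u

variable {W X Y Y' : Scheme.{u}} {p : W ⟶ X} {p' : W ⟶ Y'} {f : X ⟶ Y} {h : Y' ⟶ Y}

/-- **local rings of fibre products** (any pullback square):
`O_{X,x} ⊗_{O_{Y,y}} O_{Y',y'} → O_{W,w}` is flat. -/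
theorem exists_flat_tensor_map_of_isPullback (sq : IsPullback p p' f h) (w : W)
    [Algebra (Y.presheaf.stalk (f.base (p.base w))) (X.presheaf.stalk (p.base w))]
    [Algebra (Y.presheaf.stalk (f.base (p.base w))) (Y'.presheaf.stalk (p'.base w))]
    (h1 : algebraMap (Y.presheaf.stalk (f.base (p.base w))) (X.presheaf.stalk (p.base w)) =
      (f.stalkMap (p.base w)).hom)
    (h2 : algebraMap (Y.presheaf.stalk (f.base (p.base w))) (Y'.presheaf.stalk (p'.base w)) =
      (sqα f p' p h sq.w w).hom) :
    ∃ γ : (X.presheaf.stalk (p.base w)) ⊗[Y.presheaf.stalk (f.base (p.base w))]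
        (Y'.presheaf.stalk (p'.base w)) →+* W.presheaf.stalk w,
      γ.Flat ∧ γ.comp Algebra.TensorProduct.includeLeftRingHom = (p.stalkMap w).hom ∧
      γ.comp (Algebra.TensorProduct.includeRight :
        (Y'.presheaf.stalk (p'.base w)) →ₐ[Y.presheaf.stalk (f.base (p.base w))] _).toRingHom =
        (p'.stalkMap w).hom := by
  refine exists_flat_tensor_map_aux (p.stalkMap w).hom (p'.stalkMap w).hom ?_ f h
    (X.fromSpecStalk (p.base w)) (Y.fromSpecStalk (f.base (p.base w)))
    (Y'.fromSpecStalk (p'.base w)) ?_ ?_ (W.fromSpecStalk w ≫ sq.isoPullback.hom) ?_ ?_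
  · rw [h1, h2, ← CommRingCat.hom_comp, ← CommRingCat.hom_comp]
    exact congrArg CommRingCat.Hom.hom (sq_comm f p' p h sq.w w)
  · rw [h1]
    exact Scheme.SpecMap_stalkMap_fromSpecStalk f
  · rw [h2]
    exact sq_spec f p' p h sq.w w
  · rw [Category.assoc, IsPullback.isoPullback_hom_fst]
    exact (Scheme.SpecMap_stalkMap_fromSpecStalk p).symm
  · rw [Category.assoc, IsPullback.isoPullback_hom_snd]
    exact (Scheme.SpecMap_stalkMap_fromSpecStalk p').symm

end Groth.Agent.Lib.Helper16.StalkPB
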