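import Mathlib
import Groth.Agent.Lib.Helper16.TorLoc9
import Groth.Agent.Lib.Helper16.StalkPB2
import Groth.Agent.Lib.Helper16.KD3

/-!
# Helper16 — FibProd1: base change of relative tor amplitude along pullback squares
(flat base change, and tor-independent base change for fibre products of flat `S`-schemes)
-/

set_option autoImplicit false

open CategoryTheory CategoryTheory.Limits MonoidalCategory AlgebraicGeometry TensorProduct

namespace Groth.Agent.Lib.Helper16.FibProd

universe u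

open DerivedCategory Groth.Agent.Lib.Helper16 Groth.Agent.Lib.Helper16.TorLoc
  Groth.Agent.Lib.Helper16.Stk Groth.Agent.Lib.Helper16.StalkPB Groth.Agent.Lib.Helper16.PO

attribute [local instance] HasDerivedCategory.standard

section Flex

variable {W X Y Y' : Scheme.{u}} {p : W ⟶ X} {p' : W ⟶ Y'} {f : X ⟶ Y} {h : Y' ⟶ Y}

/-- local rings of fibre products, with a flexible choice of the point of `X`. -/
theorem exists_flat_tensor_map_flex (sq : IsPullback p p' f h) (w : W) (x : X)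
    (hx : p.base w = x)
    [Algebra (Y.presheaf.stalk (f.base x)) (X.presheaf.stalk x)]
    [Algebra (Y.presheaf.stalk (f.base x)) (Y'.presheaf.stalk (p'.base w))]
    (h1 : algebraMap (Y.presheaf.stalk (f.base x)) (X.presheaf.stalk x) = (f.stalkMap x).hom)
    (α : Y.presheaf.stalk (f.base x) ⟶ Y'.presheaf.stalk (p'.base w))
    (hα : ∀ e : Inseparable (f.base x) (h.base (p'.base w)),
      α = (Y.presheaf.stalkCongr e).hom ≫ h.stalkMap (p'.base w))
    (h2 : algebraMap (Y.presheaf.stalk (f.base x)) (Y'.presheaf.stalk (p'.base w)) = α.hom) :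
    ∃ γ : (X.presheaf.stalk x) ⊗[Y.presheaf.stalk (f.base x)]
        (Y'.presheaf.stalk (p'.base w)) →+* W.presheaf.stalk w,
      γ.Flat ∧ (∀ e : Inseparable x (p.base w),
        γ.comp Algebra.TensorProduct.includeLeftRingHom =
          ((X.presheaf.stalkCongr e).hom ≫ p.stalkMap w).hom) ∧
      γ.comp (Algebra.TensorProduct.includeRight :
        (Y'.presheaf.stalk (p'.base w)) →ₐ[Y.presheaf.stalk (f.base x)] _).toRingHom =
        (p'.stalkMap w).hom := by
  subst hx
  obtain ⟨γ, hγ, hγ1, hγ2⟩ := exists_flat_tensor_map_of_isPullback sq w h1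
    (h2.trans (congrArg CommRingCat.Hom.hom (hα _)))
  refine ⟨γ, hγ, fun e => ?_, hγ2⟩
  rw [hγ1]
  have : (X.presheaf.stalkCongr e).hom = 𝟙 _ := by
    simp [TopCat.Presheaf.stalkCongr]
  rw [this, Category.id_comp]

end Flex

section FlatBC

variable {W X Y Y' : Scheme.{u}} {p : W ⟶ X} {p' : W ⟶ Y'} {f : X ⟶ Y} {h : Y' ⟶ Y}

/-- the stalk complex of a pullback, over the base. -/
noncomputable def stalkCxOverPullIso (p : W ⟶ X) (p' : W ⟶ Y') (w : W)
    (G : CochainComplex X.Modules ℤ) :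
    (DerSch.stalkCxOver p' w).obj ((KD.pullCx p).obj G) ≅
      (resCx (p'.stalkMap w).hom).obj ((extCx (p.stalkMap w).hom).obj (stkCx (p.base w) G)) :=
  Groth.Agent.S6188.stalkCxOverIso p' w _ ≪≫
    (resCx (p'.stalkMap w).hom).mapIso (pullbackStkCxIso p w G)

/-- **flat base change of relative tor amplitude** (chain level, any pullback square). -/
theorem hasTorAmplitude_pullCx_of_flat (sq : IsPullback p p' f h) [Flat h]
    (G : CochainComplex X.Modules ℤ) (a b : ℤ) (hG : DerSch.HasTorAmplitude f a b G) :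
    DerSch.HasTorAmplitude p' a b ((KD.pullCx p).obj G) := by
  intro w
  have hW : DRing.HasTorAmplitudeIn (Y.presheaf.stalk (f.base (p.base w))) a b
      (DRing.toD ((resCx (f.stalkMap (p.base w)).hom).obj (stkCx (p.base w) G))) :=
    TorAmp.hasTorAmplitudeIn_of_iso
      (Q.mapIso (Groth.Agent.S6188.stalkCxOverIso f (p.base w) G)) a b (hG (p.base w))
  letI : Algebra (Y.presheaf.stalk (f.base (p.base w))) (X.presheaf.stalk (p.base w)) :=
    (f.stalkMap (p.base w)).hom.toAlgebra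
  letI : Algebra (Y.presheaf.stalk (f.base (p.base w))) (Y'.presheaf.stalk (p'.base w)) :=
    (sqα f p' p h sq.w w).hom.toAlgebra
  obtain ⟨γ, hγ, h1, h2⟩ := exists_flat_tensor_map_of_isPullback sq w rfl rfl
  have key := torAmp_flat_baseChange (p.stalkMap w).hom (p'.stalkMap w).hom γ hγ h1 h2
    (sq_flat f p' p h sq.w w) (stkCx (p.base w) G) a b hW
  exact TorAmp.hasTorAmplitudeIn_of_iso (Q.mapIso (stalkCxOverPullIso p p' w G)).symm _ _ key

end FlatBC


section TorIndep

variable {S Y₁ Y₂ X₂ Y Z : Scheme.{u}} {q₁ : Y₁ ⟶ S} {q₂ : Y₂ ⟶ S} {f₂ : X₂ ⟶ Y₂}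
  {pY₁ : Y ⟶ Y₁} {pY₂ : Y ⟶ Y₂} {b : Z ⟶ Y} {r : Z ⟶ X₂}

/-- restriction of scalars along a composite, on complexes. -/
noncomputable def resCxCompIso {A B C : Type u} [CommRing A] [CommRing B] [CommRing C]
    (f : A →+* B) (g : B →+* C) (K : DRing.Cx C) :
    (resCx (g.comp f)).obj K ≅ (resCx f).obj ((resCx g).obj K) :=
  HomologicalComplex.Hom.isoOfComponents (fun _ => Iso.refl _) (fun i j _ => by
    simp only [Iso.refl_hom]
    rfl)

/-- **tor-independent base change of relative tor amplitude** (chain level): `Y = Y₂ ×_S Y₁`,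
`Z = X₂ ×_{Y₂} Y` with `X₂` and `Y₂` flat over `S`. -/
theorem hasTorAmplitude_pullCx_of_torIndep (hY : IsPullback pY₂ pY₁ q₂ q₁)
    (hZ : IsPullback r b f₂ pY₂) [Flat q₂] [Flat (f₂ ≫ q₂)]
    (G : CochainComplex X₂.Modules ℤ) (hGK : DCoh.IsKFlat G) (a c : ℤ)
    (hG : DerSch.HasTorAmplitude f₂ a c G) :
    DerSch.HasTorAmplitude b a c ((KD.pullCx r).obj G) := by
  intro z
  have hpt : pY₂.base (b.base z) = f₂.base (r.base z) := by
    rw [← Scheme.Hom.comp_apply, ← hZ.w]; rfl
  have hptS : q₂.base (f₂.base (r.base z)) = q₁.base (pY₁.base (b.base z)) := by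
    rw [← hpt, ← Scheme.Hom.comp_apply, hY.w]; rfl
  letI : Algebra (S.presheaf.stalk (q₂.base (f₂.base (r.base z))))
      (Y₂.presheaf.stalk (f₂.base (r.base z))) := (q₂.stalkMap (f₂.base (r.base z))).hom.toAlgebra
  let αS : S.presheaf.stalk (q₂.base (f₂.base (r.base z))) ⟶
      Y₁.presheaf.stalk (pY₁.base (b.base z)) :=
    (S.presheaf.stalkCongr (.of_eq hptS)).hom ≫ q₁.stalkMap (pY₁.base (b.base z))
  letI : Algebra (S.presheaf.stalk (q₂.base (f₂.base (r.base z))))
      (Y₁.presheaf.stalk (pY₁.base (b.base z))) := αS.hom.toAlgebra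
  letI : Algebra (Y₂.presheaf.stalk (f₂.base (r.base z))) (X₂.presheaf.stalk (r.base z)) :=
    (f₂.stalkMap (r.base z)).hom.toAlgebra
  letI : Algebra (Y₂.presheaf.stalk (f₂.base (r.base z))) (Y.presheaf.stalk (b.base z)) :=
    (sqα f₂ b r pY₂ hZ.w z).hom.toAlgebra
  obtain ⟨γY, hγY, hγY1, -⟩ := exists_flat_tensor_map_flex hY (b.base z) (f₂.base (r.base z))
    hpt rfl αS (fun _ => rfl) rfl
  obtain ⟨γZ, hγZ, hγZ1, hγZ2⟩ := exists_flat_tensor_map_of_isPullback hZ z rfl rfl
  have hX : DRing.HasTorAmplitudeIn (Y₂.presheaf.stalk (f₂.base (r.base z))) a c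
      (DRing.toD ((resCx (f₂.stalkMap (r.base z)).hom).obj (stkCx (r.base z) G))) :=
    TorAmp.hasTorAmplitudeIn_of_iso
      (Q.mapIso (Groth.Agent.S6188.stalkCxOverIso f₂ (r.base z) G)) a c (hG (r.base z))
  have hXK : DRing.IsKFlat (X₂.presheaf.stalk (r.base z)) (stkCx (r.base z) G) :=
    stalk_isKFlat_of_isKFlat (r.base z) G hGK
  have hfl : ((f₂.stalkMap (r.base z)).hom.comp (q₂.stalkMap (f₂.base (r.base z))).hom).Flat := by
    have := Flat.stalkMap (f₂ ≫ q₂) (r.base z)
    rw [Scheme.Hom.stalkMap_comp] at this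
    exact this
  have hXΛ : DRing.IsKFlat (S.presheaf.stalk (q₂.base (f₂.base (r.base z))))
      ((resCx (q₂.stalkMap (f₂.base (r.base z))).hom).obj
        ((resCx (f₂.stalkMap (r.base z)).hom).obj (stkCx (r.base z) G))) :=
    KF.isKFlat_of_iso (resCxCompIso _ _ _) (isKFlat_resCx_of_flat _ hfl _ hXK)
  have key := torAmp_torIndep_baseChange (Flat.stalkMap q₂ (f₂.base (r.base z))) γY hγY
    (hγY1 _) (r.stalkMap z).hom (b.stalkMap z).hom γZ hγZ hγZ1 hγZ2 (stkCx (r.base z) G) hXΛ a c hX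
  exact TorAmp.hasTorAmplitudeIn_of_iso (Q.mapIso (stalkCxOverPullIso r b z G)).symm _ _ key

end TorIndep

end Groth.Agent.Lib.Helper16.FibProd
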