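import Mathlib
import Groth.Agent.Lib.Helper16.FibProd1

/-!
# Helper16 — FibProd2: the factorisation `X₁ ×_S X₂ → Y₁ ×_S X₂ → Y₁ ×_S Y₂` of a product morphism
-/

set_option autoImplicit false

open CategoryTheory CategoryTheory.Limits AlgebraicGeometry

namespace Groth.Agent.Lib.Helper16.FibProd

universe u

variable {S X₁ Y₁ X₂ Y₂ X Y : Scheme.{u}} (f₁ : X₁ ⟶ Y₁) (q₁ : Y₁ ⟶ S) (f₂ : X₂ ⟶ Y₂)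
  (q₂ : Y₂ ⟶ S) {pX₁ : X ⟶ X₁} {pX₂ : X ⟶ X₂}
  (hX : IsPullback pX₁ pX₂ (f₁ ≫ q₁) (f₂ ≫ q₂))
  {pY₁ : Y ⟶ Y₁} {pY₂ : Y ⟶ Y₂} (hY : IsPullback pY₁ pY₂ q₁ q₂)

/-- `X = X₁ ×_S X₂ ⟶ Z = Y₁ ×_S X₂`. -/
noncomputable def aMap : X ⟶ pullback q₁ (f₂ ≫ q₂) :=
  pullback.lift (pX₁ ≫ f₁) pX₂ (by rw [Category.assoc, hX.w])

/-- `Z = Y₁ ×_S X₂ ⟶ Y = Y₁ ×_S Y₂`. -/
noncomputable def bMap : pullback q₁ (f₂ ≫ q₂) ⟶ Y :=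
  hY.lift (pullback.fst _ _) (pullback.snd _ _ ≫ f₂) (by rw [Category.assoc, pullback.condition])

@[reassoc (attr := simp)]
lemma aMap_fst : aMap f₁ q₁ f₂ q₂ hX ≫ pullback.fst _ _ = pX₁ ≫ f₁ := pullback.lift_fst _ _ _

@[reassoc (attr := simp)]
lemma aMap_snd : aMap f₁ q₁ f₂ q₂ hX ≫ pullback.snd _ _ = pX₂ := pullback.lift_snd _ _ _

@[reassoc (attr := simp)]
lemma bMap_fst : bMap q₁ f₂ q₂ hY ≫ pY₁ = pullback.fst _ _ := hY.lift_fst _ _ _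

@[reassoc (attr := simp)]
lemma bMap_snd : bMap q₁ f₂ q₂ hY ≫ pY₂ = pullback.snd _ _ ≫ f₂ := hY.lift_snd _ _ _

lemma aMap_bMap {f : X ⟶ Y} (hf₁ : f ≫ pY₁ = pX₁ ≫ f₁) (hf₂ : f ≫ pY₂ = pX₂ ≫ f₂) :
    aMap f₁ q₁ f₂ q₂ hX ≫ bMap q₁ f₂ q₂ hY = f := by
  apply hY.hom_ext
  · rw [Category.assoc, bMap_fst, aMap_fst, hf₁]
  · rw [Category.assoc, bMap_snd, aMap_snd_assoc, hf₂]

/-- `X = X₁ ×_{Y₁} Z`. -/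
lemma sqA : IsPullback pX₁ (aMap f₁ q₁ f₂ q₂ hX) f₁ (pullback.fst q₁ (f₂ ≫ q₂)) := by
  have t : IsPullback (pullback.snd q₁ (f₂ ≫ q₂)) (pullback.fst q₁ (f₂ ≫ q₂)) (f₂ ≫ q₂) q₁ :=
    (IsPullback.of_hasPullback q₁ (f₂ ≫ q₂)).flip
  have s : IsPullback (aMap f₁ q₁ f₂ q₂ hX ≫ pullback.snd q₁ (f₂ ≫ q₂)) pX₁ (f₂ ≫ q₂)
      (f₁ ≫ q₁) := by
    rw [aMap_snd]
    exact hX.flip
  exact (IsPullback.of_right s (aMap_fst f₁ q₁ f₂ q₂ hX) t).flip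

/-- `Z = X₂ ×_{Y₂} Y`. -/
lemma sqB : IsPullback (pullback.snd q₁ (f₂ ≫ q₂)) (bMap q₁ f₂ q₂ hY) f₂ pY₂ := by
  have s : IsPullback (bMap q₁ f₂ q₂ hY ≫ pY₁) (pullback.snd q₁ (f₂ ≫ q₂)) q₁ (f₂ ≫ q₂) := by
    rw [bMap_fst]
    exact IsPullback.of_hasPullback q₁ (f₂ ≫ q₂)
  exact (IsPullback.of_right s (bMap_snd q₁ f₂ q₂ hY) hY).flip

end Groth.Agent.Lib.Helper16.FibProd
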