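import Mathlib
import Groth.Agent.Lib.Helper16.AffRed2
import Groth.Agent.Lib.Helper26.SuppD3
import Groth.Agent.Lib.Helper26.LC11
import Groth.Agent.Lib.Helper16.RS10

/-!
# Helper16 — AffRed11: `(Rj_* F)|_U ≅ F` for an open immersion, and extension of objects of
`D_QCoh(U)` to `X` (modulo preservation of `D_QCoh` by `Rj_*`)
-/

set_option autoImplicit false
set_option linter.style.haveILetI false
universe u
open CategoryTheory CategoryTheory.Limits AlgebraicGeometry

attribute [local instance] HasDerivedCategory.standard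

namespace Groth.Agent.Lib.Helper16.AffRed

open Scheme.Modules Groth.Agent.Lib.Helper16.RS Groth.Agent.Lib.Helper26.MVMod4

attribute [local instance] Groth.Agent.Lib.Helper26.SuppD3.hasRpush

section

variable {X U : Scheme.{u}} (j : U ⟶ X) [IsOpenImmersion j]

/-- `(Rj_* F)|_U ≅ F` -/
theorem nonempty_RD_Rpush_self (F : DCoh.D U) :
    Nonempty ((RD j).obj ((DCoh.Rpush j).obj F) ≅ F) := by
  obtain ⟨I, hI, -, ⟨e⟩⟩ := exists_kinj F
  haveI := hI
  let e1 : (DCoh.Rpush j).obj F ≅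
      DerivedCategory.Q.obj (((pushforward j).mapHomologicalComplex (ComplexShape.up ℤ)).obj I) :=
    (DCoh.Rpush j).mapIso e.symm ≪≫ (unitIso (pushforward j) I).symm
  let e3 : (RCx j).obj (((pushforward j).mapHomologicalComplex (ComplexShape.up ℤ)).obj I) ≅ I :=
    (Functor.mapHomologicalComplexCompIso (restrictFunctorAdjCounitIso j)
        (ComplexShape.up ℤ)).app I ≪≫
      (Functor.mapHomologicalComplexIdIso U.Modules (ComplexShape.up ℤ)).app I
  exact ⟨(RD j).mapIso e1 ≪≫ RDQIso j _ ≪≫ DerivedCategory.Q.mapIso e3 ≪≫ e⟩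

end

/-- the statement of `Perf.Rpush_isQCohD_of_qcqs` (S0998), as a hypothesis. -/
def HRpushQCoh : Prop :=
  ∀ {X S : Scheme.{u}} (f : X ⟶ S) [QuasiCompact f] [QuasiSeparated f] [DCoh.HasRpush f]
    (K : DCoh.D X), DCoh.IsQCohD K → DCoh.IsQCohD ((DCoh.Rpush f).obj K)

/-- objects of `D_QCoh(U)` extend to `X` for a quasi-compact open `U` (modulo S0998). -/
theorem restrict_essSurj (h : HRpushQCoh.{u}) (X : Scheme.{u}) (U : X.Opens) [QuasiCompact U.ι]
    (F : DCoh.D (U : Scheme.{u})) (hF : DCoh.IsQCohD F) :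
    ∃ G : CochainComplex X.Modules ℤ, DCoh.IsQCohD (DCoh.toD X G) ∧
      Nonempty (DerivedCategory.Q.obj ((DCoh.restrictCx U).obj G) ≅ F) := by
  obtain ⟨G, ⟨e⟩⟩ := exists_rep ((DCoh.Rpush U.ι).obj F)
  refine ⟨G, Groth.Agent.Lib.Helper26.LC11.isQCohD_of_iso e.symm (h U.ι F hF), ?_⟩
  obtain ⟨e'⟩ := nonempty_RD_Rpush_self U.ι F
  exact ⟨(RDQIso U.ι G).symm ≪≫ (RD U.ι).mapIso e ≪≫ e'⟩

end Groth.Agent.Lib.Helper16.AffRed
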