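import Mathlib
import Groth.Agent.Lib.Helper16.AffRed6

/-!
# Helper16 — AffRed7: pseudo-coherence and `Rf_*` for an affine morphism with `f_* O_X`
pseudo-coherent (global statement, under `HEss`, `HPush`)
-/

set_option autoImplicit false
set_option linter.style.haveILetI false
universe u
open CategoryTheory CategoryTheory.Limits AlgebraicGeometry

attribute [local instance] HasDerivedCategory.standard

namespace Groth.Agent.Lib.Helper16.AffRed

open Scheme.Modules Groth.Agent.Lib.Helper16.RS Groth.Agent.Lib.Helper1.LocPC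

lemma mem_range_chart {Y S : Scheme.{u}} (V : Y.Opens) (c : S ≅ (V : Scheme.{u})) (y : Y)
    (hy : y ∈ V) : y ∈ Set.range (c.hom ≫ V.ι) := by
  have hy' : y ∈ Set.range V.ι := by rw [Scheme.Opens.range_ι]; exact hy
  obtain ⟨z, rfl⟩ := hy'
  refine ⟨c.inv z, ?_⟩
  rw [Scheme.Hom.comp_apply, ← Scheme.Hom.comp_apply c.inv c.hom, c.inv_hom_id]
  rfl

section

variable {X Y : Scheme.{u}} (f : X ⟶ Y) [DCoh.HasRpush f] [IsAffineHom f]

/-- the chart data attached to an affine open of the target. -/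
theorem chart_main (hEss : HEss.{u}) (hPush : HPush.{u})
    (hO : ∀ m : ℤ, DCoh.IsPseudoCoherentD m
      (DCoh.inD Y ((Scheme.Modules.pushforward f).obj (Coh.structureModule X))))
    (E : DCoh.D X) (hE : DCoh.IsQCohD E) (m : ℤ) (V : Y.Opens) (hV : IsAffineOpen V) :
    ∃ (S T : Scheme.{u}) (a : S ≅ ((f ⁻¹ᵁ V : X.Opens) : Scheme.{u})) (b : T ≅ (V : Scheme.{u})),
      (DCoh.IsPseudoCoherentD m ((RD (a.hom ≫ (f ⁻¹ᵁ V).ι)).obj E) ↔
        DCoh.IsPseudoCoherentD m ((RD (b.hom ≫ V.ι)).obj ((DCoh.Rpush f).obj E))) := by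
  have hW : IsAffineOpen (f ⁻¹ᵁ V) := hV.preimage f
  let a : Spec (CommRingCat.of Γ(X, f ⁻¹ᵁ V)) ≅ ((f ⁻¹ᵁ V : X.Opens) : Scheme.{u}) :=
    hW.isoSpec.symm
  let b : Spec (CommRingCat.of Γ(Y, V)) ≅ (V : Scheme.{u}) := hV.isoSpec.symm
  let f' : Spec (CommRingCat.of Γ(X, f ⁻¹ᵁ V)) ⟶ Spec (CommRingCat.of Γ(Y, V)) :=
    a.hom ≫ (f ∣_ V) ≫ b.inv
  let φ : Γ(Y, V) →+* Γ(X, f ⁻¹ᵁ V) := (Spec.preimage f').hom
  letI : Algebra Γ(Y, V) Γ(X, f ⁻¹ᵁ V) := φ.toAlgebra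
  have hφ : Spec.map (CommRingCat.ofHom (algebraMap Γ(Y, V) Γ(X, f ⁻¹ᵁ V))) = f' :=
    Spec.map_preimage f'
  have sq : a.hom ≫ (f ∣_ V) =
      Spec.map (CommRingCat.ofHom (algebraMap Γ(Y, V) Γ(X, f ⁻¹ᵁ V))) ≫ b.hom := by
    rw [hφ]
    simp [f']
  have hB := pc_algebra_of_pc_push f V a b sq hPush hO
  exact ⟨_, _, a, b, chart_iff f V a b sq hEss hPush hB E hE m⟩

theorem main (hEss : HEss.{u}) (hPush : HPush.{u})
    (hO : ∀ m : ℤ, DCoh.IsPseudoCoherentD m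
      (DCoh.inD Y ((Scheme.Modules.pushforward f).obj (Coh.structureModule X))))
    (E : DCoh.D X) (hE : DCoh.IsQCohD E) (m : ℤ) :
    DCoh.IsPseudoCoherentD m E ↔ DCoh.IsPseudoCoherentD m ((DCoh.Rpush f).obj E) := by
  constructor
  · intro h
    apply isPseudoCoherentD_of_cover
    intro y
    obtain ⟨V, hV, hyV, -⟩ := exists_isAffineOpen_mem_and_subset (x := y) (U := ⊤) trivial
    obtain ⟨S, T, a, b, hab⟩ := chart_main f hEss hPush hO E hE m V hV
    exact ⟨T, b.hom ≫ V.ι, inferInstance, mem_range_chart V b y hyV,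
      hab.1 (isPseudoCoherentD_RD _ m E h)⟩
  · intro h
    apply isPseudoCoherentD_of_cover
    intro x
    obtain ⟨V, hV, hyV, -⟩ := exists_isAffineOpen_mem_and_subset (x := f x) (U := ⊤) trivial
    obtain ⟨S, T, a, b, hab⟩ := chart_main f hEss hPush hO E hE m V hV
    exact ⟨S, a.hom ≫ (f ⁻¹ᵁ V).ι, inferInstance, mem_range_chart (f ⁻¹ᵁ V) a x hyV,
      hab.2 (isPseudoCoherentD_RD _ m _ h)⟩

end

end Groth.Agent.Lib.Helper16.AffRed
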