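import Mathlib
import Groth.Prelude.Def_CxOX
import Groth.Prelude.Def_DDual2
import Groth.Agent.Lib.Helper16.RS8

/-!
# Helper16 — RS9: the derived pullback of an `m`-pseudo-coherent object is `m`-pseudo-coherent
-/

set_option autoImplicit false
universe u
open CategoryTheory CategoryTheory.Limits AlgebraicGeometry

attribute [local instance] HasDerivedCategory.standard

namespace Groth.Agent.Lib.Helper16.RS

open Groth.Agent.Lib.Helper16.Stk Groth.Agent.Lib.Helper16.KD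

variable {X Y : Scheme.{u}}

/-- **the derived pullback of an `m`-pseudo-coherent object is `m`-pseudo-coherent.** -/
theorem isPseudoCoherent_Lpull (f : X ⟶ Y) [DCoh.HasLpull f] (m : ℤ) (E : DCoh.D Y)
    (hE : DCoh.IsPseudoCoherentD m E) : DCoh.IsPseudoCoherentD m ((DCoh.Lpull f).obj E) := by
  intro x
  obtain ⟨V, hfx, hV⟩ := hE (f x)
  refine ⟨f ⁻¹ᵁ V, hfx, ?_⟩
  rintro F' ⟨eF'⟩
  -- a K-flat representative of `E`
  obtain ⟨P, ψ, hP⟩ := exists_functorial_kFlat_resolution Y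
  let F₀ := DerivedCategory.Q.objPreimage E
  let e₀ : DerivedCategory.Q.obj F₀ ≅ E := DerivedCategory.Q.objObjPreimageIso E
  let P₀ := P.obj F₀
  have hP₀ : DCoh.IsKFlat P₀ := (hP F₀).1
  haveI : QuasiIso (ψ.app F₀) := (hP F₀).2.2.1
  have hs : IsIso (DerivedCategory.Q.map (ψ.app F₀)) := by
    rw [DerivedCategory.isIso_Q_map_iff_quasiIso]; infer_instance
  let e₁ : DerivedCategory.Q.obj P₀ ≅ E := @asIso _ _ _ _ (DerivedCategory.Q.map (ψ.app F₀)) hs ≪≫ e₀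
  obtain ⟨E₀, α, hE₀, hαi, hαe⟩ := hV P₀ ⟨e₁⟩
  -- the morphism `f⁻¹ V ⟶ V`
  let g := f ∣_ V
  haveI : DCoh.HasLpull g := hasLpull g
  -- `Q F' ≅ Q (f^* P₀)`
  let i₁ : DerivedCategory.Q.obj F' ≅ DerivedCategory.Q.obj ((pullCx f).obj P₀) :=
    eF' ≪≫ (DCoh.Lpull f).mapIso e₁.symm ≪≫ LpullIso f P₀ hP₀
  obtain ⟨i₂⟩ := nonempty_iso_Q_RCx (f ⁻¹ᵁ V).ι i₁
  let i₃ : (RCx (f ⁻¹ᵁ V).ι).obj ((pullCx f).obj P₀) ≅ (pullCx g).obj ((RCx V.ι).obj P₀) :=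
    (pullCxRCxIso f (f ⁻¹ᵁ V).ι V.ι g (morphismRestrict_ι f V).symm).app P₀
  have hPV : DCoh.IsKFlat ((RCx V.ι).obj P₀) := isKFlat_RCx V.ι P₀ hP₀
  have hE₀K : DCoh.IsKFlat E₀ := isKFlat_of_isStrictlyPerfect E₀ hE₀
  have hW : HW m ((DCoh.Lpull g).map α) := HW_Lpull_map g m α ⟨hαi, hαe⟩
  let eT : (DCoh.Lpull g).obj (DerivedCategory.Q.obj ((RCx V.ι).obj P₀)) ≅
      DerivedCategory.Q.obj ((RCx (f ⁻¹ᵁ V).ι).obj F') :=
    LpullIso g _ hPV ≪≫ DerivedCategory.Q.mapIso i₃.symm ≪≫ i₂.symm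
  have hW' : HW m ((LpullIso g E₀ hE₀K).inv ≫ (DCoh.Lpull g).map α ≫ eT.hom) :=
    HW_of_iso m (LpullIso g E₀ hE₀K) eT (by rw [Iso.hom_inv_id_assoc]) hW
  exact ⟨(pullCx g).obj E₀, (LpullIso g E₀ hE₀K).inv ≫ (DCoh.Lpull g).map α ≫ eT.hom,
    isStrictlyPerfect_pullCx g E₀ hE₀, hW'.1, hW'.2⟩

end Groth.Agent.Lib.Helper16.RS
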