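import Mathlib
import Groth.Prelude.Def_DDual2
import Groth.Agent.Lib.Helper16.TS1
import Groth.Agent.Lib.Helper16.KD3
import Groth.Agent.Lib.Helper16.DRE2
import Groth.Agent.S2265

/-!
# Helper16 — TildeLpull: `Lf^* (M~) ≅ (M ⊗^L_A B)~` for `f : Spec B ⟶ Spec A`
-/

set_option autoImplicit false
universe u
open CategoryTheory CategoryTheory.Limits AlgebraicGeometry

attribute [local instance] HasDerivedCategory.standard

namespace Groth.Agent.Lib.Helper16.TildeLpull

open Groth.Agent.Lib.Helper16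

variable {R S : CommRingCat.{u}} (φ : R ⟶ S)

/-- `M ↦ M~` with target `(Spec R).Modules`. -/
noncomputable abbrev til (R : CommRingCat.{u}) : ModuleCat.{u} R ⥤ (Spec R).Modules := tilde.functor R

instance (R : CommRingCat.{u}) : (til R).Additive := inferInstanceAs ((tilde.functor R).Additive)

instance (R : CommRingCat.{u}) [h : PreservesFiniteLimits (tilde.functor R)] :
    PreservesFiniteLimits (til R) := h

instance (R : CommRingCat.{u}) : PreservesFiniteColimits (til R) :=
  inferInstanceAs (PreservesFiniteColimits (tilde.functor R))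

/-- termwise tilde. -/
noncomputable abbrev tildeCx (R : CommRingCat.{u}) :
    CochainComplex (ModuleCat.{u} R) ℤ ⥤ CochainComplex (Spec R).Modules ℤ :=
  (til R).mapHomologicalComplex (ComplexShape.up ℤ)

/-- termwise extension of scalars. -/
noncomputable abbrev extCx : CochainComplex (ModuleCat.{u} R) ℤ ⥤ CochainComplex (ModuleCat.{u} S) ℤ :=
  (ModuleCat.extendScalars.{u, u, u} φ.hom).mapHomologicalComplex (ComplexShape.up ℤ)

/-- helper2's comparison, retyped. -/
noncomputable def leftIso' : til R ⋙ Scheme.Modules.pullback (Spec.map φ) ≅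
    ModuleCat.extendScalars.{u, u, u} φ.hom ⋙ til S :=
  Groth.Agent.S2265.leftIso φ

/-- the complex-level comparison `f^* (P~) ≅ (P ⊗_A B)~`. -/
noncomputable def cxIso (P : CochainComplex (ModuleCat.{u} R) ℤ) :
    (KD.pullCx (Spec.map φ)).obj ((tildeCx R).obj P) ≅ (tildeCx S).obj ((extCx φ).obj P) :=
  (NatIso.mapHomologicalComplex (leftIso' φ) (ComplexShape.up ℤ)).app P

lemma cxIso_naturality {P P' : CochainComplex (ModuleCat.{u} R) ℤ} (s : P ⟶ P') :
    (KD.pullCx (Spec.map φ)).map ((tildeCx R).map s) ≫ (cxIso φ P').hom =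
      (cxIso φ P).hom ≫ (tildeCx S).map ((extCx φ).map s) :=
  (NatIso.mapHomologicalComplex (leftIso' φ) (ComplexShape.up ℤ)).hom.naturality s

variable [PreservesFiniteLimits (tilde.functor R)] [PreservesFiniteLimits (tilde.functor S)]

/-- the functor on complexes whose left derived functor both sides compute. -/
noncomputable abbrev F : CochainComplex (ModuleCat.{u} R) ℤ ⥤ DCoh.D (Spec S) :=
  extCx φ ⋙ tildeCx S ⋙ DerivedCategory.Q

omit [PreservesFiniteLimits (tilde.functor R)] in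
lemma invertsKFlat_F : DRE.InvertsKFlat (F φ) := by
  intro P P' s hP hP' hs
  haveI := hs
  haveI := DRE.quasiIso_extendScalars_map_of_isKFlat φ.hom s hP hP'
  haveI : QuasiIso ((tildeCx S).map ((extCx φ).map s)) := inferInstance
  exact inferInstanceAs (IsIso (DerivedCategory.Q.map ((tildeCx S).map ((extCx φ).map s))))

/-- `tildeD` with target `D(Spec R)`. -/
noncomputable abbrev tilD (R : CommRingCat.{u}) [PreservesFiniteLimits (tilde.functor R)] :
    DerivedCategory (ModuleCat.{u} R) ⥤ DCoh.D (Spec R) :=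
  (til R).mapDerivedCategory

section One

variable [DRing.HasLBaseChange φ.hom]

/-- the counit of derived base change. -/
noncomputable abbrev LBCCounit :
    DerivedCategory.Qh ⋙ DRing.LBaseChange φ.hom ⟶ DRing.baseChangeKh φ.hom :=
  (DRing.baseChangeKh φ.hom).totalLeftDerivedCounit DerivedCategory.Qh (DRE.qisH R)

/-- `quot ⋙ baseChangeKh ⋙ tilD ≅ F`. -/
noncomputable def θ₁ : DRE.quot R ⋙ DRing.baseChangeKh φ.hom ⋙ tilD S ≅ F φ :=
  NatIso.ofComponents (fun P => (til S).mapDerivedCategoryFactors.app ((extCx φ).obj P))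
    (fun {P P'} s => by
      change (tilD S).map (DerivedCategory.Q.map ((extCx φ).map s)) ≫
          (til S).mapDerivedCategoryFactors.hom.app ((extCx φ).obj P') =
        (til S).mapDerivedCategoryFactors.hom.app ((extCx φ).obj P) ≫
          DerivedCategory.Q.map ((tildeCx S).map ((extCx φ).map s))
      exact (til S).mapDerivedCategoryFactors.hom.naturality ((extCx φ).map s))

/-- the natural transformation exhibiting `LBaseChange ⋙ tildeD` as a left derived functor. -/
noncomputable def α₁ :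
    (DRE.quot R ⋙ DerivedCategory.Qh) ⋙ (DRing.LBaseChange φ.hom ⋙ tilD S) ⟶ F φ :=
  Functor.whiskerLeft (DRE.quot R)
    (Functor.whiskerRight (LBCCounit φ) (tilD S) :
      (DerivedCategory.Qh ⋙ DRing.LBaseChange φ.hom) ⋙ tilD S ⟶
        DRing.baseChangeKh φ.hom ⋙ tilD S) ≫ (θ₁ φ).hom

omit [PreservesFiniteLimits (tilde.functor R)] in
lemma α₁_app (P : CochainComplex (ModuleCat.{u} R) ℤ) :
    (α₁ φ).app P = (tilD S).map ((LBCCounit φ).app ((DRE.quot R).obj P)) ≫
      (til S).mapDerivedCategoryFactors.hom.app ((extCx φ).obj P) := rfl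

omit [PreservesFiniteLimits (tilde.functor R)] in
lemma isIso_α₁_app (P : CochainComplex (ModuleCat.{u} R) ℤ) (hP : DRing.IsKFlat R P) :
    IsIso ((α₁ φ).app P) := by
  rw [α₁_app]
  have h0 := DRE.isIso_app_h_of_isKFlat (DRE.invertsKFlat_baseChangeKh φ.hom) (LBCCounit φ) P hP
  have h1 : IsIso ((tilD S).map ((LBCCounit φ).app ((DRE.quot R).obj P))) :=
    @Functor.map_isIso _ _ _ _ _ _ (tilD S) _ h0
  have h2 : IsIso ((til S).mapDerivedCategoryFactors.hom.app ((extCx φ).obj P)) := inferInstance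
  exact @IsIso.comp_isIso _ _ _ _ _ _ _ h1 h2

end One

section Two

variable [DCoh.HasLpull (Spec.map φ)]

/-- `tildeCx ⋙ quot ⋙ pullKh ≅ F`. -/
noncomputable def θ₂ : tildeCx R ⋙ KD.quot (Spec R) ⋙ DCoh.pullKh (Spec.map φ) ≅ F φ :=
  NatIso.ofComponents (fun P => DerivedCategory.Q.mapIso (cxIso φ P))
    (fun {P P'} s => by
      change DerivedCategory.Q.map ((KD.pullCx (Spec.map φ)).map ((tildeCx R).map s)) ≫
          DerivedCategory.Q.map (cxIso φ P').hom =
        DerivedCategory.Q.map (cxIso φ P).hom ≫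
          DerivedCategory.Q.map ((tildeCx S).map ((extCx φ).map s))
      rw [← Functor.map_comp, ← Functor.map_comp, cxIso_naturality])

/-- the natural transformation exhibiting `tildeD ⋙ Lf^*` as a left derived functor. -/
noncomputable def α₂ :
    (DRE.quot R ⋙ DerivedCategory.Qh) ⋙ (tilD R ⋙ DCoh.Lpull (Spec.map φ)) ⟶ F φ :=
  (Functor.whiskerRight (til R).mapDerivedCategoryFactors.hom (DCoh.Lpull (Spec.map φ)) :
      (DerivedCategory.Q ⋙ tilD R) ⋙ DCoh.Lpull (Spec.map φ) ⟶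
        (tildeCx R ⋙ DerivedCategory.Q) ⋙ DCoh.Lpull (Spec.map φ)) ≫
    (Functor.whiskerLeft (tildeCx R ⋙ KD.quot (Spec R)) (KD.LpullCounit (Spec.map φ)) :
      (tildeCx R ⋙ KD.quot (Spec R)) ⋙ (DerivedCategory.Qh ⋙ DCoh.Lpull (Spec.map φ)) ⟶
        (tildeCx R ⋙ KD.quot (Spec R)) ⋙ DCoh.pullKh (Spec.map φ)) ≫ (θ₂ φ).hom

omit [PreservesFiniteLimits (tilde.functor S)] in
lemma α₂_app (P : CochainComplex (ModuleCat.{u} R) ℤ) :
    (α₂ φ).app P = (DCoh.Lpull (Spec.map φ)).map ((til R).mapDerivedCategoryFactors.hom.app P) ≫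
      (KD.LpullCounit (Spec.map φ)).app ((KD.quot (Spec R)).obj ((tildeCx R).obj P)) ≫
        DerivedCategory.Q.map (cxIso φ P).hom := rfl

omit [PreservesFiniteLimits (tilde.functor S)] in
lemma isIso_α₂_app (P : CochainComplex (ModuleCat.{u} R) ℤ) (hP : DRing.IsKFlat R P) :
    IsIso ((α₂ φ).app P) := by
  rw [α₂_app]
  have h0 := KD.isIso_LpullCounit_app (Spec.map φ) ((tildeCx R).obj P) (Stk.tilde_isKFlat R P hP)
  have h1 : IsIso ((DCoh.Lpull (Spec.map φ)).map ((til R).mapDerivedCategoryFactors.hom.app P)) :=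
    Functor.map_isIso _ _
  have h3 : IsIso (DerivedCategory.Q.map (cxIso φ P).hom) := inferInstance
  exact @IsIso.comp_isIso _ _ _ _ _ _ _ h1 (@IsIso.comp_isIso _ _ _ _ _ _ _ h0 h3)

end Two

/-- **`(- ⊗^L_A B) ⋙ tilde ≅ tilde ⋙ Lf^*`.** -/
theorem nonempty_iso [DRing.HasLBaseChange φ.hom] [DCoh.HasLpull (Spec.map φ)] :
    Nonempty (DRing.LBaseChange φ.hom ⋙ tilD S ≅ tilD R ⋙ DCoh.Lpull (Spec.map φ)) := by
  haveI h1 : (DRing.LBaseChange φ.hom ⋙ tilD S).IsLeftDerivedFunctor (α₁ φ) (DRE.qis R) :=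
    DRE.isLeftDerivedFunctor_of_isIso (invertsKFlat_F φ) (α₁ φ)
      (fun P hP => isIso_α₁_app φ P hP)
  haveI h2 : (tilD R ⋙ DCoh.Lpull (Spec.map φ)).IsLeftDerivedFunctor (α₂ φ) (DRE.qis R) :=
    DRE.isLeftDerivedFunctor_of_isIso (invertsKFlat_F φ) (α₂ φ)
      (fun P hP => isIso_α₂_app φ P hP)
  exact ⟨Functor.leftDerivedUnique (tilD R ⋙ DCoh.Lpull (Spec.map φ))
    (DRing.LBaseChange φ.hom ⋙ tilD S) (α₁ φ) (α₂ φ) (DRE.qis R)⟩

end Groth.Agent.Lib.Helper16.TildeLpull
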