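import Mathlib
import Groth.Agent.Lib.Helper16.AffRed5
import Groth.Agent.Lib.Helper16.FlatBC3
import Groth.Agent.Lib.Helper16.RelBC1
import Groth.Agent.Lib.Helper16.KD3
import Groth.Agent.Lib.Helper16.RS9
import Groth.Agent.S1055

/-!
# Helper16 — AffRed8: faithfully flat descent of pseudo-coherence on an affine chart
-/

set_option autoImplicit false
set_option linter.style.haveILetI false
universe u
open CategoryTheory CategoryTheory.Limits AlgebraicGeometry

attribute [local instance] HasDerivedCategory.standard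

namespace Groth.Agent.Lib.Helper16.AffRed

open Scheme.Modules Groth.Agent.Lib.Helper16.RS Groth.Agent.Lib.Helper1.LocPC
  Groth.Agent.Lib.Helper16.PC Groth.Agent.Lib.Helper16.KD Groth.Agent.Lib.Helper16.FlatBC
  DerivedCategory

section Ring

variable {A B : Type u} [CommRing A] [CommRing B] (φ : A →+* B) [FlatHom φ]
  [DRing.HasLBaseChange φ]

/-- for a flat ring map, derived base change is termwise base change. -/
theorem nonempty_LBaseChange_iso_ε (M : Dual.D A) :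
    Nonempty ((DRing.LBaseChange φ).obj M ≅ (ε φ).obj M) := by
  obtain ⟨Pf, ψ, hPf⟩ := Groth.Agent.Lib.Helper16.DRE.exists_functorial_kFlat_resolution A
  let F₀ := Q.objPreimage M
  let e₀ : Q.obj F₀ ≅ M := Q.objObjPreimageIso M
  have hP₀ : DRing.IsKFlat A (Pf.obj F₀) := (hPf F₀).1
  haveI : QuasiIso (ψ.app F₀) := (hPf F₀).2.2.1
  have hs : IsIso (Q.map (ψ.app F₀)) := by
    rw [isIso_Q_map_iff_quasiIso]; infer_instance
  let e₁ : Q.obj (Pf.obj F₀) ≅ M := @asIso _ _ _ _ (Q.map (ψ.app F₀)) hs ≪≫ e₀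
  exact ⟨(DRing.LBaseChange φ).mapIso e₁.symm ≪≫
    Groth.Agent.Lib.Helper16.RelBC.lBaseChangeIsoOfKFlat φ _ hP₀ ≪≫
    (εQIso φ _).symm ≪≫ (ε φ).mapIso e₁⟩

end Ring

section Open

variable {X U : Scheme.{u}} (j : U ⟶ X) [IsOpenImmersion j] [DCoh.HasLpull j]

/-- derived pullback along an open immersion is restriction. -/
theorem nonempty_Lpull_iso_RD (E : DCoh.D X) :
    Nonempty ((DCoh.Lpull j).obj E ≅ (RD j).obj E) := by
  obtain ⟨Pf, ψ, hPf⟩ := Groth.Agent.Lib.Helper16.Stk.exists_functorial_kFlat_resolution X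
  let F₀ := Q.objPreimage E
  let e₀ : Q.obj F₀ ≅ E := Q.objObjPreimageIso E
  have hP₀ : DCoh.IsKFlat (Pf.obj F₀) := (hPf F₀).1
  haveI : QuasiIso (ψ.app F₀) := (hPf F₀).2.2.1
  have hs : IsIso (Q.map (ψ.app F₀)) := by
    rw [isIso_Q_map_iff_quasiIso]; infer_instance
  let e₁ : Q.obj (Pf.obj F₀) ≅ E := @asIso _ _ _ _ (Q.map (ψ.app F₀)) hs ≪≫ e₀
  exact ⟨(DCoh.Lpull j).mapIso e₁.symm ≪≫ LpullIso j _ hP₀ ≪≫
    Q.mapIso ((RCxIsoPullCx j).app _).symm ≪≫ (RDQIso j _).symm ≪≫ (RD j).mapIso e₁⟩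

end Open

section Chart

lemma pc_Lpull_congr {X' X : Scheme.{u}} {f₁ f₂ : X' ⟶ X} (h : f₁ = f₂) [DCoh.HasLpull f₁]
    [DCoh.HasLpull f₂] (E : DCoh.D X) (m : ℤ)
    (hE : DCoh.IsPseudoCoherentD m ((DCoh.Lpull f₁).obj E)) :
    DCoh.IsPseudoCoherentD m ((DCoh.Lpull f₂).obj E) := by
  subst h
  exact hE

variable {X' X : Scheme.{u}} (f : X' ⟶ X) [DCoh.HasLpull f] {A P : Type u} [CommRing A]
  [CommRing P] [Algebra A P] [Module.FaithfullyFlat A P]
  (jU : Spec (CommRingCat.of A) ⟶ X) [IsOpenImmersion jU] (g : Spec (CommRingCat.of P) ⟶ X')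
  (hg : g ≫ f = Spec.map (CommRingCat.ofHom (algebraMap A P)) ≫ jU)

include hg in
/-- descent of `m`-pseudo-coherence along a faithfully flat chart. -/
theorem chart_descent (hEss : HEss.{u}) (E : DCoh.D X) (hE : DCoh.IsQCohD E) (m : ℤ)
    (hL : DCoh.IsPseudoCoherentD m ((DCoh.Lpull f).obj E)) :
    DCoh.IsPseudoCoherentD m ((RD jU).obj E) := by
  haveI := hasLpull g
  haveI := hasLpull (g ≫ f)
  haveI := hasLpull jU
  haveI := hasLpull (Spec.map (CommRingCat.ofHom (algebraMap A P)))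
  haveI := hasLpull (Spec.map (CommRingCat.ofHom (algebraMap A P)) ≫ jU)
  haveI := Groth.Agent.Lib.Helper16.DRE.hasLBaseChange (algebraMap A P)
  obtain ⟨M, ⟨e⟩⟩ := hEss (CommRingCat.of A) _ (isQCohD_RD jU E hE)
  have h1 := isPseudoCoherent_Lpull g m _ hL
  have h2 : DCoh.IsPseudoCoherentD m ((DCoh.Lpull (g ≫ f)).obj E) :=
    isPseudoCoherentD_of_iso ((LpullCompIso g f).app E) h1
  have h3 := pc_Lpull_congr hg E m h2
  have h4 : DCoh.IsPseudoCoherentD m
      ((DCoh.Lpull (Spec.map (CommRingCat.ofHom (algebraMap A P)))).obj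
        ((DCoh.Lpull jU).obj E)) :=
    isPseudoCoherentD_of_iso
      ((LpullCompIso (Spec.map (CommRingCat.ofHom (algebraMap A P))) jU).app E).symm h3
  obtain ⟨e0⟩ := nonempty_Lpull_iso_RD jU E
  have h5 := isPseudoCoherentD_of_iso
    ((DCoh.Lpull (Spec.map (CommRingCat.ofHom (algebraMap A P)))).mapIso (e0 ≪≫ e.symm)) h4
  obtain ⟨e55⟩ := Groth.Agent.S1055.result (algebraMap A P)
  have h6 := isPseudoCoherentD_of_iso (e55.app M).symm h5
  have h7 := (Groth.Agent.S1004.result P _ m).1 h6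
  obtain ⟨e8⟩ := nonempty_LBaseChange_iso_ε (algebraMap A P) M
  have h9 := pc_of_pc_ε M m (pc_of_iso h7 e8)
  exact isPseudoCoherentD_of_iso e ((Groth.Agent.S1004.result A M m).2 h9)

end Chart

end Groth.Agent.Lib.Helper16.AffRed
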