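import Mathlib
import Groth.Agent.Lib.Helper16.AffRed8

/-!
# Helper16 — AffRed9: faithfully flat affine charts for a flat surjective quasi-compact morphism;
descent of pseudo-coherence (under `HEss`)
-/

set_option autoImplicit false
set_option linter.style.haveILetI false
universe u
open CategoryTheory CategoryTheory.Limits AlgebraicGeometry

attribute [local instance] HasDerivedCategory.standard

namespace Groth.Agent.Lib.Helper16.AffRed

open Scheme.Modules Groth.Agent.Lib.Helper16.RS Groth.Agent.Lib.Helper1.LocPC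

section Geom

variable {X' X : Scheme.{u}} (f : X' ⟶ X) [Flat f] [Surjective f] [QuasiCompact f]

/-- over an affine open `U` of the target, a flat surjective quasi-compact morphism admits a
faithfully flat affine chart. -/
theorem exists_ff_chart (U : X.Opens) (hU : IsAffineOpen U) :
    ∃ (P : CommRingCat.{u}) (ψ : Γ(X, U) ⟶ P) (g : Spec P ⟶ X'),
      ψ.hom.FaithfullyFlat ∧ g ≫ f = Spec.map ψ ≫ hU.fromSpec := by
  have hc : IsCompact (f ⁻¹ᵁ U : Set X') := f.isCompact_preimage hU.isCompact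
  obtain ⟨Us, hUs, hfin, hsup⟩ := X'.isBasis_affineOpens.exists_finite_of_isCompact hc
  haveI : Finite Us := hfin.to_subtype
  let W : Us → X'.Opens := fun i => i.1
  have hW : ∀ i, IsAffineOpen (W i) := fun i => hUs i.2
  have hWle : ∀ i, W i ≤ f ⁻¹ᵁ U := fun i => by
    rw [hsup]; exact le_sSup i.2
  let R : Us → CommRingCat.{u} := fun i => Γ(X', W i)
  let ψi : ∀ i, Γ(X, U) ⟶ R i := fun i => f.appLE U (W i) (hWle i)
  let ψ : Γ(X, U) ⟶ CommRingCat.of (Π i, R i) :=
    CommRingCat.ofHom (RingHom.pi fun i => (ψi i).hom)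
  have hψi : ∀ i, ψ ≫ CommRingCat.ofHom (Pi.evalRingHom (fun i => R i) i) = ψi i := fun i => by
    ext x; rfl
  let g : Spec (CommRingCat.of (Π i, R i)) ⟶ X' :=
    inv (sigmaSpec R) ≫ Sigma.desc (fun i => (hW i).fromSpec)
  have hgi : ∀ i, Spec.map (CommRingCat.ofHom (Pi.evalRingHom (fun i => R i) i)) ≫ g =
      (hW i).fromSpec := fun i => by
    simp only [g]
    rw [← ι_sigmaSpec, Category.assoc, IsIso.hom_inv_id_assoc, Sigma.ι_desc]
  have hg : g ≫ f = Spec.map ψ ≫ hU.fromSpec := by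
    rw [← cancel_epi (sigmaSpec R)]
    apply Sigma.hom_ext
    intro i
    have e1 : Sigma.ι _ i ≫ sigmaSpec R ≫ g ≫ f = (hW i).fromSpec ≫ f := by
      rw [← Category.assoc, ι_sigmaSpec, ← Category.assoc, hgi]
    have e2 : Sigma.ι _ i ≫ sigmaSpec R ≫ Spec.map ψ ≫ hU.fromSpec =
        Spec.map (ψi i) ≫ hU.fromSpec := by
      rw [← Category.assoc, ι_sigmaSpec, ← Category.assoc, ← Spec.map_comp, hψi]
    rw [e1, e2, IsAffineOpen.SpecMap_appLE_fromSpec]
  refine ⟨_, ψ, g, ?_, hg⟩
  rw [← flat_and_surjective_SpecMap_iff]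
  constructor
  · haveI : Flat (Sigma.desc (fun i => (hW i).fromSpec)) := inferInstance
    haveI : Flat g := inferInstance
    haveI : Flat (Spec.map ψ ≫ hU.fromSpec) := by
      rw [← hg]; infer_instance
    haveI : MorphismProperty.HasOfPostcompProperty (@Flat.{u}) (@IsOpenImmersion.{u}) :=
      instHasOfPostcompPropertySchemeIsOpenImmersionOfIsStableUnderBaseChange _
    exact MorphismProperty.of_postcomp (W := @Flat) (W' := @IsOpenImmersion) (Spec.map ψ)
      hU.fromSpec inferInstance inferInstance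
  · constructor
    intro p
    obtain ⟨x', hx'⟩ := (inferInstance : Surjective f).surj (hU.fromSpec p)
    have hx'U : x' ∈ f ⁻¹ᵁ U := by
      change f x' ∈ (U : Set X)
      rw [hx', ← hU.range_fromSpec]
      exact Set.mem_range_self p
    rw [hsup] at hx'U
    obtain ⟨W₀, hW₀mem, hxW₀⟩ := TopologicalSpace.Opens.mem_sSup.1 hx'U
    let i : Us := ⟨W₀, hW₀mem⟩
    have hxr : x' ∈ Set.range (hW i).fromSpec := by
      rw [(hW i).range_fromSpec]; exact hxW₀
    obtain ⟨q, hq⟩ := hxr
    refine ⟨(Spec.map (CommRingCat.ofHom (Pi.evalRingHom (fun i => R i) i))) q, ?_⟩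
    apply hU.fromSpec.isOpenEmbedding.injective
    rw [← hx', ← hq, ← hgi i]
    change (Spec.map ψ ≫ hU.fromSpec) _ = f ((Spec.map _ ≫ g) q)
    rw [← hg]
    rfl

end Geom

/-- **faithfully flat descent of `m`-pseudo-coherence** on `D_QCoh` (under `HEss`). -/
theorem main_descent (hEss : HEss.{u}) {X' X : Scheme.{u}} (f : X' ⟶ X) [Flat f] [Surjective f]
    [QuasiCompact f] [DCoh.HasLpull f] (E : DCoh.D X) (hE : DCoh.IsQCohD E) (m : ℤ) :
    DCoh.IsPseudoCoherentD m E ↔ DCoh.IsPseudoCoherentD m ((DCoh.Lpull f).obj E) := by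
  constructor
  · exact Groth.Agent.Lib.Helper16.RS.isPseudoCoherent_Lpull f m E
  · intro hL
    apply isPseudoCoherentD_of_cover
    intro x
    obtain ⟨U, hU, hxU, -⟩ := exists_isAffineOpen_mem_and_subset (x := x) (U := ⊤) trivial
    obtain ⟨P, ψ, g, hψ, hg⟩ := exists_ff_chart f U hU
    letI : Algebra Γ(X, U) P := ψ.hom.toAlgebra
    haveI : Module.FaithfullyFlat Γ(X, U) P := hψ
    refine ⟨Spec Γ(X, U), hU.fromSpec, inferInstance, ?_,
      chart_descent (A := Γ(X, U)) (P := P) f hU.fromSpec g hg hEss E hE m hL⟩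
    rw [hU.range_fromSpec]
    exact hxU

end Groth.Agent.Lib.Helper16.AffRed
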