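import Mathlib
import Groth.Agent.Lib.Helper8.EFB19
import Groth.Agent.Lib.Helper8.Dim2
import Groth.Agent.Lib.Helper16.FLI2

/-!
# Helper16 — BassCrit: the Bass-number criterion for injective amplitude over a noetherian ring.

If `L` is a bounded below object of `D(A)` (no finiteness assumption on its cohomology) and
`Ext^i_{A_q}(κ(q), L_q) = 0` for all primes `q` and all `i > n`, then `Ext^i_A(M, L) = 0` for all
modules `M` and all `i > n`.  In particular a module all of whose higher Bass numbers vanish is
injective.
-/

set_option autoImplicit false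
universe u
open CategoryTheory CategoryTheory.Limits DerivedCategory TensorProduct
  CategoryTheory.Pretriangulated

attribute [local instance] HasDerivedCategory.standard

namespace Groth.Agent.Lib.Helper16.BassCrit

open Groth.Agent.Lib.Helper16.FlatBC Groth.Agent.Lib.Helper8 Groth.Agent.Lib.Helper8.EFB
  Groth.Agent.Lib.Helper8.Bidual

/-- a module on which the elements outside a prime `q` act injectively and whose localization at
`q` vanishes is zero -/
lemma subsingleton_of_smul_injective {B : Type u} [CommRing B] (q : Ideal B) [q.IsPrime]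
    (H : Type*) [AddCommGroup H] [Module B H] (hinj : ∀ s : B, s ∉ q → ∀ h : H, s • h = 0 → h = 0)
    (hs : Subsingleton (Localization.AtPrime q ⊗[B] H)) : Subsingleton H := by
  suffices h0 : ∀ h : H, h = 0 from ⟨fun h h' => (h0 h).trans (h0 h').symm⟩
  intro h
  have h1 : TensorProduct.mk B (Localization.AtPrime q) H 1 h = 0 := Subsingleton.elim _ _
  haveI : IsLocalizedModule q.primeCompl (TensorProduct.mk B (Localization.AtPrime q) H 1) :=
    (isLocalizedModule_iff_isBaseChange q.primeCompl (Localization.AtPrime q) _).2
      (TensorProduct.isBaseChange B H (Localization.AtPrime q))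
  obtain ⟨s, hs⟩ := (IsLocalizedModule.eq_zero_iff q.primeCompl
    (TensorProduct.mk B (Localization.AtPrime q) H 1)).1 h1
  exact hinj (s : B) s.2 h hs

variable {A : Type u} [CommRing A] [IsNoetherianRing A]

variable (L : Dual.D A) (n : ℤ) (c : ℤ) (hL : L.IsGE c)
  (hq : ∀ (q : Ideal A) [q.IsPrime] (i : ℤ), n < i → Subsingleton
    (Dual.inD (Localization.AtPrime q)
      (Localization.AtPrime q ⧸ q.map (algebraMap A (Localization.AtPrime q))) ⟶
      ((ε (algebraMap A (Localization.AtPrime q))).obj L)⟦i⟧))

include hL hq in
/-- vanishing of the Bass numbers above `n` implies `Ext^i(M, L) = 0` for `i > n` and all cyclic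
modules `M` -/
theorem pv_cyclic (I : Ideal A) :
    ∀ (M : Type u) [AddCommGroup M] [Module A M] (g : A →ₗ[A] M),
      Function.Surjective g → I ≤ LinearMap.ker g → PV L n M := by
  induction I using WellFoundedGT.induction with
  | ind I IH =>
  intro M _ _ g hg hI
  by_cases hlt : I < LinearMap.ker g
  · exact IH _ hlt M g hg le_rfl
  have hker : LinearMap.ker g = I := (eq_of_le_of_not_lt hI hlt).symm
  by_cases hprime : I.IsPrime
  · -- prime case: localize
    intro i hi
    refine subsingleton_of_smul_injective I _ (fun f hf e he => ?_) ?_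
    · have hinj : Function.Injective (fun x : M => f • x) := by
        intro x y hxy
        obtain ⟨x', rfl⟩ := hg x
        obtain ⟨y', rfl⟩ := hg y
        have h1 : g (f * (x' - y')) = 0 := by
          rw [← smul_eq_mul, map_smul, map_sub, smul_sub]
          exact sub_eq_zero.2 hxy
        have h2 : f * (x' - y') ∈ I := by rw [← hker]; exact h1
        have h3 : x' - y' ∈ I := (hprime.mem_or_mem h2).resolve_left hf
        have h4 : g (x' - y') = 0 := by
          have : x' - y' ∈ LinearMap.ker g := by rw [hker]; exact h3
          exact this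
        rw [map_sub] at h4
        exact sub_eq_zero.1 h4
      have hquot : PV L n (M ⧸ LinearMap.range (LinearMap.lsmul A M f)) := by
        refine IH (LinearMap.ker ((LinearMap.range (LinearMap.lsmul A M f)).mkQ ∘ₗ g)) ?_ _
          ((LinearMap.range (LinearMap.lsmul A M f)).mkQ ∘ₗ g)
          ((Submodule.mkQ_surjective _).comp hg) le_rfl
        refine lt_of_le_of_ne ?_ ?_
        · intro x hx
          have : g x = 0 := by
            have : x ∈ LinearMap.ker g := by rw [hker]; exact hx
            exact this
          rw [LinearMap.mem_ker, LinearMap.comp_apply, this, map_zero]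
        · intro heq
          apply hf
          rw [heq, LinearMap.mem_ker, LinearMap.comp_apply, Submodule.mkQ_apply,
            Submodule.Quotient.mk_eq_zero]
          exact ⟨g 1, by
            change f • g 1 = g f
            rw [← map_smul, smul_eq_mul, mul_one]⟩
      exact smul_injective_of_subsingleton L f hinj i (hquot i hi) e he
    · have e : (A ⧸ I) ≃ₗ[A] M :=
        (Submodule.quotEquivOfEq _ _ hker.symm).trans (LinearMap.quotKerEquivOfSurjective g hg)
      obtain ⟨Θ⟩ := nonempty_bcEquiv_quot (B := Localization.AtPrime I) I L ⟨c, hL⟩ i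
      haveI := hq I i hi
      have h1 : Subsingleton (Localization.AtPrime I ⊗[A] (Dual.inD A (A ⧸ I) ⟶ L⟦i⟧)) :=
        Θ.subsingleton
      let j : (Dual.inD A M ⟶ L⟦i⟧) ≃ₗ[A] (Dual.inD A (A ⧸ I) ⟶ L⟦i⟧) :=
        Groth.Agent.Lib.Helper16.FLI.homCongrLin
          ((singleFunctor (ModuleCat.{u} A) 0).mapIso e.toModuleIso).symm (Iso.refl _)
      exact (TensorProduct.congr (LinearEquiv.refl A (Localization.AtPrime I)) j).toEquiv.subsingleton
  · -- not prime
    rcases Ideal.not_isPrime_iff.1 hprime with htop | ⟨a, ha, b, hb, hab⟩
    · haveI : Subsingleton M := by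
        refine ⟨fun x y => ?_⟩
        obtain ⟨x', rfl⟩ := hg x
        obtain ⟨y', rfl⟩ := hg y
        have hx : x' ∈ LinearMap.ker g := by rw [hker, htop]; exact Submodule.mem_top
        have hy : y' ∈ LinearMap.ker g := by rw [hker, htop]; exact Submodule.mem_top
        rw [LinearMap.mem_ker.1 hx, LinearMap.mem_ker.1 hy]
      exact pv_of_subsingleton M
    · let φ : A →ₗ[A] M := LinearMap.toSpanSingleton A M (g a)
      have hφ : ∀ x : A, φ x = g (x * a) := fun x => by
        change x • g a = g (x * a)
        rw [← map_smul, smul_eq_mul]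
      have h1 : PV L n (LinearMap.range φ) := by
        refine IH (LinearMap.ker φ.rangeRestrict) ?_ _ φ.rangeRestrict
          (LinearMap.surjective_rangeRestrict φ) le_rfl
        rw [LinearMap.ker_rangeRestrict]
        refine lt_of_le_of_ne ?_ ?_
        · intro x hx
          rw [LinearMap.mem_ker, hφ]
          have : x * a ∈ LinearMap.ker g := by rw [hker]; exact I.mul_mem_right a hx
          exact this
        · intro heq
          apply hb
          rw [heq, LinearMap.mem_ker, hφ]
          have : b * a ∈ LinearMap.ker g := by rw [hker, mul_comm]; exact hab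
          exact this
      have h3 : PV L n (M ⧸ LinearMap.range φ) := by
        refine IH (LinearMap.ker ((LinearMap.range φ).mkQ ∘ₗ g)) ?_ _
          ((LinearMap.range φ).mkQ ∘ₗ g) ((Submodule.mkQ_surjective _).comp hg) le_rfl
        refine lt_of_le_of_ne ?_ ?_
        · intro x hx
          have : g x = 0 := by
            have : x ∈ LinearMap.ker g := by rw [hker]; exact hx
            exact this
          rw [LinearMap.mem_ker, LinearMap.comp_apply, this, map_zero]
        · intro heq
          apply ha
          rw [heq, LinearMap.mem_ker, LinearMap.comp_apply, Submodule.mkQ_apply,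
            Submodule.Quotient.mk_eq_zero]
          exact ⟨1, by rw [hφ, one_mul]⟩
      exact pv_of_ses (LinearMap.range φ).subtype (LinearMap.range φ).mkQ
        (Submodule.injective_subtype _) (Submodule.mkQ_surjective _)
        (LinearMap.exact_subtype_mkQ _) h1 h3

include hL hq in
/-- **Bass-number criterion**: if `L` is bounded below and `Ext^i_{A_q}(κ(q), L_q) = 0` for all
primes `q` and all `i > n`, then `Ext^i(M, L) = 0` for all modules `M` and all `i` outside
`[c, n]`. -/
theorem hinj_of_bass :
    ∀ (M : Type u) [AddCommGroup M] [Module A M] (i : ℤ), (i < c ∨ n < i) →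
      Subsingleton (Dual.inD A M ⟶ L⟦i⟧) := by
  apply ((IAmp.injectiveAmplitude_tfae L c n).out 2 1).1
  intro I i hi
  rcases hi with hi | hi
  · haveI : (L⟦i⟧).IsGE (c - i) := by
      haveI := hL
      exact (TStructure.t).isGE_shift L c i (c - i) (by omega)
    exact subsingleton_hom_of_isLE_of_isGE (Dual.inD A (A ⧸ I)) (L⟦i⟧) 0 (c - i) (by omega)
      inferInstance inferInstance
  · exact pv_cyclic L n c hL hq I (A ⧸ I) (Submodule.mkQ I)
      (Submodule.mkQ_surjective I) (by rw [Submodule.ker_mkQ]) i hi

end Groth.Agent.Lib.Helper16.BassCrit
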