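import Mathlib
import Groth.Agent.Lib.Helper16.BassCrit
import Groth.Agent.Lib.Helper8.Res3

/-!
# Helper16 — BassCrit2: injectivity from vanishing Bass numbers; tensoring an injective module with
a flat algebra whose fibres at all primes are fields (`pB_q = qB_q`) gives an injective module.
-/

set_option autoImplicit false
universe u
open CategoryTheory CategoryTheory.Limits DerivedCategory TensorProduct
  CategoryTheory.Pretriangulated

attribute [local instance] HasDerivedCategory.standard

namespace Groth.Agent.Lib.Helper16.BassCrit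

open Groth.Agent.Lib.Helper16.FlatBC Groth.Agent.Lib.Helper8 Groth.Agent.Lib.Helper8.EFB
  Groth.Agent.Lib.Helper8.Bidual

section General

variable {A : Type u} [CommRing A]

/-- no higher Ext into an injective module -/
lemma subsingleton_hom_of_injective (N I : Type u) [AddCommGroup N] [Module A N]
    [AddCommGroup I] [Module A I] [Module.Injective A I] (i : ℤ) (hi : i ≠ 0) :
    Subsingleton (Dual.inD A N ⟶ (Dual.inD A I)⟦i⟧) := by
  haveI : Injective (ModuleCat.of A I) := Module.injective_object_of_injective_module A I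
  have h := IAmp.hasInjAmp_single 0 (ModuleCat.of A I)
  have h2 := ((IAmp.injectiveAmplitude_tfae (Dual.inD A I) 0 0).out 0 1).1
    ((IAmp.hasInjAmp_iff 0 0 _).2 h)
  exact h2 N i (by omega)

/-- Baer's criterion in the derived category: `Ext^1(A/J, M) = 0` for all ideals `J` implies that
`M` is injective -/
theorem injective_of_ext_one (M : Type u) [AddCommGroup M] [Module A M]
    (h : ∀ J : Ideal A, Subsingleton (Dual.inD A (A ⧸ J) ⟶ (Dual.inD A M)⟦(1 : ℤ)⟧)) :
    Module.Injective A M := by
  refine Module.Baer.injective (fun J g => ?_)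
  obtain ⟨δ, hT⟩ := EFB.exists_singleTriangle (Submodule.subtype J) (Submodule.mkQ J)
    J.injective_subtype J.mkQ_surjective (LinearMap.exact_subtype_mkQ J)
  let φ0 : Dual.inD A J ⟶ Dual.inD A M :=
    (singleFunctor (ModuleCat.{u} A) 0).map (ModuleCat.ofHom g)
  have hzero : δ ≫ φ0⟦(1 : ℤ)⟧' = 0 := (h J).elim _ _
  obtain ⟨χ, hχ⟩ := yoneda_exact₁' _ hT φ0 hzero
  obtain ⟨χ₀, rfl⟩ := (singleFunctor (ModuleCat.{u} A) 0).map_surjective χ
  refine ⟨χ₀.hom, fun x hx => ?_⟩
  have h3 : ModuleCat.ofHom g = ModuleCat.ofHom (Submodule.subtype J) ≫ χ₀ :=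
    (singleFunctor (ModuleCat.{u} A) 0).map_injective (by rw [Functor.map_comp]; exact hχ)
  have h4 := congrArg (fun t => t.hom ⟨x, hx⟩) h3
  simpa using h4.symm

end General

section Noeth

variable {A : Type u} [CommRing A] [IsNoetherianRing A]

/-- a module over a noetherian ring all of whose higher Bass numbers vanish is injective -/
theorem injective_of_bass (M : Type u) [AddCommGroup M] [Module A M]
    (hq : ∀ (q : Ideal A) [q.IsPrime] (i : ℤ), 0 < i → Subsingleton
      (Dual.inD (Localization.AtPrime q)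
        (Localization.AtPrime q ⧸ q.map (algebraMap A (Localization.AtPrime q))) ⟶
        ((ε (algebraMap A (Localization.AtPrime q))).obj (Dual.inD A M))⟦i⟧)) :
    Module.Injective A M :=
  injective_of_ext_one M (fun J =>
    hinj_of_bass (Dual.inD A M) 0 0 inferInstance hq (A ⧸ J) 1 (Or.inr one_pos))

end Noeth

section BaseChange

variable (A B : Type u) [CommRing A] [CommRing B] [Algebra A B] [IsNoetherianRing A]
  [IsNoetherianRing B] [Module.Flat A B]

/-- **S1745**: tensoring an injective module with a flat noetherian algebra all of whose fibre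
local rings are fields gives an injective module -/
theorem injective_baseChange
    (h : ∀ q : PrimeSpectrum B, Ideal.map (algebraMap B (Localization.AtPrime q.asIdeal))
      ((q.asIdeal.comap (algebraMap A B)).map (algebraMap A B)) =
        IsLocalRing.maximalIdeal (Localization.AtPrime q.asIdeal))
    (I : Type u) [AddCommGroup I] [Module A I] [Module.Injective A I] :
    Module.Injective B (B ⊗[A] I) := by
  refine injective_of_bass (B ⊗[A] I) (fun q _ i hi => ?_)
  set Bq := Localization.AtPrime q with hBq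
  haveI : Module.Flat A Bq := Module.Flat.trans A B Bq
  set p := q.comap (algebraMap A B) with hp
  -- identify the base change
  let e2 : Bq ⊗[B] (B ⊗[A] I) ≃ₗ[Bq] Bq ⊗[A] I :=
    TensorProduct.AlgebraTensorModule.cancelBaseChange A B Bq Bq I
  let ι : (ε (algebraMap B Bq)).obj (Dual.inD B (B ⊗[A] I)) ≅
      (ε (algebraMap A Bq)).obj (Dual.inD A I) :=
    (inDExtIso (B := Bq) (B ⊗[A] I)).symm ≪≫
      Groth.Agent.Lib.Helper16.FLI.inDIsoOfEquiv e2 ≪≫ inDExtIso (B := Bq) I
  -- the ideals agree
  have hideal : p.map (algebraMap A Bq) = q.map (algebraMap B Bq) := by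
    rw [Localization.AtPrime.map_eq_maximalIdeal, ← h ⟨q, inferInstance⟩, Ideal.map_map,
      ← IsScalarTower.algebraMap_eq]
  obtain ⟨Θ⟩ := nonempty_bcEquiv_quot (B := Bq) p (Dual.inD A I) ⟨0, inferInstance⟩ i
  haveI : Subsingleton (Dual.inD A (A ⧸ p) ⟶ (Dual.inD A I)⟦i⟧) :=
    subsingleton_hom_of_injective (A ⧸ p) I i (by omega)
  haveI : Subsingleton (Bq ⊗[A] (Dual.inD A (A ⧸ p) ⟶ (Dual.inD A I)⟦i⟧)) :=
    subsingleton_tensor_of_right _ _
  have h1 : Subsingleton (Dual.inD Bq (Bq ⧸ p.map (algebraMap A Bq)) ⟶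
      ((ε (algebraMap A Bq)).obj (Dual.inD A I))⟦i⟧) := Θ.symm.subsingleton
  let eq : (Bq ⧸ q.map (algebraMap B Bq)) ≃ₗ[Bq] (Bq ⧸ p.map (algebraMap A Bq)) :=
    Submodule.quotEquivOfEq _ _ hideal.symm
  exact @Equiv.subsingleton _ _
    (Iso.homCongr (Groth.Agent.Lib.Helper16.FLI.inDIsoOfEquiv eq)
      ((shiftFunctor (Dual.D Bq) i).mapIso ι)) h1

end BaseChange

end Groth.Agent.Lib.Helper16.BassCrit
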