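import Mathlib
import Groth.Prelude.Def_CxOX
import Groth.Agent.S3630
import Groth.Agent.Lib.Helper16.RS2
import Groth.Agent.Lib.Helper16.RS10
import Groth.Agent.Lib.Helper26.OpenBC1
import Groth.Agent.Lib.Helper26.SuppD2
import Groth.Agent.Lib.Helper28.CoprodMod

/-!
# Helper16 — CIPC1: direct image along a closed immersion on derived categories

exactness of `i_*`, open base change on complexes and on `D`, `i_*` reflects zero objects and
boundedness above.
-/

set_option autoImplicit false
set_option linter.style.haveILetI false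
universe u
open CategoryTheory CategoryTheory.Limits AlgebraicGeometry

attribute [local instance] HasDerivedCategory.standard

namespace Groth.Agent.Lib.Helper16.CIPC

open Groth.Agent.Lib.Helper16.RS DerivedCategory

variable {Z X : Scheme.{u}} (i : Z ⟶ X)

/-- the direct image along a closed immersion is a left adjoint (helper14's S3630). -/
instance isLeftAdjoint_pushforward [IsClosedImmersion i] :
    (Scheme.Modules.pushforward i).IsLeftAdjoint := Groth.Agent.S3630.result Z X i

instance preservesFiniteColimits_pushforward [IsClosedImmersion i] :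
    PreservesFiniteColimits (Scheme.Modules.pushforward i) := inferInstance

instance preservesFiniteLimits_pushforward :
    PreservesFiniteLimits (Scheme.Modules.pushforward i) := inferInstance

/-- termwise direct image of complexes. -/
noncomputable abbrev PCx : CochainComplex Z.Modules ℤ ⥤ CochainComplex X.Modules ℤ :=
  (Scheme.Modules.pushforward i).mapHomologicalComplex (ComplexShape.up ℤ)

section

variable [IsClosedImmersion i]

/-- direct image on derived categories. -/
noncomputable abbrev PD : DCoh.D Z ⥤ DCoh.D X :=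
  (Scheme.Modules.pushforward i).mapDerivedCategory

noncomputable def PDQIso (K : CochainComplex Z.Modules ℤ) :
    (PD i).obj (Q.obj K) ≅ Q.obj ((PCx i).obj K) :=
  (Scheme.Modules.pushforward i).mapDerivedCategoryFactors.app K

end

/-- open base change on complexes. -/
noncomputable def bcCx (W : X.Opens) :
    PCx i ⋙ RCx W.ι ≅ RCx (i ⁻¹ᵁ W).ι ⋙ PCx (i ∣_ W) :=
  Functor.mapHomologicalComplexCompIso (Iso.refl _) _ ≪≫
    NatIso.mapHomologicalComplex (Groth.Agent.Lib.Helper26.OpenBC1.bc i W) _ ≪≫
    (Functor.mapHomologicalComplexCompIso (Iso.refl _) _).symm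

variable [IsClosedImmersion i]

/-- open base change on derived categories (objects). -/
theorem nonempty_RD_PD_iso (W : X.Opens) (E : DCoh.D Z) :
    Nonempty ((RD W.ι).obj ((PD i).obj E) ≅ (PD (i ∣_ W)).obj ((RD (i ⁻¹ᵁ W).ι).obj E)) := by
  obtain ⟨F, ⟨e⟩⟩ := exists_rep E
  exact ⟨(RD W.ι).mapIso ((PD i).mapIso e.symm ≪≫ PDQIso i F) ≪≫ RDQIso W.ι _ ≪≫
    Q.mapIso ((bcCx i W).app F) ≪≫ (PDQIso (i ∣_ W) _).symm ≪≫
    (PD (i ∣_ W)).mapIso ((RDQIso (i ⁻¹ᵁ W).ι F).symm ≪≫ (RD (i ⁻¹ᵁ W).ι).mapIso e)⟩

/-- open base change on modules. -/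
noncomputable def bcMod (W : X.Opens) (M : Z.Modules) :
    (Scheme.Modules.restrictFunctor W.ι).obj ((Scheme.Modules.pushforward i).obj M) ≅
      (Scheme.Modules.pushforward (i ∣_ W)).obj
        ((Scheme.Modules.restrictFunctor (i ⁻¹ᵁ W).ι).obj M) :=
  (Groth.Agent.Lib.Helper26.OpenBC1.bc i W).app M

omit [IsClosedImmersion i] in
lemma subsingleton_of_isZero {N : X.Modules} (h : IsZero N) (W : X.Opens) :
    Subsingleton Γ(N, W) := by
  have h1 : (𝟙 N : N ⟶ N) = 0 := h.eq_of_src _ _
  have h2 : (𝟙 N : N ⟶ N).app W = (0 : N ⟶ N).app W := by rw [h1]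
  refine ⟨fun a b => ?_⟩
  have ha := congrArg (fun f => f.hom a) h2
  have hb := congrArg (fun f => f.hom b) h2
  simp at ha hb
  rw [ha, hb]

/-- `i_*` reflects zero objects. -/
theorem isZero_of_isZero_pushforward (M : Z.Modules)
    (h : IsZero ((Scheme.Modules.pushforward i).obj M)) : IsZero M := by
  refine Groth.Agent.Lib.Helper28.CoprodMod.isZero_of_subsingleton M (fun V => ?_)
  obtain ⟨t, ht, htV⟩ := i.isClosedEmbedding.isInducing.isOpen_iff.1 V.isOpen
  have hV : V = i ⁻¹ᵁ (⟨t, ht⟩ : X.Opens) := by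
    ext z
    rw [← htV]
    rfl
  subst hV
  exact subsingleton_of_isZero h ⟨t, ht⟩

/-- `i_*` reflects boundedness above. -/
theorem isLE_of_isLE_PD (E : DCoh.D Z) (n : ℤ) (h : ((PD i).obj E).IsLE n) : E.IsLE n := by
  rw [DerivedCategory.isLE_iff] at h ⊢
  intro j hj
  exact isZero_of_isZero_pushforward i _
    ((h j hj).of_iso (Groth.Agent.Lib.Helper26.SuppD2.homologyIso _ E j).symm)

end Groth.Agent.Lib.Helper16.CIPC
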