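import Groth.Agent.Lib.Helper16.RM4
import Groth.Agent.Lib.Helper16.RS11
import Groth.Agent.Lib.Helper28.AmpleUnit

/-!
# The tensor product of bounded complexes of finite free modules is a bounded complex of finite
free modules
-/

set_option autoImplicit false
universe u
open CategoryTheory CategoryTheory.Limits MonoidalCategory AlgebraicGeometry

namespace Groth.Agent.Lib.Helper16.RM

section FinCoprod

variable {C : Type*} [Category C]

/-- `M` is a finite coproduct of copies of `U`. -/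
def IsFinCoprod (U M : C) : Prop :=
  ∃ (J : Type) (_ : Finite J) (π : J → (U ⟶ M)), Nonempty (IsColimit (Cofan.mk M π))

lemma isFinCoprod_self (U : C) : IsFinCoprod U U :=
  ⟨Unit, inferInstance, fun _ => 𝟙 U, ⟨Cofan.IsColimit.mk _ (fun t => t.inj ())
    (fun _ _ => Category.id_comp _) (fun _ m hm => (Category.id_comp m).symm.trans (hm ()))⟩⟩

lemma IsFinCoprod.of_iso {U M M' : C} (h : IsFinCoprod U M) (e : M ≅ M') : IsFinCoprod U M' := by
  obtain ⟨J, hJ, π, ⟨hc⟩⟩ := h
  refine ⟨J, hJ, fun j => π j ≫ e.hom, ⟨Cofan.IsColimit.mk _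
    (fun t => e.inv ≫ Cofan.IsColimit.desc hc t.inj) (fun t j => ?_) (fun t m hm => ?_)⟩⟩
  · rw [cofan_mk_inj, Category.assoc, Iso.hom_inv_id_assoc]
    exact Cofan.IsColimit.fac hc t.inj j
  · rw [Iso.eq_inv_comp]
    apply Cofan.IsColimit.hom_ext hc
    intro j
    rw [Cofan.IsColimit.fac, ← Category.assoc]
    exact hm j

/-- a finite coproduct of finite coproducts of copies of `U` is a finite coproduct of copies
of `U`. -/
lemma isFinCoprod_of_cofan {U : C} {ι : Type} [Finite ι] {Z : ι → C} (c : Cofan Z)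
    (hc : IsColimit c) (hZ : ∀ i, IsFinCoprod U (Z i)) : IsFinCoprod U c.pt := by
  choose J hJ π hπ using hZ
  haveI := hJ
  exact ⟨Σ i, J i, inferInstance, fun p => π p.1 p.2 ≫ c.inj p.1,
    ⟨Cofan.isColimitTrans c hc π (fun i => (hπ i).some)⟩⟩

lemma IsFinCoprod.trans {U U' M : C} (h : IsFinCoprod U' M) (h' : IsFinCoprod U U') :
    IsFinCoprod U M := by
  obtain ⟨J, hJ, π, ⟨hc⟩⟩ := h
  haveI := hJ
  exact isFinCoprod_of_cofan (Cofan.mk M π) hc (fun _ => h')

lemma IsFinCoprod.of_iso_left {U U' M : C} (h : IsFinCoprod U M) (e : U ≅ U') :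
    IsFinCoprod U' M :=
  h.trans ((isFinCoprod_self U').of_iso e.symm)

lemma IsFinCoprod.map {D : Type*} [Category D] (F : C ⥤ D) [PreservesFiniteCoproducts F]
    {U M : C} (h : IsFinCoprod U M) : IsFinCoprod (F.obj U) (F.obj M) := by
  obtain ⟨J, hJ, π, ⟨hc⟩⟩ := h
  haveI := hJ
  exact ⟨J, hJ, fun j => F.map (π j), ⟨isColimitCofanMkObjOfIsColimit F _ _ hc⟩⟩

/-- restricting a colimit cofan to a subset of indices outside of which the summands vanish. -/
noncomputable def isColimitRestrict [HasZeroMorphisms C] {ι : Type*} {Z : ι → C} (c : Cofan Z)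
    (hc : IsColimit c) (S : Set ι) (hZ : ∀ i, i ∉ S → IsZero (Z i)) :
    IsColimit (Cofan.mk c.pt (fun s : S => c.inj s.1)) := by
  classical
  exact Cofan.IsColimit.mk _
    (fun t => Cofan.IsColimit.desc hc (fun i => if h : i ∈ S then t.inj ⟨i, h⟩ else 0))
    (fun t s => by
      rw [cofan_mk_inj, Cofan.IsColimit.fac, dif_pos s.2])
    (fun t m hm => by
      apply Cofan.IsColimit.hom_ext hc
      intro i
      rw [Cofan.IsColimit.fac]
      by_cases h : i ∈ S
      · rw [dif_pos h]; exact hm ⟨i, h⟩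
      · exact (hZ i h).eq_of_src _ _)

lemma IsFinCoprod.exists_iso [HasFiniteCoproducts C] {U M : C} (h : IsFinCoprod U M) :
    ∃ N : ℕ, Nonempty (M ≅ ∐ fun _ : Fin N => U) := by
  obtain ⟨J, hJ, π, ⟨hc⟩⟩ := h
  obtain ⟨N, ⟨e⟩⟩ := Finite.exists_equiv_fin J
  have hc' := (Cofan.isColimitEquivOfEquiv e.symm (Cofan.mk M π)) hc
  exact ⟨N, ⟨IsColimit.coconePointUniqueUpToIso hc' (coproductIsCoproduct _)⟩⟩

end FinCoprod

section Scheme

open Groth.Agent.Lib.Helper16.BiCx Groth.Agent.Lib.Helper16.RS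
open Groth.Agent.Lib.Helper16.KF (Idx)

variable {V : Scheme.{u}}

lemma isFinCoprod_freeMod (n : ℕ) :
    IsFinCoprod (Coh.structureModule V) (FlatMod.freeMod V n) :=
  ⟨Fin n, inferInstance, fun k => Sigma.ι (fun _ : Fin n => Coh.structureModule V) k,
    ⟨coproductIsCoproduct _⟩⟩

lemma isZero_tensorBi_left {A : V.Modules} (hA : IsZero A) (B : V.Modules) :
    IsZero ((DCoh.tensorBi.obj A).obj B) := by
  rw [IsZero.iff_id_eq_zero]
  have h : 𝟙 A = 0 := hA.eq_of_src _ _
  have h2 : (DCoh.tensorBi.map (𝟙 A)).app B = 𝟙 _ := by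
    rw [CategoryTheory.Functor.map_id]; rfl
  rw [← h2, h, CategoryTheory.Functor.map_zero]
  rfl

lemma isZero_tensorBi_right (A : V.Modules) {B : V.Modules} (hB : IsZero B) :
    IsZero ((DCoh.tensorBi.obj A).obj B) :=
  (DCoh.tensorBi.obj A).map_isZero hB

/-- `O ⊗ O ≅ O`. -/
lemma nonempty_tensorBi_unit_iso :
    Nonempty ((DCoh.tensorBi.obj (Coh.structureModule V)).obj (Coh.structureModule V) ≅
      Coh.structureModule V) :=
  Groth.Agent.Lib.Helper28.AmpleUnit.nonempty_tensor_unit_iso (Coh.structureModule V)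

/-- the tensor product of finite free modules is finite free. -/
lemma isFinCoprod_tensorBi {A B : V.Modules} {a b : ℕ} (eA : A ≅ FlatMod.freeMod V a)
    (eB : B ≅ FlatMod.freeMod V b) :
    IsFinCoprod (Coh.structureModule V) ((DCoh.tensorBi.obj A).obj B) := by
  have hA : IsFinCoprod (Coh.structureModule V) A := (isFinCoprod_freeMod a).of_iso eA.symm
  have hB : IsFinCoprod (Coh.structureModule V) B := (isFinCoprod_freeMod b).of_iso eB.symm
  have h2 : IsFinCoprod ((DCoh.tensorBi.obj (Coh.structureModule V)).obj B)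
      ((DCoh.tensorBi.obj A).obj B) := hA.map (DCoh.tensorBi.flip.obj B)
  have h3 : IsFinCoprod
      ((DCoh.tensorBi.obj (Coh.structureModule V)).obj (Coh.structureModule V))
      ((DCoh.tensorBi.obj (Coh.structureModule V)).obj B) :=
    hB.map (DCoh.tensorBi.obj (Coh.structureModule V))
  exact (h2.trans h3).of_iso_left nonempty_tensorBi_unit_iso.some

/-- **the tensor product of bounded complexes of finite free modules is a bounded complex of
finite free modules.** -/
theorem isBoundedFree_T (E₁ E₂ : CochainComplex V.Modules ℤ) (h₁ : IsBoundedFree E₁)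
    (h₂ : IsBoundedFree E₂) : IsBoundedFree (T (DCoh.tensorBi (X := V)) E₁ E₂) := by
  obtain ⟨a, b, hab, hf₁⟩ := h₁
  obtain ⟨c, d, hcd, hf₂⟩ := h₂
  refine ⟨a + c, b + d, fun n hn => ?_, fun n => ?_⟩
  · rw [IsZero.iff_id_eq_zero]
    apply T_hom_ext
    intro p q hpq
    have hz : IsZero ((DCoh.tensorBi.obj (E₁.X p)).obj (E₂.X q)) := by
      by_cases hp : p < a ∨ b < p
      · exact isZero_tensorBi_left (hab p hp) _
      · exact isZero_tensorBi_right _ (hcd q (by omega))
    exact hz.eq_of_src _ _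
  · let S : Set (Idx n) := {i | a ≤ i.1.1 ∧ i.1.1 ≤ b}
    haveI : Finite S := by
      refine Finite.of_injective (fun s : S => (⟨s.1.1.1, Finset.mem_Icc.2 s.2⟩ : Finset.Icc a b))
        (fun s s' h => ?_)
      have h1 : s.1.1.1 = s'.1.1.1 := congrArg Subtype.val h
      have h2 : s.1.1.2 = s'.1.1.2 := by
        have e1 := Idx.add s.1
        have e2 := Idx.add s'.1
        omega
      exact Subtype.ext (Subtype.ext (Prod.ext h1 h2))
    have hc := isColimitRestrict (cofanT (DCoh.tensorBi (X := V)) E₁ E₂ n)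
      (isColimitCofanT (DCoh.tensorBi (X := V)) E₁ E₂ n) S (fun i hi => by
        refine isZero_tensorBi_left (hab i.1.1 ?_) _
        by_contra hcon
        exact hi ⟨by omega, by omega⟩)
    have hfin := isFinCoprod_of_cofan (U := Coh.structureModule V) _ hc (fun s => by
      obtain ⟨n₁, ⟨e₁⟩⟩ := hf₁ s.1.1.1
      obtain ⟨n₂, ⟨e₂⟩⟩ := hf₂ s.1.1.2
      exact isFinCoprod_tensorBi e₁ e₂)
    obtain ⟨N, ⟨e⟩⟩ := hfin.exists_iso
    exact ⟨N, ⟨e⟩⟩

end Scheme

end Groth.Agent.Lib.Helper16.RM
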