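import Mathlib
import Groth.Prelude.Def_CxOX
import Groth.Agent.Lib.Helper16.CIPC1
import Groth.Agent.Lib.Helper16.RM5
import Groth.Agent.Lib.Helper16.RS12
import Groth.Agent.Lib.Helper16.AffRed3
import Groth.Agent.Lib.Helper17.FlatBC
import Groth.Agent.Lib.Helper1.LocPC3
import Groth.Agent.Lib.Helper8.Stupid1

/-!
# Helper16 — CIPC2: pointwise pseudo-coherence: restriction, local nature, the triangulated
property `pcAll x`, and pseudo-coherence of `i_* P` for `P` strictly perfect.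
-/

set_option autoImplicit false
set_option linter.style.haveILetI false
universe u
open CategoryTheory CategoryTheory.Limits AlgebraicGeometry CategoryTheory.Pretriangulated

attribute [local instance] HasDerivedCategory.standard

namespace Groth.Agent.Lib.Helper16.CIPC

open Groth.Agent.Lib.Helper16.RS DerivedCategory Groth.Agent.Lib.Helper1.LocPC
  Groth.Agent.Lib.Helper16.RM Groth.Agent.Lib.Helper16.PC ZeroObject

section Transfer

variable {X U : Scheme.{u}} (j : U ⟶ X) [IsOpenImmersion j]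

theorem PCAt.restrict {m : ℤ} {K : DCoh.D X} (u : U) (h : PCAt m K (j u)) :
    PCAt m ((RD j).obj K) u := by
  obtain ⟨V, hV, hK⟩ := h
  refine ⟨j ⁻¹ᵁ V, hV, ?_⟩
  obtain ⟨e⟩ := nonempty_RD_comp_iso j (j ⁻¹ᵁ V).ι K
  refine PCat.of_iso ?_ e.symm
  have hr : Set.range ((j ⁻¹ᵁ V).ι ≫ j) ⊆ Set.range V.ι := by
    rintro _ ⟨x, rfl⟩
    simp only [Scheme.Opens.range_ι]
    exact x.2
  let k := IsOpenImmersion.lift V.ι ((j ⁻¹ᵁ V).ι ≫ j) hr
  have hk : k ≫ V.ι = (j ⁻¹ᵁ V).ι ≫ j := IsOpenImmersion.lift_fac _ _ _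
  haveI : IsOpenImmersion (k ≫ V.ι) := by rw [hk]; infer_instance
  haveI : IsOpenImmersion k := IsOpenImmersion.of_comp k V.ι
  exact hK.restrict_of_fac V.ι k _ hk

theorem PCAt.of_restrict {m : ℤ} {K : DCoh.D X} (u : U) (h : PCAt m ((RD j).obj K) u) :
    PCAt m K (j u) := by
  obtain ⟨V', hV', hK⟩ := h
  obtain ⟨e⟩ := nonempty_RD_comp_iso j V'.ι K
  have h1 : PCat m ((RD (V'.ι ≫ j)).obj K) := hK.of_iso e
  refine ⟨j ''ᵁ V', ⟨u, hV', rfl⟩, ?_⟩
  exact h1.restrict_of_fac (V'.ι ≫ j) (j.isoImage V').inv _ (by simp)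

end Transfer

variable {X : Scheme.{u}}

/-- pointwise pseudo-coherence only depends on the restriction to a neighbourhood. -/
theorem PCAt.of_local_iso {m : ℤ} {K K' : DCoh.D X} (W : X.Opens) (x : X) (hx : x ∈ W)
    (e : (RD W.ι).obj K ≅ (RD W.ι).obj K') (h : PCAt m K' x) : PCAt m K x := by
  have h1 : PCAt m K' (W.ι ⟨x, hx⟩) := h
  have h2 := (PCAt.restrict W.ι ⟨x, hx⟩ h1).of_iso e.symm
  exact PCAt.of_restrict W.ι ⟨x, hx⟩ h2

theorem PCAt.of_isLE (K : DCoh.D X) (N : ℤ) (hK : K.IsLE N) (x : X) : PCAt (N + 1) K x :=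
  ⟨⊤, trivial, PCat.of_isLE _ N (map_isLE _ K N hK)⟩

theorem PCAt.of_isZero {K : DCoh.D X} (hK : IsZero K) (m : ℤ) (x : X) : PCAt m K x := by
  have h1 : K.IsLE (m - 1) := by
    rw [DerivedCategory.isLE_iff]
    intro i _
    exact (homologyFunctor _ i).map_isZero hK
  have := PCAt.of_isLE K (m - 1) h1 x
  rwa [sub_add_cancel] at this

theorem PCAt.of_isZero_RD {K : DCoh.D X} (W : X.Opens) (x : X) (hx : x ∈ W)
    (hK : IsZero ((RD W.ι).obj K)) (m : ℤ) : PCAt m K x := by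
  have h2 : PCAt m ((RD W.ι).obj K) (⟨x, hx⟩ : (W : Scheme.{u})) := PCAt.of_isZero hK m _
  exact PCAt.of_restrict W.ι ⟨x, hx⟩ h2

theorem PCAt.of_isStrictlyPerfect (P : CochainComplex X.Modules ℤ)
    (hP : DCoh.IsStrictlyPerfect P) (m : ℤ) (x : X) : PCAt m (Q.obj P) x :=
  ⟨⊤, trivial, (RCx (⊤ : X.Opens).ι).obj P, (RDQIso _ P).inv, isStrictlyPerfect_RCx _ P hP,
    good_of_isIso m _⟩

/-- pseudo-coherent (for all `m`) at the point `x`. -/
def pcAll (x : X) : ObjectProperty (DCoh.D X) := fun K => ∀ m : ℤ, PCAt m K x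

instance (x : X) : (pcAll x).IsClosedUnderIsomorphisms where
  of_iso e h := fun m => (h m).of_iso e

instance (x : X) : (pcAll x).ContainsZero where
  exists_zero := ⟨0, isZero_zero _, fun m => PCAt.of_isZero (isZero_zero _) m x⟩

instance (x : X) : (pcAll x).IsStableUnderShift ℤ where
  isStableUnderShiftBy n := ⟨fun _ hK m => (hK (m + n)).shift n m rfl⟩

instance (x : X) : (pcAll x).IsTriangulatedClosed₂ :=
  ObjectProperty.IsTriangulatedClosed₂.mk' (fun T hT h1 h3 m =>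
    (PCAt.two_of_three T hT m x).2.1 (h1 m) (h3 m))

instance (x : X) : (pcAll x).IsTriangulated where

theorem pcAll_of_isFinCoprod (x : X) {U K : DCoh.D X} (h : IsFinCoprod U K)
    (hU : pcAll x U) : pcAll x K := by
  obtain ⟨N, ⟨e⟩⟩ := h.exists_iso
  refine (pcAll x).prop_of_iso (e ≪≫ (biproduct.isoCoproduct _).symm ≪≫
    biproduct.isoProduct _).symm ?_
  exact (pcAll x).prop_product (fun _ => hU)

end Groth.Agent.Lib.Helper16.CIPC
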