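import Mathlib
import Groth.Prelude.Def_CxOX
import Groth.Agent.Lib.Helper16.CIPC2

/-!
# Helper16 — CIPC3: `i_* P` is pseudo-coherent for `P` strictly perfect, when `i_* O_Z` is.
-/

set_option autoImplicit false
set_option linter.style.haveILetI false
universe u
open CategoryTheory CategoryTheory.Limits AlgebraicGeometry CategoryTheory.Pretriangulated

attribute [local instance] HasDerivedCategory.standard

namespace Groth.Agent.Lib.Helper16.CIPC

open Groth.Agent.Lib.Helper16.RS DerivedCategory Groth.Agent.Lib.Helper1.LocPC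
  Groth.Agent.Lib.Helper16.RM Groth.Agent.Lib.Helper16.PC ZeroObject

variable {Z X : Scheme.{u}} (i : Z ⟶ X) [IsClosedImmersion i]

/-- the hypothesis: `i_* O_Z` is pseudo-coherent. -/
def HO : Prop :=
  ∀ m : ℤ, DCoh.IsPseudoCoherentD m
    (DCoh.inD X ((Scheme.Modules.pushforward i).obj (Coh.structureModule Z)))

instance preservesFiniteCoproducts_singleFunctor (n : ℤ) :
    PreservesFiniteCoproducts (DerivedCategory.singleFunctor X.Modules n) := inferInstance

instance preservesFiniteCoproducts_pushforward :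
    PreservesFiniteCoproducts (Scheme.Modules.pushforward i) := inferInstance

omit [IsClosedImmersion i] in
/-- `RD` of a module placed in degree zero. -/
noncomputable def RDinDIso {U : Scheme.{u}} (j : U ⟶ X) [IsOpenImmersion j] (N : X.Modules) :
    (RD j).obj (DCoh.inD X N) ≅ DCoh.inD U ((Scheme.Modules.restrictFunctor j).obj N) :=
  ((Scheme.Modules.restrictFunctor j).mapDerivedCategorySingleFunctor 0).app N

omit [IsClosedImmersion i] in
/-- restriction of `i_* M` to the complement of the image of `i` vanishes. -/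
theorem isZero_restrict_pushforward_compl (M : Z.Modules) (W : X.Opens)
    (hW : ∀ z : Z, i z ∉ W) :
    IsZero ((Scheme.Modules.restrictFunctor W.ι).obj ((Scheme.Modules.pushforward i).obj M)) := by
  refine Groth.Agent.Lib.Helper28.CoprodMod.isZero_of_subsingleton _ (fun T => ?_)
  have h : i ⁻¹ᵁ (W.ι ''ᵁ T) ≤ ⊥ := by
    intro z hz
    exact (hW z (W.ι_image_le T hz)).elim
  exact Groth.Agent.Lib.Helper17.FlatBC.subsingleton_of_le_bot M h

theorem pcAll_inD_pushforward (hO : HO i) (M : Z.Modules) (hM : FlatMod.IsFinLocFree M) (x : X) :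
    pcAll x (DCoh.inD X ((Scheme.Modules.pushforward i).obj M)) := by
  by_cases hx : ∃ z : Z, i z = x
  · obtain ⟨z, rfl⟩ := hx
    obtain ⟨V₀, r, hz, ⟨e₀⟩⟩ := hM z
    obtain ⟨t, ht, htV⟩ := i.isClosedEmbedding.isInducing.isOpen_iff.1 V₀.isOpen
    let W : X.Opens := ⟨t, ht⟩
    have hV : i ⁻¹ᵁ W ≤ V₀ := by
      intro y hy
      have : y ∈ (i : Z → X) ⁻¹' t := hy
      rw [htV] at this
      exact this
    have hxW : i z ∈ W := by
      have : z ∈ (i : Z → X) ⁻¹' t := by rw [htV]; exact hz
      exact this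
    obtain ⟨e'⟩ := restrict_free_of_le M hV r e₀
    have h1 : IsFinCoprod (Coh.structureModule (i ⁻¹ᵁ W : Scheme.{u})) (M.restrict (i ⁻¹ᵁ W).ι) :=
      (isFinCoprod_freeMod r).of_iso e'.symm
    have h2 := h1.map (Scheme.Modules.pushforward (i ∣_ W))
    have h3 := h2.of_iso (bcMod i W M).symm
    have eO : (Scheme.Modules.pushforward (i ∣_ W)).obj
        (Coh.structureModule (i ⁻¹ᵁ W : Scheme.{u})) ≅
        (Scheme.Modules.restrictFunctor W.ι).obj
          ((Scheme.Modules.pushforward i).obj (Coh.structureModule Z)) :=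
      (Scheme.Modules.pushforward (i ∣_ W)).mapIso
        (Scheme.Modules.restrictUnitIso (i ⁻¹ᵁ W).ι).symm ≪≫
        (bcMod i W (Coh.structureModule Z)).symm
    have h4 := h3.of_iso_left eO
    have h5 := h4.map (DerivedCategory.singleFunctor (W : Scheme.{u}).Modules 0)
    let x' : (W : Scheme.{u}) := ⟨i z, hxW⟩
    have hU : pcAll x' (DCoh.inD (W : Scheme.{u}) ((Scheme.Modules.restrictFunctor W.ι).obj
        ((Scheme.Modules.pushforward i).obj (Coh.structureModule Z)))) := by
      intro m
      have h6 : PCAt m (DCoh.inD X ((Scheme.Modules.pushforward i).obj (Coh.structureModule Z)))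
          (W.ι x') := (isPseudoCoherentD_iff m _).1 (hO m) _
      exact (PCAt.restrict W.ι x' h6).of_iso (RDinDIso W.ι _)
    have h7 := pcAll_of_isFinCoprod x' h5 hU
    intro m
    have h8 : PCAt m ((RD W.ι).obj (DCoh.inD X ((Scheme.Modules.pushforward i).obj M))) x' :=
      (h7 m).of_iso (RDinDIso W.ι _).symm
    exact PCAt.of_restrict W.ι x' h8
  · let W : X.Opens := ⟨(Set.range (i : Z → X))ᶜ, i.isClosedEmbedding.isClosed_range.isOpen_compl⟩
    have hxW : x ∈ W := fun ⟨z, hz⟩ => hx ⟨z, hz⟩
    intro m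
    refine PCAt.of_isZero_RD W x hxW ?_ m
    refine IsZero.of_iso ?_ (RDinDIso W.ι _)
    refine Functor.map_isZero (DerivedCategory.singleFunctor (W : Scheme.{u}).Modules 0)
      (isZero_restrict_pushforward_compl i M W ?_)
    intro z hz
    exact hz ⟨z, rfl⟩

/-- `i_*` of a strictly perfect complex is pseudo-coherent at every point. -/
theorem pcAll_Q_PCx (hO : HO i) (P : CochainComplex Z.Modules ℤ)
    (hP : DCoh.IsStrictlyPerfect P) (x : X) : pcAll x (Q.obj ((PCx i).obj P)) := by
  obtain ⟨⟨a, b, hab⟩, hfree⟩ := hP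
  refine Groth.Agent.Lib.Helper8.Stupid.induction_bounded (pcAll x)
    (fun T hT h1 h3 => (pcAll x).ext_of_isTriangulatedClosed₂ T hT h1 h3)
    (fun K hK => (pcAll x).prop_of_isZero hK) (b + 1 - a).toNat ((PCx i).obj P) a ?_ ?_
  · intro k hk
    exact Functor.map_isZero (Scheme.Modules.pushforward i) (hab k (by omega))
  · intro k
    have h0 := pcAll_inD_pushforward i hO (P.X k) (hfree k) x
    have h1 := (pcAll x).le_shift (-k) _ h0
    exact (pcAll x).prop_of_iso
      (((DerivedCategory.singleFunctors X.Modules).shiftIso (-k) k 0 (by omega)).app _) h1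

theorem pcAll_PD_Q (hO : HO i) (P : CochainComplex Z.Modules ℤ)
    (hP : DCoh.IsStrictlyPerfect P) (x : X) : pcAll x ((PD i).obj (Q.obj P)) :=
  (pcAll x).prop_of_iso (PDQIso i P).symm (pcAll_Q_PCx i hO P hP x)

end Groth.Agent.Lib.Helper16.CIPC
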