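import Mathlib
import Groth.Prelude.Def_CxOX
import Groth.Agent.Lib.Helper16.CIPC3
import Groth.Agent.Lib.Helper16.AffRed5
import Groth.Agent.Lib.Helper1.LocFree2

/-!
# Helper16 — CIPC4: `E` pseudo-coherent at `z` implies `i_* E` pseudo-coherent at `i z`;
reflection of `Good` maps along `i_*`; top cohomology of a pseudo-coherent object bounded above.
-/

set_option autoImplicit false
set_option linter.style.haveILetI false
universe u
open CategoryTheory CategoryTheory.Limits AlgebraicGeometry CategoryTheory.Pretriangulated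

attribute [local instance] HasDerivedCategory.standard

namespace Groth.Agent.Lib.Helper16.CIPC

open Groth.Agent.Lib.Helper16.RS DerivedCategory Groth.Agent.Lib.Helper1.LocPC
  Groth.Agent.Lib.Helper16.RM Groth.Agent.Lib.Helper16.PC ZeroObject

variable {Z X : Scheme.{u}} (i : Z ⟶ X) [IsClosedImmersion i]

/-- `(i|_W)_* O ≅ (i_* O)|_W`. -/
noncomputable def pushUnitIso (W : X.Opens) :
    (Scheme.Modules.pushforward (i ∣_ W)).obj (Coh.structureModule (i ⁻¹ᵁ W : Scheme.{u})) ≅
      (Scheme.Modules.restrictFunctor W.ι).obj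
        ((Scheme.Modules.pushforward i).obj (Coh.structureModule Z)) :=
  (Scheme.Modules.pushforward (i ∣_ W)).mapIso
      (Scheme.Modules.restrictUnitIso (i ⁻¹ᵁ W).ι).symm ≪≫
    (bcMod i W (Coh.structureModule Z)).symm

omit [IsClosedImmersion i] in
theorem HO.restrict (hO : HO i) (W : X.Opens) : HO (i ∣_ W) := by
  intro m
  have h1 := Groth.Agent.Lib.Helper16.AffRed.isPseudoCoherentD_RD W.ι m _ (hO m)
  exact Groth.Agent.Lib.Helper16.AffRed.isPseudoCoherentD_of_iso
    (RDinDIso W.ι _ ≪≫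
      (DerivedCategory.singleFunctor (W : Scheme.{u}).Modules 0).mapIso (pushUnitIso i W).symm) h1

/-- an open of `X` whose preimage lies in a given open neighbourhood of `z`. -/
theorem exists_opens_preimage_le (V₀ : Z.Opens) (z : Z) (hz : z ∈ V₀) :
    ∃ W : X.Opens, i z ∈ W ∧ i ⁻¹ᵁ W ≤ V₀ := by
  obtain ⟨t, ht, htV⟩ := i.isClosedEmbedding.isInducing.isOpen_iff.1 V₀.isOpen
  refine ⟨⟨t, ht⟩, ?_, ?_⟩
  · have : z ∈ (i : Z → X) ⁻¹' t := by rw [htV]; exact hz
    exact this
  · intro y hy
    have : y ∈ (i : Z → X) ⁻¹' t := hy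
    rw [htV] at this
    exact this

/-- the direct implication, pointwise. -/
theorem pcAt_PD_of_pcAt (hO : HO i) (E : DCoh.D Z) (m : ℤ) (z : Z) (h : PCAt m E z) :
    PCAt m ((PD i).obj E) (i z) := by
  obtain ⟨V₀, hz, hV₀⟩ := h
  obtain ⟨W, hxW, hV⟩ := exists_opens_preimage_le i V₀ z hz
  obtain ⟨P, α, hP, hα⟩ := hV₀.of_le_opens hV
  obtain ⟨e⟩ := nonempty_RD_PD_iso i W E
  have hβ : Good m ((PD (i ∣_ W)).map α) := map_good _ α hα
  obtain ⟨C, g, w, hT⟩ := distinguished_cocone_triangle ((PD (i ∣_ W)).map α)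
  have hC : C.IsLE (m - 1) := (good_iff_isLE _ hT m (m - 1) (by omega)).1 hβ
  let x' : (W : Scheme.{u}) := ⟨i z, hxW⟩
  have h2 : PCAt m ((PD (i ∣_ W)).obj (Q.obj P)) x' := pcAll_PD_Q (i ∣_ W) (hO.restrict i W) P hP x' m
  have h3 : PCAt m C x' := by
    have := PCAt.of_isLE C (m - 1) hC x'
    rwa [sub_add_cancel] at this
  have h4 : PCAt m ((PD (i ∣_ W)).obj ((RD (i ⁻¹ᵁ W).ι).obj E)) x' :=
    (PCAt.two_of_three _ hT m x').2.1 h2 h3
  exact PCAt.of_restrict W.ι x' (h4.of_iso e.symm)

/-- `i_*` reflects `Good` maps. -/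
theorem good_of_good_PD {A B : DCoh.D Z} (φ : A ⟶ B) (m : ℤ) (h : Good m ((PD i).map φ)) :
    Good m φ := by
  obtain ⟨C, g, w, hT⟩ := distinguished_cocone_triangle φ
  have hT' := (PD i).map_distinguished _ hT
  have hC' : ((PD i).obj C).IsLE (m - 1) := (good_iff_isLE _ hT' m (m - 1) (by omega)).1 h
  exact (good_iff_isLE _ hT m (m - 1) (by omega)).2 (isLE_of_isLE_PD i C _ hC')

section generic

variable {A : Type*} [Category A] [Abelian A] [HasDerivedCategory A]

lemma good_of_epi_of_isLE {K L : DerivedCategory A} (φ : K ⟶ L) (N : ℤ) (hK : K.IsLE N)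
    (hL : L.IsLE N) (h : Epi ((homologyFunctor A N).map φ)) : Good N φ := by
  rw [DerivedCategory.isLE_iff] at hK hL
  exact ⟨fun j hj => ⟨0, (hK j hj).eq_of_src _ _, (hL j hj).eq_of_src _ _⟩, h⟩

omit [HasDerivedCategory A] in
lemma epi_homologyMap_mkHomFromSingle_iCycles (P : CochainComplex A ℤ) (N : ℤ) :
    Epi (HomologicalComplex.homologyMap
      (HomologicalComplex.mkHomFromSingle (P.iCycles N)
        (fun k _ => P.iCycles_d N k)) N) := by
  set ι := HomologicalComplex.mkHomFromSingle (P.iCycles N) (fun k _ => P.iCycles_d N k)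
  have e1 := HomologicalComplex.homologyπ_naturality ι N
  have h2 : HomologicalComplex.cyclesMap ι N =
      (HomologicalComplex.singleObjCyclesSelfIso (ComplexShape.up ℤ) N (P.cycles N)).hom := by
    rw [← cancel_mono (P.iCycles N), HomologicalComplex.cyclesMap_i,
      HomologicalComplex.mkHomFromSingle_f, HomologicalComplex.singleObjCyclesSelfIso_hom,
      Category.assoc]
  have h3 : Epi (HomologicalComplex.cyclesMap ι N ≫ P.homologyπ N) := by
    rw [h2]
    infer_instance
  rw [← e1] at h3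
  exact epi_of_epi (((HomologicalComplex.single A (ComplexShape.up ℤ) N).obj
    (P.cycles N)).homologyπ N) _

end generic

/-- an object bounded above by `N` which is `N`-pseudo-coherent receives a `Good N` map from a
finite locally free module placed in degree `N`. -/
theorem exists_single_good {W : Scheme.{u}} (K : DCoh.D W) (N : ℤ) (hK : K.IsLE N)
    (h : PCat N K) :
    ∃ (L : W.Modules)
      (β : Q.obj ((HomologicalComplex.single W.Modules (ComplexShape.up ℤ) N).obj L) ⟶ K),
      FlatMod.IsFinLocFree L ∧ Good N β := by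
  obtain ⟨P, α, ⟨⟨a, b, hab⟩, hfree⟩, hα⟩ := h
  have hK' := hK
  rw [DerivedCategory.isLE_iff] at hK'
  have hn : ∀ j : ℤ, N < j → IsZero (P.homology j) := by
    intro j hj
    haveI := hα.1 j hj
    exact ((hK' j hj).of_iso (asIso ((homologyFunctor _ j).map α))).of_iso
      ((homologyFunctorFactors _ j).app P).symm
  have hL := Groth.Agent.Lib.Helper1.LocFree.isFinLocFree_cycles P hfree b
    (fun k hk => hab k (Or.inr hk)) N hn N le_rfl
  let ι := HomologicalComplex.mkHomFromSingle (P.iCycles N) (fun k _ => P.iCycles_d N k)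
  have hι : Good N (Q.map ι) := by
    rw [good_Q_map_iff]
    refine ⟨fun j hj => ?_, epi_homologyMap_mkHomFromSingle_iCycles P N⟩
    exact ⟨0, (HomologicalComplex.isZero_single_obj_homology _ _ _ j (by omega)).eq_of_src _ _,
      (hn j hj).eq_of_src _ _⟩
  exact ⟨P.cycles N, Q.map ι ≫ α, hL, hι.comp hα⟩

end Groth.Agent.Lib.Helper16.CIPC
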