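import Mathlib
import Groth.Prelude.Def_CxOX
import Groth.Agent.Lib.Helper16.CIPC4
import Groth.Agent.Lib.Helper16.RS6

/-!
# Helper16 — CIPC5: from a `Good N` map `L[-N] ⟶ i_* E` to a `Good N` map `(i^* L)[-N] ⟶ E`,
locally.
-/

set_option autoImplicit false
set_option linter.style.haveILetI false
universe u
open CategoryTheory CategoryTheory.Limits AlgebraicGeometry CategoryTheory.Pretriangulated

attribute [local instance] HasDerivedCategory.standard

namespace Groth.Agent.Lib.Helper16.CIPC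

open Groth.Agent.Lib.Helper16.RS DerivedCategory Groth.Agent.Lib.Helper1.LocPC
  Groth.Agent.Lib.Helper16.RM Groth.Agent.Lib.Helper16.PC ZeroObject

/-- a finite locally free module placed in one degree is strictly perfect. -/
theorem isStrictlyPerfect_single {W : Scheme.{u}} (L : W.Modules) (hL : FlatMod.IsFinLocFree L)
    (N : ℤ) :
    DCoh.IsStrictlyPerfect
      ((HomologicalComplex.single W.Modules (ComplexShape.up ℤ) N).obj L) := by
  refine ⟨⟨N, N, fun k hk => HomologicalComplex.isZero_single_obj_X _ _ _ _ (by omega)⟩,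
    fun k => ?_⟩
  by_cases hk : k = N
  · subst hk
    exact isFinLocFree_of_iso (HomologicalComplex.singleObjXSelf (ComplexShape.up ℤ) k L).symm hL
  · exact isFinLocFree_of_isZero _ (HomologicalComplex.isZero_single_obj_X _ _ _ _ hk)

variable {Z X : Scheme.{u}} (i : Z ⟶ X)

/-- chain-level adjunction for maps out of a module placed in the top degree. -/
lemma chain_adj (F : CochainComplex Z.Modules ℤ) (N : ℤ) (hF : IsZero (F.X (N + 1)))
    (L : X.Modules)
    (γ₁ : (HomologicalComplex.single X.Modules (ComplexShape.up ℤ) N).obj L ⟶ (PCx i).obj F) :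
    ∃ (γ₂ : (HomologicalComplex.single Z.Modules (ComplexShape.up ℤ) N).obj
        ((Scheme.Modules.pullback i).obj L) ⟶ F)
      (θ : (HomologicalComplex.single X.Modules (ComplexShape.up ℤ) N).obj L ⟶
        (PCx i).obj ((HomologicalComplex.single Z.Modules (ComplexShape.up ℤ) N).obj
          ((Scheme.Modules.pullback i).obj L))),
      γ₁ = θ ≫ (PCx i).map γ₂ := by
  let adj := Scheme.Modules.pullbackPushforwardAdjunction i
  let g : L ⟶ (Scheme.Modules.pushforward i).obj (F.X N) :=
    (HomologicalComplex.singleObjXSelf (ComplexShape.up ℤ) N L).inv ≫ γ₁.f N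
  let g' : (Scheme.Modules.pullback i).obj L ⟶ F.X N := (adj.homEquiv _ _).symm g
  let γ₂ : (HomologicalComplex.single Z.Modules (ComplexShape.up ℤ) N).obj
      ((Scheme.Modules.pullback i).obj L) ⟶ F :=
    HomologicalComplex.mkHomFromSingle g' (fun k hk => by
      have hk' : N + 1 = k := hk
      subst hk'
      exact hF.eq_of_tgt _ _)
  let θ : (HomologicalComplex.single X.Modules (ComplexShape.up ℤ) N).obj L ⟶
      (PCx i).obj ((HomologicalComplex.single Z.Modules (ComplexShape.up ℤ) N).obj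
        ((Scheme.Modules.pullback i).obj L)) :=
    HomologicalComplex.mkHomFromSingle (adj.unit.app L ≫ (Scheme.Modules.pushforward i).map
      (HomologicalComplex.singleObjXSelf (ComplexShape.up ℤ) N _).inv) (fun k hk => by
      have hd : ((PCx i).obj ((HomologicalComplex.single Z.Modules (ComplexShape.up ℤ) N).obj
          ((Scheme.Modules.pullback i).obj L))).d N k = 0 := by
        change (Scheme.Modules.pushforward i).map _ = 0
        rw [HomologicalComplex.single_obj_d, Functor.map_zero]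
      rw [hd, comp_zero])
  refine ⟨γ₂, θ, ?_⟩
  apply HomologicalComplex.from_single_hom_ext
  have hadj : adj.unit.app L ≫ (Scheme.Modules.pushforward i).map g' = g := by
    have := (adj.homEquiv _ _).apply_symm_apply g
    rw [adj.homEquiv_unit] at this
    exact this
  rw [HomologicalComplex.comp_f, HomologicalComplex.mkHomFromSingle_f,
    Functor.mapHomologicalComplex_map_f, HomologicalComplex.mkHomFromSingle_f]
  let η : L ⟶ (Scheme.Modules.pushforward i).obj ((Scheme.Modules.pullback i).obj L) :=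
    adj.unit.app L
  let σ := HomologicalComplex.singleObjXSelf (ComplexShape.up ℤ) N
    ((Scheme.Modules.pullback i).obj L)
  have hadj' : η ≫ (Scheme.Modules.pushforward i).map g' = g := hadj
  change (_ : _ ⟶ (Scheme.Modules.pushforward i).obj (F.X N)) =
    ((HomologicalComplex.singleObjXSelf (ComplexShape.up ℤ) N L).hom ≫ η ≫
      (Scheme.Modules.pushforward i).map σ.inv) ≫ (Scheme.Modules.pushforward i).map (σ.hom ≫ g')
  rw [Category.assoc, Category.assoc, ← Functor.map_comp, Iso.inv_hom_id_assoc, hadj']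
  change _ = _ ≫ _ ≫ γ₁.f N
  rw [Iso.hom_inv_id_assoc]

variable [IsClosedImmersion i]

theorem exists_good_single_of_PD (E : DCoh.D Z) (N : ℤ) (hE : E.IsLE N) (L : X.Modules)
    (hL : FlatMod.IsFinLocFree L)
    (β : Q.obj ((HomologicalComplex.single X.Modules (ComplexShape.up ℤ) N).obj L) ⟶
      (PD i).obj E) (hβ : Good N β) (x : X) :
    ∃ (W : X.Opens) (L'' : (i ⁻¹ᵁ W : Scheme.{u}).Modules)
      (γ : Q.obj ((HomologicalComplex.single (i ⁻¹ᵁ W : Scheme.{u}).Modules
        (ComplexShape.up ℤ) N).obj L'') ⟶ (RD (i ⁻¹ᵁ W).ι).obj E),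
      x ∈ W ∧ FlatMod.IsFinLocFree L'' ∧ Good N γ := by
  obtain ⟨F, hF, ⟨e⟩⟩ := E.exists_iso_Q_obj_of_isLE N
  let c : Q.obj ((HomologicalComplex.single X.Modules (ComplexShape.up ℤ) N).obj L) ⟶
      Q.obj ((PCx i).obj F) := β ≫ (PD i).map e.hom ≫ (PDQIso i F).hom
  have hc : Good N c := good_comp_iso ((PD i).mapIso e ≪≫ PDQIso i F) hβ
  obtain ⟨W, γ₀, hxW, hγ₀⟩ := locally_lift_D (𝟙 (Q.obj ((PCx i).obj F))) c
    (isStrictlyPerfect_single L hL N) N
    (fun j hj => HomologicalComplex.isZero_single_obj_X _ _ _ _ (by omega))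
    (good_of_isIso (N - 1) _) x
  have hγ₀' : Q.map γ₀ = (RDQIso W.ι _).inv ≫ (RD W.ι).map c ≫ (RDQIso W.ι _).hom := by
    rw [CategoryTheory.Functor.map_id, Category.comp_id] at hγ₀
    rw [← Category.assoc, ← hγ₀, Category.assoc, Iso.inv_hom_id, Category.comp_id]
  have hγ₀g : Good N (Q.map γ₀) := by
    rw [hγ₀']
    exact good_iso_comp (RDQIso W.ι _).symm (good_comp_iso (RDQIso W.ι _) (good_RD W.ι c hc))
  -- transport to the restricted closed immersion
  let F' := (RCx (i ⁻¹ᵁ W).ι).obj F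
  let b : (RCx W.ι).obj ((PCx i).obj F) ≅ (PCx (i ∣_ W)).obj F' := (bcCx i W).app F
  let L' := (Scheme.Modules.restrictFunctor W.ι).obj L
  let s : (HomologicalComplex.single (W : Scheme.{u}).Modules (ComplexShape.up ℤ) N).obj L' ≅
      (RCx W.ι).obj ((HomologicalComplex.single X.Modules (ComplexShape.up ℤ) N).obj L) :=
    ((HomologicalComplex.singleMapHomologicalComplex (Scheme.Modules.restrictFunctor W.ι)
      (ComplexShape.up ℤ) N).app L).symm
  let γ₁ := s.hom ≫ γ₀ ≫ b.hom
  have hγ₁ : Good N (Q.map γ₁) := by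
    simp only [γ₁, Functor.map_comp]
    exact good_iso_comp (Q.mapIso s) (good_comp_iso (Q.mapIso b) hγ₀g)
  have hF' : IsZero (F'.X (N + 1)) :=
    Functor.map_isZero (Scheme.Modules.restrictFunctor (i ⁻¹ᵁ W).ι)
      (F.isZero_of_isStrictlyLE N (N + 1) (by omega))
  obtain ⟨γ₂, θ, hfac⟩ := chain_adj (i ∣_ W) F' N hF' L' γ₁
  let L'' := (Scheme.Modules.pullback (i ∣_ W)).obj L'
  have hL'' : FlatMod.IsFinLocFree L'' :=
    isFinLocFree_pullback (i ∣_ W) L' (isFinLocFree_restrict W.ι L hL)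
  -- the pushed-forward map is `Good N`
  have hle1 : (Q.obj ((PCx (i ∣_ W)).obj
      ((HomologicalComplex.single (i ⁻¹ᵁ W : Scheme.{u}).Modules (ComplexShape.up ℤ) N).obj
        L''))).IsLE N := by
    haveI : CochainComplex.IsStrictlyLE ((PCx (i ∣_ W)).obj
        ((HomologicalComplex.single (i ⁻¹ᵁ W : Scheme.{u}).Modules (ComplexShape.up ℤ) N).obj
          L'')) N := by
      rw [CochainComplex.isStrictlyLE_iff]
      intro k hk
      exact Functor.map_isZero (Scheme.Modules.pushforward (i ∣_ W))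
        (HomologicalComplex.isZero_single_obj_X _ _ _ _ (by omega))
    rw [isLE_Q_obj_iff]
    infer_instance
  have hle2 : (Q.obj ((PCx (i ∣_ W)).obj F')).IsLE N := by
    haveI : CochainComplex.IsStrictlyLE ((PCx (i ∣_ W)).obj F') N := by
      rw [CochainComplex.isStrictlyLE_iff]
      intro k hk
      exact Functor.map_isZero (Scheme.Modules.pushforward (i ∣_ W))
        (Functor.map_isZero (Scheme.Modules.restrictFunctor (i ⁻¹ᵁ W).ι)
          (F.isZero_of_isStrictlyLE N k hk))
    rw [isLE_Q_obj_iff]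
    infer_instance
  have hepi : Epi ((homologyFunctor _ N).map (Q.map ((PCx (i ∣_ W)).map γ₂))) := by
    have h1 := hγ₁.2
    rw [hfac, Functor.map_comp, Functor.map_comp] at h1
    exact epi_of_epi ((homologyFunctor _ N).map (Q.map θ)) _
  have hg2 : Good N (Q.map ((PCx (i ∣_ W)).map γ₂)) := good_of_epi_of_isLE _ N hle1 hle2 hepi
  have hnat : (PD (i ∣_ W)).map (Q.map γ₂) =
      (PDQIso (i ∣_ W) _).hom ≫ Q.map ((PCx (i ∣_ W)).map γ₂) ≫ (PDQIso (i ∣_ W) F').inv := by
    have := (Scheme.Modules.pushforward (i ∣_ W)).mapDerivedCategoryFactors_hom_naturality γ₂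
    rw [← Category.assoc, Iso.eq_comp_inv]
    exact this
  have hg3 : Good N ((PD (i ∣_ W)).map (Q.map γ₂)) := by
    rw [hnat]
    exact good_iso_comp (PDQIso (i ∣_ W) _) (good_comp_iso (PDQIso (i ∣_ W) F').symm hg2)
  have hg4 : Good N (Q.map γ₂) := good_of_good_PD (i ∣_ W) _ N hg3
  refine ⟨W, L'', Q.map γ₂ ≫ (RDQIso (i ⁻¹ᵁ W).ι F).inv ≫ (RD (i ⁻¹ᵁ W).ι).map e.inv, hxW, hL'',
    ?_⟩
  exact good_comp_iso ((RDQIso (i ⁻¹ᵁ W).ι F).symm ≪≫ (RD (i ⁻¹ᵁ W).ι).mapIso e.symm) hg4

end Groth.Agent.Lib.Helper16.CIPC
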