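import Mathlib
import Groth.Prelude.Def_CxOX
import Groth.Agent.Lib.Helper16.CIPC5

/-!
# Helper16 — CIPC6: pseudo-coherence of `i_* E` at `i z` implies pseudo-coherence of `E` at `z`,
and the equivalence `E` `m`-pseudo-coherent iff `i_* E` `m`-pseudo-coherent.
-/

set_option autoImplicit false
set_option linter.style.haveILetI false
universe u
open CategoryTheory CategoryTheory.Limits AlgebraicGeometry CategoryTheory.Pretriangulated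

attribute [local instance] HasDerivedCategory.standard

namespace Groth.Agent.Lib.Helper16.CIPC

open Groth.Agent.Lib.Helper16.RS DerivedCategory Groth.Agent.Lib.Helper1.LocPC
  Groth.Agent.Lib.Helper16.RM Groth.Agent.Lib.Helper16.PC ZeroObject

theorem pcAt_of_pcAt_PD_aux (d : ℕ) :
    ∀ {Z X : Scheme.{u}} (i : Z ⟶ X) [IsClosedImmersion i] (_ : HO i) (E : DCoh.D Z) (m : ℤ)
      (z : Z), E.IsLE (m + d - 1) → PCAt m ((PD i).obj E) (i z) → PCAt m E z := by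
  induction d with
  | zero =>
    intro Z X i _ hO E m z hE _
    have hE' : E.IsLE (m - 1) := by simpa using hE
    have h := PCAt.of_isLE E (m - 1) hE' z
    rwa [sub_add_cancel] at h
  | succ d ih =>
    intro Z X i _ hO E m z hE h
    obtain ⟨N, hN⟩ : ∃ N : ℤ, N = m + d := ⟨_, rfl⟩
    have hE' : E.IsLE N := by
      have : m + ((d + 1 : ℕ) : ℤ) - 1 = N := by push_cast; omega
      rwa [this] at hE
    -- Stage 1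
    have hM : PCAt N ((PD i).obj E) (i z) := h.of_le (by omega)
    obtain ⟨W₀, hx₀, hP₀⟩ := hM
    obtain ⟨e₀⟩ := nonempty_RD_PD_iso i W₀ E
    have hE₀ : ((RD (i ⁻¹ᵁ W₀).ι).obj E).IsLE N := map_isLE _ E N hE'
    have hK₀ : ((PD (i ∣_ W₀)).obj ((RD (i ⁻¹ᵁ W₀).ι).obj E)).IsLE N := map_isLE _ _ N hE₀
    obtain ⟨L₀, β₀, hL₀, hβ₀⟩ := exists_single_good _ N hK₀ (hP₀.of_iso e₀)
    let z₀ : (i ⁻¹ᵁ W₀ : Scheme.{u}) := ⟨z, hx₀⟩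
    have hx₀' : (i ∣_ W₀) z₀ = ⟨i z, hx₀⟩ := Subtype.ext (morphismRestrict_base_coe i W₀ z₀)
    -- Stage 2
    obtain ⟨W, L'', γ, hxW, hL'', hγ⟩ := exists_good_single_of_PD (i ∣_ W₀)
      ((RD (i ⁻¹ᵁ W₀).ι).obj E) N hE₀ L₀ hL₀ β₀ hβ₀ ((i ∣_ W₀) z₀)
    let z₁ : ((i ∣_ W₀) ⁻¹ᵁ W : Scheme.{u}) := ⟨z₀, hxW⟩
    have hx₁' : ((i ∣_ W₀) ∣_ W) z₁ = ⟨(i ∣_ W₀) z₀, hxW⟩ :=
      Subtype.ext (morphismRestrict_base_coe (i ∣_ W₀) W z₁)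
    -- Stage 3
    obtain ⟨C, g, w, hT⟩ := distinguished_cocone_triangle γ
    have hC : C.IsLE (N - 1) := (good_iff_isLE _ hT N (N - 1) (by omega)).1 hγ
    have hO₁ : HO ((i ∣_ W₀) ∣_ W) := (hO.restrict i W₀).restrict (i ∣_ W₀) W
    have h0 : PCAt m ((PD (i ∣_ W₀)).obj ((RD (i ⁻¹ᵁ W₀).ι).obj E)) ((i ∣_ W₀) z₀) := by
      rw [hx₀']
      exact (PCAt.restrict W₀.ι ⟨i z, hx₀⟩ h).of_iso e₀
    obtain ⟨e₁⟩ := nonempty_RD_PD_iso (i ∣_ W₀) W ((RD (i ⁻¹ᵁ W₀).ι).obj E)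
    have h1 : PCAt m ((PD ((i ∣_ W₀) ∣_ W)).obj
        ((RD ((i ∣_ W₀) ⁻¹ᵁ W).ι).obj ((RD (i ⁻¹ᵁ W₀).ι).obj E))) (((i ∣_ W₀) ∣_ W) z₁) := by
      rw [hx₁']
      exact (PCAt.restrict W.ι ⟨(i ∣_ W₀) z₀, hxW⟩ h0).of_iso e₁
    have hT' := (PD ((i ∣_ W₀) ∣_ W)).map_distinguished _ hT
    have hS := isStrictlyPerfect_single L'' hL'' N
    have h2 := pcAll_PD_Q ((i ∣_ W₀) ∣_ W) hO₁ _ hS (((i ∣_ W₀) ∣_ W) z₁) (m + 1)
    have h3 : PCAt m ((PD ((i ∣_ W₀) ∣_ W)).obj C) (((i ∣_ W₀) ∣_ W) z₁) :=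
      (PCAt.two_of_three _ hT' m _).1 h2 h1
    have hC' : C.IsLE (m + d - 1) := by rwa [hN] at hC
    have h4 : PCAt m C z₁ := ih ((i ∣_ W₀) ∣_ W) hO₁ C m z₁ hC' h3
    have h5 : PCAt m ((RD ((i ∣_ W₀) ⁻¹ᵁ W).ι).obj ((RD (i ⁻¹ᵁ W₀).ι).obj E)) z₁ :=
      (PCAt.two_of_three _ hT m z₁).2.1 (PCAt.of_isStrictlyPerfect _ hS m z₁) h4
    have h6 : PCAt m ((RD (i ⁻¹ᵁ W₀).ι).obj E) z₀ :=
      PCAt.of_restrict ((i ∣_ W₀) ⁻¹ᵁ W).ι z₁ h5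
    exact PCAt.of_restrict (i ⁻¹ᵁ W₀).ι z₀ h6

variable {Z X : Scheme.{u}} (i : Z ⟶ X) [IsClosedImmersion i]

/-- the converse implication, pointwise. -/
theorem pcAt_of_pcAt_PD (hO : HO i) (E : DCoh.D Z) (m : ℤ) (z : Z)
    (h : PCAt m ((PD i).obj E) (i z)) : PCAt m E z := by
  obtain ⟨W₀, hx₀, P, α, ⟨⟨a, b, hab⟩, hfree⟩, hα⟩ := h
  have hle : ((RD W₀.ι).obj ((PD i).obj E)).IsLE (max b m) :=
    isLE_of_good α hα (fun k hk => hab k (Or.inr hk))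
  obtain ⟨e₀⟩ := nonempty_RD_PD_iso i W₀ E
  have hle' : ((PD (i ∣_ W₀)).obj ((RD (i ⁻¹ᵁ W₀).ι).obj E)).IsLE (max b m) :=
    (TStructure.t).isLE_of_iso e₀ _
  have hE₀ := isLE_of_isLE_PD (i ∣_ W₀) _ _ hle'
  let z₀ : (i ⁻¹ᵁ W₀ : Scheme.{u}) := ⟨z, hx₀⟩
  have hx₀' : (i ∣_ W₀) z₀ = ⟨i z, hx₀⟩ := Subtype.ext (morphismRestrict_base_coe i W₀ z₀)
  have h0 : PCAt m ((PD (i ∣_ W₀)).obj ((RD (i ⁻¹ᵁ W₀).ι).obj E)) ((i ∣_ W₀) z₀) := by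
    rw [hx₀']
    exact (PCAt.restrict W₀.ι ⟨i z, hx₀⟩
      ⟨W₀, hx₀, P, α, ⟨⟨a, b, hab⟩, hfree⟩, hα⟩).of_iso e₀
  obtain ⟨d, hd⟩ : ∃ d : ℕ, max b m ≤ m + d - 1 := ⟨(max b m - m + 1).toNat, by omega⟩
  have hE₁ : ((RD (i ⁻¹ᵁ W₀).ι).obj E).IsLE (m + d - 1) :=
    (TStructure.t).isLE_of_le _ _ _ hd
  have h1 := pcAt_of_pcAt_PD_aux d (i ∣_ W₀) (hO.restrict i W₀) _ m z₀ hE₁ h0
  exact PCAt.of_restrict (i ⁻¹ᵁ W₀).ι z₀ h1

/-- `E` is `m`-pseudo-coherent iff `i_* E` is, for a closed immersion `i` with `i_* O_Z`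
pseudo-coherent. -/
theorem isPseudoCoherentD_PD_iff (hO : HO i) (E : DCoh.D Z) (m : ℤ) :
    DCoh.IsPseudoCoherentD m E ↔ DCoh.IsPseudoCoherentD m ((PD i).obj E) := by
  rw [isPseudoCoherentD_iff, isPseudoCoherentD_iff]
  constructor
  · intro h x
    by_cases hx : ∃ z : Z, i z = x
    · obtain ⟨z, rfl⟩ := hx
      exact pcAt_PD_of_pcAt i hO E m z (h z)
    · let W : X.Opens :=
        ⟨(Set.range (i : Z → X))ᶜ, i.isClosedEmbedding.isClosed_range.isOpen_compl⟩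
      have hxW : x ∈ W := fun ⟨z, hz⟩ => hx ⟨z, hz⟩
      refine PCAt.of_isZero_RD W x hxW ?_ m
      refine Groth.Agent.Lib.Helper26.SuppD2.isZero_mapDerivedCategory_obj _ _ (fun k => ?_)
      have h0 := isZero_restrict_pushforward_compl i ((homologyFunctor _ k).obj E) W
        (fun z hz => hz ⟨z, rfl⟩)
      exact h0.of_iso ((Scheme.Modules.restrictFunctor W.ι).mapIso
        (Groth.Agent.Lib.Helper26.SuppD2.homologyIso (Scheme.Modules.pushforward i) E k))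
  · intro h z
    exact pcAt_of_pcAt_PD i hO E m z (h (i z))

end Groth.Agent.Lib.Helper16.CIPC
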