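import Mathlib
import Groth.Prelude.Def_CxOX
import Groth.Agent.Lib.Helper16.CIPC6
import Groth.Agent.Lib.Helper16.AffRed10
import Groth.Agent.Lib.Helper16.RelPC1
import Groth.Agent.S1004

/-!
# Helper16 — CI1: composition of closed immersions and pointwise pseudo-coherence; the direct image
of the structure sheaf along `Spec` of a ring map making the target pseudo-coherent.
-/

set_option autoImplicit false
set_option linter.style.haveILetI false
universe u
open CategoryTheory CategoryTheory.Limits AlgebraicGeometry CategoryTheory.Pretriangulated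

attribute [local instance] HasDerivedCategory.standard

namespace Groth.Agent.Lib.Helper16.CI

open Groth.Agent.Lib.Helper16.RS DerivedCategory Groth.Agent.Lib.Helper1.LocPC
  Groth.Agent.Lib.Helper16.PC Groth.Agent.Lib.Helper16.CIPC Groth.Agent.Lib.Helper16.AffRed
  Groth.Agent.Lib.Helper16.RelPC

section Comp

variable {Z Y Y₁ : Scheme.{u}} (d : Z ⟶ Y) (t : Y ⟶ Y₁) [IsClosedImmersion d]
  [IsClosedImmersion t]

/-- direct image along a composition, on objects of the derived category. -/
theorem nonempty_PD_comp_iso (K : DCoh.D Z) :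
    Nonempty ((PD (d ≫ t)).obj K ≅ (PD t).obj ((PD d).obj K)) := by
  obtain ⟨F, ⟨e⟩⟩ := exists_rep K
  let c : PCx (d ≫ t) ≅ PCx d ⋙ PCx t :=
    NatIso.mapHomologicalComplex (Scheme.Modules.pushforwardComp d t).symm _ ≪≫
      (Functor.mapHomologicalComplexCompIso (Iso.refl _) _).symm
  exact ⟨(PD (d ≫ t)).mapIso e.symm ≪≫ PDQIso (d ≫ t) F ≪≫ Q.mapIso (c.app F) ≪≫
    (PDQIso t _).symm ≪≫ (PD t).mapIso ((PDQIso d F).symm ≪≫ (PD d).mapIso e)⟩

/-- pointwise pseudo-coherence of direct images along a further closed immersion with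
pseudo-coherent structure sheaf. -/
theorem pcAt_PD_comp_iff (hO : HO t) (K : DCoh.D Z) (m : ℤ) (z : Z) :
    PCAt m ((PD d).obj K) (d z) ↔ PCAt m ((PD (d ≫ t)).obj K) ((d ≫ t) z) := by
  obtain ⟨e⟩ := nonempty_PD_comp_iso d t K
  constructor
  · intro h
    exact (pcAt_PD_of_pcAt t hO _ m (d z) h).of_iso e.symm
  · intro h
    exact pcAt_of_pcAt_PD t hO _ m (d z) (h.of_iso e)

end Comp

section Spec

variable {P' P : Type u} [CommRing P'] [CommRing P] (q : P' →+* P)

/-- `Spec` of a ring map making the target pseudo-coherent over the source has pseudo-coherent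
direct image of the structure sheaf. -/
theorem hO_Spec_of_pcHom (hq : PCHom q) : HO (Spec.map (CommRingCat.ofHom q)) := by
  intro m
  have h1 := (Groth.Agent.S1004.result P' ((DRing.restrictD q).obj (Dual.inD P P)) m).2 (hq m)
  refine isPseudoCoherentD_of_iso ?_ h1
  exact (DCoh.tildeD (CommRingCat.of P')).mapIso
      (((ModuleCat.restrictScalars.{u} q).mapDerivedCategorySingleFunctor 0).app
        (ModuleCat.of P P)) ≪≫
    tildeDSingleIso (CommRingCat.of P') _ ≪≫
    (DerivedCategory.singleFunctor _ 0).mapIso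
      ((pushTildeIso (CommRingCat.ofHom q) (ModuleCat.of P P)).symm ≪≫
        (Scheme.Modules.pushforward (Spec.map (CommRingCat.ofHom q))).mapIso
          (tildeSelf (R := CommRingCat.of P)))

end Spec

end Groth.Agent.Lib.Helper16.CI
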