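import Mathlib
import Groth.Prelude.Def_CxOX
import Groth.Prelude.Def_DerSch2
import Groth.Agent.Lib.Helper16.CIPC6
import Groth.Agent.Lib.Helper1.LocFree8

/-!
# Helper16 — CIPC7: boundedness above is local; pseudo-coherent objects on quasi-compact schemes
are bounded above; charts are closed immersions; a chart-pseudo-coherent object is bounded above
on the chart.
-/

set_option autoImplicit false
set_option linter.style.haveILetI false
universe u
open CategoryTheory CategoryTheory.Limits AlgebraicGeometry CategoryTheory.Pretriangulated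

attribute [local instance] HasDerivedCategory.standard

namespace Groth.Agent.Lib.Helper16.CIPC

open Groth.Agent.Lib.Helper16.RS DerivedCategory Groth.Agent.Lib.Helper1.LocPC
  Groth.Agent.Lib.Helper16.RM Groth.Agent.Lib.Helper16.PC ZeroObject

variable {X : Scheme.{u}}

/-- boundedness above is a local property. -/
theorem isLE_of_locally (E : DCoh.D X) (b : ℤ)
    (h : ∀ x : X, ∃ V : X.Opens, x ∈ V ∧ ((RD V.ι).obj E).IsLE b) : E.IsLE b := by
  rw [DerivedCategory.isLE_iff]
  intro k hk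
  apply Groth.Agent.Lib.Helper1.LocFree.isZero_of_locally
  intro x
  obtain ⟨V, hxV, hV⟩ := h x
  refine ⟨V, hxV, ?_⟩
  rw [DerivedCategory.isLE_iff] at hV
  exact (hV k hk).of_iso (Groth.Agent.Lib.Helper26.SuppD2.homologyIso
    (Scheme.Modules.restrictFunctor V.ι) E k).symm

/-- on a quasi-compact scheme, locally bounded above objects are bounded above. -/
theorem exists_isLE_of_locally [CompactSpace X] (E : DCoh.D X)
    (h : ∀ x : X, ∃ (V : X.Opens) (b : ℤ), x ∈ V ∧ ((RD V.ι).obj E).IsLE b) :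
    ∃ b : ℤ, E.IsLE b := by
  choose V b hxV hb using h
  obtain ⟨t, ht⟩ := CompactSpace.elim_nhds_subcover (fun x => ((V x : X.Opens) : Set X))
    (fun x => (V x).isOpen.mem_nhds (hxV x))
  refine ⟨t.sum (fun x => |b x|), isLE_of_locally E _ (fun y => ?_)⟩
  have hy : y ∈ ⋃ x ∈ t, ((V x : X.Opens) : Set X) := by rw [ht]; trivial
  obtain ⟨x, hxt, hyx⟩ := Set.mem_iUnion₂.1 hy
  refine ⟨V x, hyx, ?_⟩
  have hbx : b x ≤ t.sum (fun x => |b x|) := by
    have h1 : |b x| ≤ t.sum (fun x => |b x|) :=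
      Finset.single_le_sum (f := fun x => |b x|) (fun z _ => abs_nonneg _) hxt
    have h2 := le_abs_self (b x)
    omega
  haveI := hb x
  exact (TStructure.t).isLE_of_le _ _ _ hbx

/-- on a quasi-compact scheme, pseudo-coherent objects are bounded above. -/
theorem exists_isLE_of_isPseudoCoherentD [CompactSpace X] (F : DCoh.D X) (m : ℤ)
    (hF : DCoh.IsPseudoCoherentD m F) : ∃ b : ℤ, F.IsLE b := by
  have h := (isPseudoCoherentD_iff m F).1 hF
  refine exists_isLE_of_locally F (fun x => ?_)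
  obtain ⟨V, hxV, E, α, ⟨⟨a, b, hab⟩, -⟩, hα⟩ := h x
  exact ⟨V, max b m, hxV, isLE_of_good α hα (fun i hi => hab i (Or.inr hi))⟩

variable {Y : Scheme.{u}}

/-- a chart on an affine open is a closed immersion. -/
theorem isClosedImmersion_chartImm {U : X.Opens} (hU : IsAffineOpen U) {R : Type u} [CommRing R]
    {n : ℕ} (φ : MvPolynomial (Fin n) R →+* Γ(X, U)) (hφ : Function.Surjective φ) :
    IsClosedImmersion (DerSch.chartImm U φ) := by
  haveI : IsIso U.toSpecΓ := by
    rw [← hU.isoSpec_hom]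
    infer_instance
  haveI : IsClosedImmersion (Spec.map (CommRingCat.ofHom φ)) :=
    IsClosedImmersion.spec_of_surjective _ hφ
  unfold DerSch.chartImm
  infer_instance

/-- an object which is pseudo-coherent on a chart is bounded above over the chart. -/
theorem exists_isLE_RD_of_chartPC (f : X ⟶ Y) (m : ℤ) (K : DCoh.D X) {U : X.Opens}
    (hU : IsAffineOpen U) (V : Y.Opens) (h : U ≤ f ⁻¹ᵁ V) {n : ℕ}
    (φ : MvPolynomial (Fin n) Γ(Y, V) →+* Γ(X, U)) (hφ : DerSch.IsChart f U V h φ)
    (hK : DerSch.ChartPC m K U V φ) : ∃ b : ℤ, ((RD U.ι).obj K).IsLE b := by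
  obtain ⟨G, ⟨eG⟩⟩ := exists_rep K
  have h1 := hK G ⟨eG⟩
  haveI := isClosedImmersion_chartImm hU φ hφ.1
  obtain ⟨b, hb⟩ := exists_isLE_of_isPseudoCoherentD _ m h1
  refine ⟨b, ?_⟩
  have h2 : ((PD (DerSch.chartImm U φ)).obj (Q.obj ((RCx U.ι).obj G))).IsLE b :=
    (TStructure.t).isLE_of_iso (PDQIso (DerSch.chartImm U φ) _).symm _
  have h3 := isLE_of_isLE_PD (DerSch.chartImm U φ) _ b h2
  exact (TStructure.t).isLE_of_iso ((RDQIso U.ι G).symm ≪≫ (RD U.ι).mapIso eG) _

end Groth.Agent.Lib.Helper16.CIPC
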