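import Mathlib
import Groth.Prelude.Def_CxOX
import Groth.Prelude.Def_DerSch2
import Groth.Agent.Lib.Helper16.CI1
import Groth.Agent.Lib.Helper16.CIPC7

/-!
# Helper16 — CI2: the chart test in `Spec` form.
-/

set_option autoImplicit false
set_option linter.style.haveILetI false
universe u
open CategoryTheory CategoryTheory.Limits AlgebraicGeometry CategoryTheory.Pretriangulated

attribute [local instance] HasDerivedCategory.standard

namespace Groth.Agent.Lib.Helper16.CI

open Groth.Agent.Lib.Helper16.RS DerivedCategory Groth.Agent.Lib.Helper1.LocPC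
  Groth.Agent.Lib.Helper16.PC Groth.Agent.Lib.Helper16.CIPC Groth.Agent.Lib.Helper16.AffRed

section Iso

variable {Z Y : Scheme.{u}} (e : Z ≅ Y)

/-- direct image along an isomorphism is restriction along its inverse. -/
theorem nonempty_PD_iso_RD_inv (K : DCoh.D Z) :
    Nonempty ((PD e.hom).obj K ≅ (RD e.inv).obj K) := by
  obtain ⟨F, ⟨eF⟩⟩ := exists_rep K
  let c : PCx e.hom ≅ RCx e.inv :=
    NatIso.mapHomologicalComplex (pushInvIsoRestrict e.symm) _
  exact ⟨(PD e.hom).mapIso eF.symm ≪≫ PDQIso e.hom F ≪≫ Q.mapIso (c.app F) ≪≫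
    (RDQIso e.inv F).symm ≪≫ (RD e.inv).mapIso eF⟩

end Iso

variable {X : Scheme.{u}}

/-- the object of `D(Spec Γ(X, U))` attached to `E` and the affine open `U`. -/
noncomputable abbrev KU {U : X.Opens} (hU : IsAffineOpen U) (E : DCoh.D X) :
    DCoh.D (Spec Γ(X, U)) := (RD hU.fromSpec).obj E

/-- the closed immersion attached to a surjection onto `Γ(X, U)`. -/
noncomputable abbrev sp {U : X.Opens} {P : Type u} [CommRing P] (ψ : P →+* Γ(X, U)) :
    Spec Γ(X, U) ⟶ Spec (CommRingCat.of P) := Spec.map (CommRingCat.ofHom ψ)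

theorem isClosedImmersion_sp {U : X.Opens} {P : Type u} [CommRing P] (ψ : P →+* Γ(X, U))
    (hψ : Function.Surjective ψ) : IsClosedImmersion (sp ψ) :=
  IsClosedImmersion.spec_of_surjective _ hψ

/-- the direct image along a chart, in `Spec` form. -/
theorem nonempty_chart_iso {U : X.Opens} (hU : IsAffineOpen U) {P : Type u} [CommRing P]
    (ψ : P →+* Γ(X, U)) (hψ : Function.Surjective ψ) (E : DCoh.D X)
    (G : CochainComplex X.Modules ℤ) (eG : DCoh.toD X G ≅ E) :
    haveI := isClosedImmersion_sp ψ hψ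
    Nonempty (DCoh.toD (Spec (CommRingCat.of P))
        ((DerSch.pushCx (U.toSpecΓ ≫ Spec.map (CommRingCat.ofHom ψ))).obj
          ((DCoh.restrictCx U).obj G)) ≅
      (PD (sp ψ)).obj (KU hU E)) := by
  haveI := isClosedImmersion_sp ψ hψ
  haveI : IsIso U.toSpecΓ := by
    rw [← hU.isoSpec_hom]
    infer_instance
  haveI : IsClosedImmersion (U.toSpecΓ ≫ Spec.map (CommRingCat.ofHom ψ)) := inferInstance
  obtain ⟨e1⟩ := nonempty_PD_comp_iso hU.isoSpec.hom (sp ψ) ((RD U.ι).obj E)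
  obtain ⟨e2⟩ := nonempty_PD_iso_RD_inv hU.isoSpec ((RD U.ι).obj E)
  obtain ⟨e3⟩ := nonempty_RD_fac_iso U.ι hU.isoSpec.inv hU.fromSpec hU.isoSpec_inv_ι E
  exact ⟨(PDQIso (hU.isoSpec.hom ≫ sp ψ) ((RCx U.ι).obj G)).symm ≪≫
    (PD (hU.isoSpec.hom ≫ sp ψ)).mapIso ((RDQIso U.ι G).symm ≪≫ (RD U.ι).mapIso eG) ≪≫ e1 ≪≫
    (PD (sp ψ)).mapIso (e2 ≪≫ e3)⟩

end Groth.Agent.Lib.Helper16.CI
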