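import Mathlib
import Groth.Prelude.Def_CxOX
import Groth.Prelude.Def_DerSch2
import Groth.Agent.Lib.Helper16.CI2
import Groth.Agent.Lib.Helper16.RelPC2

/-!
# Helper16 — CI3: pointwise chart test, and independence of the chart for a fixed pair of affine
opens.
-/

set_option autoImplicit false
set_option linter.style.haveILetI false
universe u
open CategoryTheory CategoryTheory.Limits AlgebraicGeometry CategoryTheory.Pretriangulated

attribute [local instance] HasDerivedCategory.standard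

namespace Groth.Agent.Lib.Helper16.CI

open Groth.Agent.Lib.Helper16.RS DerivedCategory Groth.Agent.Lib.Helper1.LocPC
  Groth.Agent.Lib.Helper16.PC Groth.Agent.Lib.Helper16.CIPC Groth.Agent.Lib.Helper16.AffRed
  Groth.Agent.Lib.Helper16.RelPC

section Range

variable {Z Y : Scheme.{u}} (i : Z ⟶ Y) [IsClosedImmersion i]

/-- the direct image along a closed immersion is pseudo-coherent away from the image. -/
theorem pcAt_PD_of_not_mem_range (K : DCoh.D Z) (m : ℤ) (x : Y) (hx : ¬ ∃ z : Z, i z = x) :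
    PCAt m ((PD i).obj K) x := by
  let W : Y.Opens :=
    ⟨(Set.range (i : Z → Y))ᶜ, i.isClosedEmbedding.isClosed_range.isOpen_compl⟩
  have hxW : x ∈ W := fun ⟨z, hz⟩ => hx ⟨z, hz⟩
  refine PCAt.of_isZero_RD W x hxW ?_ m
  refine Groth.Agent.Lib.Helper26.SuppD2.isZero_mapDerivedCategory_obj _ _ (fun k => ?_)
  have h0 := isZero_restrict_pushforward_compl i ((homologyFunctor _ k).obj K) W
    (fun z hz => hz ⟨z, rfl⟩)
  exact h0.of_iso ((Scheme.Modules.restrictFunctor W.ι).mapIso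
    (Groth.Agent.Lib.Helper26.SuppD2.homologyIso (Scheme.Modules.pushforward i) K k))

/-- pseudo-coherence of a direct image along a closed immersion can be tested at the points of
the image. -/
theorem isPseudoCoherentD_PD_iff_forall (K : DCoh.D Z) (m : ℤ) :
    DCoh.IsPseudoCoherentD m ((PD i).obj K) ↔ ∀ z : Z, PCAt m ((PD i).obj K) (i z) := by
  rw [isPseudoCoherentD_iff]
  refine ⟨fun h z => h (i z), fun h x => ?_⟩
  by_cases hx : ∃ z : Z, i z = x
  · obtain ⟨z, rfl⟩ := hx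
    exact h z
  · exact pcAt_PD_of_not_mem_range i K m x hx

end Range

variable {X Y : Scheme.{u}}

/-- the chart test at a point, in `Spec` form. -/
def CPAt (m : ℤ) (E : DCoh.D X) {U : X.Opens} (hU : IsAffineOpen U) {P : Type u} [CommRing P]
    (ψ : P →+* Γ(X, U)) [IsClosedImmersion (sp ψ)] (y : Spec Γ(X, U)) : Prop :=
  PCAt m ((PD (sp ψ)).obj (KU hU E)) (sp ψ y)

theorem chartPC_iff (m : ℤ) (E : DCoh.D X) {U : X.Opens} (hU : IsAffineOpen U) (V : Y.Opens)
    {n : ℕ} (φ : MvPolynomial (Fin n) Γ(Y, V) →+* Γ(X, U)) (hφ : Function.Surjective φ)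
    [IsClosedImmersion (sp φ)] :
    DerSch.ChartPC m E U V φ ↔ ∀ y : Spec Γ(X, U), CPAt m E hU φ y := by
  constructor
  · intro h
    obtain ⟨G, ⟨eG⟩⟩ := exists_rep E
    obtain ⟨e⟩ := nonempty_chart_iso hU φ hφ E G eG
    have h1 : DCoh.IsPseudoCoherentD m ((PD (sp φ)).obj (KU hU E)) :=
      isPseudoCoherentD_of_iso e (h G ⟨eG⟩)
    exact (isPseudoCoherentD_PD_iff_forall (sp φ) _ m).1 h1
  · intro h G ⟨eG⟩
    obtain ⟨e⟩ := nonempty_chart_iso hU φ hφ E G eG
    exact isPseudoCoherentD_of_iso e.symm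
      ((isPseudoCoherentD_PD_iff_forall (sp φ) _ m).2 h)

section Link

variable {U : X.Opens} (hU : IsAffineOpen U) {P P' Q : Type u} [CommRing P] [CommRing P']
  [CommRing Q] (ψ : P →+* Γ(X, U)) (ψ' : P' →+* Γ(X, U)) (q : Q →+* P) (q' : Q →+* P')

theorem cpAt_comp_iff [IsClosedImmersion (sp ψ)] [IsClosedImmersion (sp (ψ.comp q))]
    (hq : Function.Surjective q) (hpc : PCHom q) (m : ℤ) (E : DCoh.D X) (y : Spec Γ(X, U)) :
    CPAt m E hU ψ y ↔ CPAt m E hU (ψ.comp q) y := by
  haveI : IsClosedImmersion (Spec.map (CommRingCat.ofHom q)) :=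
    IsClosedImmersion.spec_of_surjective _ hq
  have h := pcAt_PD_comp_iff (sp ψ) (Spec.map (CommRingCat.ofHom q)) (hO_Spec_of_pcHom q hpc)
    (KU hU E) m y
  have heq : sp ψ ≫ Spec.map (CommRingCat.ofHom q) = sp (ψ.comp q) := by
    unfold sp
    rw [← Spec.map_comp]
    rfl
  unfold CPAt
  rw [h]
  have key : ∀ (g : Spec Γ(X, U) ⟶ Spec (CommRingCat.of Q)) (hg : IsClosedImmersion g)
      (hg' : sp ψ ≫ Spec.map (CommRingCat.ofHom q) = g),
      PCAt m ((PD (sp ψ ≫ Spec.map (CommRingCat.ofHom q))).obj (KU hU E))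
        ((sp ψ ≫ Spec.map (CommRingCat.ofHom q)) y) ↔ PCAt m ((PD g).obj (KU hU E)) (g y) := by
    intro g hg hg'
    subst hg'
    exact Iff.rfl
  exact key _ inferInstance heq

theorem cpAt_iff_of_link [IsClosedImmersion (sp ψ)] [IsClosedImmersion (sp ψ')]
    (hψ : Function.Surjective ψ) (hq : Function.Surjective q) (hq' : Function.Surjective q')
    (hpc : PCHom q) (hpc' : PCHom q') (hcomp : ψ.comp q = ψ'.comp q') (m : ℤ) (E : DCoh.D X)
    (y : Spec Γ(X, U)) : CPAt m E hU ψ y ↔ CPAt m E hU ψ' y := by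
  haveI : IsClosedImmersion (sp (ψ.comp q)) := isClosedImmersion_sp _ (hψ.comp hq)
  haveI : IsClosedImmersion (sp (ψ'.comp q')) := by rw [← hcomp]; infer_instance
  rw [cpAt_comp_iff hU ψ q hq hpc m E y, cpAt_comp_iff hU ψ' q' hq' hpc' m E y]
  have key : ∀ (χ : Q →+* Γ(X, U)) (hχ : IsClosedImmersion (sp χ)) (h : ψ.comp q = χ),
      CPAt m E hU (ψ.comp q) y ↔ CPAt m E hU χ y := by
    intro χ hχ h
    subst h
    exact Iff.rfl
  exact key _ inferInstance hcomp

end Link

end Groth.Agent.Lib.Helper16.CI
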