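import Mathlib
import Groth.Prelude.Def_CxOX
import Groth.Prelude.Def_DerSch2
import Groth.Agent.Lib.Helper16.CI3

/-!
# Helper16 — CI4: two polynomial presentations are linked by a common one; independence of the
chart for a fixed pair of affine opens.
-/

set_option autoImplicit false
set_option linter.style.haveILetI false
universe u
open CategoryTheory CategoryTheory.Limits AlgebraicGeometry CategoryTheory.Pretriangulated

attribute [local instance] HasDerivedCategory.standard

namespace Groth.Agent.Lib.Helper16.CI

open Groth.Agent.Lib.Helper16.RS DerivedCategory Groth.Agent.Lib.Helper1.LocPC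
  Groth.Agent.Lib.Helper16.PC Groth.Agent.Lib.Helper16.CIPC Groth.Agent.Lib.Helper16.AffRed
  Groth.Agent.Lib.Helper16.RelPC

section LinkEq

variable {R A : Type u} [CommRing R] [CommRing A] [Algebra R A] {n k : ℕ}
  (α : MvPolynomial (Fin n) R →ₐ[R] A) (β : MvPolynomial (Fin k) R →ₐ[R] A)
  (f : Fin k → MvPolynomial (Fin n) R) (g : Fin n → MvPolynomial (Fin k) R)

/-- evaluation `R[x][y] → R[x]`, `y ↦ f`. -/
noncomputable def evf : MvPolynomial (Fin k) (MvPolynomial (Fin n) R) →+* MvPolynomial (Fin n) R :=
  ((MvPolynomial.aeval f :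
    MvPolynomial (Fin k) (MvPolynomial (Fin n) R) →ₐ[MvPolynomial (Fin n) R] MvPolynomial (Fin n) R) :
    MvPolynomial (Fin k) (MvPolynomial (Fin n) R) →+* MvPolynomial (Fin n) R)

/-- the swap `R[x][y] ≃ R[y][x]`. -/
noncomputable def swp :
    MvPolynomial (Fin k) (MvPolynomial (Fin n) R) →+* MvPolynomial (Fin n) (MvPolynomial (Fin k) R) :=
  ((MvPolynomial.commAlgEquiv R (Fin k) (Fin n) :
      MvPolynomial (Fin k) (MvPolynomial (Fin n) R) ≃ₐ[R] MvPolynomial (Fin n) (MvPolynomial (Fin k) R)) :
        MvPolynomial (Fin k) (MvPolynomial (Fin n) R) →+* MvPolynomial (Fin n) (MvPolynomial (Fin k) R))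

lemma swp_bijective : Function.Bijective (swp (R := R) (n := n) (k := k)) :=
  (MvPolynomial.commAlgEquiv R (Fin k) (Fin n)).bijective

lemma evf_surjective : Function.Surjective (evf f) := fun p => ⟨MvPolynomial.C p, by simp [evf]⟩

lemma link_eq (hf : ∀ j, α (f j) = β (MvPolynomial.X j)) (hg : ∀ i, β (g i) = α (MvPolynomial.X i)) :
    (α : MvPolynomial (Fin n) R →+* A).comp (evf f) =
      ((β : MvPolynomial (Fin k) R →+* A).comp (evf g)).comp swp := by
  apply MvPolynomial.ringHom_ext
  · intro p
    have : ∀ p : (MvPolynomial (Fin n) R),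
        (α : MvPolynomial (Fin n) R →+* A) (evf f (MvPolynomial.C p)) =
          (β : MvPolynomial (Fin k) R →+* A) (evf g (swp (MvPolynomial.C p))) := by
      intro p
      induction p using MvPolynomial.induction_on with
      | C r =>
        simp only [evf, swp, RingHom.coe_coe, MvPolynomial.commAlgEquiv_C,
          MvPolynomial.map_C, MvPolynomial.aeval_C]
        simp
      | add p q hp hq =>
        simp only [map_add] at hp hq ⊢
        rw [hp, hq]
      | mul_X p i hp =>
        simp only [map_mul] at hp ⊢
        rw [hp]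
        congr 1
        simp only [evf, swp, RingHom.coe_coe, MvPolynomial.commAlgEquiv_C_X,
          MvPolynomial.aeval_C, MvPolynomial.aeval_X, hg]
        simp
    exact this p
  · intro j
    simp [evf, swp, hf]

end LinkEq

/-- two polynomial presentations over the same base are linked by a common one. -/
theorem exists_link {R A : Type u} [CommRing R] [CommRing A] {n k : ℕ}
    (α : MvPolynomial (Fin n) R →+* A) (β : MvPolynomial (Fin k) R →+* A)
    (hα : Function.Surjective α) (hβ : Function.Surjective β)
    (hC : α.comp MvPolynomial.C = β.comp MvPolynomial.C) :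
    ∃ (Q : Type u) (_ : CommRing Q) (q : Q →+* MvPolynomial (Fin n) R)
      (q' : Q →+* MvPolynomial (Fin k) R),
      Function.Surjective q ∧ Function.Surjective q' ∧ PCHom q ∧ PCHom q' ∧
        α.comp q = β.comp q' := by
  letI : Algebra R A := (α.comp MvPolynomial.C).toAlgebra
  let α' : MvPolynomial (Fin n) R →ₐ[R] A := { α with commutes' := fun r => rfl }
  let β' : MvPolynomial (Fin k) R →ₐ[R] A :=
    { β with commutes' := fun r => (congrArg (fun h => h r) hC).symm }
  choose f hf using fun j : Fin k => hα (β (MvPolynomial.X j))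
  choose g hg using fun i : Fin n => hβ (α (MvPolynomial.X i))
  refine ⟨MvPolynomial (Fin k) (MvPolynomial (Fin n) R), inferInstance, evf f,
    (evf g).comp swp, evf_surjective f, (evf_surjective g).comp swp_bijective.surjective,
    pcHom_aeval _ k f, (pcHom_of_bijective swp swp_bijective).comp (pcHom_aeval _ n g), ?_⟩
  have := link_eq α' β' f g hf hg
  exact this

variable {X Y : Scheme.{u}}

/-- independence of the chart, pointwise, for a fixed pair of affine opens. -/
theorem cpAt_iff_of_charts {U : X.Opens} (hU : IsAffineOpen U) {R : Type u} [CommRing R]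
    {n k : ℕ} (φ : MvPolynomial (Fin n) R →+* Γ(X, U)) (φ' : MvPolynomial (Fin k) R →+* Γ(X, U))
    (hφ : Function.Surjective φ) (hφ' : Function.Surjective φ')
    (hC : φ.comp MvPolynomial.C = φ'.comp MvPolynomial.C)
    [IsClosedImmersion (sp φ)] [IsClosedImmersion (sp φ')] (m : ℤ) (E : DCoh.D X)
    (y : Spec Γ(X, U)) : CPAt m E hU φ y ↔ CPAt m E hU φ' y := by
  obtain ⟨Q, _, q, q', hq, hq', hpc, hpc', hcomp⟩ := exists_link φ φ' hφ hφ' hC
  exact cpAt_iff_of_link hU φ φ' q q' hφ hq hq' hpc hpc' hcomp m E y

end Groth.Agent.Lib.Helper16.CI
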