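import Mathlib
import Groth.Prelude.Def_CxOX
import Groth.Prelude.Def_DerSch2
import Groth.Agent.Lib.Helper16.CI4
import Groth.Agent.Lib.Helper16.AffRed1

/-!
# Helper16 — CI5: base change of the direct image along a closed immersion for a cartesian square
of open immersions.
-/

set_option autoImplicit false
set_option linter.style.haveILetI false
universe u
open CategoryTheory CategoryTheory.Limits AlgebraicGeometry CategoryTheory.Pretriangulated

attribute [local instance] HasDerivedCategory.standard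

namespace Groth.Agent.Lib.Helper16.CI

open Groth.Agent.Lib.Helper16.RS DerivedCategory Groth.Agent.Lib.Helper1.LocPC
  Groth.Agent.Lib.Helper16.PC Groth.Agent.Lib.Helper16.CIPC Groth.Agent.Lib.Helper16.AffRed
  Groth.Agent.Lib.Helper16.RelPC Scheme.Modules

section GBC

variable {Z Y Z' Y' : Scheme.{u}} (i : Z ⟶ Y) [IsClosedImmersion i] (jY : Y' ⟶ Y)
  [IsOpenImmersion jY] (jZ : Z' ⟶ Z) [IsOpenImmersion jZ] (i' : Z' ⟶ Y') [IsClosedImmersion i']

/-- derived base change from module-level base change. -/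
theorem nonempty_RD_PD_iso_of_bc
    (bc : pushforward i ⋙ restrictFunctor jY ≅ restrictFunctor jZ ⋙ pushforward i')
    (E : DCoh.D Z) :
    Nonempty ((RD jY).obj ((PD i).obj E) ≅ (PD i').obj ((RD jZ).obj E)) := by
  obtain ⟨F, ⟨e⟩⟩ := exists_rep E
  let bcC : PCx i ⋙ RCx jY ≅ RCx jZ ⋙ PCx i' :=
    Functor.mapHomologicalComplexCompIso (Iso.refl _) _ ≪≫
      NatIso.mapHomologicalComplex bc _ ≪≫
      (Functor.mapHomologicalComplexCompIso (Iso.refl _) _).symm
  exact ⟨(RD jY).mapIso ((PD i).mapIso e.symm ≪≫ PDQIso i F) ≪≫ RDQIso jY _ ≪≫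
    Q.mapIso (bcC.app F) ≪≫ (PDQIso i' _).symm ≪≫
    (PD i').mapIso ((RDQIso jZ F).symm ≪≫ (RD jZ).mapIso e)⟩

omit [IsClosedImmersion i] [IsClosedImmersion i'] in
/-- module-level base change for a cartesian square of open immersions. -/
theorem nonempty_bc_of_cartesian (hsq : i' ≫ jY = jZ ≫ i)
    (hc : jZ.opensRange = i ⁻¹ᵁ jY.opensRange) :
    Nonempty (pushforward i ⋙ restrictFunctor jY ≅ restrictFunctor jZ ⋙ pushforward i') := by
  let V : Y.Opens := jY.opensRange
  let b : Y' ≅ (V : Scheme.{u}) := jY.isoOpensRange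
  let a : Z' ≅ ((i ⁻¹ᵁ V : Z.Opens) : Scheme.{u}) := jZ.isoOpensRange ≪≫ Z.isoOfEq hc
  have ha : a.hom ≫ (i ⁻¹ᵁ V).ι = jZ := by
    simp only [a, Iso.trans_hom, Category.assoc, Scheme.isoOfEq_hom_ι,
      Scheme.Hom.isoOpensRange_hom_ι]
  have hb : b.hom ≫ V.ι = jY := Scheme.Hom.isoOpensRange_hom_ι jY
  have sq : a.hom ≫ (i ∣_ V) = i' ≫ b.hom := by
    rw [← cancel_mono V.ι, Category.assoc, Category.assoc, morphismRestrict_ι, hb,
      ← Category.assoc, ha, hsq]
  have key : ∀ (j1 : Y' ⟶ Y) (h1 : IsOpenImmersion j1) (j2 : Z' ⟶ Z) (h2 : IsOpenImmersion j2),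
      j1 = jY → j2 = jZ →
      (pushforward i ⋙ restrictFunctor j1 ≅ restrictFunctor j2 ⋙ pushforward i') →
      Nonempty (pushforward i ⋙ restrictFunctor jY ≅ restrictFunctor jZ ⋙ pushforward i') := by
    intro j1 h1 j2 h2 e1 e2 bc
    subst e1 e2
    exact ⟨bc⟩
  exact key _ inferInstance _ inferInstance hb ha (bcGen i V a b i' sq)

theorem nonempty_RD_PD_iso_of_cartesian (hsq : i' ≫ jY = jZ ≫ i)
    (hc : jZ.opensRange = i ⁻¹ᵁ jY.opensRange) (E : DCoh.D Z) :
    Nonempty ((RD jY).obj ((PD i).obj E) ≅ (PD i').obj ((RD jZ).obj E)) := by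
  obtain ⟨bc⟩ := nonempty_bc_of_cartesian i jY jZ i' hsq hc
  exact nonempty_RD_PD_iso_of_bc i jY jZ i' bc E

/-- pointwise pseudo-coherence of the direct image along a closed immersion, after a cartesian
base change along open immersions. -/
theorem pcAt_PD_iff_of_cartesian (hsq : i' ≫ jY = jZ ≫ i)
    (hc : jZ.opensRange = i ⁻¹ᵁ jY.opensRange) (E : DCoh.D Z) (m : ℤ) (z' : Z') :
    PCAt m ((PD i).obj E) (i (jZ z')) ↔ PCAt m ((PD i').obj ((RD jZ).obj E)) (i' z') := by
  obtain ⟨e⟩ := nonempty_RD_PD_iso_of_cartesian i jY jZ i' hsq hc E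
  have hpt : i (jZ z') = jY (i' z') := by
    have := congrArg (fun g : Z' ⟶ Y => g z') hsq
    simpa using this.symm
  rw [hpt]
  constructor
  · intro h
    exact (PCAt.restrict jY (i' z') h).of_iso e
  · intro h
    exact PCAt.of_restrict jY (i' z') (h.of_iso e.symm)

end GBC

end Groth.Agent.Lib.Helper16.CI
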