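import Mathlib
import Groth.Prelude.Def_CxOX
import Groth.Prelude.Def_DerSch2
import Groth.Agent.Lib.Helper16.CI5

/-!
# Helper16 — CI6: the pointwise chart test under localisation of the source open (M2) and under
an open immersion of the ambient affine spaces (M3).
-/

set_option autoImplicit false
set_option linter.style.haveILetI false
universe u
open CategoryTheory CategoryTheory.Limits AlgebraicGeometry CategoryTheory.Pretriangulated

attribute [local instance] HasDerivedCategory.standard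

namespace Groth.Agent.Lib.Helper16.CI

open Groth.Agent.Lib.Helper16.RS DerivedCategory Groth.Agent.Lib.Helper1.LocPC
  Groth.Agent.Lib.Helper16.PC Groth.Agent.Lib.Helper16.CIPC Groth.Agent.Lib.Helper16.AffRed
  Groth.Agent.Lib.Helper16.RelPC Scheme.Modules

/-- restriction along the identity. -/
theorem nonempty_RD_id_iso {Z : Scheme.{u}} (K : DCoh.D Z) :
    Nonempty ((RD (𝟙 Z)).obj K ≅ K) := by
  obtain ⟨F, ⟨e⟩⟩ := exists_rep K
  let e1 : (RCx (𝟙 Z)).obj F ≅ F :=
    (NatIso.mapHomologicalComplex (restrictFunctorId (X := Z)) (ComplexShape.up ℤ)).app F ≪≫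
      (Functor.mapHomologicalComplexIdIso _ _).app F
  exact ⟨(RD (𝟙 Z)).mapIso e.symm ≪≫ RDQIso (𝟙 Z) F ≪≫ Q.mapIso e1 ≪≫ e⟩

variable {X : Scheme.{u}}

section M3

variable {U : X.Opens} (hU : IsAffineOpen U) {P P' : Type u} [CommRing P] [CommRing P']
  (ψ : P →+* Γ(X, U)) (ψ' : P' →+* Γ(X, U)) (lam : P →+* P')

/-- M3: the chart test does not change along an open immersion of the ambient affine schemes. -/
theorem cpAt_iff_of_openImmersion [IsOpenImmersion (Spec.map (CommRingCat.ofHom lam))]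
    [IsClosedImmersion (sp ψ)] [IsClosedImmersion (sp ψ')] (h : ψ'.comp lam = ψ) (m : ℤ)
    (E : DCoh.D X) (y : Spec Γ(X, U)) : CPAt m E hU ψ y ↔ CPAt m E hU ψ' y := by
  have hsq : sp ψ' ≫ Spec.map (CommRingCat.ofHom lam) = 𝟙 _ ≫ sp ψ := by
    rw [Category.id_comp]
    unfold sp
    rw [← Spec.map_comp, ← h]
    rfl
  have hc : Scheme.Hom.opensRange (𝟙 (Spec Γ(X, U))) =
      sp ψ ⁻¹ᵁ (Spec.map (CommRingCat.ofHom lam)).opensRange := by
    rw [Scheme.Hom.opensRange_of_isIso]
    ext z
    simp only [TopologicalSpace.Opens.coe_top, Set.mem_univ, true_iff]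
    refine ⟨sp ψ' z, ?_⟩
    have := congrArg (fun g : Spec Γ(X, U) ⟶ Spec (CommRingCat.of P) => g z) hsq
    simpa using this
  have h1 := pcAt_PD_iff_of_cartesian (sp ψ) (Spec.map (CommRingCat.ofHom lam)) (𝟙 _) (sp ψ')
    hsq hc (KU hU E) m y
  obtain ⟨e⟩ := nonempty_RD_id_iso (KU hU E)
  unfold CPAt
  have h2 : (𝟙 (Spec Γ(X, U)) : Spec Γ(X, U) ⟶ Spec Γ(X, U)) y = y := rfl
  rw [h2] at h1
  rw [h1]
  exact ⟨fun h => h.of_iso ((PD (sp ψ')).mapIso e), fun h => h.of_iso ((PD (sp ψ')).mapIso e.symm)⟩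

end M3

section M2

variable {U W : X.Opens} (hU : IsAffineOpen U) (hW : IsAffineOpen W) (hWU : W ≤ U)
  (a : Γ(X, U)) (hWa : W = X.basicOpen a) {P : Type u} [CommRing P] (ψ : P →+* Γ(X, U))
  (g : P) (hg : ψ g = a) (ψ' : Localization.Away g →+* Γ(X, W))
  (hcomp : ψ'.comp (algebraMap P (Localization.Away g)) =
    (X.presheaf.map (homOfLE hWU).op).hom.comp ψ)

/-- the restriction `Spec Γ(X, W) ⟶ Spec Γ(X, U)`. -/
noncomputable abbrev resSpec : Spec Γ(X, W) ⟶ Spec Γ(X, U) :=
  Spec.map (X.presheaf.map (homOfLE hWU).op)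

include hU hW in
lemma resSpec_fromSpec : resSpec hWU ≫ hU.fromSpec = hW.fromSpec :=
  hU.map_fromSpec hW (homOfLE hWU).op

include hU hW in
lemma isOpenImmersion_resSpec : IsOpenImmersion (resSpec hWU) := by
  haveI : IsOpenImmersion (resSpec hWU ≫ hU.fromSpec) := by
    rw [resSpec_fromSpec hU hW hWU]
    infer_instance
  exact IsOpenImmersion.of_comp (resSpec hWU) hU.fromSpec

include hU hW hWa in
lemma resSpec_range (z : Spec Γ(X, U)) :
    z ∈ Set.range (resSpec hWU) ↔ hU.fromSpec z ∈ X.basicOpen a := by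
  constructor
  · rintro ⟨w, rfl⟩
    have : hU.fromSpec (resSpec hWU w) = hW.fromSpec w := by
      have := congrArg (fun g : Spec Γ(X, W) ⟶ X => g w) (resSpec_fromSpec hU hW hWU)
      simpa using this
    rw [this, ← hWa]
    have : hW.fromSpec w ∈ Set.range hW.fromSpec := ⟨w, rfl⟩
    rw [hW.range_fromSpec] at this
    exact this
  · intro hz
    rw [← hWa] at hz
    have : hU.fromSpec z ∈ Set.range hW.fromSpec := by
      rw [hW.range_fromSpec]
      exact hz
    obtain ⟨w, hw⟩ := this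
    refine ⟨w, ?_⟩
    have h1 : hU.fromSpec (resSpec hWU w) = hW.fromSpec w := by
      have := congrArg (fun g : Spec Γ(X, W) ⟶ X => g w) (resSpec_fromSpec hU hW hWU)
      simpa using this
    exact hU.fromSpec.isOpenEmbedding.injective (h1.trans hw)

include hg hcomp hWa in
/-- M2 (first half): localising the source affine open at `a`, and the ambient affine scheme at a
lift of `a`. -/
theorem cpAt_basicOpen_iff [IsClosedImmersion (sp ψ)] [IsClosedImmersion (sp ψ')] (m : ℤ)
    (E : DCoh.D X) (y' : Spec Γ(X, W)) :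
    CPAt m E hW ψ' y' ↔ CPAt m E hU ψ (resSpec hWU y') := by
  haveI := isOpenImmersion_resSpec hU hW hWU
  have hsq : sp ψ' ≫ Spec.map (CommRingCat.ofHom (algebraMap P (Localization.Away g))) =
      resSpec hWU ≫ sp ψ := by
    unfold sp resSpec
    rw [← Spec.map_comp, ← Spec.map_comp]
    congr 1
    ext p
    exact congrArg (fun h => h p) hcomp
  have hc : (resSpec hWU).opensRange =
      sp ψ ⁻¹ᵁ (Spec.map (CommRingCat.ofHom (algebraMap P (Localization.Away g)))).opensRange := by
    ext z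
    have h1 := resSpec_range hU hW hWU a hWa z
    have h2 : (Spec.map (CommRingCat.ofHom (algebraMap P (Localization.Away g)))).opensRange =
        PrimeSpectrum.basicOpen g :=
      Scheme.Hom.opensRange_localizationAway (R := CommRingCat.of P) g
    have h3 : hU.fromSpec z ∈ X.basicOpen a ↔ z ∈ PrimeSpectrum.basicOpen a := by
      rw [← hU.fromSpec_preimage_basicOpen]
      rfl
    change z ∈ Set.range (resSpec hWU) ↔ sp ψ z ∈
      (Spec.map (CommRingCat.ofHom (algebraMap P (Localization.Away g)))).opensRange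
    rw [h1, h3, h2]
    change a ∉ z.asIdeal ↔ g ∉ (PrimeSpectrum.comap ψ z).asIdeal
    rw [← hg]
    rfl
  have h1 := pcAt_PD_iff_of_cartesian (sp ψ)
    (Spec.map (CommRingCat.ofHom (algebraMap P (Localization.Away g)))) (resSpec hWU) (sp ψ')
    hsq hc (KU hU E) m y'
  obtain ⟨e⟩ := nonempty_RD_fac_iso hU.fromSpec (resSpec hWU) hW.fromSpec
    (resSpec_fromSpec hU hW hWU) E
  unfold CPAt
  rw [h1]
  exact ⟨fun h => h.of_iso ((PD (sp ψ')).mapIso e.symm), fun h => h.of_iso ((PD (sp ψ')).mapIso e)⟩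

end M2

end Groth.Agent.Lib.Helper16.CI
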