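import Mathlib
import Groth.Prelude.Def_CxOX
import Groth.Prelude.Def_DerSch2
import Groth.Agent.Lib.Helper16.CI6
import Groth.Agent.Lib.Helper15.RelPC7

/-!
# Helper16 — CI7: ring-level constructions for the chart moves.
-/

set_option autoImplicit false
set_option linter.style.haveILetI false
universe u
open CategoryTheory CategoryTheory.Limits AlgebraicGeometry

namespace Groth.Agent.Lib.Helper16.CI

open Groth.Agent.Lib.Helper16.RelPC Groth.Agent.Lib.Helper15.RelPC7

section Loc

variable {P A A' : Type u} [CommRing P] [CommRing A] [CommRing A']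
  (φ : P →+* A) (g : P) (ρ : A →+* A') (hu : IsUnit (ρ (φ g)))

/-- the map induced on the localisation. -/
noncomputable def locHom : Localization.Away g →+* A' :=
  IsLocalization.Away.lift g (g := ρ.comp φ) hu

lemma locHom_comp : (locHom φ g ρ hu).comp (algebraMap P (Localization.Away g)) = ρ.comp φ :=
  IsLocalization.Away.lift_comp g hu

lemma locHom_algebraMap (p : P) : locHom φ g ρ hu (algebraMap P (Localization.Away g) p) = ρ (φ p) :=
  congrArg (fun h => h p) (locHom_comp φ g ρ hu)

lemma locHom_surjective (hφ : Function.Surjective φ)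
    (hloc : ∀ z : A', ∃ (k : ℕ) (b : A), z * ρ (φ g) ^ k = ρ b) :
    Function.Surjective (locHom φ g ρ hu) := by
  intro z
  obtain ⟨k, b, hb⟩ := hloc z
  obtain ⟨p, rfl⟩ := hφ b
  refine ⟨IsLocalization.mk' (Localization.Away g) p (⟨g ^ k, k, rfl⟩ : Submonoid.powers g), ?_⟩
  have hk : IsUnit (ρ (φ g) ^ k) := hu.pow k
  apply hk.mul_left_injective
  change _ * ρ (φ g) ^ k = z * ρ (φ g) ^ k
  rw [hb, ← locHom_algebraMap φ g ρ hu p]
  have : ρ (φ g) ^ k = locHom φ g ρ hu (algebraMap P (Localization.Away g) (g ^ k)) := by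
    rw [locHom_algebraMap, map_pow, map_pow]
  rw [this, ← map_mul]
  congr 1
  exact IsLocalization.mk'_spec (Localization.Away g) p (⟨g ^ k, k, rfl⟩ : Submonoid.powers g)

end Loc

section Ext

variable {R R' B : Type u} [CommRing R] [CommRing R'] [CommRing B] {k : ℕ}
  (χ₁ : MvPolynomial (Fin k) R →+* B) (ρ' : R →+* R') (θ : R' →+* B)

/-- extension of a chart to a larger base ring. -/
noncomputable def extChart : MvPolynomial (Fin k) R' →+* B :=
  MvPolynomial.eval₂Hom θ (fun i => χ₁ (MvPolynomial.X i))

lemma extChart_comp_C : (extChart χ₁ θ).comp MvPolynomial.C = θ := by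
  ext r
  simp [extChart]

lemma extChart_comp_map (h : θ.comp ρ' = χ₁.comp MvPolynomial.C) :
    (extChart χ₁ θ).comp (MvPolynomial.map ρ') = χ₁ := by
  apply MvPolynomial.ringHom_ext
  · intro r
    have := congrArg (fun h => h r) h
    simpa [extChart] using this
  · intro i
    simp [extChart]

lemma extChart_surjective (h : θ.comp ρ' = χ₁.comp MvPolynomial.C)
    (hχ₁ : Function.Surjective χ₁) : Function.Surjective (extChart χ₁ θ) := by
  intro b
  obtain ⟨p, rfl⟩ := hχ₁ b
  refine ⟨MvPolynomial.map ρ' p, ?_⟩
  exact congrArg (fun h => h p) (extChart_comp_map χ₁ ρ' θ h)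

attribute [local instance] MvPolynomial.algebraMvPolynomial in
lemma isOpenImmersion_Spec_mvPolynomial_map (g : R)
    (h : letI := ρ'.toAlgebra; IsLocalization.Away g R') :
    IsOpenImmersion (Spec.map (CommRingCat.ofHom (MvPolynomial.map (σ := Fin k) ρ'))) := by
  letI := ρ'.toAlgebra
  haveI := h
  haveI : IsLocalization.Away (MvPolynomial.C g : MvPolynomial (Fin k) R)
      (MvPolynomial (Fin k) R') := by
    have := MvPolynomial.isLocalization (σ := Fin k) (Submonoid.powers g) R'
    rwa [Submonoid.map_powers] at this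
  exact IsOpenImmersion.of_isLocalization (MvPolynomial.C g : MvPolynomial (Fin k) R)

end Ext

section Pres

variable {R A' : Type u} [CommRing R] [CommRing A'] {n : ℕ} (g : MvPolynomial (Fin n) R)

/-- `mvAwayPres` as a ring map. -/
noncomputable def mvAwayRing : MvPolynomial (Fin (n + 1)) R →+* Localization.Away g :=
  ((mvAwayPres g : MvPolynomial (Fin (n + 1)) R →ₐ[R] Localization.Away g) :
      MvPolynomial (Fin (n + 1)) R →+* Localization.Away g)

lemma mvAwayRing_surjective : Function.Surjective (mvAwayRing g) := mvAwayPres_surjective g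

lemma pcHom_mvAwayRing : PCHom (mvAwayRing g) := pcHom_mvAwayPres g

lemma mvAwayRing_C (r : R) :
    mvAwayRing g (MvPolynomial.C r) =
      algebraMap (MvPolynomial (Fin n) R) (Localization.Away g) (MvPolynomial.C r) := by
  have h1 : mvAwayRing g (MvPolynomial.C r) = algebraMap R (Localization.Away g) r :=
    (mvAwayPres g).commutes r
  rw [h1, IsScalarTower.algebraMap_apply R (MvPolynomial (Fin n) R) (Localization.Away g)]
  rfl

end Pres

end Groth.Agent.Lib.Helper16.CI
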