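import Mathlib
import Groth.Prelude.Def_CxOX
import Groth.Prelude.Def_DerSch2
import Groth.Agent.Lib.Helper16.CI7

/-!
# Helper16 — CI8: passing from a chart on `(U, V)` to a chart on `(W, V')` for basic opens
`W ⊆ U`, `V' ⊆ V`.
-/

set_option autoImplicit false
set_option linter.style.haveILetI false
universe u
open CategoryTheory CategoryTheory.Limits AlgebraicGeometry CategoryTheory.Pretriangulated

attribute [local instance] HasDerivedCategory.standard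

namespace Groth.Agent.Lib.Helper16.CI

open Groth.Agent.Lib.Helper16.RS DerivedCategory Groth.Agent.Lib.Helper1.LocPC
  Groth.Agent.Lib.Helper16.PC Groth.Agent.Lib.Helper16.CIPC Groth.Agent.Lib.Helper16.AffRed
  Groth.Agent.Lib.Helper16.RelPC Scheme.Modules

variable {X Y : Scheme.{u}}

/-- from a chart on `(U, V)` to a chart on `(W, V')`, `W = D_U(a)`, `V' = D_V(g)`, with the same
pointwise chart test. -/
theorem exists_chart_of_basicOpen (f : X ⟶ Y) {U : X.Opens} (hU : IsAffineOpen U) {V : Y.Opens}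
    (hV : IsAffineOpen V) (hUV : U ≤ f ⁻¹ᵁ V) {n : ℕ}
    (φ : MvPolynomial (Fin n) Γ(Y, V) →+* Γ(X, U)) (hφ : DerSch.IsChart f U V hUV φ)
    {W : X.Opens} (hW : IsAffineOpen W) (hWU : W ≤ U) (a : Γ(X, U)) (hWa : W = X.basicOpen a)
    {V' : Y.Opens} (hV'V : V' ≤ V) (g : Γ(Y, V)) (hV'g : V' = Y.basicOpen g)
    (hWV' : W ≤ f ⁻¹ᵁ V') :
    ∃ χ : MvPolynomial (Fin (n + 1)) Γ(Y, V') →+* Γ(X, W), DerSch.IsChart f W V' hWV' χ ∧
      ∀ (_ : IsClosedImmersion (sp φ)) (_ : IsClosedImmersion (sp χ)) (m : ℤ) (E : DCoh.D X)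
        (y' : Spec Γ(X, W)), CPAt m E hW χ y' ↔ CPAt m E hU φ (resSpec hWU y') := by
  obtain ⟨hφs, hφC⟩ := hφ
  obtain ⟨ã, hã⟩ := hφs a
  let ρ : Γ(X, U) →+* Γ(X, W) := (X.presheaf.map (homOfLE hWU).op).hom
  have hlocA : @IsLocalization.Away _ _ a Γ(X, W) _ ρ.toAlgebra :=
    hU.isLocalization_of_eq_basicOpen a (homOfLE hWU) hWa
  have hu : IsUnit (ρ (φ ã)) := by
    rw [hã]
    letI := ρ.toAlgebra
    haveI := hlocA
    exact IsLocalization.Away.algebraMap_isUnit a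
  have hsurjA : ∀ z : Γ(X, W), ∃ (k : ℕ) (b : Γ(X, U)), z * ρ (φ ã) ^ k = ρ b := by
    intro z
    rw [hã]
    letI := ρ.toAlgebra
    haveI := hlocA
    exact IsLocalization.Away.surj a z
  let ψ' : Localization.Away ã →+* Γ(X, W) := locHom φ ã ρ hu
  have hψ's : Function.Surjective ψ' := locHom_surjective φ ã ρ hu hφs hsurjA
  let χ₁ : MvPolynomial (Fin (n + 1)) Γ(Y, V) →+* Γ(X, W) := ψ'.comp (mvAwayRing ã)
  have hχ₁s : Function.Surjective χ₁ := hψ's.comp (mvAwayRing_surjective ã)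
  let θ : Γ(Y, V') →+* Γ(X, W) := (f.appLE V' W hWV').hom
  let ρ' : Γ(Y, V) →+* Γ(Y, V') := (Y.presheaf.map (homOfLE hV'V).op).hom
  have hθ : θ.comp ρ' = χ₁.comp MvPolynomial.C := by
    have h1 : χ₁.comp MvPolynomial.C = ρ.comp (φ.comp MvPolynomial.C) := by
      ext r
      change ψ' (mvAwayRing ã (MvPolynomial.C r)) = ρ (φ (MvPolynomial.C r))
      rw [mvAwayRing_C]
      exact locHom_algebraMap φ ã ρ hu _
    rw [h1, hφC]
    have h2 : (f.appLE V U hUV ≫ X.presheaf.map (homOfLE hWU).op) =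
        f.appLE V W (hWU.trans hUV) := f.appLE_map hUV (homOfLE hWU).op
    have h3 : (Y.presheaf.map (homOfLE hV'V).op ≫ f.appLE V' W hWV') =
        f.appLE V W (hWU.trans hUV) := f.map_appLE hWV' (homOfLE hV'V).op
    have h4 := congrArg CommRingCat.Hom.hom (h3.trans h2.symm)
    exact h4
  refine ⟨extChart χ₁ θ, ⟨extChart_surjective χ₁ ρ' θ hθ hχ₁s, extChart_comp_C χ₁ θ⟩, ?_⟩
  intro _ _ m E y'
  haveI : IsClosedImmersion (sp ψ') := isClosedImmersion_sp ψ' hψ's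
  haveI : IsClosedImmersion (sp χ₁) := isClosedImmersion_sp χ₁ hχ₁s
  haveI : IsClosedImmersion (sp (ψ'.comp (mvAwayRing ã))) := isClosedImmersion_sp χ₁ hχ₁s
  haveI : IsOpenImmersion (Spec.map (CommRingCat.ofHom (MvPolynomial.map (σ := Fin (n + 1)) ρ'))) :=
    isOpenImmersion_Spec_mvPolynomial_map ρ' g
      (hV.isLocalization_of_eq_basicOpen g (homOfLE hV'V) hV'g)
  have e1 : CPAt m E hW χ₁ y' ↔ CPAt m E hW (extChart χ₁ θ) y' :=
    cpAt_iff_of_openImmersion hW χ₁ (extChart χ₁ θ) (MvPolynomial.map ρ')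
      (extChart_comp_map χ₁ ρ' θ hθ) m E y'
  have e2 : CPAt m E hW ψ' y' ↔ CPAt m E hW χ₁ y' :=
    cpAt_comp_iff hW ψ' (mvAwayRing ã) (mvAwayRing_surjective ã) (pcHom_mvAwayRing ã) m E y'
  have e3 : CPAt m E hW ψ' y' ↔ CPAt m E hU φ (resSpec hWU y') :=
    cpAt_basicOpen_iff hU hW hWU a hWa φ ã hã ψ' (locHom_comp φ ã ρ hu) m E y'
  rw [← e1, ← e2, e3]

end Groth.Agent.Lib.Helper16.CI
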