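import Mathlib
import Groth.Prelude.Def_CxOX
import Groth.Prelude.Def_DerSch2
import Groth.Agent.Lib.Helper16.CI8

/-!
# Helper16 — CI9: relative pseudo-coherence (chart form) does not depend on the covers or the
charts.
-/

set_option autoImplicit false
set_option linter.style.haveILetI false
universe u
open CategoryTheory CategoryTheory.Limits AlgebraicGeometry CategoryTheory.Pretriangulated

attribute [local instance] HasDerivedCategory.standard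

namespace Groth.Agent.Lib.Helper16.CI

open Groth.Agent.Lib.Helper16.RS DerivedCategory Groth.Agent.Lib.Helper1.LocPC
  Groth.Agent.Lib.Helper16.PC Groth.Agent.Lib.Helper16.CIPC Groth.Agent.Lib.Helper16.AffRed
  Groth.Agent.Lib.Helper16.RelPC Scheme.Modules

variable {X Y : Scheme.{u}}

/-- the pointwise chart test at a point lying in a second chart on which the test holds. -/
theorem cpAt_of_chartPC (f : X ⟶ Y) (m : ℤ) (E : DCoh.D X)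
    {U : X.Opens} (hU : IsAffineOpen U) {V : Y.Opens} (hV : IsAffineOpen V) (hUV : U ≤ f ⁻¹ᵁ V)
    {n : ℕ} (φ : MvPolynomial (Fin n) Γ(Y, V) →+* Γ(X, U)) (hφ : DerSch.IsChart f U V hUV φ)
    {U₀ : X.Opens} (hU₀ : IsAffineOpen U₀) {V₀ : Y.Opens} (hV₀ : IsAffineOpen V₀)
    (hUV₀ : U₀ ≤ f ⁻¹ᵁ V₀) {n₀ : ℕ} (φ₀ : MvPolynomial (Fin n₀) Γ(Y, V₀) →+* Γ(X, U₀))
    (hφ₀ : DerSch.IsChart f U₀ V₀ hUV₀ φ₀) (hpc₀ : DerSch.ChartPC m E U₀ V₀ φ₀)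
    [IsClosedImmersion (sp φ)] (y : Spec Γ(X, U)) (hyU₀ : hU.fromSpec y ∈ U₀)
    (hyV₀ : f (hU.fromSpec y) ∈ V₀) : CPAt m E hU φ y := by
  haveI : IsClosedImmersion (sp φ₀) := isClosedImmersion_sp φ₀ hφ₀.1
  have hpc₀' := (chartPC_iff m E hU₀ V₀ φ₀ hφ₀.1).1 hpc₀
  set x : X := hU.fromSpec y with hx
  have hxU : x ∈ U := by
    have : x ∈ Set.range hU.fromSpec := ⟨y, rfl⟩
    rwa [hU.range_fromSpec] at this
  have hfx : f x ∈ V := hUV hxU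
  obtain ⟨g, g₀, hgg₀, hfxg⟩ := exists_basicOpen_le_affine_inter hV hV₀ (f x) ⟨hfx, hyV₀⟩
  obtain ⟨a₁, a₁', haa', hxa⟩ := exists_basicOpen_le_affine_inter hU hU₀ x ⟨hxU, hyU₀⟩
  let a : Γ(X, U) := a₁ * (f.appLE V U hUV).hom g
  let a₀ : Γ(X, U₀) := a₁' * (f.appLE V₀ U₀ hUV₀).hom g₀
  let W : X.Opens := X.basicOpen a
  let V' : Y.Opens := Y.basicOpen g
  have hWeq : W = X.basicOpen a₁ ⊓ f ⁻¹ᵁ V' := by
    change X.basicOpen (a₁ * (f.appLE V U hUV).hom g) = _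
    rw [Scheme.basicOpen_mul]
    have := Scheme.basicOpen_appLE f U V hUV g
    change X.basicOpen ((f.appLE V U hUV).hom g) = _ at this
    rw [this, ← inf_assoc, inf_eq_left.2 (X.basicOpen_le a₁)]
  have hWa₀ : W = X.basicOpen a₀ := by
    rw [hWeq]
    change _ = X.basicOpen (a₁' * (f.appLE V₀ U₀ hUV₀).hom g₀)
    rw [Scheme.basicOpen_mul]
    have := Scheme.basicOpen_appLE f U₀ V₀ hUV₀ g₀
    change X.basicOpen ((f.appLE V₀ U₀ hUV₀).hom g₀) = _ at this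
    rw [this, ← inf_assoc, inf_eq_left.2 (X.basicOpen_le a₁'), haa']
    change _ ⊓ f ⁻¹ᵁ Y.basicOpen g = _
    rw [hgg₀]
  have hV'g₀ : V' = Y.basicOpen g₀ := hgg₀
  have hW : IsAffineOpen W := hU.basicOpen a
  have hWU : W ≤ U := X.basicOpen_le a
  have hWU₀ : W ≤ U₀ := by rw [hWa₀]; exact X.basicOpen_le a₀
  have hV'V : V' ≤ V := Y.basicOpen_le g
  have hV'V₀ : V' ≤ V₀ := by rw [hV'g₀]; exact Y.basicOpen_le g₀
  have hWV' : W ≤ f ⁻¹ᵁ V' := by rw [hWeq]; exact inf_le_right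
  have hxW : x ∈ W := by
    rw [hWeq]
    exact ⟨hxa, hfxg⟩
  obtain ⟨χ, hχ, Hχ⟩ := exists_chart_of_basicOpen f hU hV hUV φ hφ hW hWU a rfl hV'V g rfl hWV'
  obtain ⟨χ₀, hχ₀, Hχ₀⟩ := exists_chart_of_basicOpen f hU₀ hV₀ hUV₀ φ₀ hφ₀ hW hWU₀ a₀ hWa₀
    hV'V₀ g₀ hV'g₀ hWV'
  haveI : IsClosedImmersion (sp χ) := isClosedImmersion_sp χ hχ.1
  haveI : IsClosedImmersion (sp χ₀) := isClosedImmersion_sp χ₀ hχ₀.1
  -- the point of `Spec Γ(X, W)` above `y`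
  have hxr : x ∈ Set.range hW.fromSpec := by rw [hW.range_fromSpec]; exact hxW
  obtain ⟨y', hy'⟩ := hxr
  have hy'y : resSpec hWU y' = y := by
    have h1 : hU.fromSpec (resSpec hWU y') = hW.fromSpec y' := by
      have := congrArg (fun g : Spec Γ(X, W) ⟶ X => g y') (resSpec_fromSpec hU hW hWU)
      simpa using this
    exact hU.fromSpec.isOpenEmbedding.injective (h1.trans hy')
  rw [← hy'y, ← Hχ inferInstance inferInstance m E y']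
  rw [cpAt_iff_of_charts hW χ χ₀ hχ.1 hχ₀.1 (hχ.2.trans hχ₀.2.symm) m E y']
  rw [Hχ₀ inferInstance inferInstance m E y']
  exact hpc₀' _

/-- **Independence of covers and charts**: if `E` is `m`-pseudo-coherent relative to `f` (chart
form), then the chart test holds for every pair of affine opens and every chart. -/
theorem chartPC_of_isPseudoCoherentRel (f : X ⟶ Y) (m : ℤ) (E : DCoh.D X)
    (h : DerSch.IsPseudoCoherentRel f m E) {U : X.Opens} (hU : IsAffineOpen U) {V : Y.Opens}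
    (hV : IsAffineOpen V) (hUV : U ≤ f ⁻¹ᵁ V) {n : ℕ}
    (φ : MvPolynomial (Fin n) Γ(Y, V) →+* Γ(X, U)) (hφ : DerSch.IsChart f U V hUV φ) :
    DerSch.ChartPC m E U V φ := by
  haveI : IsClosedImmersion (sp φ) := isClosedImmersion_sp φ hφ.1
  rw [chartPC_iff m E hU V φ hφ.1]
  intro y
  obtain ⟨-, 𝒱, h𝒱, H⟩ := h
  have h1 : f (hU.fromSpec y) ∈ (⨆ V ∈ 𝒱, (V : Y.Opens)) := by rw [h𝒱]; trivial
  obtain ⟨V₀, hV₀mem, hfxV₀⟩ : ∃ V₀ ∈ 𝒱, f (hU.fromSpec y) ∈ (V₀ : Y.Opens) := by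
    simpa [TopologicalSpace.Opens.mem_iSup] using h1
  obtain ⟨𝒰, h𝒰, H'⟩ := H V₀ hV₀mem
  have h2 : hU.fromSpec y ∈ (⨆ U ∈ 𝒰, (U : X.Opens)) := by rw [h𝒰]; exact hfxV₀
  obtain ⟨U₀, hU₀mem, hxU₀⟩ : ∃ U₀ ∈ 𝒰, hU.fromSpec y ∈ (U₀ : X.Opens) := by
    simpa [TopologicalSpace.Opens.mem_iSup] using h2
  have hU₀V₀ : (U₀ : X.Opens) ≤ f ⁻¹ᵁ (V₀ : Y.Opens) := by
    rw [← h𝒰]
    exact le_iSup₂ (f := fun (U : X.affineOpens) (_ : U ∈ 𝒰) => (U : X.Opens)) U₀ hU₀mem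
  obtain ⟨n₀, φ₀, hφ₀, hpc₀⟩ := H' U₀ hU₀mem hU₀V₀
  exact cpAt_of_chartPC f m E hU hV hUV φ hφ U₀.2 V₀.2 hU₀V₀ φ₀ hφ₀ hpc₀ y hxU₀ hfxV₀

end Groth.Agent.Lib.Helper16.CI
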