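import Mathlib
import Groth.Prelude.Def_CxOX
import Groth.Prelude.Def_DerSch2
import Groth.Agent.Lib.Helper16.CI9

/-!
# Helper16 — CI10: relative pseudo-coherence (chart form) as a condition on all pairs of affine
opens and all charts.
-/

set_option autoImplicit false
set_option linter.style.haveILetI false
universe u
open CategoryTheory CategoryTheory.Limits AlgebraicGeometry CategoryTheory.Pretriangulated

attribute [local instance] HasDerivedCategory.standard

namespace Groth.Agent.Lib.Helper16.CI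

variable {X Y : Scheme.{u}}

/-- charts exist for morphisms locally of finite type. -/
theorem exists_isChart (f : X ⟶ Y) [LocallyOfFiniteType f] {U : X.Opens} (hU : IsAffineOpen U)
    {V : Y.Opens} (hV : IsAffineOpen V) (hUV : U ≤ f ⁻¹ᵁ V) :
    ∃ (n : ℕ) (φ : MvPolynomial (Fin n) Γ(Y, V) →+* Γ(X, U)), DerSch.IsChart f U V hUV φ := by
  have hft : (f.appLE V U hUV).hom.FiniteType := LocallyOfFiniteType.finiteType_appLE f hV hU hUV
  letI : Algebra Γ(Y, V) Γ(X, U) := (f.appLE V U hUV).hom.toAlgebra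
  have hft' : Algebra.FiniteType Γ(Y, V) Γ(X, U) := hft
  obtain ⟨n, φ, hφ⟩ := Algebra.FiniteType.iff_quotient_mvPolynomial''.1 hft'
  refine ⟨n, (φ : MvPolynomial (Fin n) Γ(Y, V) →+* Γ(X, U)), hφ, ?_⟩
  ext r
  exact φ.commutes r

/-- the union of the affine opens contained in an open. -/
theorem iSup_affineOpens_le (W : X.Opens) :
    (⨆ U ∈ {U : X.affineOpens | (U : X.Opens) ≤ W}, (U : X.Opens)) = W := by
  apply le_antisymm
  · exact iSup₂_le fun U hU => hU
  · intro x hx
    obtain ⟨_, ⟨U, hU, rfl⟩, hxU, hUW⟩ :=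
      (X.isBasis_affineOpens).exists_subset_of_mem_open hx W.isOpen
    rw [TopologicalSpace.Opens.mem_iSup]
    refine ⟨⟨U, hU⟩, ?_⟩
    rw [TopologicalSpace.Opens.mem_iSup]
    exact ⟨hUW, hxU⟩

/-- all pairs of affine opens, some chart ⟹ relative pseudo-coherence. -/
theorem isPseudoCoherentRel_of_forall (f : X ⟶ Y) [LocallyOfFiniteType f] (m : ℤ) (E : DCoh.D X)
    (h : ∀ (U : X.affineOpens) (V : Y.affineOpens) (h : (U : X.Opens) ≤ f ⁻¹ᵁ (V : Y.Opens)),
      ∃ (n : ℕ) (φ : MvPolynomial (Fin n) Γ(Y, (V : Y.Opens)) →+* Γ(X, (U : X.Opens))),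
        DerSch.IsChart f (U : X.Opens) (V : Y.Opens) h φ ∧
          DerSch.ChartPC m E (U : X.Opens) (V : Y.Opens) φ) :
    DerSch.IsPseudoCoherentRel f m E := by
  refine ⟨inferInstance, Set.univ, ?_, fun V _ => ?_⟩
  · have := iSup_affineOpens_le (⊤ : Y.Opens)
    simpa using this
  · refine ⟨{U : X.affineOpens | (U : X.Opens) ≤ f ⁻¹ᵁ (V : Y.Opens)}, iSup_affineOpens_le _,
      fun U _ hUV => h U V hUV⟩

/-- relative pseudo-coherence (chart form) ⟺ the chart test for all pairs of affine opens and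
all charts. -/
theorem isPseudoCoherentRel_iff_forall (f : X ⟶ Y) [LocallyOfFiniteType f] (m : ℤ)
    (E : DCoh.D X) :
    DerSch.IsPseudoCoherentRel f m E ↔
      ∀ (U : X.Opens) (_ : IsAffineOpen U) (V : Y.Opens) (_ : IsAffineOpen V)
        (hUV : U ≤ f ⁻¹ᵁ V) (n : ℕ) (φ : MvPolynomial (Fin n) Γ(Y, V) →+* Γ(X, U)),
        DerSch.IsChart f U V hUV φ → DerSch.ChartPC m E U V φ := by
  constructor
  · intro h U hU V hV hUV n φ hφ
    exact chartPC_of_isPseudoCoherentRel f m E h hU hV hUV φ hφ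
  · intro h
    refine isPseudoCoherentRel_of_forall f m E (fun U V hUV => ?_)
    obtain ⟨n, φ, hφ⟩ := exists_isChart f U.2 V.2 hUV
    exact ⟨n, φ, hφ, h U U.2 V V.2 hUV n φ hφ⟩

end Groth.Agent.Lib.Helper16.CI
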