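import Mathlib
import Groth.Prelude.Def_CxOX
import Groth.Prelude.Def_DerSch2
import Groth.Agent.Lib.Helper16.CI10
import Groth.Agent.S0889

/-!
# Helper16 — CI11: the chart test as absolute pseudo-coherence of a triangulated functor; the
two-out-of-three property.
-/

set_option autoImplicit false
set_option linter.style.haveILetI false
universe u
open CategoryTheory CategoryTheory.Limits AlgebraicGeometry CategoryTheory.Pretriangulated

attribute [local instance] HasDerivedCategory.standard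

namespace Groth.Agent.Lib.Helper16.CI

open Groth.Agent.Lib.Helper16.RS DerivedCategory Groth.Agent.Lib.Helper1.LocPC
  Groth.Agent.Lib.Helper16.PC Groth.Agent.Lib.Helper16.CIPC Groth.Agent.Lib.Helper16.AffRed
  Groth.Agent.Lib.Helper16.RelPC Scheme.Modules

variable {X Y : Scheme.{u}}

/-- the chart test is absolute pseudo-coherence of `(Spec φ)_* (E|_{Spec Γ(U)})`. -/
theorem chartPC_iff_PD (m : ℤ) (E : DCoh.D X) {U : X.Opens} (hU : IsAffineOpen U) (V : Y.Opens)
    {n : ℕ} (φ : MvPolynomial (Fin n) Γ(Y, V) →+* Γ(X, U)) (hφ : Function.Surjective φ)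
    [IsClosedImmersion (sp φ)] :
    DerSch.ChartPC m E U V φ ↔ DCoh.IsPseudoCoherentD m ((PD (sp φ)).obj (KU hU E)) := by
  rw [chartPC_iff m E hU V φ hφ, isPseudoCoherentD_PD_iff_forall]
  rfl

/-- two out of three for the chart test. -/
theorem chartPC_two_of_three {U : X.Opens} (hU : IsAffineOpen U) (V : Y.Opens)
    {n : ℕ} (φ : MvPolynomial (Fin n) Γ(Y, V) →+* Γ(X, U)) (hφ : Function.Surjective φ)
    (T : Triangle (DCoh.D X)) (hT : T ∈ distTriang (DCoh.D X)) (m : ℤ) :
    (DerSch.ChartPC (m + 1) T.obj₁ U V φ → DerSch.ChartPC m T.obj₂ U V φ →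
        DerSch.ChartPC m T.obj₃ U V φ) ∧
      (DerSch.ChartPC m T.obj₁ U V φ → DerSch.ChartPC m T.obj₃ U V φ →
        DerSch.ChartPC m T.obj₂ U V φ) ∧
      (DerSch.ChartPC (m + 1) T.obj₂ U V φ → DerSch.ChartPC m T.obj₃ U V φ →
        DerSch.ChartPC (m + 1) T.obj₁ U V φ) := by
  haveI : IsClosedImmersion (sp φ) := isClosedImmersion_sp φ hφ
  simp only [chartPC_iff_PD _ _ hU V φ hφ]
  let T' := (PD (sp φ)).mapTriangle.obj ((RD hU.fromSpec).mapTriangle.obj T)
  have hT' : T' ∈ distTriang _ :=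
    (PD (sp φ)).map_distinguished _ ((RD hU.fromSpec).map_distinguished T hT)
  exact Groth.Agent.S0889.result m T' hT'

/-- two out of three for relative pseudo-coherence (chart form). -/
theorem isPseudoCoherentRel_two_of_three (f : X ⟶ Y) [LocallyOfFiniteType f]
    (T : Triangle (DCoh.D X)) (hT : T ∈ distTriang (DCoh.D X)) (m : ℤ) :
    (DerSch.IsPseudoCoherentRel f (m + 1) T.obj₁ → DerSch.IsPseudoCoherentRel f m T.obj₂ →
        DerSch.IsPseudoCoherentRel f m T.obj₃) ∧
      (DerSch.IsPseudoCoherentRel f m T.obj₁ → DerSch.IsPseudoCoherentRel f m T.obj₃ →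
        DerSch.IsPseudoCoherentRel f m T.obj₂) ∧
      (DerSch.IsPseudoCoherentRel f (m + 1) T.obj₂ → DerSch.IsPseudoCoherentRel f m T.obj₃ →
        DerSch.IsPseudoCoherentRel f (m + 1) T.obj₁) := by
  simp only [isPseudoCoherentRel_iff_forall]
  refine ⟨fun h1 h2 U hU V hV hUV n φ hφ => ?_, fun h1 h3 U hU V hV hUV n φ hφ => ?_,
    fun h2 h3 U hU V hV hUV n φ hφ => ?_⟩
  · exact (chartPC_two_of_three hU V φ hφ.1 T hT m).1 (h1 U hU V hV hUV n φ hφ)
      (h2 U hU V hV hUV n φ hφ)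
  · exact (chartPC_two_of_three hU V φ hφ.1 T hT m).2.1 (h1 U hU V hV hUV n φ hφ)
      (h3 U hU V hV hUV n φ hφ)
  · exact (chartPC_two_of_three hU V φ hφ.1 T hT m).2.2 (h2 U hU V hV hUV n φ hφ)
      (h3 U hU V hV hUV n φ hφ)

end Groth.Agent.Lib.Helper16.CI
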