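import Mathlib
import Groth.Prelude.Def_CxOX
import Groth.Prelude.Def_DerSch2
import Groth.Agent.Lib.Helper16.CI11

/-!
# Helper16 — CI12: charts on an open subscheme `U ⊆ X` versus charts on `X`.
-/

set_option autoImplicit false
set_option linter.style.haveILetI false
universe u
open CategoryTheory CategoryTheory.Limits AlgebraicGeometry CategoryTheory.Pretriangulated

attribute [local instance] HasDerivedCategory.standard

namespace Groth.Agent.Lib.Helper16.CI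

open Groth.Agent.Lib.Helper16.RS DerivedCategory Groth.Agent.Lib.Helper1.LocPC
  Groth.Agent.Lib.Helper16.PC Groth.Agent.Lib.Helper16.CIPC Groth.Agent.Lib.Helper16.AffRed
  Groth.Agent.Lib.Helper16.RelPC Scheme.Modules

variable {X Y : Scheme.{u}}

/-- the chart test only depends on the isomorphism class. -/
theorem chartPC_of_iso {m : ℤ} {K K' : DCoh.D X} (e : K ≅ K') {U : X.Opens} {V : Y.Opens} {n : ℕ}
    {φ : MvPolynomial (Fin n) Γ(Y, V) →+* Γ(X, U)} (h : DerSch.ChartPC m K U V φ) :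
    DerSch.ChartPC m K' U V φ := by
  rintro G ⟨eG⟩
  exact h G ⟨eG ≪≫ e.symm⟩

section Restrict

variable (U : X.Opens) (W : (U : Scheme.{u}).Opens) (hW : IsAffineOpen W)

include hW in
lemma isAffineOpen_image : IsAffineOpen (U.ι ''ᵁ W) := hW.image_of_isOpenImmersion U.ι

lemma appLE_image_self (hUV : W ≤ U.ι ⁻¹ᵁ (U.ι ''ᵁ W)) :
    U.ι.appLE (U.ι ''ᵁ W) W hUV = 𝟙 (Γ(X, U.ι ''ᵁ W)) := by
  rw [Scheme.Opens.ι_appLE]
  exact X.presheaf.map_id _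

lemma toSpecΓ_image (hUV : W ≤ U.ι ⁻¹ᵁ (U.ι ''ᵁ W)) :
    W.toSpecΓ = U.ι.resLE (U.ι ''ᵁ W) W hUV ≫ (U.ι ''ᵁ W).toSpecΓ := by
  have h := Scheme.Opens.toSpecΓ_SpecMap_appLE U.ι (U.ι ''ᵁ W) W hUV
  have h2 : Spec.map (U.ι.appLE (U.ι ''ᵁ W) W hUV) = 𝟙 (Spec Γ(X, U.ι ''ᵁ W)) := by
    rw [appLE_image_self]
    exact Spec.map_id _
  have e1 : W.toSpecΓ = W.toSpecΓ ≫ Spec.map (U.ι.appLE (U.ι ''ᵁ W) W hUV) := by
    rw [h2]
    exact (Category.comp_id W.toSpecΓ).symm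
  exact e1.trans h

lemma fromSpec_image :
    hW.fromSpec ≫ U.ι = (isAffineOpen_image U W hW).fromSpec := by
  haveI : IsIso W.toSpecΓ := by
    rw [← hW.isoSpec_hom]
    infer_instance
  have hUV : W ≤ U.ι ⁻¹ᵁ (U.ι ''ᵁ W) := by simp
  refine (cancel_epi W.toSpecΓ).1 ?_
  have h1 : W.toSpecΓ ≫ hW.fromSpec ≫ U.ι = W.ι ≫ U.ι := hW.toSpecΓ_fromSpec_assoc U.ι
  have h4 : (U.ι ''ᵁ W).toSpecΓ ≫ (isAffineOpen_image U W hW).fromSpec = (U.ι ''ᵁ W).ι :=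
    (isAffineOpen_image U W hW).toSpecΓ_fromSpec
  have h5 : U.ι.resLE (U.ι ''ᵁ W) W hUV ≫ (U.ι ''ᵁ W).ι = W.ι ≫ U.ι :=
    Scheme.Hom.resLE_comp_ι U.ι _
  have h2 : W.toSpecΓ ≫ (isAffineOpen_image U W hW).fromSpec = W.ι ≫ U.ι := by
    have e1 : W.toSpecΓ ≫ (isAffineOpen_image U W hW).fromSpec =
        (U.ι.resLE (U.ι ''ᵁ W) W hUV ≫ (U.ι ''ᵁ W).toSpecΓ) ≫
          (isAffineOpen_image U W hW).fromSpec :=
      congrArg (fun t => t ≫ (isAffineOpen_image U W hW).fromSpec) (toSpecΓ_image U W hUV)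
    rw [e1, Category.assoc, h4, h5]
  exact h1.trans h2.symm

theorem isChart_image_iff (f : X ⟶ Y) (V : Y.Opens) (h : U.ι ''ᵁ W ≤ f ⁻¹ᵁ V)
    (h' : W ≤ (U.ι ≫ f) ⁻¹ᵁ V) {n : ℕ}
    (φ : MvPolynomial (Fin n) Γ(Y, V) →+* Γ(X, U.ι ''ᵁ W)) :
    DerSch.IsChart f (U.ι ''ᵁ W) V h φ ↔ DerSch.IsChart (U := W) (U.ι ≫ f) V h' φ := by
  have key : (f.appLE V (U.ι ''ᵁ W) h) = (U.ι ≫ f).appLE V W h' := by
    have h2 : W ≤ U.ι ⁻¹ᵁ (U.ι ''ᵁ W) := by simp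
    have h3 := Scheme.Hom.appLE_comp_appLE U.ι f V (U.ι ''ᵁ W) W h h2
    have e1 : f.appLE V (U.ι ''ᵁ W) h =
        f.appLE V (U.ι ''ᵁ W) h ≫ U.ι.appLE (U.ι ''ᵁ W) W h2 := by
      rw [appLE_image_self]
      exact (Category.comp_id _).symm
    exact e1.trans h3
  unfold DerSch.IsChart
  rw [key]
  rfl

omit U W in
lemma pc_PD_RD_fac_iff {S T U' : Scheme.{u}} (j : U' ⟶ X) [IsOpenImmersion j] (k : S ⟶ U')
    [IsOpenImmersion k] (j' : S ⟶ X) [IsOpenImmersion j'] (h : k ≫ j = j') (i : S ⟶ T)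
    [IsClosedImmersion i] (m : ℤ) (E : DCoh.D X) :
    DCoh.IsPseudoCoherentD m ((PD i).obj ((RD j').obj E)) ↔
      DCoh.IsPseudoCoherentD m ((PD i).obj ((RD k).obj ((RD j).obj E))) := by
  obtain ⟨e⟩ := nonempty_RD_fac_iso j k j' h E
  exact ⟨fun h => isPseudoCoherentD_of_iso ((PD i).mapIso e.symm) h,
    fun h => isPseudoCoherentD_of_iso ((PD i).mapIso e) h⟩

include hW in
theorem chartPC_image_iff (m : ℤ) (E : DCoh.D X) (V : Y.Opens) {n : ℕ}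
    (φ : MvPolynomial (Fin n) Γ(Y, V) →+* Γ(X, U.ι ''ᵁ W)) (hφ : Function.Surjective φ) :
    DerSch.ChartPC m E (U.ι ''ᵁ W) V φ ↔
      DerSch.ChartPC (U := W) m ((RD U.ι).obj E) V φ := by
  haveI : IsClosedImmersion (sp (U := U.ι ''ᵁ W) φ) := isClosedImmersion_sp φ hφ
  haveI : IsClosedImmersion (sp (X := (U : Scheme.{u})) (U := W) φ) :=
    isClosedImmersion_sp (X := (U : Scheme.{u})) (U := W) φ hφ
  rw [chartPC_iff_PD m E (isAffineOpen_image U W hW) V φ hφ,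
    chartPC_iff_PD (X := (U : Scheme.{u})) m ((RD U.ι).obj E) hW V φ hφ]
  exact @pc_PD_RD_fac_iff X _ _ _ U.ι _ hW.fromSpec _ (isAffineOpen_image U W hW).fromSpec
    (isAffineOpen_image U W hW).isOpenImmersion_fromSpec
    (fromSpec_image U W hW) (sp (U := U.ι ''ᵁ W) φ) (isClosedImmersion_sp φ hφ) m E

end Restrict

end Groth.Agent.Lib.Helper16.CI
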