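import Mathlib
import Groth.Prelude.Def_CxOX
import Groth.Prelude.Def_DerSch2
import Groth.Agent.Lib.Helper16.CI12
import Groth.Agent.Lib.Helper16.DerTrunc3
import Groth.Agent.Lib.Helper16.PC4

/-!
# Helper16 — CI13: relative pseudo-coherence (chart form): isomorphisms, shifts, bounded above
objects, dévissage by cohomology sheaves and by terms.
-/

set_option autoImplicit false
set_option linter.style.haveILetI false
universe u
open CategoryTheory CategoryTheory.Limits AlgebraicGeometry CategoryTheory.Pretriangulated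

attribute [local instance] HasDerivedCategory.standard

namespace Groth.Agent.Lib.Helper16.CI

open Groth.Agent.Lib.Helper16.RS DerivedCategory Groth.Agent.Lib.Helper1.LocPC
  Groth.Agent.Lib.Helper16.PC Groth.Agent.Lib.Helper16.CIPC Groth.Agent.Lib.Helper16.AffRed
  Groth.Agent.Lib.Helper16.RelPC Scheme.Modules

variable {X Y : Scheme.{u}}

theorem isPseudoCoherentRel_of_iso (f : X ⟶ Y) {m : ℤ} {K K' : DCoh.D X} (e : K ≅ K')
    (h : DerSch.IsPseudoCoherentRel f m K) : DerSch.IsPseudoCoherentRel f m K' := by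
  obtain ⟨hf, 𝒱, h𝒱, H⟩ := h
  refine ⟨hf, 𝒱, h𝒱, fun V hV => ?_⟩
  obtain ⟨𝒰, h𝒰, H'⟩ := H V hV
  refine ⟨𝒰, h𝒰, fun U hU hle => ?_⟩
  obtain ⟨n, φ, hφ, hc⟩ := H' U hU hle
  exact ⟨n, φ, hφ, chartPC_of_iso e hc⟩

/-- the chart test for an object bounded above by `m - 1`. -/
theorem chartPC_of_isLE {U : X.Opens} (hU : IsAffineOpen U) (V : Y.Opens) {n : ℕ}
    (φ : MvPolynomial (Fin n) Γ(Y, V) →+* Γ(X, U)) (hφ : Function.Surjective φ) (m : ℤ)
    (K : DCoh.D X) (hK : K.IsLE (m - 1)) : DerSch.ChartPC m K U V φ := by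
  haveI : IsClosedImmersion (sp φ) := isClosedImmersion_sp φ hφ
  rw [chartPC_iff_PD m K hU V φ hφ, isPseudoCoherentD_iff]
  intro x
  have h1 : ((PD (sp φ)).obj (KU hU K)).IsLE (m - 1) :=
    map_isLE _ _ _ (map_isLE _ K _ hK)
  have := PCAt.of_isLE _ (m - 1) h1 x
  rwa [sub_add_cancel] at this

theorem isPseudoCoherentRel_of_isLE (f : X ⟶ Y) [LocallyOfFiniteType f] (m : ℤ) (K : DCoh.D X)
    (hK : K.IsLE (m - 1)) : DerSch.IsPseudoCoherentRel f m K := by
  rw [isPseudoCoherentRel_iff_forall]
  intro U hU V hV hUV n φ hφ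
  exact chartPC_of_isLE hU V φ hφ.1 m K hK

/-- the chart test and shifts. -/
theorem chartPC_shift {U : X.Opens} (hU : IsAffineOpen U) (V : Y.Opens) {n : ℕ}
    (φ : MvPolynomial (Fin n) Γ(Y, V) →+* Γ(X, U)) (hφ : Function.Surjective φ) {m : ℤ}
    {K : DCoh.D X} (h : DerSch.ChartPC m K U V φ) (k m' : ℤ) (hm : m' + k = m) :
    DerSch.ChartPC m' (K⟦k⟧) U V φ := by
  haveI : IsClosedImmersion (sp φ) := isClosedImmersion_sp φ hφ
  rw [chartPC_iff_PD _ _ hU V φ hφ, isPseudoCoherentD_iff] at h ⊢
  intro x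
  have e : (PD (sp φ)).obj (KU hU (K⟦k⟧)) ≅ ((PD (sp φ)).obj (KU hU K))⟦k⟧ :=
    (PD (sp φ)).mapIso (((RD hU.fromSpec).commShiftIso k).app K) ≪≫
      ((PD (sp φ)).commShiftIso k).app _
  exact ((h x).shift k m' hm).of_iso e.symm

theorem isPseudoCoherentRel_shift (f : X ⟶ Y) [LocallyOfFiniteType f] {m : ℤ} {K : DCoh.D X}
    (h : DerSch.IsPseudoCoherentRel f m K) (k m' : ℤ) (hm : m' + k = m) :
    DerSch.IsPseudoCoherentRel f m' (K⟦k⟧) := by
  rw [isPseudoCoherentRel_iff_forall] at h ⊢
  intro U hU V hV hUV n φ hφ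
  exact chartPC_shift hU V φ hφ.1 (h U hU V hV hUV n φ hφ) k m' hm

/-- a module placed in degree `j`. -/
theorem isPseudoCoherentRel_single (f : X ⟶ Y) [LocallyOfFiniteType f] (M : X.Modules) (j m : ℤ)
    (h : DerSch.IsPseudoCoherentRel f (m - j) (DCoh.inD X M)) :
    DerSch.IsPseudoCoherentRel f m ((singleFunctor X.Modules j).obj M) := by
  have h1 := isPseudoCoherentRel_shift f h (-j) m (by omega)
  exact isPseudoCoherentRel_of_iso f
    (((singleFunctors X.Modules).shiftIso (-j) j 0 (by omega)).app M) h1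

open Groth.Agent.Lib.Helper16.DerT in
/-- dévissage by cohomology sheaves. -/
theorem isPseudoCoherentRel_of_homology (f : X ⟶ Y) [LocallyOfFiniteType f] (m : ℤ)
    (K : DCoh.D X) (b : ℤ) (hb : K.IsLE b)
    (h : ∀ i : ℤ, DerSch.IsPseudoCoherentRel f (m - i) (DCoh.inD X (DCoh.HD K i))) :
    DerSch.IsPseudoCoherentRel f m K := by
  have hT := (TStructure.t (C := X.Modules)).triangleLTGE_distinguished m K
  have h3 := isPseudoCoherentRel_two_of_three f _ hT m
  refine h3.2.1 ?_ ?_
  · have : (((TStructure.t (C := X.Modules)).truncLT m).obj K).IsLE (m - 1) := by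
      show (TStructure.t (C := X.Modules)).IsLE _ (m - 1)
      infer_instance
    exact isPseudoCoherentRel_of_isLE f m _ this
  · show DerSch.IsPseudoCoherentRel f m (((TStructure.t (C := X.Modules)).truncGE m).obj K)
    have hK' : K.IsLE (max b (m - 1)) :=
      (TStructure.t (C := X.Modules)).isLE_of_le K b _ (le_max_left _ _)
    have : (((TStructure.t (C := X.Modules)).truncGE m).obj K).IsGE m := by
      show (TStructure.t (C := X.Modules)).IsGE _ m
      infer_instance
    have : (((TStructure.t (C := X.Modules)).truncGE m).obj K).IsLE (max b (m - 1)) := by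
      show (TStructure.t (C := X.Modules)).IsLE _ (max b (m - 1))
      infer_instance
    refine bounded_induction (fun Z => DerSch.IsPseudoCoherentRel f m Z)
      (fun Z Z' e h => isPseudoCoherentRel_of_iso f e h)
      (fun Z hZ => isPseudoCoherentRel_of_isLE f m Z
        ((TStructure.t (C := X.Modules)).isLE_of_isZero hZ _))
      (fun T hT h1 h3 => (isPseudoCoherentRel_two_of_three f T hT m).2.1 h1 h3)
      (max b (m - 1) + 1 - m).toNat m (max b (m - 1)) ?_ _ ?_
    · have : m - 1 ≤ max b (m - 1) := le_max_right _ _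
      rw [Int.toNat_of_nonneg (by omega)]
      ring
    · intro j hj1 hj2
      have := isIso_homologyMap_truncGEπ K m j hj1
      refine isPseudoCoherentRel_of_iso f ((singleFunctor _ j).mapIso (asIso ((homologyFunctor _ j).map
        (((TStructure.t (C := X.Modules)).truncGEπ m).app K)))) ?_
      exact isPseudoCoherentRel_single f _ j m (h j)

/-- dévissage by terms. -/
theorem isPseudoCoherentRel_of_termwise (f : X ⟶ Y) [LocallyOfFiniteType f] (m : ℤ) :
    ∀ (n : ℕ) (F : CochainComplex X.Modules ℤ) (b : ℤ), b + 1 - m ≤ n →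
      (∀ i : ℤ, b < i → IsZero (F.X i)) →
      (∀ i : ℤ, DerSch.IsPseudoCoherentRel f (m - i) (DCoh.inD X (F.X i))) →
      DerSch.IsPseudoCoherentRel f m (DCoh.toD X F) := by
  have base : ∀ (F : CochainComplex X.Modules ℤ) (b : ℤ), b < m →
      (∀ i : ℤ, b < i → IsZero (F.X i)) → DerSch.IsPseudoCoherentRel f m (DCoh.toD X F) := by
    intro F b hb hF
    have : F.IsStrictlyLE b := (CochainComplex.isStrictlyLE_iff _ _).2 hF
    have h1 : (DCoh.toD X F).IsLE b := inferInstance
    exact isPseudoCoherentRel_of_isLE f m _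
      ((TStructure.t (C := X.Modules)).isLE_of_le _ b (m - 1) (by omega))
  intro n
  induction n with
  | zero =>
    intro F b hn hF _
    exact base F b (by omega) hF
  | succ n ih =>
    intro F b hn hF hterm
    by_cases hb : b < m
    · exact base F b hb hF
    · have hT := triangleOfSES_distinguished (Top.sc_shortExact F b hF)
      have h3 := isPseudoCoherentRel_two_of_three f _ hT m
      refine h3.2.1 (isPseudoCoherentRel_single f _ b m (hterm b)) ?_
      refine ih (Top.τ F b hF) (b - 1) (by push_cast at hn; omega) ?_ ?_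
      · intro i hi
        by_cases h : i = b
        · subst h
          exact Top.isZero_τ_X F i hF
        · exact (hF i (by omega)).of_iso (Top.τXIso F b hF i h).symm
      · intro i
        by_cases h : i = b
        · subst h
          refine isPseudoCoherentRel_of_isLE f _ _ ?_
          exact (TStructure.t (C := X.Modules)).isLE_of_isZero
            (Functor.map_isZero (singleFunctor X.Modules 0) (Top.isZero_τ_X F i hF)) _
        · exact isPseudoCoherentRel_of_iso f
            ((singleFunctor X.Modules 0).mapIso (Top.τXIso F b hF i h)) (hterm i)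

end Groth.Agent.Lib.Helper16.CI
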