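import Mathlib
import Groth.Prelude.Def_CxOX
import Groth.Prelude.Def_DerSch2
import Groth.Prelude.Def_DerCA
import Groth.Agent.Lib.Helper16.CI13
import Groth.Agent.Lib.Helper16.AffRed5
import Groth.Agent.Lib.Helper26.LC15
import Groth.Agent.S1004

/-!
# Helper16 — CI14: the chart test in terms of rings: `ChartPC m E U V φ` iff the object of
`D(Γ(X, U))` corresponding to `E|_U` is `m`-pseudo-coherent over the polynomial ring.
-/

set_option autoImplicit false
set_option linter.style.haveILetI false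
universe u
open CategoryTheory CategoryTheory.Limits AlgebraicGeometry CategoryTheory.Pretriangulated

attribute [local instance] HasDerivedCategory.standard

namespace Groth.Agent.Lib.Helper16.CI

open Groth.Agent.Lib.Helper16.RS DerivedCategory Groth.Agent.Lib.Helper1.LocPC
  Groth.Agent.Lib.Helper16.PC Groth.Agent.Lib.Helper16.CIPC Groth.Agent.Lib.Helper16.AffRed
  Groth.Agent.Lib.Helper16.RelPC Scheme.Modules

section PushTilde

variable {R S : CommRingCat.{u}} (φ : R ⟶ S) [IsClosedImmersion (Spec.map φ)]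

/-- `(Spec φ)_* (M~) ≅ (M_R)~` in the derived category, for a closed immersion `Spec φ`. -/
theorem nonempty_PD_tildeD_iso (M : DerivedCategory (ModuleCat.{u} S)) :
    Nonempty ((PD (Spec.map φ)).obj ((DCoh.tildeD S).obj M) ≅
      (DCoh.tildeD R).obj ((DRing.restrictD φ.hom).obj M)) := by
  let K := Q.objPreimage M
  let e : Q.obj K ≅ M := Q.objObjPreimageIso M
  haveI hadd : (ModuleCat.restrictScalars.{u} φ.hom ⋙ tilde.functor R).Additive := inferInstance
  let c : (tilde.functor S).mapHomologicalComplex (ComplexShape.up ℤ) ⋙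
        (Scheme.Modules.pushforward (Spec.map φ)).mapHomologicalComplex (ComplexShape.up ℤ) ≅
      (ModuleCat.restrictScalars.{u} φ.hom).mapHomologicalComplex (ComplexShape.up ℤ) ⋙
        (tilde.functor R).mapHomologicalComplex (ComplexShape.up ℤ) :=
    Functor.mapHomologicalComplexCompIso (Groth.Agent.Lib.Helper26.LC15.κ φ) _ ≪≫
      (Functor.mapHomologicalComplexCompIso
        (Iso.refl (ModuleCat.restrictScalars.{u} φ.hom ⋙ tilde.functor R)) _).symm
  exact ⟨(PD (Spec.map φ)).mapIso ((DCoh.tildeD S).mapIso e.symm ≪≫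
      (tilde.functor S).mapDerivedCategoryFactors.app K) ≪≫
    PDQIso (Spec.map φ) _ ≪≫ Q.mapIso (c.app K) ≪≫
    ((tilde.functor R).mapDerivedCategoryFactors.app _).symm ≪≫
    (DCoh.tildeD R).mapIso
      (((ModuleCat.restrictScalars.{u} φ.hom).mapDerivedCategoryFactors.app K).symm ≪≫
        (DRing.restrictD φ.hom).mapIso e)⟩

end PushTilde

variable {X Y : Scheme.{u}}

/-- the object of the statement S7234 is `E|_{Spec Γ(X, U)}`. -/
theorem nonempty_toD_pushCx_isoSpec_iso {U : X.Opens} (hU : IsAffineOpen U) (E : DCoh.D X)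
    (G : CochainComplex X.Modules ℤ) (eG : DCoh.toD X G ≅ E) :
    Nonempty (DCoh.toD _ ((DerSch.pushCx hU.isoSpec.hom).obj ((DCoh.restrictCx U).obj G)) ≅
      KU hU E) := by
  obtain ⟨e2⟩ := nonempty_PD_iso_RD_inv hU.isoSpec ((RD U.ι).obj E)
  obtain ⟨e3⟩ := nonempty_RD_fac_iso U.ι hU.isoSpec.inv hU.fromSpec hU.isoSpec_inv_ι E
  exact ⟨(PDQIso hU.isoSpec.hom ((RCx U.ι).obj G)).symm ≪≫
    (PD hU.isoSpec.hom).mapIso ((RDQIso U.ι G).symm ≪≫ (RD U.ι).mapIso eG) ≪≫ e2 ≪≫ e3⟩

/-- the chart test in terms of rings. -/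
theorem chartPC_iff_ring (m : ℤ) (E : DCoh.D X) {U : X.Opens} (hU : IsAffineOpen U) (V : Y.Opens)
    {n : ℕ} (φ : MvPolynomial (Fin n) Γ(Y, V) →+* Γ(X, U)) (hφ : Function.Surjective φ)
    (G : CochainComplex X.Modules ℤ) (eG : DCoh.toD X G ≅ E) (M : Dual.D Γ(X, U))
    (eM : (DCoh.tildeD (X.presheaf.obj (Opposite.op U))).obj M ≅
      DCoh.toD _ ((DerSch.pushCx hU.isoSpec.hom).obj ((DCoh.restrictCx U).obj G))) :
    DerSch.ChartPC m E U V φ ↔
      DRing.IsPseudoCoherent (MvPolynomial (Fin n) Γ(Y, V)) m ((DRing.restrictD φ).obj M) := by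
  haveI : IsClosedImmersion (sp φ) := isClosedImmersion_sp φ hφ
  rw [chartPC_iff_PD m E hU V φ hφ]
  obtain ⟨e1⟩ := nonempty_toD_pushCx_isoSpec_iso hU E G eG
  haveI : IsClosedImmersion (Spec.map (CommRingCat.ofHom φ)) := isClosedImmersion_sp φ hφ
  obtain ⟨e2⟩ := nonempty_PD_tildeD_iso (R := CommRingCat.of (MvPolynomial (Fin n) Γ(Y, V)))
    (S := X.presheaf.obj (Opposite.op U)) (CommRingCat.ofHom φ) M
  rw [← Groth.Agent.S1004.result (MvPolynomial (Fin n) Γ(Y, V)) ((DRing.restrictD φ).obj M) m]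
  have e : (PD (sp φ)).obj (KU hU E) ≅
      (DCoh.tildeD (CommRingCat.of (MvPolynomial (Fin n) Γ(Y, V)))).obj
        ((DRing.restrictD φ).obj M) :=
    (PD (sp φ)).mapIso (e1.symm ≪≫ eM.symm) ≪≫ e2
  exact ⟨fun h => isPseudoCoherentD_of_iso e h, fun h => isPseudoCoherentD_of_iso e.symm h⟩

end Groth.Agent.Lib.Helper16.CI
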