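import Mathlib
import Groth.Prelude.Def_CxOX
import Groth.Prelude.Def_DerSch2
import Groth.Agent.Lib.Helper16.CI14

/-!
# Helper16 — CI15: pseudo-coherent morphisms (chart form): absolute versus relative
pseudo-coherence.
-/

set_option autoImplicit false
set_option linter.style.haveILetI false
universe u
open CategoryTheory CategoryTheory.Limits AlgebraicGeometry CategoryTheory.Pretriangulated

attribute [local instance] HasDerivedCategory.standard

namespace Groth.Agent.Lib.Helper16.CI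

open Groth.Agent.Lib.Helper16.RS DerivedCategory Groth.Agent.Lib.Helper1.LocPC
  Groth.Agent.Lib.Helper16.PC Groth.Agent.Lib.Helper16.CIPC Groth.Agent.Lib.Helper16.AffRed
  Groth.Agent.Lib.Helper16.RelPC Scheme.Modules

variable {X Y : Scheme.{u}}

/-- `O_X[0]` restricted to `Spec Γ(X, U)`. -/
noncomputable def KUunitIso {U : X.Opens} (hU : IsAffineOpen U) :
    KU hU (DCoh.toD X (DerSch.unitCx X)) ≅
      DCoh.inD (Spec Γ(X, U)) (Coh.structureModule (Spec Γ(X, U))) :=
  (RD hU.fromSpec).mapIso ((singleFunctorIsoCompQ X.Modules 0).app (Coh.structureModule X)).symm ≪≫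
    RDinDIso hU.fromSpec _ ≪≫
    (singleFunctor _ 0).mapIso (Scheme.Modules.restrictUnitIso hU.fromSpec)

/-- the direct image of `O[0]` along a chart. -/
noncomputable def PDunitIso {U : X.Opens} (hU : IsAffineOpen U) {P : Type u} [CommRing P]
    (ψ : P →+* Γ(X, U)) [IsClosedImmersion (sp ψ)] :
    (PD (sp ψ)).obj (KU hU (DCoh.toD X (DerSch.unitCx X))) ≅
      DCoh.inD _ ((Scheme.Modules.pushforward (sp ψ)).obj (Coh.structureModule (Spec Γ(X, U)))) :=
  (PD (sp ψ)).mapIso (KUunitIso hU) ≪≫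
    ((Scheme.Modules.pushforward (sp ψ)).mapDerivedCategorySingleFunctor 0).app _

/-- the structure sheaf satisfies the chart test in all degrees iff `(Spec φ)_* O` is
pseudo-coherent. -/
theorem hO_sp_iff {U : X.Opens} (hU : IsAffineOpen U) (V : Y.Opens) {n : ℕ}
    (φ : MvPolynomial (Fin n) Γ(Y, V) →+* Γ(X, U)) (hφ : Function.Surjective φ)
    [IsClosedImmersion (sp φ)] :
    HO (sp φ) ↔ ∀ k : ℤ, DerSch.ChartPC k (DCoh.toD X (DerSch.unitCx X)) U V φ := by
  constructor
  · intro h k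
    rw [chartPC_iff_PD k _ hU V φ hφ]
    exact isPseudoCoherentD_of_iso (PDunitIso hU φ).symm (h k)
  · intro h k
    have := (chartPC_iff_PD k _ hU V φ hφ).1 (h k)
    exact isPseudoCoherentD_of_iso (PDunitIso hU φ) this

/-- for a pseudo-coherent morphism (chart form), absolute and relative pseudo-coherence agree. -/
theorem isPseudoCoherentD_iff_isPseudoCoherentRel (g : X ⟶ Y) [LocallyOfFiniteType g]
    (hg : ∀ n : ℤ, DerSch.IsNPseudoCoherent g n) (r : ℤ) (E : DCoh.D X) :
    DCoh.IsPseudoCoherentD r E ↔ DerSch.IsPseudoCoherentRel g r E := by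
  have hO : ∀ {U : X.Opens} (hU : IsAffineOpen U) {V : Y.Opens} (hV : IsAffineOpen V)
      (hUV : U ≤ g ⁻¹ᵁ V) {n : ℕ} (φ : MvPolynomial (Fin n) Γ(Y, V) →+* Γ(X, U))
      (hφ : DerSch.IsChart g U V hUV φ) (_ : IsClosedImmersion (sp φ)), HO (sp φ) := by
    intro U hU V hV hUV n φ hφ _
    rw [hO_sp_iff hU V φ hφ.1]
    intro k
    exact chartPC_of_isPseudoCoherentRel g k _ (hg k) hU hV hUV φ hφ
  constructor
  · intro h
    rw [isPseudoCoherentRel_iff_forall]
    intro U hU V hV hUV n φ hφ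
    haveI : IsClosedImmersion (sp φ) := isClosedImmersion_sp φ hφ.1
    rw [chartPC_iff_PD r E hU V φ hφ.1,
      ← isPseudoCoherentD_PD_iff (sp φ) (hO hU hV hUV φ hφ inferInstance)]
    exact isPseudoCoherentD_RD hU.fromSpec r E h
  · intro h
    rw [isPseudoCoherentD_iff]
    intro x
    obtain ⟨_, ⟨V, hV', rfl⟩, hxV, -⟩ := (Y.isBasis_affineOpens).exists_subset_of_mem_open
      (Set.mem_univ (g x)) isOpen_univ
    obtain ⟨_, ⟨U, hU', rfl⟩, hxU, hUV⟩ := (X.isBasis_affineOpens).exists_subset_of_mem_open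
      (show x ∈ ((g ⁻¹ᵁ V : X.Opens) : Set X) from hxV) (g ⁻¹ᵁ V).isOpen
    have hU : IsAffineOpen U := hU'
    have hV : IsAffineOpen V := hV'
    obtain ⟨n, φ, hφ⟩ := exists_isChart g hU hV hUV
    haveI : IsClosedImmersion (sp φ) := isClosedImmersion_sp φ hφ.1
    have c := chartPC_of_isPseudoCoherentRel g r E h hU hV hUV φ hφ
    rw [chartPC_iff_PD r E hU V φ hφ.1,
      ← isPseudoCoherentD_PD_iff (sp φ) (hO hU hV hUV φ hφ inferInstance),
      isPseudoCoherentD_iff] at c
    have hx : x ∈ Set.range hU.fromSpec := by rw [hU.range_fromSpec]; exact hxU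
    obtain ⟨y, rfl⟩ := hx
    exact PCAt.of_restrict hU.fromSpec y (c y)

end Groth.Agent.Lib.Helper16.CI
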