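import Mathlib
import Groth.Prelude.Def_CxOX
import Groth.Prelude.Def_DerSch2
import Groth.Prelude.Def_MoreMor
import Groth.Agent.Lib.Helper16.CI15
import Groth.Agent.Lib.Helper16.RelPC3
import Groth.Agent.S7071
import Groth.Agent.S7068

/-!
# Helper16 — CI16: the chart test and ring-level relative pseudo-coherence; pseudo-coherent ring
maps give pseudo-coherent morphisms (chart form); flat morphisms locally of finite presentation.
-/

set_option autoImplicit false
set_option linter.style.haveILetI false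
universe u
open CategoryTheory CategoryTheory.Limits AlgebraicGeometry CategoryTheory.Pretriangulated

attribute [local instance] HasDerivedCategory.standard

namespace Groth.Agent.Lib.Helper16.CI

open Groth.Agent.Lib.Helper16.RS DerivedCategory Groth.Agent.Lib.Helper1.LocPC
  Groth.Agent.Lib.Helper16.PC Groth.Agent.Lib.Helper16.CIPC Groth.Agent.Lib.Helper16.AffRed
  Groth.Agent.Lib.Helper16.RelPC Scheme.Modules

variable {X Y : Scheme.{u}}

/-- the chart test is ring-level relative pseudo-coherence. -/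
theorem chartPC_iff_isRelPseudoCoherent (f : X ⟶ Y) (m : ℤ) (E : DCoh.D X) {U : X.Opens}
    (hU : IsAffineOpen U) {V : Y.Opens} (hUV : U ≤ f ⁻¹ᵁ V) {n : ℕ}
    (φ : MvPolynomial (Fin n) Γ(Y, V) →+* Γ(X, U)) (hφ : DerSch.IsChart f U V hUV φ)
    (G : CochainComplex X.Modules ℤ) (eG : DCoh.toD X G ≅ E) (M : Dual.D Γ(X, U))
    (eM : (DCoh.tildeD (X.presheaf.obj (Opposite.op U))).obj M ≅
      DCoh.toD _ ((DerSch.pushCx hU.isoSpec.hom).obj ((DCoh.restrictCx U).obj G))) :
    DerSch.ChartPC m E U V φ ↔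
      (letI := (f.appLE V U hUV).hom.toAlgebra
       DerCA.IsRelPseudoCoherent Γ(Y, V) Γ(X, U) m M) := by
  letI := (f.appLE V U hUV).hom.toAlgebra
  let α : MvPolynomial (Fin n) Γ(Y, V) →ₐ[Γ(Y, V)] Γ(X, U) :=
    { φ with commutes' := fun r => congrArg (fun g => g r) hφ.2 }
  rw [chartPC_iff_ring m E hU V φ hφ.1 G eG M eM]
  exact (rel_iff_via α hφ.1 m M).symm

/-- the object of `D(Γ(X, U))` corresponding to `O_X|_U`. -/
theorem nonempty_tildeD_unit_iso {U : X.Opens} (hU : IsAffineOpen U) :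
    Nonempty ((DCoh.tildeD (X.presheaf.obj (Opposite.op U))).obj (Dual.inD Γ(X, U) Γ(X, U)) ≅
      DCoh.toD _ ((DerSch.pushCx hU.isoSpec.hom).obj
        ((DCoh.restrictCx U).obj (DerSch.unitCx X)))) := by
  obtain ⟨e1⟩ := nonempty_toD_pushCx_isoSpec_iso hU _ (DerSch.unitCx X) (Iso.refl _)
  exact ⟨tildeDSingleIso (X.presheaf.obj (Opposite.op U)) (ModuleCat.of Γ(X, U) Γ(X, U)) ≪≫
    (singleFunctor _ 0).mapIso (tildeSelf (R := X.presheaf.obj (Opposite.op U))) ≪≫
    (KUunitIso hU).symm ≪≫ e1.symm⟩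

lemma pc_inD_self (A : Type u) [CommRing A] (m : ℤ) :
    DRing.IsPseudoCoherent A m (Dual.inD A A) :=
  (isPseudoCoherent_iff _ _).2
    (isPC_single finFree_zero finFree_iso _
      ⟨(inferInstance : Module.Finite A A), (inferInstance : Module.Free A A)⟩ 0 m)

/-- a morphism whose ring maps on affine opens are pseudo-coherent is pseudo-coherent in chart
form. -/
theorem isNPseudoCoherent_of_isPseudoCoherentHom (f : X ⟶ Y) [LocallyOfFiniteType f]
    (h : ∀ (U : X.Opens) (V : Y.Opens) (_ : IsAffineOpen U) (_ : IsAffineOpen V)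
      (hUV : U ≤ f ⁻¹ᵁ V),
      letI := (f.appLE V U hUV).hom.toAlgebra
      MoreMor.IsPseudoCoherentHom Γ(Y, V) Γ(X, U)) (n : ℤ) :
    DerSch.IsNPseudoCoherent f n := by
  refine isPseudoCoherentRel_of_forall f n _ (fun U V hUV => ?_)
  have hU : IsAffineOpen (U : X.Opens) := U.2
  obtain ⟨k, φ, hφ⟩ := exists_isChart f hU V.2 hUV
  refine ⟨k, φ, hφ, ?_⟩
  obtain ⟨eM⟩ := nonempty_tildeD_unit_iso hU
  rw [chartPC_iff_isRelPseudoCoherent f n _ hU hUV φ hφ (DerSch.unitCx X) (Iso.refl _) _ eM]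
  letI := (f.appLE (V : Y.Opens) (U : X.Opens) hUV).hom.toAlgebra
  exact (Groth.Agent.S7071.result _ _ (h U V hU V.2 hUV) n _).2 (pc_inD_self _ n)

/-- a flat morphism locally of finite presentation is pseudo-coherent (chart form). -/
theorem isNPseudoCoherent_of_flat_lfp (f : X ⟶ Y) [Flat f] [LocallyOfFinitePresentation f]
    (n : ℤ) : DerSch.IsNPseudoCoherent f n := by
  refine isNPseudoCoherent_of_isPseudoCoherentHom f (fun U V hU hV hUV => ?_) n
  letI := (f.appLE V U hUV).hom.toAlgebra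
  haveI : Module.Flat Γ(Y, V) Γ(X, U) := Flat.flat_appLE f hV hU hUV
  haveI : Algebra.FinitePresentation Γ(Y, V) Γ(X, U) :=
    LocallyOfFinitePresentation.finitePresentation_appLE f hV hU hUV
  exact (Groth.Agent.S7068.result Γ(Y, V) Γ(X, U)).1

end Groth.Agent.Lib.Helper16.CI
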