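import Mathlib
import Groth.Prelude.Def_CxOX
import Groth.Prelude.Def_DerSch2
import Groth.Agent.Lib.Helper16.CI16

/-!
# Helper16 — CI17: relative pseudo-coherence and direct images along closed immersions.
-/

set_option autoImplicit false
set_option linter.style.haveILetI false
universe u
open CategoryTheory CategoryTheory.Limits AlgebraicGeometry CategoryTheory.Pretriangulated

attribute [local instance] HasDerivedCategory.standard

namespace Groth.Agent.Lib.Helper16.CI

open Groth.Agent.Lib.Helper16.RS DerivedCategory Groth.Agent.Lib.Helper1.LocPC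
  Groth.Agent.Lib.Helper16.PC Groth.Agent.Lib.Helper16.CIPC Groth.Agent.Lib.Helper16.AffRed
  Groth.Agent.Lib.Helper16.RelPC Scheme.Modules

variable {X P S : Scheme.{u}} (i : X ⟶ P) [IsClosedImmersion i] (g : P ⟶ S)

section Chart

variable {W : P.Opens} (hW : IsAffineOpen W) (V : S.Opens) (hWV : W ≤ g ⁻¹ᵁ V) {n : ℕ}
  (φ : MvPolynomial (Fin n) Γ(S, V) →+* Γ(P, W))

/-- the induced chart on the preimage. -/
noncomputable abbrev preChart : MvPolynomial (Fin n) Γ(S, V) →+* Γ(X, i ⁻¹ᵁ W) :=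
  (i.app W).hom.comp φ

omit [IsClosedImmersion i] in
include hWV in
lemma preimage_le : i ⁻¹ᵁ W ≤ (i ≫ g) ⁻¹ᵁ V := fun _ hx => hWV hx

include hW in
theorem isChart_preChart (hφ : DerSch.IsChart g W V hWV φ) :
    DerSch.IsChart (i ≫ g) (i ⁻¹ᵁ W) V (preimage_le i g V hWV) (preChart i V φ) := by
  refine ⟨(i.app_surjective W hW).comp hφ.1, ?_⟩
  have h1 : (preChart i V φ).comp MvPolynomial.C = (i.app W).hom.comp (φ.comp MvPolynomial.C) :=
    rfl
  rw [h1, hφ.2]
  have h2 := Scheme.Hom.appLE_comp_appLE i g V W (i ⁻¹ᵁ W) hWV le_rfl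
  rw [← Scheme.Hom.app_eq_appLE] at h2
  exact congrArg CommRingCat.Hom.hom h2

include hW in
/-- the chart test for `E` on `i⁻¹W` is the chart test for `i_* E` on `W`. -/
theorem chartPC_preChart_iff (hφ : Function.Surjective φ) (m : ℤ) (E : DCoh.D X) :
    DerSch.ChartPC m E (i ⁻¹ᵁ W) V (preChart i V φ) ↔
      DerSch.ChartPC m ((PD i).obj E) W V φ := by
  have hU : IsAffineOpen (i ⁻¹ᵁ W) := hW.preimage i
  have hs : Function.Surjective (preChart i V φ) := (i.app_surjective W hW).comp hφ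
  haveI : IsClosedImmersion (sp φ) := isClosedImmersion_sp φ hφ
  haveI : IsClosedImmersion (sp (preChart i V φ)) := isClosedImmersion_sp _ hs
  haveI : IsClosedImmersion (Spec.map (i.app W)) :=
    IsClosedImmersion.spec_of_surjective _ (i.app_surjective W hW)
  rw [chartPC_iff_PD m E hU V _ hs, chartPC_iff_PD m _ hW V φ hφ]
  have hsq : Spec.map (i.app W) ≫ hW.fromSpec = hU.fromSpec ≫ i := by
    have := IsAffineOpen.SpecMap_appLE_fromSpec i hW hU le_rfl
    rwa [← Scheme.Hom.app_eq_appLE] at this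
  have hc : hU.fromSpec.opensRange = i ⁻¹ᵁ hW.fromSpec.opensRange := by
    rw [hU.opensRange_fromSpec, hW.opensRange_fromSpec]
  obtain ⟨e1⟩ := nonempty_RD_PD_iso_of_cartesian i hW.fromSpec hU.fromSpec (Spec.map (i.app W))
    hsq hc E
  obtain ⟨e2⟩ := nonempty_PD_comp_iso (Spec.map (i.app W)) (sp φ) (KU hU E)
  have heq : Spec.map (i.app W) ≫ sp φ = sp (preChart i V φ) := by
    unfold sp
    rw [← Spec.map_comp]
    rfl
  have key : ∀ (c : Spec Γ(X, i ⁻¹ᵁ W) ⟶ Spec (CommRingCat.of (MvPolynomial (Fin n) Γ(S, V))))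
      (hc : IsClosedImmersion c) (_ : Spec.map (i.app W) ≫ sp φ = c),
      DCoh.IsPseudoCoherentD m ((PD c).obj (KU hU E)) ↔
        DCoh.IsPseudoCoherentD m ((PD (sp φ)).obj (KU hW ((PD i).obj E))) := by
    intro c hc h
    subst h
    exact ⟨fun h => isPseudoCoherentD_of_iso (e2 ≪≫ (PD (sp φ)).mapIso e1.symm) h,
      fun h => isPseudoCoherentD_of_iso ((PD (sp φ)).mapIso e1 ≪≫ e2.symm) h⟩
  exact key _ inferInstance heq

end Chart

/-- relative pseudo-coherence and the direct image along a closed immersion. -/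
theorem isPseudoCoherentRel_comp_closedImmersion_iff [LocallyOfFiniteType g] (m : ℤ)
    (E : DCoh.D X) :
    DerSch.IsPseudoCoherentRel (i ≫ g) m E ↔ DerSch.IsPseudoCoherentRel g m ((PD i).obj E) := by
  constructor
  · intro h
    rw [isPseudoCoherentRel_iff_forall]
    intro W hW V hV hWV n φ hφ
    rw [← chartPC_preChart_iff i hW V φ hφ.1 m E]
    exact chartPC_of_isPseudoCoherentRel (i ≫ g) m E h (hW.preimage i) hV
      (preimage_le i g V hWV) _ (isChart_preChart i g hW V hWV φ hφ)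
  · intro h
    refine ⟨inferInstance, Set.univ, ?_, fun V _ => ?_⟩
    · have := iSup_affineOpens_le (⊤ : S.Opens)
      simpa using this
    let 𝒰 : Set X.affineOpens := {A | ∃ W : P.Opens, IsAffineOpen W ∧ W ≤ g ⁻¹ᵁ (V : S.Opens) ∧
      (A : X.Opens) = i ⁻¹ᵁ W}
    refine ⟨𝒰, ?_, ?_⟩
    · apply le_antisymm
      · refine iSup₂_le fun A hA => ?_
        obtain ⟨W, -, hWV, hAW⟩ := hA
        rw [hAW]
        exact preimage_le i g _ hWV
      · intro x hx
        obtain ⟨_, ⟨W, hW, rfl⟩, hxW, hWsub⟩ :=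
          (P.isBasis_affineOpens).exists_subset_of_mem_open
            (show i x ∈ ((g ⁻¹ᵁ (V : S.Opens) : P.Opens) : Set P) from hx)
            (g ⁻¹ᵁ (V : S.Opens)).isOpen
        have hW' : IsAffineOpen W := hW
        rw [TopologicalSpace.Opens.mem_iSup]
        refine ⟨⟨i ⁻¹ᵁ W, hW'.preimage i⟩, ?_⟩
        rw [TopologicalSpace.Opens.mem_iSup]
        exact ⟨⟨W, hW', hWsub, rfl⟩, hxW⟩
    · rintro ⟨A, hA⟩ ⟨W, hW, hWV, hAW⟩ hle
      dsimp only at hAW hle ⊢
      subst hAW
      obtain ⟨n, φ, hφ⟩ := exists_isChart g hW V.2 hWV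
      refine ⟨n, preChart i (V : S.Opens) φ, isChart_preChart i g hW _ hWV φ hφ, ?_⟩
      rw [chartPC_preChart_iff i hW _ φ hφ.1 m E]
      exact chartPC_of_isPseudoCoherentRel g m _ h hW V.2 hWV φ hφ

end Groth.Agent.Lib.Helper16.CI
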