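import Mathlib
import Groth.Prelude.Def_CxOX
import Groth.Prelude.Def_DerSch2
import Groth.Agent.Lib.Helper16.CI17
import Groth.Agent.Lib.Helper16.RelPC4

/-!
# Helper16 — CI18: relative pseudo-coherence and composition with a flat morphism locally of
finite presentation (more generally, a morphism with pseudo-coherent ring maps).
-/

set_option autoImplicit false
set_option linter.style.haveILetI false
universe u
open CategoryTheory CategoryTheory.Limits AlgebraicGeometry CategoryTheory.Pretriangulated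

attribute [local instance] HasDerivedCategory.standard

namespace Groth.Agent.Lib.Helper16.CI

open Groth.Agent.Lib.Helper16.RS DerivedCategory Groth.Agent.Lib.Helper1.LocPC
  Groth.Agent.Lib.Helper16.PC Groth.Agent.Lib.Helper16.CIPC Groth.Agent.Lib.Helper16.AffRed
  Groth.Agent.Lib.Helper16.RelPC Scheme.Modules

/-- the presentation `R[x_1..x_{k+n}] → B[x_1..x_k]` induced by a presentation `R[x_1..x_n] → B`. -/
theorem exists_comp_chart {R B : Type u} [CommRing R] [CommRing B] {n : ℕ}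
    (α : MvPolynomial (Fin n) R →+* B) (hα : Function.Surjective α) (hpc : PCHom α) (k : ℕ) :
    ∃ q : MvPolynomial (Fin (k + n)) R →+* MvPolynomial (Fin k) B, Function.Surjective q ∧
      PCHom q ∧ q.comp MvPolynomial.C =
        (MvPolynomial.C : B →+* MvPolynomial (Fin k) B).comp (α.comp MvPolynomial.C) := by
  let ι : MvPolynomial (Fin (k + n)) R ≃ₐ[R] MvPolynomial (Fin k) (MvPolynomial (Fin n) R) :=
    (MvPolynomial.renameEquiv R finSumFinEquiv).symm.trans (MvPolynomial.sumAlgEquiv R (Fin k) (Fin n))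
  let ιr : MvPolynomial (Fin (k + n)) R →+* MvPolynomial (Fin k) (MvPolynomial (Fin n) R) :=
    (ι : MvPolynomial (Fin (k + n)) R →+* MvPolynomial (Fin k) (MvPolynomial (Fin n) R))
  let μr : MvPolynomial (Fin k) (MvPolynomial (Fin n) R) →+* MvPolynomial (Fin k) B :=
    MvPolynomial.map α
  have hμ := pcHom_mvPolynomial_map α hpc (Fin k)
  have hι : PCHom ιr := pcHom_of_bijective ιr ι.bijective
  refine ⟨μr.comp ιr, (MvPolynomial.map_surjective _ hα).comp ι.surjective, hι.comp hμ, ?_⟩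
  refine RingHom.ext (fun r => ?_)
  have h1 : ιr (MvPolynomial.C r) = MvPolynomial.C (MvPolynomial.C r) := ι.commutes r
  change μr (ιr (MvPolynomial.C r)) = MvPolynomial.C (α (MvPolynomial.C r))
  rw [h1]
  exact MvPolynomial.map_C _ _

variable {X T S : Scheme.{u}}

/-- a presentation of the ring map of a morphism with pseudo-coherent ring maps, making the target
pseudo-coherent over the polynomial ring. -/
theorem exists_pcHom_chart (b : T ⟶ S) {W : T.Opens} {V : S.Opens} (hWV : W ≤ b ⁻¹ᵁ V)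
    (h : letI := (b.appLE V W hWV).hom.toAlgebra
      MoreMor.IsPseudoCoherentHom Γ(S, V) Γ(T, W)) :
    ∃ (n : ℕ) (α : MvPolynomial (Fin n) Γ(S, V) →+* Γ(T, W)), DerSch.IsChart b W V hWV α ∧
      PCHom α := by
  letI := (b.appLE V W hWV).hom.toAlgebra
  obtain ⟨n, α, hα, hp⟩ := h
  refine ⟨n, (α : MvPolynomial (Fin n) Γ(S, V) →+* Γ(T, W)), ⟨hα, ?_⟩, ?_⟩
  · ext r
    exact α.commutes r
  · rw [pcHom_iff]
    intro m'
    exact pc_of_pc' hp m'

section Triple

variable (a : X ⟶ T) (b : T ⟶ S) {U : X.Opens} (hU : IsAffineOpen U) {W : T.Opens} {V : S.Opens}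
  (hUW : U ≤ a ⁻¹ᵁ W) (hWV : W ≤ b ⁻¹ᵁ V) {n k : ℕ}
  (α : MvPolynomial (Fin n) Γ(S, V) →+* Γ(T, W)) (hα : DerSch.IsChart b W V hWV α)
  (hpc : PCHom α) (β : MvPolynomial (Fin k) Γ(T, W) →+* Γ(X, U))
  (hβ : DerSch.IsChart a U W hUW β)

include hUW hWV in
lemma le_comp_preimage : U ≤ (a ≫ b) ⁻¹ᵁ V := fun _ hx => hWV (hUW hx)

include hU hα hpc hβ in
/-- from a chart of `a` on `(U, W)` and a pseudo-coherent chart of `b` on `(W, V)`, a chart of
`a ≫ b` on `(U, V)` with the same chart test. -/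
theorem exists_chart_comp :
    ∃ γ : MvPolynomial (Fin (k + n)) Γ(S, V) →+* Γ(X, U),
      DerSch.IsChart (a ≫ b) U V (le_comp_preimage a b hUW hWV) γ ∧
        ∀ (m : ℤ) (E : DCoh.D X), DerSch.ChartPC m E U V γ ↔ DerSch.ChartPC m E U W β := by
  obtain ⟨q, hq, hqpc, hqC⟩ := exists_comp_chart α hα.1 hpc k
  refine ⟨β.comp q, ⟨hβ.1.comp hq, ?_⟩, fun m E => ?_⟩
  · have h1 : (β.comp q).comp MvPolynomial.C = β.comp (q.comp MvPolynomial.C) := rfl
    rw [h1, hqC]
    have h2 : β.comp ((MvPolynomial.C : Γ(T, W) →+* MvPolynomial (Fin k) Γ(T, W)).comp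
        (α.comp MvPolynomial.C)) = (β.comp MvPolynomial.C).comp (α.comp MvPolynomial.C) := rfl
    rw [h2, hα.2, hβ.2]
    have h3 := Scheme.Hom.appLE_comp_appLE a b V W U hWV hUW
    exact congrArg CommRingCat.Hom.hom h3
  · haveI : IsClosedImmersion (sp β) := isClosedImmersion_sp β hβ.1
    haveI : IsClosedImmersion (sp (β.comp q)) := isClosedImmersion_sp _ (hβ.1.comp hq)
    rw [chartPC_iff m E hU V (β.comp q) (hβ.1.comp hq), chartPC_iff m E hU W β hβ.1]
    exact forall_congr' (fun y => (cpAt_comp_iff hU β q hq hqpc m E y).symm)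

end Triple

/-- relative pseudo-coherence and composition with a morphism all of whose affine pairs carry a
pseudo-coherent chart. -/
theorem isPseudoCoherentRel_comp_iff_of_charts (a : X ⟶ T) (b : T ⟶ S) [LocallyOfFiniteType a]
    [LocallyOfFiniteType b]
    (hb : ∀ (W : T.Opens) (V : S.Opens) (_ : IsAffineOpen W) (_ : IsAffineOpen V)
      (hWV : W ≤ b ⁻¹ᵁ V), ∃ (n : ℕ) (α : MvPolynomial (Fin n) Γ(S, V) →+* Γ(T, W)),
        DerSch.IsChart b W V hWV α ∧ PCHom α) (m : ℤ) (E : DCoh.D X) :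
    DerSch.IsPseudoCoherentRel (a ≫ b) m E ↔ DerSch.IsPseudoCoherentRel a m E := by
  constructor
  · intro h
    let 𝒲 : Set T.affineOpens := {W | ∃ V : S.affineOpens, (W : T.Opens) ≤ b ⁻¹ᵁ (V : S.Opens)}
    refine ⟨inferInstance, 𝒲, ?_, fun W hW => ?_⟩
    · apply le_antisymm le_top
      intro t _
      obtain ⟨_, ⟨V, hV, rfl⟩, htV, -⟩ := (S.isBasis_affineOpens).exists_subset_of_mem_open
        (Set.mem_univ (b t)) isOpen_univ
      obtain ⟨_, ⟨W, hW, rfl⟩, htW, hWV⟩ := (T.isBasis_affineOpens).exists_subset_of_mem_open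
        (show t ∈ ((b ⁻¹ᵁ V : T.Opens) : Set T) from htV) (b ⁻¹ᵁ V).isOpen
      rw [TopologicalSpace.Opens.mem_iSup]
      refine ⟨⟨W, hW⟩, ?_⟩
      rw [TopologicalSpace.Opens.mem_iSup]
      exact ⟨⟨⟨V, hV⟩, hWV⟩, htW⟩
    · obtain ⟨V, hWV⟩ := hW
      refine ⟨{U : X.affineOpens | (U : X.Opens) ≤ a ⁻¹ᵁ (W : T.Opens)}, iSup_affineOpens_le _,
        fun U _ hUW => ?_⟩
      have hU : IsAffineOpen (U : X.Opens) := U.2
      obtain ⟨n, α, hα, hpc⟩ := hb W V W.2 V.2 hWV
      obtain ⟨k, β, hβ⟩ := exists_isChart a hU W.2 hUW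
      obtain ⟨γ, hγ, H⟩ := exists_chart_comp a b hU hUW hWV α hα hpc β hβ
      refine ⟨k, β, hβ, (H m E).1 ?_⟩
      exact chartPC_of_isPseudoCoherentRel (a ≫ b) m E h hU V.2 _ γ hγ
  · intro h
    refine ⟨inferInstance, Set.univ, ?_, fun V _ => ?_⟩
    · have := iSup_affineOpens_le (⊤ : S.Opens)
      simpa using this
    let 𝒰 : Set X.affineOpens := {U | ∃ W : T.affineOpens, (U : X.Opens) ≤ a ⁻¹ᵁ (W : T.Opens) ∧
      (W : T.Opens) ≤ b ⁻¹ᵁ (V : S.Opens)}
    refine ⟨𝒰, ?_, ?_⟩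
    · apply le_antisymm
      · refine iSup₂_le fun U hU => ?_
        obtain ⟨W, hUW, hWV⟩ := hU
        exact le_comp_preimage a b hUW hWV
      · intro x hx
        obtain ⟨_, ⟨W, hW, rfl⟩, hxW, hWV⟩ := (T.isBasis_affineOpens).exists_subset_of_mem_open
          (show a x ∈ ((b ⁻¹ᵁ (V : S.Opens) : T.Opens) : Set T) from hx)
          (b ⁻¹ᵁ (V : S.Opens)).isOpen
        obtain ⟨_, ⟨U, hU, rfl⟩, hxU, hUW⟩ := (X.isBasis_affineOpens).exists_subset_of_mem_open
          (show x ∈ ((a ⁻¹ᵁ W : X.Opens) : Set X) from hxW) (a ⁻¹ᵁ W).isOpen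
        rw [TopologicalSpace.Opens.mem_iSup]
        refine ⟨⟨U, hU⟩, ?_⟩
        rw [TopologicalSpace.Opens.mem_iSup]
        exact ⟨⟨⟨W, hW⟩, hUW, hWV⟩, hxU⟩
    · rintro U ⟨W, hUW, hWV⟩ hle
      have hU : IsAffineOpen (U : X.Opens) := U.2
      obtain ⟨n, α, hα, hpc⟩ := hb W V W.2 V.2 hWV
      obtain ⟨k, β, hβ⟩ := exists_isChart a hU W.2 hUW
      obtain ⟨γ, hγ, H⟩ := exists_chart_comp a b hU hUW hWV α hα hpc β hβ
      refine ⟨k + n, γ, hγ, (H m E).2 ?_⟩
      exact chartPC_of_isPseudoCoherentRel a m E h hU W.2 hUW β hβ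

/-- relative pseudo-coherence and composition with a morphism with pseudo-coherent ring maps. -/
theorem isPseudoCoherentRel_comp_iff (a : X ⟶ T) (b : T ⟶ S) [LocallyOfFiniteType a]
    [LocallyOfFiniteType b]
    (hb : ∀ (W : T.Opens) (V : S.Opens) (_ : IsAffineOpen W) (_ : IsAffineOpen V)
      (hWV : W ≤ b ⁻¹ᵁ V),
      letI := (b.appLE V W hWV).hom.toAlgebra
      MoreMor.IsPseudoCoherentHom Γ(S, V) Γ(T, W)) (m : ℤ) (E : DCoh.D X) :
    DerSch.IsPseudoCoherentRel (a ≫ b) m E ↔ DerSch.IsPseudoCoherentRel a m E :=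
  isPseudoCoherentRel_comp_iff_of_charts a b
    (fun W V hW hV hWV => exists_pcHom_chart b hWV (hb W V hW hV hWV)) m E

/-- a chart of a pseudo-coherent morphism (chart form) makes the target pseudo-coherent over the
polynomial ring. -/
theorem pcHom_of_isNPseudoCoherent (b : T ⟶ S) [LocallyOfFiniteType b]
    (hg : ∀ n : ℤ, DerSch.IsNPseudoCoherent b n) {W : T.Opens} (hW : IsAffineOpen W) {V : S.Opens}
    (hV : IsAffineOpen V) (hWV : W ≤ b ⁻¹ᵁ V) {n : ℕ}
    (α : MvPolynomial (Fin n) Γ(S, V) →+* Γ(T, W)) (hα : DerSch.IsChart b W V hWV α) :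
    PCHom α := by
  intro k
  obtain ⟨eM⟩ := nonempty_tildeD_unit_iso hW
  exact (chartPC_iff_ring k _ hW V α hα.1 (DerSch.unitCx T) (Iso.refl _) _ eM).1
    (chartPC_of_isPseudoCoherentRel b k _ (hg k) hW hV hWV α hα)

/-- relative pseudo-coherence and composition with a pseudo-coherent morphism (chart form). -/
theorem isPseudoCoherentRel_comp_iff_of_isNPseudoCoherent (a : X ⟶ T) (b : T ⟶ S)
    [LocallyOfFiniteType a] [LocallyOfFiniteType b]
    (hg : ∀ n : ℤ, DerSch.IsNPseudoCoherent b n) (m : ℤ) (E : DCoh.D X) :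
    DerSch.IsPseudoCoherentRel (a ≫ b) m E ↔ DerSch.IsPseudoCoherentRel a m E := by
  refine isPseudoCoherentRel_comp_iff_of_charts a b (fun W V hW hV hWV => ?_) m E
  obtain ⟨n, α, hα⟩ := exists_isChart b hW hV hWV
  exact ⟨n, α, hα, pcHom_of_isNPseudoCoherent b hg hW hV hWV α hα⟩

/-- flat and locally of finite presentation. -/
theorem isPseudoCoherentRel_comp_iff_of_flat_lfp (a : X ⟶ T) (b : T ⟶ S)
    [LocallyOfFiniteType a] [Flat b] [LocallyOfFinitePresentation b] (m : ℤ) (E : DCoh.D X) :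
    DerSch.IsPseudoCoherentRel (a ≫ b) m E ↔ DerSch.IsPseudoCoherentRel a m E := by
  haveI : LocallyOfFiniteType b := inferInstance
  refine isPseudoCoherentRel_comp_iff a b (fun W V hW hV hWV => ?_) m E
  letI := (b.appLE V W hWV).hom.toAlgebra
  haveI : Module.Flat Γ(S, V) Γ(T, W) := Flat.flat_appLE b hV hW hWV
  haveI : Algebra.FinitePresentation Γ(S, V) Γ(T, W) :=
    LocallyOfFinitePresentation.finitePresentation_appLE b hV hW hWV
  exact (Groth.Agent.S7068.result Γ(S, V) Γ(T, W)).1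

end Groth.Agent.Lib.Helper16.CI
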