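import Mathlib
import Groth.Prelude.Def_CxOX
import Groth.Prelude.Def_DerSch2
import Groth.Agent.Lib.Helper16.CI10

/-!
# Helper16 — CI19: the chart test from chart tests on a cover; charts from finite type.
-/

set_option autoImplicit false
set_option linter.style.haveILetI false
universe u
open CategoryTheory CategoryTheory.Limits AlgebraicGeometry CategoryTheory.Pretriangulated

attribute [local instance] HasDerivedCategory.standard

namespace Groth.Agent.Lib.Helper16.CI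

variable {X Y : Scheme.{u}}

/-- charts exist when the ring map is of finite type. -/
theorem exists_isChart_of_finiteType (f : X ⟶ Y) {U : X.Opens} {V : Y.Opens} (hUV : U ≤ f ⁻¹ᵁ V)
    (hft : (f.appLE V U hUV).hom.FiniteType) :
    ∃ (n : ℕ) (φ : MvPolynomial (Fin n) Γ(Y, V) →+* Γ(X, U)), DerSch.IsChart f U V hUV φ := by
  letI : Algebra Γ(Y, V) Γ(X, U) := (f.appLE V U hUV).hom.toAlgebra
  have hft' : Algebra.FiniteType Γ(Y, V) Γ(X, U) := hft
  obtain ⟨n, φ, hφ⟩ := Algebra.FiniteType.iff_quotient_mvPolynomial''.1 hft'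
  refine ⟨n, (φ : MvPolynomial (Fin n) Γ(Y, V) →+* Γ(X, U)), hφ, ?_⟩
  ext r
  exact φ.commutes r

/-- a chart gives finite type. -/
theorem finiteType_of_isChart (f : X ⟶ Y) {U : X.Opens} {V : Y.Opens} (hUV : U ≤ f ⁻¹ᵁ V) {n : ℕ}
    (φ : MvPolynomial (Fin n) Γ(Y, V) →+* Γ(X, U)) (hφ : DerSch.IsChart f U V hUV φ) :
    (f.appLE V U hUV).hom.FiniteType := by
  rw [← hφ.2]
  refine RingHom.FiniteType.comp (RingHom.FiniteType.of_surjective φ hφ.1) ?_
  rw [show (MvPolynomial.C : Γ(Y, V) →+* MvPolynomial (Fin n) Γ(Y, V)) =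
    algebraMap Γ(Y, V) (MvPolynomial (Fin n) Γ(Y, V)) from rfl, RingHom.finiteType_algebraMap]
  infer_instance

/-- restriction to a basic open is of finite type. -/
theorem finiteType_res_basicOpen {U : X.Opens} (hU : IsAffineOpen U) (a : Γ(X, U)) :
    (X.presheaf.map (homOfLE (X.basicOpen_le a)).op).hom.FiniteType := by
  letI := (X.presheaf.map (homOfLE (X.basicOpen_le a)).op).hom.toAlgebra
  haveI : IsLocalization.Away a Γ(X, X.basicOpen a) :=
    hU.isLocalization_of_eq_basicOpen a (homOfLE (X.basicOpen_le a)) rfl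
  exact RingHom.finiteType_holdsForLocalizationAway Γ(X, X.basicOpen a) a

/-- the chart test follows from chart tests on pairs of affine opens covering the source. -/
theorem chartPC_of_cover (f : X ⟶ Y) (m : ℤ) (E : DCoh.D X)
    {U : X.Opens} (hU : IsAffineOpen U) {V : Y.Opens} (hV : IsAffineOpen V) (hUV : U ≤ f ⁻¹ᵁ V)
    {n : ℕ} (φ : MvPolynomial (Fin n) Γ(Y, V) →+* Γ(X, U)) (hφ : DerSch.IsChart f U V hUV φ)
    (H : ∀ x ∈ U, ∃ (U₀ : X.Opens) (_ : IsAffineOpen U₀) (V₀ : Y.Opens) (_ : IsAffineOpen V₀)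
      (hUV₀ : U₀ ≤ f ⁻¹ᵁ V₀) (n₀ : ℕ) (φ₀ : MvPolynomial (Fin n₀) Γ(Y, V₀) →+* Γ(X, U₀)),
      DerSch.IsChart f U₀ V₀ hUV₀ φ₀ ∧ DerSch.ChartPC m E U₀ V₀ φ₀ ∧ x ∈ U₀) :
    DerSch.ChartPC m E U V φ := by
  haveI : IsClosedImmersion (sp φ) := isClosedImmersion_sp φ hφ.1
  rw [chartPC_iff m E hU V φ hφ.1]
  intro y
  have hx : hU.fromSpec y ∈ U := by
    have : hU.fromSpec y ∈ Set.range hU.fromSpec := ⟨y, rfl⟩
    rwa [hU.range_fromSpec] at this
  obtain ⟨U₀, hU₀, V₀, hV₀, hUV₀, n₀, φ₀, hφ₀, hpc₀, hxU₀⟩ := H _ hx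
  exact cpAt_of_chartPC f m E hU hV hUV φ hφ hU₀ hV₀ hUV₀ φ₀ hφ₀ hpc₀ y hxU₀ (hUV₀ hxU₀)

end Groth.Agent.Lib.Helper16.CI
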