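import Mathlib
import Groth.Prelude.Def_CxOX
import Groth.Prelude.Def_DerSch2
import Groth.Agent.Lib.Helper16.CI18
import Groth.Agent.S7021

/-!
# Helper16 — CI20: `(-1)`-pseudo-coherent morphisms are the morphisms locally of finite
presentation.
-/

set_option autoImplicit false
set_option linter.style.haveILetI false
universe u
open CategoryTheory CategoryTheory.Limits AlgebraicGeometry CategoryTheory.Pretriangulated

attribute [local instance] HasDerivedCategory.standard

namespace Groth.Agent.Lib.Helper16.CI

/-- for a presentation `α : P → A`, `A` is a finitely presented `P`-module iff `A` is a finitely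
presented `R`-algebra. -/
theorem finitePresentation_compHom_iff {R A : Type u} [CommRing R] [CommRing A] [Algebra R A]
    {n : ℕ} (α : MvPolynomial (Fin n) R →ₐ[R] A) (hα : Function.Surjective α) :
    @Module.FinitePresentation (MvPolynomial (Fin n) R) A _ _ (Module.compHom A α.toRingHom) ↔
      Algebra.FinitePresentation R A := by
  letI : Module (MvPolynomial (Fin n) R) A := Module.compHom A α.toRingHom
  let l : MvPolynomial (Fin n) R →ₗ[MvPolynomial (Fin n) R] A :=
    { toFun := fun p => α p
      map_add' := fun p q => map_add α p q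
      map_smul' := fun p q => by
        change α (p * q) = α p * α q
        exact map_mul α p q }
  have hl : Function.Surjective l := hα
  rw [← Module.FinitePresentation.fg_ker_iff l hl]
  have hk : (LinearMap.ker l).FG ↔ (RingHom.ker α.toRingHom).FG := Iff.rfl
  rw [hk]
  constructor
  · intro h
    exact Algebra.FinitePresentation.of_surjective hα h
  · intro h
    exact Algebra.FinitePresentation.ker_fG_of_surjective α hα

variable {X Y : Scheme.{u}}

/-- the chart test in degree `-1` for the structure sheaf is finite presentation of the ring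
map. -/
theorem chartPC_negOne_unit_iff (f : X ⟶ Y) [LocallyOfFiniteType f] {U : X.Opens}
    (hU : IsAffineOpen U) {V : Y.Opens} (hV : IsAffineOpen V) (hUV : U ≤ f ⁻¹ᵁ V) {n : ℕ}
    (φ : MvPolynomial (Fin n) Γ(Y, V) →+* Γ(X, U)) (hφ : DerSch.IsChart f U V hUV φ) :
    DerSch.ChartPC (-1) (DCoh.toD X (DerSch.unitCx X)) U V φ ↔
      (f.appLE V U hUV).hom.FinitePresentation := by
  obtain ⟨eM⟩ := nonempty_tildeD_unit_iso hU
  rw [chartPC_iff_isRelPseudoCoherent f (-1) _ hU hUV φ hφ (DerSch.unitCx X) (Iso.refl _) _ eM]
  letI := (f.appLE V U hUV).hom.toAlgebra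
  haveI : Algebra.FiniteType Γ(Y, V) Γ(X, U) := LocallyOfFiniteType.finiteType_appLE f hV hU hUV
  let α : MvPolynomial (Fin n) Γ(Y, V) →ₐ[Γ(Y, V)] Γ(X, U) :=
    { φ with commutes' := fun r => congrArg (fun g => g r) hφ.2 }
  have h1 := (Groth.Agent.S7021.result α hφ.1 Γ(X, U)).2
  have h2 := finitePresentation_compHom_iff α hφ.1
  exact h1.trans h2

end Groth.Agent.Lib.Helper16.CI
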