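import Mathlib
import Groth.Prelude.Def_CxOX
import Groth.Prelude.Def_DerSch2
import Groth.Agent.Lib.Helper16.CI16
import Groth.Agent.Lib.Helper16.AffRed7
import Groth.Agent.S0997
import Groth.Agent.S7268
import Groth.Agent.S6984

/-!
# Helper16 — CI21: relative pseudo-coherence (chart form) and direct image along a finite morphism.
-/

set_option autoImplicit false
set_option linter.style.haveILetI false
universe u
open CategoryTheory CategoryTheory.Limits AlgebraicGeometry CategoryTheory.Pretriangulated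

attribute [local instance] HasDerivedCategory.standard

namespace Groth.Agent.Lib.Helper16.CI

open Groth.Agent.Lib.Helper16.RS DerivedCategory Groth.Agent.Lib.Helper1.LocPC
  Groth.Agent.Lib.Helper16.PC Groth.Agent.Lib.Helper16.CIPC Groth.Agent.Lib.Helper16.AffRed
  Groth.Agent.Lib.Helper16.RelPC Scheme.Modules

theorem hEss : HEss.{u} := fun R K hK => ((Groth.Agent.S0997.result R).2.2 K).1 hK

theorem hPush : HPush.{u} := by
  intro A B _ _ φ
  letI := Groth.Agent.Lib.Helper26.SuppD3.hasRpush (Spec.map (CommRingCat.ofHom φ))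
  exact Groth.Agent.S7268.result φ

variable {X Y S : Scheme.{u}}

/-- the square of affine charts for the restriction of a morphism over an affine open with affine
preimage. -/
theorem isoSpec_inv_morphismRestrict (π : X ⟶ Y) {W : Y.Opens} (hW : IsAffineOpen W)
    (hU : IsAffineOpen (π ⁻¹ᵁ W)) :
    hU.isoSpec.inv ≫ (π ∣_ W) = Spec.map (π.app W) ≫ hW.isoSpec.inv := by
  rw [← cancel_mono W.ι, Category.assoc, Category.assoc, morphismRestrict_ι, hW.isoSpec_inv_ι,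
    ← Category.assoc, hU.isoSpec_inv_ι, π.app_eq_appLE]
  exact (IsAffineOpen.SpecMap_appLE_fromSpec π hW hU le_rfl).symm

/-- the chart test for `E` over `π⁻¹W` and for `Rπ_* E` over `W`, for `π` finite. -/
theorem chartPC_Rpush_iff (q : Y ⟶ S) [LocallyOfFiniteType q] (π : X ⟶ Y) [IsFinite π]
    [LocallyOfFiniteType (π ≫ q)] [DCoh.HasRpush π] (m : ℤ) (E : DCoh.D X)
    (hE : DCoh.IsQCohD E) {W : Y.Opens} (hW : IsAffineOpen W) {V : S.Opens}
    (hV : IsAffineOpen V) (hWV : W ≤ q ⁻¹ᵁ V) (hUV : π ⁻¹ᵁ W ≤ (π ≫ q) ⁻¹ᵁ V) {n n' : ℕ}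
    (φ : MvPolynomial (Fin n) Γ(S, V) →+* Γ(X, π ⁻¹ᵁ W))
    (hφ : DerSch.IsChart (π ≫ q) (π ⁻¹ᵁ W) V hUV φ)
    (ψ : MvPolynomial (Fin n') Γ(S, V) →+* Γ(Y, W)) (hψ : DerSch.IsChart q W V hWV ψ) :
    DerSch.ChartPC m E (π ⁻¹ᵁ W) V φ ↔ DerSch.ChartPC m ((DCoh.Rpush π).obj E) W V ψ := by
  have hU : IsAffineOpen (π ⁻¹ᵁ W) := hW.preimage π
  let G := Q.objPreimage E
  let eG : DCoh.toD X G ≅ E := Q.objObjPreimageIso E
  let G' := Q.objPreimage ((DCoh.Rpush π).obj E)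
  let eG' : DCoh.toD Y G' ≅ (DCoh.Rpush π).obj E := Q.objObjPreimageIso _
  obtain ⟨M, ⟨e⟩⟩ := hEss (X.presheaf.obj (Opposite.op (π ⁻¹ᵁ W))) (KU hU E)
    (isQCohD_RD hU.fromSpec E hE)
  obtain ⟨e1⟩ := nonempty_toD_pushCx_isoSpec_iso hU E G eG
  letI algYX : Algebra Γ(Y, W) Γ(X, π ⁻¹ᵁ W) := (π.app W).hom.toAlgebra
  letI algSY : Algebra Γ(S, V) Γ(Y, W) := (q.appLE V W hWV).hom.toAlgebra
  letI algSX : Algebra Γ(S, V) Γ(X, π ⁻¹ᵁ W) :=
    ((π ≫ q).appLE V (π ⁻¹ᵁ W) hUV).hom.toAlgebra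
  haveI : IsScalarTower Γ(S, V) Γ(Y, W) Γ(X, π ⁻¹ᵁ W) := by
    refine IsScalarTower.of_algebraMap_eq' ?_
    have h := Scheme.Hom.appLE_comp_appLE π q V W (π ⁻¹ᵁ W) hWV le_rfl
    rw [← π.app_eq_appLE] at h
    exact (congrArg CommRingCat.Hom.hom h).symm
  haveI : Algebra.FiniteType Γ(S, V) Γ(Y, W) :=
    LocallyOfFiniteType.finiteType_appLE q hV hW hWV
  haveI : Algebra.FiniteType Γ(S, V) Γ(X, π ⁻¹ᵁ W) :=
    LocallyOfFiniteType.finiteType_appLE (π ≫ q) hV hU hUV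
  haveI : Module.Finite Γ(Y, W) Γ(X, π ⁻¹ᵁ W) := IsFinite.finite_app π W hW
  have sq : hU.isoSpec.symm.hom ≫ (π ∣_ W) =
      Spec.map (CommRingCat.ofHom (algebraMap Γ(Y, W) Γ(X, π ⁻¹ᵁ W))) ≫ hW.isoSpec.symm.hom :=
    isoSpec_inv_morphismRestrict π hW hU
  obtain ⟨e2⟩ := nonempty_RD_Rpush_iso π W hU.isoSpec.symm hW.isoSpec.symm sq hPush E M e
  obtain ⟨e3⟩ := nonempty_toD_pushCx_isoSpec_iso hW _ G' eG'
  rw [chartPC_iff_isRelPseudoCoherent (π ≫ q) m E hU hUV φ hφ G eG M (e ≪≫ e1.symm),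
    chartPC_iff_isRelPseudoCoherent q m _ hW hWV ψ hψ G' eG'
      ((DRing.restrictD (algebraMap Γ(Y, W) Γ(X, π ⁻¹ᵁ W))).obj M) (e2.symm ≪≫ e3.symm)]
  exact (Groth.Agent.S6984.result M m).1

end Groth.Agent.Lib.Helper16.CI
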