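import Mathlib
import Groth.Prelude.Def_CxOX
import Groth.Agent.Lib.Helper16.CIPC6

/-!
# Helper16 — CI22: closed immersions with `i_* O_Z` pseudo-coherent at a finite level `s`:
`m`-pseudo-coherence of `E` bounded above by `b` and of `i_* E` (levels `s ≤ m - b`, resp.
`s ≤ m + 1 - b`).
-/

set_option autoImplicit false
set_option linter.style.haveILetI false
universe u
open CategoryTheory CategoryTheory.Limits AlgebraicGeometry CategoryTheory.Pretriangulated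

attribute [local instance] HasDerivedCategory.standard

namespace Groth.Agent.Lib.Helper16.CIPC

open Groth.Agent.Lib.Helper16.RS DerivedCategory Groth.Agent.Lib.Helper1.LocPC
  Groth.Agent.Lib.Helper16.RM Groth.Agent.Lib.Helper16.PC ZeroObject

section Lev

variable {X : Scheme.{u}}

/-- `m`-pseudo-coherent at the point `x`. -/
def pcLev (m : ℤ) (x : X) : ObjectProperty (DCoh.D X) := fun K => PCAt m K x

instance (m : ℤ) (x : X) : (pcLev m x).IsClosedUnderIsomorphisms where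
  of_iso e h := PCAt.of_iso h e

instance (m : ℤ) (x : X) : (pcLev m x).ContainsZero where
  exists_zero := ⟨0, isZero_zero _, PCAt.of_isZero (isZero_zero _) m x⟩

instance (m : ℤ) (x : X) : (pcLev m x).IsClosedUnderBinaryProducts where
  limitsOfShape_le := by
    rintro Y ⟨p⟩
    refine (pcLev m x).prop_of_iso ?_
      ((PCAt.two_of_three _ (binaryProductTriangle_distinguished _ _) m x).2.1
        (p.prop_diag_obj (.mk .left)) (p.prop_diag_obj (.mk .right)))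
    exact IsLimit.conePointUniqueUpToIso (prodIsProd _ _)
      ((IsLimit.postcomposeHomEquiv (diagramIsoPair p.diag) _).2 p.isLimit)

instance (m : ℤ) (x : X) : (pcLev m x).IsClosedUnderFiniteProducts := .mk'

theorem pcLev_of_isFinCoprod (m : ℤ) (x : X) {U K : DCoh.D X} (h : IsFinCoprod U K)
    (hU : PCAt m U x) : PCAt m K x := by
  obtain ⟨N, ⟨e⟩⟩ := h.exists_iso
  refine (pcLev m x).prop_of_iso (e ≪≫ (biproduct.isoCoproduct _).symm ≪≫
    biproduct.isoProduct _).symm ?_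
  exact (pcLev m x).prop_product (fun _ => hU)

end Lev

variable {Z X : Scheme.{u}} (i : Z ⟶ X) [IsClosedImmersion i]

/-- the hypothesis at level `s`: `i_* O_Z` is `s`-pseudo-coherent. -/
def HOs (s : ℤ) : Prop :=
  DCoh.IsPseudoCoherentD s
    (DCoh.inD X ((Scheme.Modules.pushforward i).obj (Coh.structureModule Z)))

omit [IsClosedImmersion i] in
variable {i} in
theorem HOs.restrict {s : ℤ} (hO : HOs i s) (W : X.Opens) : HOs (i ∣_ W) s := by
  have h1 := Groth.Agent.Lib.Helper16.AffRed.isPseudoCoherentD_RD W.ι s _ hO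
  exact Groth.Agent.Lib.Helper16.AffRed.isPseudoCoherentD_of_iso
    (RDinDIso W.ι _ ≪≫
      (DerivedCategory.singleFunctor (W : Scheme.{u}).Modules 0).mapIso (pushUnitIso i W).symm) h1

omit [IsClosedImmersion i] in
variable {i} in
theorem HOs.of_le {s s' : ℤ} (hO : HOs i s) (h : s ≤ s') : HOs i s' := by
  unfold HOs at *
  rw [isPseudoCoherentD_iff] at hO ⊢
  exact fun x => (hO x).of_le h

omit [IsClosedImmersion i] in
theorem HO.hOs (hO : HO i) (s : ℤ) : HOs i s := hO s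

theorem pcAt_inD_pushforward_lev {s : ℤ} (hO : HOs i s) (M : Z.Modules)
    (hM : FlatMod.IsFinLocFree M) (x : X) :
    PCAt s (DCoh.inD X ((Scheme.Modules.pushforward i).obj M)) x := by
  by_cases hx : ∃ z : Z, i z = x
  · obtain ⟨z, rfl⟩ := hx
    obtain ⟨V₀, r, hz, ⟨e₀⟩⟩ := hM z
    obtain ⟨W, hxW, hV⟩ := exists_opens_preimage_le i V₀ z hz
    obtain ⟨e'⟩ := restrict_free_of_le M hV r e₀
    have h1 : IsFinCoprod (Coh.structureModule (i ⁻¹ᵁ W : Scheme.{u})) (M.restrict (i ⁻¹ᵁ W).ι) :=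
      (isFinCoprod_freeMod r).of_iso e'.symm
    have h2 := h1.map (Scheme.Modules.pushforward (i ∣_ W))
    have h3 := h2.of_iso (bcMod i W M).symm
    have eO : (Scheme.Modules.pushforward (i ∣_ W)).obj
        (Coh.structureModule (i ⁻¹ᵁ W : Scheme.{u})) ≅
        (Scheme.Modules.restrictFunctor W.ι).obj
          ((Scheme.Modules.pushforward i).obj (Coh.structureModule Z)) :=
      (Scheme.Modules.pushforward (i ∣_ W)).mapIso
        (Scheme.Modules.restrictUnitIso (i ⁻¹ᵁ W).ι).symm ≪≫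
        (bcMod i W (Coh.structureModule Z)).symm
    have h4 := h3.of_iso_left eO
    have h5 := h4.map (DerivedCategory.singleFunctor (W : Scheme.{u}).Modules 0)
    let x' : (W : Scheme.{u}) := ⟨i z, hxW⟩
    have hU : PCAt s (DCoh.inD (W : Scheme.{u}) ((Scheme.Modules.restrictFunctor W.ι).obj
        ((Scheme.Modules.pushforward i).obj (Coh.structureModule Z)))) x' := by
      have h6 : PCAt s (DCoh.inD X ((Scheme.Modules.pushforward i).obj (Coh.structureModule Z)))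
          (W.ι x') := (isPseudoCoherentD_iff s _).1 hO _
      exact (PCAt.restrict W.ι x' h6).of_iso (RDinDIso W.ι _)
    have h7 := pcLev_of_isFinCoprod s x' h5 hU
    have h8 : PCAt s ((RD W.ι).obj (DCoh.inD X ((Scheme.Modules.pushforward i).obj M))) x' :=
      h7.of_iso (RDinDIso W.ι _).symm
    exact PCAt.of_restrict W.ι x' h8
  · let W : X.Opens := ⟨(Set.range (i : Z → X))ᶜ, i.isClosedEmbedding.isClosed_range.isOpen_compl⟩
    have hxW : x ∈ W := fun ⟨z, hz⟩ => hx ⟨z, hz⟩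
    refine PCAt.of_isZero_RD W x hxW ?_ s
    refine IsZero.of_iso ?_ (RDinDIso W.ι _)
    refine Functor.map_isZero (DerivedCategory.singleFunctor (W : Scheme.{u}).Modules 0)
      (isZero_restrict_pushforward_compl i M W ?_)
    intro z hz
    exact hz ⟨z, rfl⟩

/-- `i_*` of a strictly perfect complex vanishing above `b` is `(s + b)`-pseudo-coherent at
every point. -/
theorem pcAt_Q_PCx_lev {s : ℤ} (hO : HOs i s) (P : CochainComplex Z.Modules ℤ)
    (hP : DCoh.IsStrictlyPerfect P) (b : ℤ) (hb : ∀ k : ℤ, b < k → IsZero (P.X k)) (x : X) :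
    PCAt (s + b) (Q.obj ((PCx i).obj P)) x := by
  obtain ⟨⟨a, b', hab⟩, hfree⟩ := hP
  refine Groth.Agent.Lib.Helper8.Stupid.induction_bounded (pcLev (s + b) x)
    (fun T hT h1 h3 => (PCAt.two_of_three T hT (s + b) x).2.1 h1 h3)
    (fun K hK => PCAt.of_isZero hK (s + b) x) (b' + 1 - a).toNat ((PCx i).obj P) a ?_ ?_
  · intro k hk
    exact Functor.map_isZero (Scheme.Modules.pushforward i) (hab k (by omega))
  · intro k
    by_cases hk : b < k
    · refine PCAt.of_isZero ?_ (s + b) x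
      exact Functor.map_isZero _ (Functor.map_isZero (Scheme.Modules.pushforward i) (hb k hk))
    · have h0 := pcAt_inD_pushforward_lev i hO (P.X k) (hfree k) x
      have h1 : PCAt (s + k) ((DCoh.inD X ((Scheme.Modules.pushforward i).obj (P.X k)))⟦-k⟧) x :=
        h0.shift (-k) (s + k) (by omega)
      have h2 := h1.of_iso
        (((DerivedCategory.singleFunctors X.Modules).shiftIso (-k) k 0 (by omega)).app _)
      exact h2.of_le (by omega)

theorem pcAt_PD_Q_lev {s : ℤ} (hO : HOs i s) (P : CochainComplex Z.Modules ℤ)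
    (hP : DCoh.IsStrictlyPerfect P) (b : ℤ) (hb : ∀ k : ℤ, b < k → IsZero (P.X k)) (x : X) :
    PCAt (s + b) ((PD i).obj (Q.obj P)) x :=
  (pcAt_Q_PCx_lev i hO P hP b hb x).of_iso (PDQIso i P).symm

/-- the direct implication at a finite level, pointwise (induction). -/
theorem pcAt_PD_of_pcAt_lev_aux (d : ℕ) :
    ∀ {Z X : Scheme.{u}} (i : Z ⟶ X) [IsClosedImmersion i] (s : ℤ) (_ : HOs i s)
      (_ : s ≤ 1 - d) (E : DCoh.D Z) (m : ℤ) (z : Z), E.IsLE (m + d - 1) → PCAt m E z →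
      PCAt m ((PD i).obj E) (i z) := by
  induction d with
  | zero =>
    intro Z X i _ s hO hs E m z hE _
    have hE' : E.IsLE (m - 1) := by simpa using hE
    have hP : ((PD i).obj E).IsLE (m - 1) := map_isLE _ E (m - 1) hE'
    have h := PCAt.of_isLE _ (m - 1) hP (i z)
    rwa [sub_add_cancel] at h
  | succ d ih =>
    intro Z X i _ s hO hs E m z hE h
    obtain ⟨N, hN⟩ : ∃ N : ℤ, N = m + d := ⟨_, rfl⟩
    have hE' : E.IsLE N := by
      have : m + ((d + 1 : ℕ) : ℤ) - 1 = N := by push_cast; omega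
      rwa [this] at hE
    have hM : PCAt N E z := h.of_le (by omega)
    obtain ⟨V₀, hz, hV₀⟩ := hM
    obtain ⟨W, hxW, hV⟩ := exists_opens_preimage_le i V₀ z hz
    have hV₁ : PCat N ((RD (i ⁻¹ᵁ W).ι).obj E) := hV₀.of_le_opens hV
    have hE₁ : ((RD (i ⁻¹ᵁ W).ι).obj E).IsLE N := map_isLE _ E N hE'
    obtain ⟨L, β, hL, hβ⟩ := exists_single_good _ N hE₁ hV₁
    obtain ⟨C, g, w, hT⟩ := distinguished_cocone_triangle β
    have hC : C.IsLE (N - 1) := (good_iff_isLE _ hT N (N - 1) (by omega)).1 hβ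
    let z₁ : (i ⁻¹ᵁ W : Scheme.{u}) := ⟨z, hxW⟩
    have hz₁ : (i ∣_ W) z₁ = ⟨i z, hxW⟩ := Subtype.ext (morphismRestrict_base_coe i W z₁)
    have h0 : PCAt m ((RD (i ⁻¹ᵁ W).ι).obj E) z₁ := PCAt.restrict (i ⁻¹ᵁ W).ι z₁ h
    have hS := isStrictlyPerfect_single L hL N
    have h1 : PCAt m C z₁ :=
      (PCAt.two_of_three _ hT m z₁).1 (PCAt.of_isStrictlyPerfect _ hS (m + 1) z₁) h0
    have hO₁ : HOs (i ∣_ W) s := hO.restrict W
    have hC' : C.IsLE (m + d - 1) := by rwa [hN] at hC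
    have h2 : PCAt m ((PD (i ∣_ W)).obj C) ((i ∣_ W) z₁) :=
      ih (i ∣_ W) s hO₁ (by push_cast at hs; omega) C m z₁ hC' h1
    have h3 : PCAt (s + N) ((PD (i ∣_ W)).obj
        (Q.obj ((HomologicalComplex.single _ (ComplexShape.up ℤ) N).obj L))) ((i ∣_ W) z₁) :=
      pcAt_PD_Q_lev (i ∣_ W) hO₁ _ hS N
        (fun k hk => HomologicalComplex.isZero_single_obj_X _ _ _ _ (by omega)) _
    have h3' := h3.of_le (m' := m) (by push_cast at hs; omega)
    have hT' := (PD (i ∣_ W)).map_distinguished _ hT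
    have h4 : PCAt m ((PD (i ∣_ W)).obj ((RD (i ⁻¹ᵁ W).ι).obj E)) ((i ∣_ W) z₁) :=
      (PCAt.two_of_three _ hT' m _).2.1 h3' h2
    obtain ⟨e⟩ := nonempty_RD_PD_iso i W E
    rw [hz₁] at h4
    exact PCAt.of_restrict W.ι ⟨i z, hxW⟩ (h4.of_iso e.symm)

variable {Z X : Scheme.{u}} (i : Z ⟶ X) [IsClosedImmersion i]

/-- the direct implication at a finite level, pointwise: `E` bounded above by `b`, `i_* O_Z`
`s`-pseudo-coherent with `s ≤ m - b`. -/
theorem pcAt_PD_of_pcAt_lev {s : ℤ} (hO : HOs i s) (E : DCoh.D Z) (m b : ℤ) (hE : E.IsLE b)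
    (hs : s ≤ m - b) (z : Z) (h : PCAt m E z) : PCAt m ((PD i).obj E) (i z) := by
  by_cases hb : b ≤ m - 1
  · have hE' : E.IsLE (m - 1) := (TStructure.t).isLE_of_le _ _ _ hb
    have hP : ((PD i).obj E).IsLE (m - 1) := map_isLE _ E (m - 1) hE'
    have h := PCAt.of_isLE _ (m - 1) hP (i z)
    rwa [sub_add_cancel] at h
  · obtain ⟨d, hd⟩ : ∃ d : ℕ, (d : ℤ) = b - m + 1 := ⟨(b - m + 1).toNat, by omega⟩
    have hE' : E.IsLE (m + d - 1) := (TStructure.t).isLE_of_le E b (m + d - 1) (by omega)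
    exact pcAt_PD_of_pcAt_lev_aux d i s hO (by omega) E m z hE' h

/-- the converse implication at a finite level, pointwise (induction). -/
theorem pcAt_of_pcAt_PD_lev_aux (d : ℕ) :
    ∀ {Z X : Scheme.{u}} (i : Z ⟶ X) [IsClosedImmersion i] (s : ℤ) (_ : HOs i s)
      (_ : s ≤ 2 - d) (E : DCoh.D Z) (m : ℤ) (z : Z), E.IsLE (m + d - 1) →
      PCAt m ((PD i).obj E) (i z) → PCAt m E z := by
  induction d with
  | zero =>
    intro Z X i _ s hO hs E m z hE _
    have hE' : E.IsLE (m - 1) := by simpa using hE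
    have h := PCAt.of_isLE E (m - 1) hE' z
    rwa [sub_add_cancel] at h
  | succ d ih =>
    intro Z X i _ s hO hs E m z hE h
    obtain ⟨N, hN⟩ : ∃ N : ℤ, N = m + d := ⟨_, rfl⟩
    have hE' : E.IsLE N := by
      have : m + ((d + 1 : ℕ) : ℤ) - 1 = N := by push_cast; omega
      rwa [this] at hE
    -- Stage 1
    have hM : PCAt N ((PD i).obj E) (i z) := h.of_le (by omega)
    obtain ⟨W₀, hx₀, hP₀⟩ := hM
    obtain ⟨e₀⟩ := nonempty_RD_PD_iso i W₀ E
    have hE₀ : ((RD (i ⁻¹ᵁ W₀).ι).obj E).IsLE N := map_isLE _ E N hE'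
    have hK₀ : ((PD (i ∣_ W₀)).obj ((RD (i ⁻¹ᵁ W₀).ι).obj E)).IsLE N := map_isLE _ _ N hE₀
    obtain ⟨L₀, β₀, hL₀, hβ₀⟩ := exists_single_good _ N hK₀ (hP₀.of_iso e₀)
    let z₀ : (i ⁻¹ᵁ W₀ : Scheme.{u}) := ⟨z, hx₀⟩
    have hx₀' : (i ∣_ W₀) z₀ = ⟨i z, hx₀⟩ := Subtype.ext (morphismRestrict_base_coe i W₀ z₀)
    -- Stage 2
    obtain ⟨W, L'', γ, hxW, hL'', hγ⟩ := exists_good_single_of_PD (i ∣_ W₀)
      ((RD (i ⁻¹ᵁ W₀).ι).obj E) N hE₀ L₀ hL₀ β₀ hβ₀ ((i ∣_ W₀) z₀)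
    let z₁ : ((i ∣_ W₀) ⁻¹ᵁ W : Scheme.{u}) := ⟨z₀, hxW⟩
    have hx₁' : ((i ∣_ W₀) ∣_ W) z₁ = ⟨(i ∣_ W₀) z₀, hxW⟩ :=
      Subtype.ext (morphismRestrict_base_coe (i ∣_ W₀) W z₁)
    -- Stage 3
    obtain ⟨C, g, w, hT⟩ := distinguished_cocone_triangle γ
    have hC : C.IsLE (N - 1) := (good_iff_isLE _ hT N (N - 1) (by omega)).1 hγ
    have hO₁ : HOs ((i ∣_ W₀) ∣_ W) s := (hO.restrict W₀).restrict W
    have h0 : PCAt m ((PD (i ∣_ W₀)).obj ((RD (i ⁻¹ᵁ W₀).ι).obj E)) ((i ∣_ W₀) z₀) := by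
      rw [hx₀']
      exact (PCAt.restrict W₀.ι ⟨i z, hx₀⟩ h).of_iso e₀
    obtain ⟨e₁⟩ := nonempty_RD_PD_iso (i ∣_ W₀) W ((RD (i ⁻¹ᵁ W₀).ι).obj E)
    have h1 : PCAt m ((PD ((i ∣_ W₀) ∣_ W)).obj
        ((RD ((i ∣_ W₀) ⁻¹ᵁ W).ι).obj ((RD (i ⁻¹ᵁ W₀).ι).obj E))) (((i ∣_ W₀) ∣_ W) z₁) := by
      rw [hx₁']
      exact (PCAt.restrict W.ι ⟨(i ∣_ W₀) z₀, hxW⟩ h0).of_iso e₁
    have hT' := (PD ((i ∣_ W₀) ∣_ W)).map_distinguished _ hT
    have hS := isStrictlyPerfect_single L'' hL'' N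
    have h2 := pcAt_PD_Q_lev ((i ∣_ W₀) ∣_ W) hO₁ _ hS N
      (fun k hk => HomologicalComplex.isZero_single_obj_X _ _ _ _ (by omega))
      (((i ∣_ W₀) ∣_ W) z₁)
    have h2' := h2.of_le (m' := m + 1) (by push_cast at hs; omega)
    have h3 : PCAt m ((PD ((i ∣_ W₀) ∣_ W)).obj C) (((i ∣_ W₀) ∣_ W) z₁) :=
      (PCAt.two_of_three _ hT' m _).1 h2' h1
    have hC' : C.IsLE (m + d - 1) := by rwa [hN] at hC
    have h4 : PCAt m C z₁ := ih ((i ∣_ W₀) ∣_ W) s hO₁ (by push_cast at hs; omega) C m z₁ hC' h3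
    have h5 : PCAt m ((RD ((i ∣_ W₀) ⁻¹ᵁ W).ι).obj ((RD (i ⁻¹ᵁ W₀).ι).obj E)) z₁ :=
      (PCAt.two_of_three _ hT m z₁).2.1 (PCAt.of_isStrictlyPerfect _ hS m z₁) h4
    have h6 : PCAt m ((RD (i ⁻¹ᵁ W₀).ι).obj E) z₀ :=
      PCAt.of_restrict ((i ∣_ W₀) ⁻¹ᵁ W).ι z₁ h5
    exact PCAt.of_restrict (i ⁻¹ᵁ W₀).ι z₀ h6

/-- the converse implication at a finite level, pointwise: `E` bounded above by `b`, `i_* O_Z`
`s`-pseudo-coherent with `s ≤ m + 1 - b`. -/
theorem pcAt_of_pcAt_PD_lev {s : ℤ} (hO : HOs i s) (E : DCoh.D Z) (m b : ℤ) (hE : E.IsLE b)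
    (hs : s ≤ m + 1 - b) (z : Z) (h : PCAt m ((PD i).obj E) (i z)) : PCAt m E z := by
  by_cases hb : b ≤ m - 1
  · have hE' : E.IsLE (m - 1) := (TStructure.t).isLE_of_le _ _ _ hb
    have h := PCAt.of_isLE E (m - 1) hE' z
    rwa [sub_add_cancel] at h
  · obtain ⟨d, hd⟩ : ∃ d : ℕ, (d : ℤ) = b - m + 1 := ⟨(b - m + 1).toNat, by omega⟩
    have hE' : E.IsLE (m + d - 1) := (TStructure.t).isLE_of_le E b (m + d - 1) (by omega)
    exact pcAt_of_pcAt_PD_lev_aux d i s hO (by omega) E m z hE' h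

end Groth.Agent.Lib.Helper16.CIPC
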