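import Mathlib
import Groth.Prelude.Def_CxOX
import Groth.Prelude.Def_DerSch2
import Groth.Agent.Lib.Helper16.CI18
import Groth.Agent.Lib.Helper16.CI22

/-!
# Helper16 — CI23: relative pseudo-coherence (chart form) and composition with a morphism which is
pseudo-coherent at a finite level.
-/

set_option autoImplicit false
set_option linter.style.haveILetI false
universe u
open CategoryTheory CategoryTheory.Limits AlgebraicGeometry CategoryTheory.Pretriangulated

attribute [local instance] HasDerivedCategory.standard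

namespace Groth.Agent.Lib.Helper16.RelPC

open Groth.Agent.Lib.Helper16.PC DerivedCategory Groth.Agent.Lib.Helper16.RestrictD
  Groth.Agent.Lib.Helper16.FlatBC

variable {A B : Type u} [CommRing A] [CommRing B]

/-- `φ : A → B` makes `B` an `s`-pseudo-coherent `A`-module. -/
def PCHomLev (s : ℤ) (φ : A →+* B) : Prop :=
  DRing.IsPseudoCoherent A s ((DRing.restrictD φ).obj (Dual.inD B B))

theorem PCHom.lev {φ : A →+* B} (h : PCHom φ) (s : ℤ) : PCHomLev s φ := h s

theorem PCHomLev.of_le {s s' : ℤ} {φ : A →+* B} (h : PCHomLev s φ) (hs : s ≤ s') :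
    PCHomLev s' φ := pc_of_le hs h

theorem PCHomLev.comp_of_pcHom {C : Type u} [CommRing C] {s : ℤ} {φ : A →+* B} {ψ : B →+* C}
    (hφ : PCHom φ) (hψ : PCHomLev s ψ) : PCHomLev s (ψ.comp φ) :=
  pc_of_iso ((pc_iff_of_pcHom hφ _ s).1 hψ) (restrictDCompIso φ ψ _).symm

theorem pcHomLev_mvPolynomial_map {P A : Type u} [CommRing P] [CommRing A] (α : P →+* A) {s : ℤ}
    (h : PCHomLev s α) (σ : Type) :
    PCHomLev s (MvPolynomial.map α : MvPolynomial σ P →+* MvPolynomial σ A) := by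
  letI : Algebra P A := α.toAlgebra
  have hA : DRing.IsPseudoCoherent P s (Dual.inD P A) := pc_of_iso h (restrictInDIso α)
  have h1 := pc_ε (algebraMap P (MvPolynomial σ P)) _ s hA
  refine pc_of_iso h1 ?_
  exact εSingleIso (algebraMap P (MvPolynomial σ P)) (ModuleCat.of P A) ≪≫
    (singleFunctor (ModuleCat.{u} (MvPolynomial σ P)) 0).mapIso (tensorEquiv σ).toModuleIso ≪≫
    (((ModuleCat.restrictScalars.{u} (mapHom (P := P) (A := A) σ)).mapDerivedCategorySingleFunctor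
      0).app (ModuleCat.of (MvPolynomial σ A) (MvPolynomial σ A))).symm

end Groth.Agent.Lib.Helper16.RelPC

namespace Groth.Agent.Lib.Helper16.CI

open Groth.Agent.Lib.Helper16.RS DerivedCategory Groth.Agent.Lib.Helper1.LocPC
  Groth.Agent.Lib.Helper16.PC Groth.Agent.Lib.Helper16.CIPC Groth.Agent.Lib.Helper16.AffRed
  Groth.Agent.Lib.Helper16.RelPC Scheme.Modules

/-- the presentation `R[x_1..x_{k+n}] → B[x_1..x_k]` induced by a presentation `R[x_1..x_n] → B`,
at a finite level. -/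
theorem exists_comp_chart_lev {R B : Type u} [CommRing R] [CommRing B] {n : ℕ}
    (α : MvPolynomial (Fin n) R →+* B) (hα : Function.Surjective α) {s : ℤ}
    (hpc : PCHomLev s α) (k : ℕ) :
    ∃ q : MvPolynomial (Fin (k + n)) R →+* MvPolynomial (Fin k) B, Function.Surjective q ∧
      PCHomLev s q ∧ q.comp MvPolynomial.C =
        (MvPolynomial.C : B →+* MvPolynomial (Fin k) B).comp (α.comp MvPolynomial.C) := by
  let ι : MvPolynomial (Fin (k + n)) R ≃ₐ[R] MvPolynomial (Fin k) (MvPolynomial (Fin n) R) :=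
    (MvPolynomial.renameEquiv R finSumFinEquiv).symm.trans (MvPolynomial.sumAlgEquiv R (Fin k) (Fin n))
  let ιr : MvPolynomial (Fin (k + n)) R →+* MvPolynomial (Fin k) (MvPolynomial (Fin n) R) :=
    (ι : MvPolynomial (Fin (k + n)) R →+* MvPolynomial (Fin k) (MvPolynomial (Fin n) R))
  let μr : MvPolynomial (Fin k) (MvPolynomial (Fin n) R) →+* MvPolynomial (Fin k) B :=
    MvPolynomial.map α
  have hμ := pcHomLev_mvPolynomial_map α hpc (Fin k)
  have hι : PCHom ιr := pcHom_of_bijective ιr ι.bijective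
  refine ⟨μr.comp ιr, (MvPolynomial.map_surjective _ hα).comp ι.surjective,
    PCHomLev.comp_of_pcHom hι hμ, ?_⟩
  refine RingHom.ext (fun r => ?_)
  have h1 : ιr (MvPolynomial.C r) = MvPolynomial.C (MvPolynomial.C r) := ι.commutes r
  change μr (ιr (MvPolynomial.C r)) = MvPolynomial.C (α (MvPolynomial.C r))
  rw [h1]
  exact MvPolynomial.map_C _ _

section Spec

variable {P' P : Type u} [CommRing P'] [CommRing P] (q : P' →+* P)

/-- `Spec` of a ring map making the target `s`-pseudo-coherent over the source has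
`s`-pseudo-coherent direct image of the structure sheaf. -/
theorem hOs_Spec_of_pcHomLev {s : ℤ} (hq : PCHomLev s q) : HOs (Spec.map (CommRingCat.ofHom q)) s := by
  have h1 := (Groth.Agent.S1004.result P' ((DRing.restrictD q).obj (Dual.inD P P)) s).2 hq
  refine isPseudoCoherentD_of_iso ?_ h1
  exact (DCoh.tildeD (CommRingCat.of P')).mapIso
      (((ModuleCat.restrictScalars.{u} q).mapDerivedCategorySingleFunctor 0).app
        (ModuleCat.of P P)) ≪≫
    tildeDSingleIso (CommRingCat.of P') _ ≪≫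
    (DerivedCategory.singleFunctor _ 0).mapIso
      ((pushTildeIso (CommRingCat.ofHom q) (ModuleCat.of P P)).symm ≪≫
        (Scheme.Modules.pushforward (Spec.map (CommRingCat.ofHom q))).mapIso
          (tildeSelf (R := CommRingCat.of P)))

end Spec

section Comp

variable {Z Y X : Scheme.{u}} (d : Z ⟶ Y) (t : Y ⟶ X) [IsClosedImmersion d] [IsClosedImmersion t]

/-- pointwise pseudo-coherence of direct images along a further closed immersion with
`s`-pseudo-coherent structure sheaf, at a finite level. -/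
theorem pcAt_PD_comp_lev {s : ℤ} (hO : HOs t s) (K : DCoh.D Z) (m b : ℤ) (hK : K.IsLE b) (z : Z) :
    (s ≤ m - b → PCAt m ((PD d).obj K) (d z) → PCAt m ((PD (d ≫ t)).obj K) ((d ≫ t) z)) ∧
      (s ≤ m + 1 - b → PCAt m ((PD (d ≫ t)).obj K) ((d ≫ t) z) → PCAt m ((PD d).obj K) (d z)) := by
  obtain ⟨e⟩ := nonempty_PD_comp_iso d t K
  have hK' : ((PD d).obj K).IsLE b := map_isLE _ K b hK
  constructor
  · intro hs h
    exact (pcAt_PD_of_pcAt_lev t hO _ m b hK' hs (d z) h).of_iso e.symm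
  · intro hs h
    exact pcAt_of_pcAt_PD_lev t hO _ m b hK' hs (d z) (h.of_iso e)

end Comp

variable {X Y : Scheme.{u}}

section Link

variable {U : X.Opens} (hU : IsAffineOpen U) {P Q : Type u} [CommRing P]
  [CommRing Q] (ψ : P →+* Γ(X, U)) (q : Q →+* P)

theorem cpAt_comp_lev [IsClosedImmersion (sp ψ)] [IsClosedImmersion (sp (ψ.comp q))]
    (hq : Function.Surjective q) {s : ℤ} (hpc : PCHomLev s q) (m b : ℤ) (E : DCoh.D X)
    (hE : (KU hU E).IsLE b) (y : Spec Γ(X, U)) :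
    (s ≤ m - b → CPAt m E hU ψ y → CPAt m E hU (ψ.comp q) y) ∧
      (s ≤ m + 1 - b → CPAt m E hU (ψ.comp q) y → CPAt m E hU ψ y) := by
  haveI : IsClosedImmersion (Spec.map (CommRingCat.ofHom q)) :=
    IsClosedImmersion.spec_of_surjective _ hq
  have h := pcAt_PD_comp_lev (sp ψ) (Spec.map (CommRingCat.ofHom q)) (hOs_Spec_of_pcHomLev q hpc)
    (KU hU E) m b hE y
  have heq : sp ψ ≫ Spec.map (CommRingCat.ofHom q) = sp (ψ.comp q) := by
    unfold sp
    rw [← Spec.map_comp]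
    rfl
  unfold CPAt
  have key : ∀ (g : Spec Γ(X, U) ⟶ Spec (CommRingCat.of Q)) (hg : IsClosedImmersion g)
      (hg' : sp ψ ≫ Spec.map (CommRingCat.ofHom q) = g),
      PCAt m ((PD (sp ψ ≫ Spec.map (CommRingCat.ofHom q))).obj (KU hU E))
        ((sp ψ ≫ Spec.map (CommRingCat.ofHom q)) y) ↔ PCAt m ((PD g).obj (KU hU E)) (g y) := by
    intro g hg hg'
    subst hg'
    exact Iff.rfl
  rw [← key _ inferInstance heq]
  exact h

end Link

section Mono

/-- the chart test is monotone in the level. -/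
theorem chartPC_of_le {U : X.Opens} (hU : IsAffineOpen U) (V : Y.Opens) {n : ℕ}
    (φ : MvPolynomial (Fin n) Γ(Y, V) →+* Γ(X, U)) (hφ : Function.Surjective φ) {m m' : ℤ}
    (hm : m ≤ m') {K : DCoh.D X} (h : DerSch.ChartPC m K U V φ) : DerSch.ChartPC m' K U V φ := by
  haveI : IsClosedImmersion (sp φ) := isClosedImmersion_sp φ hφ
  rw [chartPC_iff_PD _ _ hU V φ hφ, isPseudoCoherentD_iff] at h ⊢
  exact fun x => (h x).of_le hm

/-- relative pseudo-coherence (chart form) is monotone in the level. -/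
theorem isPseudoCoherentRel_of_le (f : X ⟶ Y) [LocallyOfFiniteType f] {m m' : ℤ} (hm : m ≤ m')
    {K : DCoh.D X} (h : DerSch.IsPseudoCoherentRel f m K) : DerSch.IsPseudoCoherentRel f m' K := by
  rw [isPseudoCoherentRel_iff_forall] at h ⊢
  intro U hU V hV hUV n φ hφ
  exact chartPC_of_le hU V φ hφ.1 hm (h U hU V hV hUV n φ hφ)

end Mono

section Triple

variable {X T S : Scheme.{u}} (a : X ⟶ T) (b : T ⟶ S) {U : X.Opens} (hU : IsAffineOpen U)
  {W : T.Opens} {V : S.Opens}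
  (hUW : U ≤ a ⁻¹ᵁ W) (hWV : W ≤ b ⁻¹ᵁ V) {n k : ℕ}
  (α : MvPolynomial (Fin n) Γ(S, V) →+* Γ(T, W)) (hα : DerSch.IsChart b W V hWV α)
  {s : ℤ} (hpc : PCHomLev s α) (β : MvPolynomial (Fin k) Γ(T, W) →+* Γ(X, U))
  (hβ : DerSch.IsChart a U W hUW β)

include hU hα hpc hβ in
/-- from a chart of `a` on `(U, W)` and a chart of `b` on `(W, V)` which is `s`-pseudo-coherent,
a chart of `a ≫ b` on `(U, V)` whose chart test compares with that of the chart of `a`. -/
theorem exists_chart_comp_lev :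
    ∃ γ : MvPolynomial (Fin (k + n)) Γ(S, V) →+* Γ(X, U),
      DerSch.IsChart (a ≫ b) U V (le_comp_preimage a b hUW hWV) γ ∧
        ∀ (m c : ℤ) (E : DCoh.D X), E.IsLE c →
          (s ≤ m - c → DerSch.ChartPC m E U W β → DerSch.ChartPC m E U V γ) ∧
          (s ≤ m + 1 - c → DerSch.ChartPC m E U V γ → DerSch.ChartPC m E U W β) := by
  obtain ⟨q, hq, hqpc, hqC⟩ := exists_comp_chart_lev α hα.1 hpc k
  refine ⟨β.comp q, ⟨hβ.1.comp hq, ?_⟩, fun m c E hE => ?_⟩
  · have h1 : (β.comp q).comp MvPolynomial.C = β.comp (q.comp MvPolynomial.C) := rfl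
    rw [h1, hqC]
    have h2 : β.comp ((MvPolynomial.C : Γ(T, W) →+* MvPolynomial (Fin k) Γ(T, W)).comp
        (α.comp MvPolynomial.C)) = (β.comp MvPolynomial.C).comp (α.comp MvPolynomial.C) := rfl
    rw [h2, hα.2, hβ.2]
    have h3 := Scheme.Hom.appLE_comp_appLE a b V W U hWV hUW
    exact congrArg CommRingCat.Hom.hom h3
  · haveI : IsClosedImmersion (sp β) := isClosedImmersion_sp β hβ.1
    haveI : IsClosedImmersion (sp (β.comp q)) := isClosedImmersion_sp _ (hβ.1.comp hq)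
    have hE' : (KU hU E).IsLE c := map_isLE _ E c hE
    rw [chartPC_iff m E hU V (β.comp q) (hβ.1.comp hq), chartPC_iff m E hU W β hβ.1]
    exact ⟨fun hs h y => (cpAt_comp_lev hU β q hq hqpc m c E hE' y).1 hs (h y),
      fun hs h y => (cpAt_comp_lev hU β q hq hqpc m c E hE' y).2 hs (h y)⟩

end Triple

variable {X T S : Scheme.{u}}

/-- a chart of an `s`-pseudo-coherent morphism (chart form) makes the target `s`-pseudo-coherent
over the polynomial ring. -/
theorem pcHomLev_of_isNPseudoCoherent (b : T ⟶ S) [LocallyOfFiniteType b] {s : ℤ}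
    (hg : DerSch.IsNPseudoCoherent b s) {W : T.Opens} (hW : IsAffineOpen W) {V : S.Opens}
    (hV : IsAffineOpen V) (hWV : W ≤ b ⁻¹ᵁ V) {n : ℕ}
    (α : MvPolynomial (Fin n) Γ(S, V) →+* Γ(T, W)) (hα : DerSch.IsChart b W V hWV α) :
    PCHomLev s α := by
  obtain ⟨eM⟩ := nonempty_tildeD_unit_iso hW
  exact (chartPC_iff_ring s _ hW V α hα.1 (DerSch.unitCx T) (Iso.refl _) _ eM).1
    (chartPC_of_isPseudoCoherentRel b s _ hg hW hV hWV α hα)

/-- `E` bounded above by `c` and `m`-pseudo-coherent relative to `a ≫ b`, with `b`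
`s`-pseudo-coherent, `s ≤ m + 1 - c`: `E` is `m`-pseudo-coherent relative to `a`. -/
theorem isPseudoCoherentRel_of_comp_lev (a : X ⟶ T) (b : T ⟶ S) [LocallyOfFiniteType a]
    [LocallyOfFiniteType b] (m c : ℤ) (E : DCoh.D X) (hE : E.IsLE c) {s : ℤ}
    (hs : s ≤ m + 1 - c) (hb : DerSch.IsNPseudoCoherent b s)
    (h : DerSch.IsPseudoCoherentRel (a ≫ b) m E) : DerSch.IsPseudoCoherentRel a m E := by
  let 𝒲 : Set T.affineOpens := {W | ∃ V : S.affineOpens, (W : T.Opens) ≤ b ⁻¹ᵁ (V : S.Opens)}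
  refine ⟨inferInstance, 𝒲, ?_, fun W hW => ?_⟩
  · apply le_antisymm le_top
    intro t _
    obtain ⟨_, ⟨V, hV, rfl⟩, htV, -⟩ := (S.isBasis_affineOpens).exists_subset_of_mem_open
      (Set.mem_univ (b t)) isOpen_univ
    obtain ⟨_, ⟨W, hW, rfl⟩, htW, hWV⟩ := (T.isBasis_affineOpens).exists_subset_of_mem_open
      (show t ∈ ((b ⁻¹ᵁ V : T.Opens) : Set T) from htV) (b ⁻¹ᵁ V).isOpen
    rw [TopologicalSpace.Opens.mem_iSup]
    refine ⟨⟨W, hW⟩, ?_⟩
    rw [TopologicalSpace.Opens.mem_iSup]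
    exact ⟨⟨⟨V, hV⟩, hWV⟩, htW⟩
  · obtain ⟨V, hWV⟩ := hW
    refine ⟨{U : X.affineOpens | (U : X.Opens) ≤ a ⁻¹ᵁ (W : T.Opens)}, iSup_affineOpens_le _,
      fun U _ hUW => ?_⟩
    have hU : IsAffineOpen (U : X.Opens) := U.2
    obtain ⟨n, α, hα⟩ := exists_isChart b W.2 V.2 hWV
    have hpc := pcHomLev_of_isNPseudoCoherent b hb W.2 V.2 hWV α hα
    obtain ⟨k, β, hβ⟩ := exists_isChart a hU W.2 hUW
    obtain ⟨γ, hγ, H⟩ := exists_chart_comp_lev a b hU hUW hWV α hα hpc β hβ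
    refine ⟨k, β, hβ, (H m c E hE).2 hs ?_⟩
    exact chartPC_of_isPseudoCoherentRel (a ≫ b) m E h hU V.2 _ γ hγ

/-- `E` bounded above by `c` and `m`-pseudo-coherent relative to `a`, with `b`
`s`-pseudo-coherent, `s ≤ m - c`: `E` is `m`-pseudo-coherent relative to `a ≫ b`. -/
theorem isPseudoCoherentRel_comp_of_lev (a : X ⟶ T) (b : T ⟶ S) [LocallyOfFiniteType a]
    [LocallyOfFiniteType b] (m c : ℤ) (E : DCoh.D X) (hE : E.IsLE c) {s : ℤ}
    (hs : s ≤ m - c) (hb : DerSch.IsNPseudoCoherent b s)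
    (h : DerSch.IsPseudoCoherentRel a m E) : DerSch.IsPseudoCoherentRel (a ≫ b) m E := by
  refine ⟨inferInstance, Set.univ, ?_, fun V _ => ?_⟩
  · have := iSup_affineOpens_le (⊤ : S.Opens)
    simpa using this
  let 𝒰 : Set X.affineOpens := {U | ∃ W : T.affineOpens, (U : X.Opens) ≤ a ⁻¹ᵁ (W : T.Opens) ∧
    (W : T.Opens) ≤ b ⁻¹ᵁ (V : S.Opens)}
  refine ⟨𝒰, ?_, ?_⟩
  · apply le_antisymm
    · refine iSup₂_le fun U hU => ?_
      obtain ⟨W, hUW, hWV⟩ := hU
      exact le_comp_preimage a b hUW hWV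
    · intro x hx
      obtain ⟨_, ⟨W, hW, rfl⟩, hxW, hWV⟩ := (T.isBasis_affineOpens).exists_subset_of_mem_open
        (show a x ∈ ((b ⁻¹ᵁ (V : S.Opens) : T.Opens) : Set T) from hx)
        (b ⁻¹ᵁ (V : S.Opens)).isOpen
      obtain ⟨_, ⟨U, hU, rfl⟩, hxU, hUW⟩ := (X.isBasis_affineOpens).exists_subset_of_mem_open
        (show x ∈ ((a ⁻¹ᵁ W : X.Opens) : Set X) from hxW) (a ⁻¹ᵁ W).isOpen
      rw [TopologicalSpace.Opens.mem_iSup]
      refine ⟨⟨U, hU⟩, ?_⟩
      rw [TopologicalSpace.Opens.mem_iSup]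
      exact ⟨⟨⟨W, hW⟩, hUW, hWV⟩, hxU⟩
  · rintro U ⟨W, hUW, hWV⟩ hle
    have hU : IsAffineOpen (U : X.Opens) := U.2
    obtain ⟨n, α, hα⟩ := exists_isChart b W.2 V.2 hWV
    have hpc := pcHomLev_of_isNPseudoCoherent b hb W.2 V.2 hWV α hα
    obtain ⟨k, β, hβ⟩ := exists_isChart a hU W.2 hUW
    obtain ⟨γ, hγ, H⟩ := exists_chart_comp_lev a b hU hUW hWV α hα hpc β hβ
    refine ⟨k + n, γ, hγ, (H m c E hE).1 hs ?_⟩
    exact chartPC_of_isPseudoCoherentRel a m E h hU W.2 hUW β hβ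

/-- the structure sheaf in degree `0` is bounded above by `0`. -/
instance isLE_toD_unitCx (X : Scheme.{u}) : (DCoh.toD X (DerSch.unitCx X)).IsLE 0 := by
  change (Q.obj (DerSch.unitCx X)).IsLE 0
  rw [isLE_Q_obj_iff]
  infer_instance

end Groth.Agent.Lib.Helper16.CI
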