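import Mathlib
import Groth.Agent.Lib.Helper21.FlatDescJ
import Groth.Agent.Lib.Helper15.RelPC18
import Groth.Agent.Lib.Helper16.PCNoeth
import Groth.Agent.Lib.Helper16.FlatBC2
import Groth.Agent.Lib.Helper16.NilPC

/-!
# Helper16 — RelFlatPC: a module finitely presented over `R[x_1, …, x_n]` and flat over `R` is
pseudo-coherent over `R[x_1, …, x_n]`.
-/

open CategoryTheory CategoryTheory.Limits DerivedCategory TensorProduct

namespace Groth.Agent.Lib.Helper16.RelFlatPC

open Groth.Agent.Lib.Helper16.PC Groth.Agent.Lib.Helper21.FlatDesc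
  Groth.Agent.Lib.Helper16.FlatBC

universe u

attribute [local instance] HasDerivedCategory.standard
attribute [local instance] MvPolynomial.algebraMvPolynomial

section Aux

variable (Z₀ A' R : Type u) [CommRing Z₀] [CommRing A'] [CommRing R] [Algebra Z₀ A'] [Algebra Z₀ R]
  [Algebra A' R] [IsScalarTower Z₀ A' R] [IsNoetherianRing A'] (n : ℕ)
  (M₀ : Type u) [AddCommGroup M₀] [Module (MvPolynomial (Fin n) Z₀) M₀]
  [Module.Finite (MvPolynomial (Fin n) Z₀) M₀]

set_option synthInstance.maxHeartbeats 200000 in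
set_option maxHeartbeats 1000000 in
theorem pc'_St_of_flat_stage (hflat : Module.Flat A' (St Z₀ n M₀ A')) :
    DRing.IsPseudoCoherent' (MvPolynomial (Fin n) R)
      (Dual.inD (MvPolynomial (Fin n) R) (St Z₀ n M₀ R)) := by
  haveI : IsNoetherianRing (MvPolynomial (Fin n) A') := inferInstance
  haveI : Module.Finite (MvPolynomial (Fin n) A') (St Z₀ n M₀ A') :=
    Module.Finite.base_change _ _ _
  have hpc : DRing.IsPseudoCoherent' (MvPolynomial (Fin n) A')
      ((singleFunctor (ModuleCat.{u} (MvPolynomial (Fin n) A')) 0).obj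
        (ModuleCat.of _ (St Z₀ n M₀ A'))) :=
    pc'_of_pc (fun k => pc_single_of_finite _ inferInstance k)
  let eq1 : St Z₀ n M₀ A' ≃ₗ[A']
      ((ModuleCat.restrictScalars.{u} (algebraMap A' (MvPolynomial (Fin n) A'))).obj
        (ModuleCat.of _ (St Z₀ n M₀ A'))) :=
    { toFun := fun x => x
      invFun := fun x => x
      left_inv := fun _ => rfl
      right_inv := fun _ => rfl
      map_add' := fun _ _ => rfl
      map_smul' := fun a x => (algebraMap_smul (MvPolynomial (Fin n) A') a x).symm }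
  have hfl : Module.Flat A' ((ModuleCat.restrictScalars.{u}
      (algebraMap A' (MvPolynomial (Fin n) A'))).obj
        (ModuleCat.of _ (St Z₀ n M₀ A'))) := Module.Flat.of_linearEquiv eq1.symm
  have h1 := Groth.Agent.Lib.Helper15.RelPC18.pc'_ext_of_relFlat A' R
    (P₀ := MvPolynomial (Fin n) A') (P := MvPolynomial (Fin n) R)
    (ModuleCat.of _ (St Z₀ n M₀ A')) hfl hpc
  let e₁ : MvPolynomial (Fin n) R ⊗[MvPolynomial (Fin n) A'] (St Z₀ n M₀ A')
      ≃ₗ[MvPolynomial (Fin n) R] St Z₀ n M₀ R :=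
    AlgebraTensorModule.cancelBaseChange (MvPolynomial (Fin n) Z₀) (MvPolynomial (Fin n) A')
      (MvPolynomial (Fin n) R) (MvPolynomial (Fin n) R) M₀
  refine Groth.Agent.Lib.Helper16.KPR.pc'_of_iso h1 ?_
  exact (singleFunctor (ModuleCat.{u} (MvPolynomial (Fin n) R)) 0).mapIso
    ((extIso (A := MvPolynomial (Fin n) A') (B := MvPolynomial (Fin n) R)
      (St Z₀ n M₀ A')).symm ≪≫ e₁.toModuleIso)

end Aux

section Main

variable (R : Type u) [CommRing R] (n : ℕ) (M : Type u) [AddCommGroup M]
  [Module (MvPolynomial (Fin n) R) M] [Module R M] [IsScalarTower R (MvPolynomial (Fin n) R) M]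
  [Module.FinitePresentation (MvPolynomial (Fin n) R) M] [Module.Flat R M]

set_option synthInstance.maxHeartbeats 200000 in
set_option maxHeartbeats 1000000 in
/-- A module finitely presented over `R[x_1, …, x_n]` and flat over `R` is pseudo-coherent over
`R[x_1, …, x_n]` (no Noetherian hypothesis). -/
theorem pc'_of_finitePresentation_of_flat :
    DRing.IsPseudoCoherent' (MvPolynomial (Fin n) R) (Dual.inD (MvPolynomial (Fin n) R) M) := by
  obtain ⟨Z₀, m, b, v', hfg, -, ⟨e⟩⟩ := exists_fg_model_pol R n M ∅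
  haveI := noetherian_of_fg_int Z₀ hfg
  haveI : Module.Flat R (R ⊗[R] M) := Module.Flat.of_linearEquiv (TensorProduct.lid R M)
  haveI : Module.Flat R (St Z₀ n (PresMod v') R) :=
    Module.Flat.of_linearEquiv (stEquiv M (PresMod v') e R).symm
  obtain ⟨A', hA'fg, hA'flat⟩ := exists_fg_flat_St (R₀ := Z₀) (n := n) (PresMod v') R
  haveI : Algebra.FiniteType Z₀ A' := (Subalgebra.fg_iff_finiteType A').1 hA'fg
  haveI : IsNoetherianRing A' := Algebra.FiniteType.isNoetherianRing Z₀ A'
  haveI : Module.Finite (MvPolynomial (Fin n) Z₀) (PresMod v') := inferInstance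
  have h1 := pc'_St_of_flat_stage Z₀ A' R n (PresMod v') hA'flat
  exact Groth.Agent.Lib.Helper16.KPR.pc'_of_iso h1
    ((singleFunctor (ModuleCat.{u} (MvPolynomial (Fin n) R)) 0).mapIso e.toModuleIso)

end Main

end Groth.Agent.Lib.Helper16.RelFlatPC
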