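import Mathlib
import Groth.Prelude.Def_CxOX
import Groth.Prelude.Def_DerSch2
import Groth.Prelude.Def_CohB1
import Groth.Agent.Lib.Helper16.CI23
import Groth.Agent.Lib.Helper16.RelFlatPC
import Groth.Agent.Lib.Helper28.QCohConv
import Groth.Agent.Lib.Helper29.FPDict
import Groth.Agent.S6518
import Groth.Agent.S7021
import Groth.Agent.S9353

/-!
# Helper16 — CI24: a module which is `(-1)`-pseudo-coherent relative to `f` (chart form) is
quasi-coherent; if it is moreover flat over the base, it is pseudo-coherent relative to `f`.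
-/

set_option autoImplicit false
set_option linter.style.haveILetI false
universe u
open CategoryTheory CategoryTheory.Limits AlgebraicGeometry CategoryTheory.Pretriangulated
  TopologicalSpace Opposite

attribute [local instance] HasDerivedCategory.standard

namespace Groth.Agent.Lib.Helper16.CI

open Groth.Agent.Lib.Helper16.RS DerivedCategory Groth.Agent.Lib.Helper1.LocPC
  Groth.Agent.Lib.Helper16.PC Groth.Agent.Lib.Helper16.CIPC Groth.Agent.Lib.Helper16.AffRed
  Groth.Agent.Lib.Helper16.RelPC Scheme.Modules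

section Ring

/-- ring level: a module flat over the base which is `(-1)`-pseudo-coherent relative to the base
is pseudo-coherent relative to the base. -/
theorem isRelPseudoCoherentModule_of_flat {R A : Type u} [CommRing R] [CommRing A]
    [Algebra R A] {n : ℕ} (α : MvPolynomial (Fin n) R →ₐ[R] A)
    (hα : Function.Surjective α) (M : Type u) [AddCommGroup M] [Module A M] [Module R M]
    [IsScalarTower R A M] [Module.Flat R M]
    (h : DerCA.IsRelPseudoCoherentModule R A (-1) M) (m : ℤ) :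
    DerCA.IsRelPseudoCoherentModule R A m M := by
  haveI : Algebra.FiniteType R A := Algebra.FiniteType.of_surjective α hα
  let φ : MvPolynomial (Fin n) R →+* A := α.toRingHom
  letI : Module (MvPolynomial (Fin n) R) M := Module.compHom M φ
  have hfp : Module.FinitePresentation (MvPolynomial (Fin n) R) M :=
    ((Groth.Agent.S7021.result α hα M).2).1 h
  haveI : IsScalarTower R (MvPolynomial (Fin n) R) M := by
    refine IsScalarTower.of_algebraMap_smul (fun r x => ?_)
    change α (algebraMap R _ r) • x = r • x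
    rw [α.commutes, algebraMap_smul]
  have hpc := Groth.Agent.Lib.Helper16.RelFlatPC.pc'_of_finitePresentation_of_flat R n M
  have hiso : (DRing.restrictD φ).obj (Dual.inD A M) ≅ Dual.inD (MvPolynomial (Fin n) R) M :=
    ((ModuleCat.restrictScalars.{u} φ).mapDerivedCategorySingleFunctor 0).app (ModuleCat.of A M)
  unfold DerCA.IsRelPseudoCoherentModule
  rw [rel_iff_via α hα]
  exact pc_of_iso (pc_of_pc' hpc m) hiso.symm

end Ring

section Loc

variable {R S : CommRingCat.{u}} (φ : R ⟶ S)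

set_option maxHeartbeats 800000 in
open scoped ModuleCat.Algebra in
/-- the localization property descends along the closed immersion attached to a surjection. -/
theorem isLocalizing_of_isLocalizing_pushforward {M : (Spec S).Modules}
    (hφ : Function.Surjective φ.hom)
    (h : IsLocalizing (modulesSpecToSheaf.obj ((Scheme.Modules.pushforward (Spec.map φ)).obj M))) :
    IsLocalizing (modulesSpecToSheaf.obj M) := by
  rw [← Functor.comp_obj,
    isLocalizing_iff_of_iso ((pushforwardCompModulesSpecToSheafIso φ).app M)] at h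
  have : CommRing ((Spec S).ringCatSheaf.obj.obj ((Opens.map (Spec.map φ).base).op.obj (op ⊤))) :=
    inferInstanceAs (CommRing Γ(Spec S, ⊤))
  algebraize [φ.hom]
  intro f
  obtain ⟨g, rfl⟩ := hφ f
  have hg := h g
  haveI : IsLocalizedModule (Submonoid.powers g)
      ((ModuleCat.Hom.hom ((modulesSpecToSheaf.obj M).obj.map
        (PrimeSpectrum.basicOpen ((CommRingCat.Hom.hom φ) g)).leTop.op)).restrictScalars R) := hg
  have h2 : IsLocalizedModule (Algebra.algebraMapSubmonoid S (Submonoid.powers g))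
      (ModuleCat.Hom.hom ((modulesSpecToSheaf.obj M).obj.map
        (PrimeSpectrum.basicOpen ((CommRingCat.Hom.hom φ) g)).leTop.op)) :=
    IsLocalizedModule.of_restrictScalars (Submonoid.powers g) _
  have h3 : Algebra.algebraMapSubmonoid S (Submonoid.powers g) = Submonoid.powers (φ.hom g) :=
    Algebra.algebraMapSubmonoid_powers _
  rw [h3] at h2
  exact h2

end Loc

variable {X Y : Scheme.{u}}

theorem isLocalizing_of_isFP {R : CommRingCat.{u}} (N : (Spec R).Modules) (h : CohB1.IsFP N) :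
    IsLocalizing (modulesSpecToSheaf.obj N) := by
  haveI : SheafOfModules.IsFinitePresentation.{u} (R := (Spec R).ringCatSheaf) N := h
  have hq : N.IsQuasicoherent :=
    Groth.Agent.Lib.Helper29.FPDict.isQuasicoherent_of_isFinitePresentation _
  exact (isIso_fromTildeΓ_iff_isLocalizing _).1 ((isQuasicoherent_iff_isIso_fromTildeΓ _).1 hq)

/-- the chart test at level `-1` for a module gives the localization property on the chart. -/
theorem isLocalizing_restrict_of_chartPC (M : X.Modules) {U : X.Opens} (hU : IsAffineOpen U)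
    (V : Y.Opens) {n : ℕ} (φ : MvPolynomial (Fin n) Γ(Y, V) →+* Γ(X, U))
    (hφ : Function.Surjective φ) (h : DerSch.ChartPC (-1) (DCoh.inD X M) U V φ) :
    IsLocalizing (modulesSpecToSheaf.obj (M.restrict hU.fromSpec)) := by
  haveI : IsClosedImmersion (sp φ) := isClosedImmersion_sp φ hφ
  rw [chartPC_iff_PD (-1) _ hU V φ hφ] at h
  have e : (PD (sp φ)).obj (KU hU (DCoh.inD X M)) ≅
      DCoh.inD _ ((Scheme.Modules.pushforward (sp φ)).obj (M.restrict hU.fromSpec)) :=
    (PD (sp φ)).mapIso (RDinDIso hU.fromSpec M) ≪≫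
      ((Scheme.Modules.pushforward (sp φ)).mapDerivedCategorySingleFunctor 0).app _
  have h2 := isPseudoCoherentD_of_iso e h
  have h3 : CohB1.IsFP ((Scheme.Modules.pushforward (sp φ)).obj (M.restrict hU.fromSpec)) :=
    ((Groth.Agent.S6518.result _).2).1 h2
  have h5 := isLocalizing_of_isFP (R := CommRingCat.of (MvPolynomial (Fin n) Γ(Y, V))) _ h3
  exact isLocalizing_of_isLocalizing_pushforward (R := CommRingCat.of (MvPolynomial (Fin n) Γ(Y, V)))
    (S := Γ(X, U)) (CommRingCat.ofHom φ) hφ h5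

/-- a module which is `(-1)`-pseudo-coherent relative to `f` (chart form) is quasi-coherent. -/
theorem isQuasicoherent_of_isPseudoCoherentRel (f : X ⟶ Y) (M : X.Modules)
    (h : DerSch.IsPseudoCoherentRel f (-1) (DCoh.inD X M)) : M.IsQuasicoherent := by
  obtain ⟨_, 𝒱, hcov, H⟩ := h
  let ι := {U : X.affineOpens // ∃ (V : Y.Opens) (n : ℕ)
    (φ : MvPolynomial (Fin n) Γ(Y, V) →+* Γ(X, (U : X.Opens))),
      Function.Surjective φ ∧ DerSch.ChartPC (-1) (DCoh.inD X M) (U : X.Opens) V φ}
  refine Groth.Agent.Lib.Helper28.QCohLoc.isQuasicoherent_of_isLocalizing M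
    (fun i : ι => (i.1 : X.Opens)) ?_ (fun i => i.1.2) (fun i => ?_)
  · refine TopologicalSpace.IsOpenCover.mk (top_unique (fun x _ => ?_))
    have hx : f.base x ∈ (⨆ V ∈ 𝒱, (V : Y.Opens)) := by rw [hcov]; trivial
    simp only [Opens.mem_iSup] at hx
    obtain ⟨V, hV, hxV⟩ := hx
    obtain ⟨𝒰, h𝒰, H2⟩ := H V hV
    have hx2 : x ∈ (⨆ U ∈ 𝒰, (U : X.Opens)) := by rw [h𝒰]; exact hxV
    simp only [Opens.mem_iSup] at hx2
    obtain ⟨U, hU, hxU⟩ := hx2
    have hle : (U : X.Opens) ≤ f ⁻¹ᵁ (V : Y.Opens) := by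
      rw [← h𝒰]; exact le_iSup₂ (f := fun (U : X.affineOpens) (_ : U ∈ 𝒰) => (U : X.Opens)) U hU
    obtain ⟨n, φ, hφ, hc⟩ := H2 U hU hle
    exact Opens.mem_iSup.2 ⟨⟨U, V, n, φ, hφ.1, hc⟩, hxU⟩
  · obtain ⟨V, n, φ, hφ, hc⟩ := i.2
    exact isLocalizing_restrict_of_chartPC M i.1.2 V φ hφ hc

open Groth.Agent.Lib.Helper29.FPDict in
/-- a quasi-coherent module placed in degree `0`, on an affine chart. -/
theorem nonempty_tildeD_inD_iso (M : X.Modules) [M.IsQuasicoherent] {U : X.Opens}
    (hU : IsAffineOpen U) :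
    Nonempty ((DCoh.tildeD (X.presheaf.obj (op U))).obj (Dual.inD Γ(X, U) Γ(M, U)) ≅
      DCoh.toD _ ((DerSch.pushCx hU.isoSpec.hom).obj ((DCoh.restrictCx U).obj
        ((HomologicalComplex.single _ (ComplexShape.up ℤ) 0).obj M)))) := by
  obtain ⟨e1⟩ := nonempty_toD_pushCx_isoSpec_iso hU (DCoh.inD X M)
    ((HomologicalComplex.single _ (ComplexShape.up ℤ) 0).obj M)
    ((singleFunctorIsoCompQ X.Modules 0).app M).symm
  have hloc := Groth.Agent.Lib.Helper28.QCohLoc.isLocalizing_restrict M hU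
  have hI : IsIso (M.restrict hU.fromSpec).fromTildeΓ :=
    (isIso_fromTildeΓ_iff_isLocalizing _).2 hloc
  exact ⟨tildeDSingleIso _ (ModuleCat.of Γ(X, U) Γ(M, U)) ≪≫
    (singleFunctor _ 0).mapIso ((tilde.functor _).mapIso
      (linearEquivFromSpec M hU).symm.toModuleIso ≪≫ @asIso _ _ _ _ (M.restrict hU.fromSpec).fromTildeΓ hI) ≪≫
    (RDinDIso hU.fromSpec M).symm ≪≫ e1.symm⟩

/-- on a chart, a quasi-coherent module flat over the base which passes the chart test at level
`-1` passes it at every level. -/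
theorem chartPC_inD_of_flat (f : X ⟶ Y) (M : X.Modules) [M.IsQuasicoherent]
    (hfl : FlatMod.IsFlatOver f M) {U : X.Opens} (hU : IsAffineOpen U) {V : Y.Opens}
    (hV : IsAffineOpen V) (hUV : U ≤ f ⁻¹ᵁ V) {n : ℕ}
    (φ : MvPolynomial (Fin n) Γ(Y, V) →+* Γ(X, U)) (hφ : DerSch.IsChart f U V hUV φ)
    (h : DerSch.ChartPC (-1) (DCoh.inD X M) U V φ) (m : ℤ) :
    DerSch.ChartPC m (DCoh.inD X M) U V φ := by
  obtain ⟨eM⟩ := nonempty_tildeD_inD_iso M hU
  rw [chartPC_iff_isRelPseudoCoherent f _ _ hU hUV φ hφ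
    ((HomologicalComplex.single _ (ComplexShape.up ℤ) 0).obj M)
    ((singleFunctorIsoCompQ X.Modules 0).app M).symm _ eM] at h ⊢
  letI := (f.appLE V U hUV).hom.toAlgebra
  letI : Module Γ(Y, V) Γ(M, U) := Module.compHom _ (f.appLE V U hUV).hom
  haveI : IsScalarTower Γ(Y, V) Γ(X, U) Γ(M, U) :=
    IsScalarTower.of_algebraMap_smul (fun r x => rfl)
  haveI : Module.Flat Γ(Y, V) Γ(M, U) :=
    (Groth.Agent.S9353.result f M inferInstance).1 hfl U V hUV hU hV
  let α : MvPolynomial (Fin n) Γ(Y, V) →ₐ[Γ(Y, V)] Γ(X, U) :=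
    { φ with commutes' := fun r => congrArg (fun g => g r) hφ.2 }
  exact isRelPseudoCoherentModule_of_flat α hφ.1 Γ(M, U) h m

/-- **core lemma**: a module flat over the base and `(-1)`-pseudo-coherent relative to `f` is
pseudo-coherent relative to `f`. -/
theorem isPseudoCoherentRel_inD_of_flat (f : X ⟶ Y) (M : X.Modules)
    (hfl : FlatMod.IsFlatOver f M) (h : DerSch.IsPseudoCoherentRel f (-1) (DCoh.inD X M)) (m : ℤ) :
    DerSch.IsPseudoCoherentRel f m (DCoh.inD X M) := by
  haveI := isQuasicoherent_of_isPseudoCoherentRel f M h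
  obtain ⟨hft, 𝒱, hcov, H⟩ := h
  refine ⟨hft, 𝒱, hcov, fun V hV => ?_⟩
  obtain ⟨𝒰, h𝒰, H2⟩ := H V hV
  refine ⟨𝒰, h𝒰, fun U hU hle => ?_⟩
  obtain ⟨n, φ, hφ, hc⟩ := H2 U hU hle
  exact ⟨n, φ, hφ, chartPC_inD_of_flat f M hfl U.2 V.2 hle φ hφ hc m⟩

end Groth.Agent.Lib.Helper16.CI
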