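import Mathlib
import Groth.Prelude.Def_CxOX
import Groth.Prelude.Def_DerSch2
import Groth.Prelude.Def_CohB1
import Groth.Agent.Lib.Helper16.CI24
import Groth.Agent.S6935

/-!
# Helper16 — CI25: relative pseudo-coherence of a module at level `0` is finite type.
-/

set_option autoImplicit false
set_option linter.style.haveILetI false
universe u
open CategoryTheory CategoryTheory.Limits AlgebraicGeometry CategoryTheory.Pretriangulated
  TopologicalSpace Opposite

attribute [local instance] HasDerivedCategory.standard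

namespace Groth.Agent.Lib.Helper16.CI

open Groth.Agent.Lib.Helper16.RS DerivedCategory Groth.Agent.Lib.Helper1.LocPC
  Groth.Agent.Lib.Helper16.PC Groth.Agent.Lib.Helper16.CIPC Groth.Agent.Lib.Helper16.AffRed
  Groth.Agent.Lib.Helper16.RelPC Scheme.Modules

section Ring

variable {A B : Type u} [CommRing A] [CommRing B]

/-- a surjective ring map makes the target `0`-pseudo-coherent over the source. -/
theorem pcHomLev_zero_of_surjective (q : A →+* B) (hq : Function.Surjective q) :
    PCHomLev 0 q := by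
  letI : Module A B := Module.compHom B q
  have hiso : (DRing.restrictD q).obj (Dual.inD B B) ≅ Dual.inD A B :=
    ((ModuleCat.restrictScalars.{u} q).mapDerivedCategorySingleFunctor 0).app (ModuleCat.of B B)
  have hfin : Module.Finite A B := by
    letI : Algebra A B := q.toAlgebra
    exact Module.Finite.of_surjective (Algebra.linearMap A B) hq
  exact pc_of_iso ((Groth.Agent.S6935.result A B).1.2 hfin) hiso.symm

end Ring

section CI

variable {Z X : Scheme.{u}} (i : Z ⟶ X) [IsClosedImmersion i]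

/-- for `E ∈ D^{≤ 0}` and `i_* O_Z` of finite type, `E` is `0`-pseudo-coherent iff `i_* E` is. -/
theorem isPseudoCoherentD_PD_iff_zero (hO : HOs i 0) (E : DCoh.D Z) (hE : E.IsLE 0) :
    DCoh.IsPseudoCoherentD 0 E ↔ DCoh.IsPseudoCoherentD 0 ((PD i).obj E) := by
  rw [isPseudoCoherentD_PD_iff_forall, isPseudoCoherentD_iff]
  constructor
  · intro h z
    exact pcAt_PD_of_pcAt_lev i hO E 0 0 hE (by omega) z (h z)
  · intro h z
    exact pcAt_of_pcAt_PD_lev i hO E 0 0 hE (by omega) z (h z)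

end CI

variable {X Y : Scheme.{u}}

/-- the chart test at level `0` for a module is absolute `0`-pseudo-coherence on the chart. -/
theorem chartPC_zero_inD_iff (M : X.Modules) {U : X.Opens} (hU : IsAffineOpen U)
    (V : Y.Opens) {n : ℕ} (φ : MvPolynomial (Fin n) Γ(Y, V) →+* Γ(X, U))
    (hφ : Function.Surjective φ) :
    DerSch.ChartPC 0 (DCoh.inD X M) U V φ ↔
      DCoh.IsPseudoCoherentD 0 (KU hU (DCoh.inD X M)) := by
  haveI : IsClosedImmersion (sp φ) := isClosedImmersion_sp φ hφ
  rw [chartPC_iff_PD 0 _ hU V φ hφ]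
  have hO : HOs (sp φ) 0 := hOs_Spec_of_pcHomLev φ (pcHomLev_zero_of_surjective φ hφ)
  have hE : (KU hU (DCoh.inD X M)).IsLE 0 := map_isLE _ _ 0 inferInstance
  exact (isPseudoCoherentD_PD_iff_zero (sp φ) hO _ hE).symm

/-- a module is `0`-pseudo-coherent relative to `f` iff it is `0`-pseudo-coherent. -/
theorem isPseudoCoherentRel_zero_inD_iff (f : X ⟶ Y) [LocallyOfFiniteType f] (M : X.Modules) :
    DerSch.IsPseudoCoherentRel f 0 (DCoh.inD X M) ↔
      DCoh.IsPseudoCoherentD 0 (DCoh.inD X M) := by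
  constructor
  · rintro ⟨_, 𝒱, hcov, H⟩
    rw [isPseudoCoherentD_iff]
    intro x
    have hx : f.base x ∈ (⨆ V ∈ 𝒱, (V : Y.Opens)) := by rw [hcov]; trivial
    simp only [Opens.mem_iSup] at hx
    obtain ⟨V, hV, hxV⟩ := hx
    obtain ⟨𝒰, h𝒰, H2⟩ := H V hV
    have hx2 : x ∈ (⨆ U ∈ 𝒰, (U : X.Opens)) := by rw [h𝒰]; exact hxV
    simp only [Opens.mem_iSup] at hx2
    obtain ⟨U, hU, hxU⟩ := hx2
    have hle : (U : X.Opens) ≤ f ⁻¹ᵁ (V : Y.Opens) := by
      rw [← h𝒰]; exact le_iSup₂ (f := fun (U : X.affineOpens) (_ : U ∈ 𝒰) => (U : X.Opens)) U hU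
    obtain ⟨n, φ, hφ, hc⟩ := H2 U hU hle
    have hUa : IsAffineOpen (U : X.Opens) := U.2
    have h1 := (chartPC_zero_inD_iff M hUa (V : Y.Opens) φ hφ.1).1 hc
    rw [isPseudoCoherentD_iff] at h1
    have hxr : x ∈ Set.range hUa.fromSpec := by
      rw [hUa.range_fromSpec]; exact hxU
    obtain ⟨z, rfl⟩ := hxr
    exact PCAt.of_restrict hUa.fromSpec z (h1 z)
  · intro h
    rw [isPseudoCoherentRel_iff_forall]
    intro U hU V hV hUV n φ hφ
    exact (chartPC_zero_inD_iff M hU V φ hφ.1).2 (isPseudoCoherentD_RD hU.fromSpec 0 _ h)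

/-- the chart test at level `-1` for a quasi-coherent module is finite presentation of the module
of sections over the polynomial ring. -/
theorem chartPC_negOne_inD_iff (f : X ⟶ Y) (M : X.Modules) [M.IsQuasicoherent] {U : X.Opens}
    (hU : IsAffineOpen U) {V : Y.Opens} (hUV : U ≤ f ⁻¹ᵁ V) {n : ℕ}
    (φ : MvPolynomial (Fin n) Γ(Y, V) →+* Γ(X, U)) (hφ : DerSch.IsChart f U V hUV φ) :
    DerSch.ChartPC (-1) (DCoh.inD X M) U V φ ↔
      @Module.FinitePresentation (MvPolynomial (Fin n) Γ(Y, V)) Γ(M, U) _ _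
        (Module.compHom Γ(M, U) φ) := by
  obtain ⟨eM⟩ := nonempty_tildeD_inD_iso M hU
  rw [chartPC_iff_isRelPseudoCoherent f _ _ hU hUV φ hφ
    ((HomologicalComplex.single _ (ComplexShape.up ℤ) 0).obj M)
    ((singleFunctorIsoCompQ X.Modules 0).app M).symm _ eM]
  letI := (f.appLE V U hUV).hom.toAlgebra
  let α : MvPolynomial (Fin n) Γ(Y, V) →ₐ[Γ(Y, V)] Γ(X, U) :=
    { φ with commutes' := fun r => congrArg (fun g => g r) hφ.2 }
  haveI : Algebra.FiniteType Γ(Y, V) Γ(X, U) := Algebra.FiniteType.of_surjective α hφ.1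
  exact (Groth.Agent.S7021.result α hφ.1 Γ(M, U)).2

end Groth.Agent.Lib.Helper16.CI
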