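import Mathlib
import Groth.Prelude.Def_CxOX
import Groth.Prelude.Def_DerSch2
import Groth.Prelude.Def_RegImm
import Groth.Agent.Lib.Helper16.CI25
import Groth.Agent.Lib.Helper16.AffRed10
import Groth.Agent.Lib.Helper15.RelPC15
import Groth.Agent.S1105

/-!
# Helper16 — CI26: the direct image of the structure sheaf along a Koszul-regular closed
immersion is perfect.
-/

set_option autoImplicit false
set_option linter.style.haveILetI false
universe u
open CategoryTheory CategoryTheory.Limits AlgebraicGeometry CategoryTheory.Pretriangulated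
  TopologicalSpace Opposite

attribute [local instance] HasDerivedCategory.standard

namespace Groth.Agent.Lib.Helper16.CI

open Groth.Agent.Lib.Helper16.RS DerivedCategory Groth.Agent.Lib.Helper1.LocPC
  Groth.Agent.Lib.Helper16.PC Groth.Agent.Lib.Helper16.CIPC Groth.Agent.Lib.Helper16.AffRed
  Groth.Agent.Lib.Helper16.RelPC Scheme.Modules

section Ring

variable {A B : Type u} [CommRing A] [CommRing B]

open Groth.Agent.Lib.Helper15.RelPC15 Groth.Agent.Lib.Helper2.KosTor2 Groth.Agent.Lib.Helper2.KosChi2 in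
theorem isPerfect_inD_quotient_of_koszulRegular (l : List A) (hl : LCI.IsKoszulRegularSeq A l) :
    DRing.IsPerfect A (Dual.inD A (A ⧸ Ideal.ofList l)) := by
  obtain ⟨e⟩ := nonempty_toD_koszul_iso l hl
  refine ⟨Koszul.koszul A l, -(l.length : ℤ), 0, fun i hi => ?_,
    fun i => ⟨finite_koszul l i, projective_koszul l i⟩, ⟨e⟩⟩
  rcases hi with hi | hi
  · exact isZero_koszul_X_lt l i hi
  · exact isZero_koszul_X l i hi

/-- a surjection with kernel generated by a Koszul-regular sequence makes the target a perfect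
module. -/
theorem isPerfect_restrictD_of_koszulRegular (φ : A →+* B) (hφ : Function.Surjective φ)
    (l : List A) (hl : LCI.IsKoszulRegularSeq A l) (hker : RingHom.ker φ = Ideal.ofList l) :
    DRing.IsPerfect A ((DRing.restrictD φ).obj (Dual.inD B B)) := by
  letI : Module A B := Module.compHom B φ
  have hiso : (DRing.restrictD φ).obj (Dual.inD B B) ≅ Dual.inD A B :=
    ((ModuleCat.restrictScalars.{u} φ).mapDerivedCategorySingleFunctor 0).app (ModuleCat.of B B)
  let ℓ : A →ₗ[A] B :=
    { toFun := fun a => φ a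
      map_add' := fun a b => map_add φ a b
      map_smul' := fun a b => by
        change φ (a * b) = φ a * φ b
        exact map_mul φ a b }
  have hℓ : Function.Surjective ℓ := hφ
  have hk : LinearMap.ker ℓ = Ideal.ofList l := by
    rw [← hker]
    ext a
    rfl
  let e1 : (A ⧸ Ideal.ofList l) ≃ₗ[A] B :=
    (Submodule.quotEquivOfEq _ _ hk.symm).trans (ℓ.quotKerEquivOfSurjective hℓ)
  obtain ⟨E, a, b, h1, h2, ⟨e⟩⟩ := isPerfect_inD_quotient_of_koszulRegular l hl
  exact ⟨E, a, b, h1, h2,
    ⟨e ≪≫ (singleFunctor (ModuleCat.{u} A) 0).mapIso e1.toModuleIso ≪≫ hiso.symm⟩⟩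

end Ring

section Spec

variable {A B : Type u} [CommRing A] [CommRing B] (φ : A →+* B)

/-- `Spec` of a ring map making the target a perfect module has perfect direct image of the
structure sheaf. -/
theorem isPerfect_inD_pushforward_Spec
    (h : DRing.IsPerfect A ((DRing.restrictD φ).obj (Dual.inD B B))) :
    DCoh.IsPerfect (DCoh.inD (Spec (CommRingCat.of A))
      ((Scheme.Modules.pushforward (Spec.map (CommRingCat.ofHom φ))).obj
        (Coh.structureModule (Spec (CommRingCat.of B))))) := by
  have h1 := (Groth.Agent.S1105.result A _).2 h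
  refine isPerfect_of_iso ?_ h1
  exact (DCoh.tildeD (CommRingCat.of A)).mapIso
      (((ModuleCat.restrictScalars.{u} φ).mapDerivedCategorySingleFunctor 0).app
        (ModuleCat.of B B)) ≪≫
    tildeDSingleIso (CommRingCat.of A) _ ≪≫
    (DerivedCategory.singleFunctor _ 0).mapIso
      ((pushTildeIso (CommRingCat.ofHom φ) (ModuleCat.of B B)).symm ≪≫
        (Scheme.Modules.pushforward (Spec.map (CommRingCat.ofHom φ))).mapIso
          (tildeSelf (R := CommRingCat.of B)))

end Spec

section Zero

open ZeroObject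

variable {X : Scheme.{u}}

theorem isPerfect_of_isZero (K : DCoh.D X) (hK : IsZero K) : DCoh.IsPerfect K := by
  obtain ⟨F₀, ⟨e₀⟩⟩ := exists_rep K
  rw [isPerfect_iff_isOn K F₀ e₀]
  intro x
  refine ⟨⊤, trivial, 0, Groth.Agent.Lib.Helper1.LocPC.isStrictlyPerfect_zero, ?_⟩
  have hz : IsZero ((RD (⊤ : X.Opens).ι).obj K) := (RD (⊤ : X.Opens).ι).map_isZero hK
  have hz' : IsZero (DerivedCategory.Q.obj ((RCx (⊤ : X.Opens).ι).obj F₀)) :=
    hz.of_iso ((RDQIso (⊤ : X.Opens).ι F₀).symm ≪≫ (RD (⊤ : X.Opens).ι).mapIso e₀)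
  exact ⟨hz'.iso (DerivedCategory.Q.map_isZero (isZero_zero _))⟩

end Zero

section Main

variable {Z X : Scheme.{u}} (i : Z ⟶ X) [IsClosedImmersion i]

/-- the direct image of the structure sheaf along a Koszul-regular closed immersion is perfect. -/
theorem isPerfect_inD_pushforward_unit_of_koszul
    (hi : RegImm.IsRegularImmersion RegImm.Kind.koszul i) :
    DCoh.IsPerfect (DCoh.inD X ((Scheme.Modules.pushforward i).obj (Coh.structureModule Z))) := by
  refine isPerfect_of_cover _ (fun x => ?_)
  by_cases hx : ∃ z : Z, i z = x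
  · obtain ⟨z, rfl⟩ := hx
    obtain ⟨W, hzW, -, rs, hrs, hker⟩ := hi.2 z
    have hW : IsAffineOpen W.1 := W.2
    have hU : IsAffineOpen (i ⁻¹ᵁ W.1) := hW.preimage i
    refine ⟨Spec Γ(X, W.1), hW.fromSpec, inferInstance, ?_, ?_⟩
    · rw [hW.range_fromSpec]; exact hzW
    · haveI : IsClosedImmersion (Spec.map (i.app W.1)) :=
        IsClosedImmersion.spec_of_surjective _ (i.app_surjective W.1 hW)
      have hsq : Spec.map (i.app W.1) ≫ hW.fromSpec = hU.fromSpec ≫ i := by
        have := IsAffineOpen.SpecMap_appLE_fromSpec i hW hU le_rfl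
        rwa [← Scheme.Hom.app_eq_appLE] at this
      have hc : hU.fromSpec.opensRange = i ⁻¹ᵁ hW.fromSpec.opensRange := by
        rw [hU.opensRange_fromSpec, hW.opensRange_fromSpec]
      obtain ⟨e1⟩ := nonempty_RD_PD_iso_of_cartesian i hW.fromSpec hU.fromSpec
        (Spec.map (i.app W.1)) hsq hc (DCoh.inD Z (Coh.structureModule Z))
      have hperf := isPerfect_inD_pushforward_Spec (i.app W.1).hom
        (isPerfect_restrictD_of_koszulRegular _ (i.app_surjective W.1 hW) rs hrs hker)
      refine isPerfect_of_iso ?_ hperf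
      exact (((Scheme.Modules.pushforward (Spec.map (i.app W.1))).mapDerivedCategorySingleFunctor
          0).app _).symm ≪≫
        (PD (Spec.map (i.app W.1))).mapIso ((singleFunctor _ 0).mapIso
          (Scheme.Modules.restrictUnitIso hU.fromSpec).symm ≪≫
            (RDinDIso hU.fromSpec _).symm) ≪≫ e1.symm ≪≫
        (RD hW.fromSpec).mapIso
          (((Scheme.Modules.pushforward i).mapDerivedCategorySingleFunctor 0).app _)
  · let W : X.Opens :=
      ⟨(Set.range (i : Z → X))ᶜ, i.isClosedEmbedding.isClosed_range.isOpen_compl⟩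
    have hxW : x ∈ W := fun ⟨z, hz⟩ => hx ⟨z, hz⟩
    refine ⟨W, W.ι, inferInstance, ?_, ?_⟩
    · rw [Scheme.Opens.range_ι]; exact hxW
    · refine isPerfect_of_isZero _ ?_
      have h0 := isZero_restrict_pushforward_compl i (Coh.structureModule Z) W
        (fun z hz => hz ⟨z, rfl⟩)
      exact ((singleFunctor _ 0).map_isZero h0).of_iso (RDinDIso W.ι _)

end Main

end Groth.Agent.Lib.Helper16.CI
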