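import Groth.Prelude.Def_DualSh
import Groth.Agent.Lib.Helper16.DRE2
import Groth.Agent.Lib.Helper16.TorAmp9
import Groth.Agent.Lib.Helper16.PC7e
import Groth.Agent.Lib.Helper16.NilPC
import Groth.Agent.S7017
import Groth.Agent.S7018

/-!
# Helper16 — RelPerf1: closure properties of relatively perfect objects
-/

set_option autoImplicit false
universe u
open CategoryTheory CategoryTheory.Limits CategoryTheory.Pretriangulated

attribute [local instance] HasDerivedCategory.standard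

namespace Groth.Agent.Lib.Helper16.RelPerf

open Groth.Agent.Lib.Helper16.TorAmp Groth.Agent.Lib.Helper16.PC

section Abs

variable {R : Type u} [CommRing R]

lemma pc'_of_isZero (X : Dual.D R) (hX : IsZero X) : DRing.IsPseudoCoherent' R X :=
  pc'_of_pc (fun m => pc_of_isLE X m (m - 1)
    (DerivedCategory.TStructure.t.isLE_of_isZero hX _) (by omega))

lemma pc'_shift (X : Dual.D R) (n : ℤ) (h : DRing.IsPseudoCoherent' R X) :
    DRing.IsPseudoCoherent' R (X⟦n⟧) :=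
  pc'_of_pc (fun m => pc_shift (pc_of_pc' h (m + n)) n m rfl)

lemma pc'_obj₂ (T : Triangle (Dual.D R)) (hT : T ∈ distTriang _)
    (h1 : DRing.IsPseudoCoherent' R T.obj₁) (h3 : DRing.IsPseudoCoherent' R T.obj₃) :
    DRing.IsPseudoCoherent' R T.obj₂ :=
  (Groth.Agent.S7017.result R T hT).2.1 h1 h3

lemma pc'_of_biprod (X Y : Dual.D R) (h : DRing.IsPseudoCoherent' R (X ⊞ Y)) :
    DRing.IsPseudoCoherent' R X ∧ DRing.IsPseudoCoherent' R Y :=
  ⟨pc'_of_pc (fun m => (pc_of_biprod X Y (pc_of_pc' h m)).1),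
    pc'_of_pc (fun m => (pc_of_biprod X Y (pc_of_pc' h m)).2)⟩

/-- finite tor dimension. -/
lemma finTorDim_of_iso {K L : Dual.D R} (e : K ≅ L) (h : DRing.HasFiniteTorDimCx R K) :
    DRing.HasFiniteTorDimCx R L := by
  obtain ⟨a, b, h⟩ := h
  exact ⟨a, b, hasTorAmplitudeIn_of_iso e a b h⟩

lemma finTorDim_of_isZero (X : Dual.D R) (hX : IsZero X) : DRing.HasFiniteTorDimCx R X :=
  ⟨0, 0, torAmp_of_isZero X hX 0 0⟩

lemma finTorDim_shift (X : Dual.D R) (n : ℤ) (h : DRing.HasFiniteTorDimCx R X) :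
    DRing.HasFiniteTorDimCx R (X⟦n⟧) := by
  obtain ⟨a, b, h⟩ := h
  exact ⟨a - n, b - n, torAmp_shift X a b n h⟩

lemma finTorDim_obj₂ (T : Triangle (Dual.D R)) (hT : T ∈ distTriang _)
    (h1 : DRing.HasFiniteTorDimCx R T.obj₁) (h3 : DRing.HasFiniteTorDimCx R T.obj₃) :
    DRing.HasFiniteTorDimCx R T.obj₂ := by
  haveI : ∀ M : ModuleCat.{u} R, DRing.HasLTensor R M := fun M => DRE.hasLTensor M
  obtain ⟨a, b, h1⟩ := h1
  obtain ⟨a', b', h3⟩ := h3
  exact ⟨min a a', max b b', torAmp_obj₂ T hT _ _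
    (torAmp_mono _ a b _ _ (min_le_left _ _) (le_max_left _ _) h1)
    (torAmp_mono _ a' b' _ _ (min_le_right _ _) (le_max_right _ _) h3)⟩

lemma finTorDim_of_biprod (X Y : Dual.D R) (h : DRing.HasFiniteTorDimCx R (X ⊞ Y)) :
    DRing.HasFiniteTorDimCx R X ∧ DRing.HasFiniteTorDimCx R Y := by
  haveI : ∀ M : ModuleCat.{u} R, DRing.HasLTensor R M := fun M => DRE.hasLTensor M
  obtain ⟨a, b, h⟩ := h
  have h' := Groth.Agent.S7018.result R a b X Y h
  exact ⟨⟨a, b, h'.1⟩, ⟨a, b, h'.2⟩⟩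

end Abs

section Rel

variable {R A : Type u} [CommRing R] [CommRing A] [Algebra R A]

lemma relPerfect_of_iso {K L : Dual.D A} (e : K ≅ L) (h : Dual2.IsRelPerfect R A K) :
    Dual2.IsRelPerfect R A L :=
  ⟨Groth.Agent.Lib.Helper16.KPR.pc'_of_iso h.1 e,
    finTorDim_of_iso ((DRing.restrictD (algebraMap R A)).mapIso e) h.2⟩

lemma relPerfect_of_isZero (X : Dual.D A) (hX : IsZero X) : Dual2.IsRelPerfect R A X :=
  ⟨pc'_of_isZero X hX, finTorDim_of_isZero _ ((DRing.restrictD (algebraMap R A)).map_isZero hX)⟩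

lemma relPerfect_shift (X : Dual.D A) (n : ℤ) (h : Dual2.IsRelPerfect R A X) :
    Dual2.IsRelPerfect R A (X⟦n⟧) :=
  ⟨pc'_shift X n h.1, finTorDim_of_iso
    (((DRing.restrictD (algebraMap R A)).commShiftIso n).app X).symm (finTorDim_shift _ n h.2)⟩

lemma relPerfect_obj₂ (T : Triangle (Dual.D A)) (hT : T ∈ distTriang _)
    (h1 : Dual2.IsRelPerfect R A T.obj₁) (h3 : Dual2.IsRelPerfect R A T.obj₃) :
    Dual2.IsRelPerfect R A T.obj₂ :=
  ⟨pc'_obj₂ T hT h1.1 h3.1,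
    finTorDim_obj₂ _ ((DRing.restrictD (algebraMap R A)).map_distinguished T hT) h1.2 h3.2⟩

lemma relPerfect_of_biprod (X Y : Dual.D A) (h : Dual2.IsRelPerfect R A (X ⊞ Y)) :
    Dual2.IsRelPerfect R A X ∧ Dual2.IsRelPerfect R A Y := by
  haveI : PreservesBinaryBiproducts (DRing.restrictD (algebraMap R A)) :=
    preservesBinaryBiproducts_of_preservesBiproducts _
  have h2 := finTorDim_of_biprod _ _
    (finTorDim_of_iso ((DRing.restrictD (algebraMap R A)).mapBiprod X Y) h.2)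
  exact ⟨⟨(pc'_of_biprod X Y h.1).1, h2.1⟩, ⟨(pc'_of_biprod X Y h.1).2, h2.2⟩⟩

end Rel

end Groth.Agent.Lib.Helper16.RelPerf
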