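import Mathlib
import Groth.Agent.S6188
import Groth.Agent.Lib.Helper16.PerfFib1
import Groth.Agent.Lib.Helper16.LocFree2
import Groth.Agent.Lib.Helper16.KD9
import Groth.Agent.Lib.Helper16.StalkTor1
import Groth.Agent.Lib.Helper16.FlatAcyc2
import Groth.Agent.Lib.Helper16.TorAmp4
import Groth.Agent.Lib.Helper16.RelPerf1

/-!
# Helper16 — RelAmp1: flat amplitude relative to a flat morphism, stalkwise

For a flat morphism `f : X ⟶ S`:
* `sD f x`: the derived functor of "stalk at `x`, as a module over `O_{S, f x}`".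
* `stalkCxOverRCxIso`: the complex of stalks (over the base) of a restriction to an open subscheme.
* `hasTorAmplitudeAt_of_hasRelFlatAmplitudeIn`: a representative by `S`-flat modules placed in
  `[a, b]` gives tor amplitude in `[a, b]` of all complexes of stalks over the local rings of `S`.
* `hasRelFlatAmplitudeIn_of_stalks`: the converse, for flat `f`.
* `locHasFiniteRelTorDim_iff`: `DCoh.LocHasFiniteRelTorDim f K` iff locally the complexes of stalks
  of `K` have tor amplitude in a fixed interval over the local rings of `S`.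
-/

set_option autoImplicit false
universe u
open CategoryTheory CategoryTheory.Limits AlgebraicGeometry DerivedCategory

attribute [local instance] HasDerivedCategory.standard

namespace Groth.Agent.Lib.Helper16.RelAmp

open Groth.Agent.Lib.Helper16.RS Groth.Agent.Lib.Helper16.Stk Groth.Agent.Lib.Helper16.KD
  Groth.Agent.Lib.Helper16 Groth.Agent.Lib.Helper16.TorLoc ZeroObject

section Ring

variable {A B : Type u} [CommRing A] [CommRing B] (φ : A →+* B)

/-- for a bijective ring homomorphism the unit `M ⟶ res (ext M)` is an isomorphism. -/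
lemma isIso_unit_of_bijective (hφ : Function.Bijective φ) :
    IsIso (ModuleCat.extendRestrictScalarsAdj.{u} φ).unit := by
  let e : A ≃+* B := RingEquiv.ofBijective φ hφ
  have he : e.toRingHom = φ := rfl
  haveI : (ModuleCat.restrictScalars.{u} φ).IsEquivalence := by
    rw [← he]; infer_instance
  haveI := (ModuleCat.extendRestrictScalarsAdj.{u} φ).isEquivalence_left_of_isEquivalence_right
  infer_instance

/-- for a bijective ring homomorphism, `res (ext M) ≅ M` on complexes. -/
noncomputable def resExtCxIso (hφ : Function.Bijective φ) (M : DRing.Cx A) :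
    (resCx φ).obj ((extCx φ).obj M) ≅ M :=
  haveI := isIso_unit_of_bijective φ hφ
  (HomologicalComplex.Hom.isoOfComponents
    (fun i => (asIso (ModuleCat.extendRestrictScalarsAdj.{u} φ).unit).app (M.X i))
    (fun i j _ => ((ModuleCat.extendRestrictScalarsAdj.{u} φ).unit.naturality (M.d i j)).symm)).symm

end Ring

section Sch

variable {X S U : Scheme.{u}}

/-- the complex of stalks over the base of the restriction to an open subscheme. -/
noncomputable def stalkCxOverRCxIso (f : X ⟶ S) (j : U ⟶ X) [IsOpenImmersion j]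
    (F : CochainComplex X.Modules ℤ) (z : U) :
    (DerSch.stalkCxOver (j ≫ f) z).obj ((RCx j).obj F) ≅ (DerSch.stalkCxOver f (j z)).obj F :=
  StalkTor.stalkCxOverCompIso j f z ((RCx j).obj F) ≪≫
    (resCx (f.stalkMap (j z)).hom).mapIso
      (Groth.Agent.S6188.stalkCxOverIso j z ((RCx j).obj F) ≪≫
        (resCx (φs j z)).mapIso (PerfFib.stkCxRCxIso j F z) ≪≫
        resExtCxIso (φs j z) (PerfFib.bijective_φs j z) (stkCx (j z) F)) ≪≫
    (Groth.Agent.S6188.stalkCxOverIso f (j z) F).symm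

lemma hasTorAmplitudeAt_RCx_iff (f : X ⟶ S) (j : U ⟶ X) [IsOpenImmersion j]
    (F : CochainComplex X.Modules ℤ) (z : U) (a b : ℤ) :
    DerSch.HasTorAmplitudeAt (j ≫ f) a b ((RCx j).obj F) z ↔
      DerSch.HasTorAmplitudeAt f a b F (j z) := by
  constructor
  · intro h
    exact TorAmp.hasTorAmplitudeIn_of_iso (Q.mapIso (stalkCxOverRCxIso f j F z)) a b h
  · intro h
    exact TorAmp.hasTorAmplitudeIn_of_iso (Q.mapIso (stalkCxOverRCxIso f j F z)).symm a b h

/-- the derived functor of "stalk at `x` as a module over `O_{S, f x}`". -/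
noncomputable abbrev sD (f : X ⟶ S) (x : X) :
    DCoh.D X ⥤ Dual.D (S.presheaf.stalk (f.base x)) :=
  (DerSch.stalkOver f x).mapDerivedCategory

/-- it is computed termwise. -/
noncomputable def sDIso (f : X ⟶ S) (x : X) (F : CochainComplex X.Modules ℤ) :
    (sD f x).obj (DCoh.toD X F) ≅ DRing.toD ((DerSch.stalkCxOver f x).obj F) :=
  (DerSch.stalkOver f x).mapDerivedCategoryFactors.app F

/-- tor amplitude in `[a, b]` of the derived stalk at `x` over the local ring of the base. -/
def TorAt (f : X ⟶ S) (a b : ℤ) (K : DCoh.D X) (x : X) : Prop :=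
  DRing.HasTorAmplitudeIn (S.presheaf.stalk (f.base x)) a b ((sD f x).obj K)

lemma torAt_toD_iff (f : X ⟶ S) (a b : ℤ) (F : CochainComplex X.Modules ℤ) (x : X) :
    TorAt f a b (DCoh.toD X F) x ↔ DerSch.HasTorAmplitudeAt f a b F x :=
  ⟨fun h => TorAmp.hasTorAmplitudeIn_of_iso (sDIso f x F) a b h,
    fun h => TorAmp.hasTorAmplitudeIn_of_iso (sDIso f x F).symm a b h⟩

lemma torAt_of_iso (f : X ⟶ S) (a b : ℤ) {K L : DCoh.D X} (e : K ≅ L) (x : X)
    (h : TorAt f a b K x) : TorAt f a b L x :=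
  TorAmp.hasTorAmplitudeIn_of_iso ((sD f x).mapIso e) a b h

/-- **from a representative to stalks.** -/
theorem torAt_of_hasRelFlatAmplitudeIn (f : X ⟶ S) (a b : ℤ) (K : DCoh.D X)
    (h : DCoh.HasRelFlatAmplitudeIn f a b K) (x : X) : TorAt f a b K x := by
  obtain ⟨E, hE, hEfl, ⟨e⟩⟩ := h
  refine torAt_of_iso f a b e x ((torAt_toD_iff f a b E x).2 ?_)
  exact ⟨(DerSch.stalkCxOver f x).obj E, fun i hi => (DerSch.stalkOver f x).map_isZero (hE i hi),
    fun i => hEfl i x, ⟨Iso.refl _⟩⟩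

/-- an `O_X`-flat module is flat over `S` when `f` is flat. -/
lemma isFlatOver_of_isFlat (f : X ⟶ S) [Flat f] (M : X.Modules) (hM : FlatMod.IsFlat M) :
    FlatMod.IsFlatOver f M := by
  intro y
  have hflat : (f.stalkMap y).hom.Flat := Flat.stalkMap f y
  unfold FlatMod.IsFlatOverAt
  letI := FlatMod.moduleStalkOver f M y
  letI : Algebra (S.presheaf.stalk (f.base y)) (X.presheaf.stalk y) :=
    (f.stalkMap y).hom.toAlgebra
  haveI : Module.Flat (S.presheaf.stalk (f.base y)) (X.presheaf.stalk y) := hflat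
  haveI : IsScalarTower (S.presheaf.stalk (f.base y)) (X.presheaf.stalk y)
      (M.presheaf.stalk y) := IsScalarTower.of_algebraMap_smul (fun r m => rfl)
  haveI : Module.Flat (X.presheaf.stalk y) (M.presheaf.stalk y) := hM y
  exact Module.Flat.trans (S.presheaf.stalk (f.base y)) (X.presheaf.stalk y) (M.presheaf.stalk y)

lemma isFlatOver_of_isZero (f : X ⟶ S) (M : X.Modules) (hM : IsZero M) :
    FlatMod.IsFlatOver f M := by
  intro y
  have hz : IsZero ((DerSch.stalkOver f y).obj M) := (DerSch.stalkOver f y).map_isZero hM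
  haveI := ModuleCat.subsingleton_of_isZero hz
  have : Module.Flat (S.presheaf.stalk (f.base y)) ((DerSch.stalkOver f y).obj M) := inferInstance
  exact this

lemma isFlatOver_of_iso (f : X ⟶ S) {M N : X.Modules} (e : M ≅ N)
    (hM : FlatMod.IsFlatOver f M) : FlatMod.IsFlatOver f N := by
  intro y
  have h1 : Module.Flat (S.presheaf.stalk (f.base y)) ((DerSch.stalkOver f y).obj M) := hM y
  have : Module.Flat (S.presheaf.stalk (f.base y)) ((DerSch.stalkOver f y).obj N) :=
    Module.Flat.of_linearEquiv ((DerSch.stalkOver f y).mapIso e).symm.toLinearEquiv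
  exact this

/-- **from stalks to a representative**, for a flat morphism. -/
theorem hasRelFlatAmplitudeIn_of_stalks (f : X ⟶ S) [Flat f] (F : CochainComplex X.Modules ℤ)
    (a b : ℤ) (h : ∀ x : X, DerSch.HasTorAmplitudeAt f a b F x) :
    DCoh.HasRelFlatAmplitudeIn f a b (DCoh.toD X F) := by
  have hexF : ∀ i : ℤ, i < a ∨ b < i → F.ExactAt i := by
    intro i hi
    rw [exactAt_iff_forall_stalk]
    intro x
    have h1 := TorAmp.exactAt_of_torAmp _ a b (h x) i hi
    have h2 := h1.of_iso (Groth.Agent.S6188.stalkCxOverIso f x F)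
    exact (exactAt_resCx_iff (f.stalkMap x).hom (stkCx x F) i).1 h2
  obtain ⟨E, q, hEle, hEfl, hq⟩ :=
    exists_boundedAbove_flat_resolution F b (fun i hi => hexF i (Or.inr hi))
  haveI := hq
  haveI : IsIso (Q.map q) := by rw [isIso_Q_map_iff_quasiIso]; infer_instance
  have hexE : ∀ i : ℤ, i < a ∨ b < i → E.ExactAt i := fun i hi => by
    haveI : QuasiIsoAt q i := hq.quasiIsoAt i
    exact (exactAt_iff_of_quasiIsoAt q i).2 (hexF i hi)
  have hEx : ∀ x : X, DerSch.HasTorAmplitudeAt f a b E x := fun x =>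
    (torAt_toD_iff f a b E x).1 (torAt_of_iso f a b (asIso (Q.map q)).symm x
      ((torAt_toD_iff f a b F x).2 (h x)))
  have hEflS : ∀ i : ℤ, FlatMod.IsFlatOver f (E.X i) := fun i =>
    isFlatOver_of_isFlat f _ (hEfl i)
  by_cases hab : a ≤ b
  · haveI : E.IsGE a := (CochainComplex.isGE_iff E a).2 (fun i hi => hexE i (Or.inl hi))
    haveI : QuasiIso (E.πTruncGE a) := (CochainComplex.quasiIso_πTruncGE_iff E a).2 inferInstance
    haveI : IsIso (Q.map (E.πTruncGE a)) := by rw [isIso_Q_map_iff_quasiIso]; infer_instance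
    have ho : FlatMod.IsFlatOver f (E.opcycles a) := by
      intro x
      have hb : DRing.VanishesAbove ((DerSch.stalkCxOver f x).obj E) b := fun i hi =>
        (DerSch.stalkOver f x).map_isZero (E.isZero_of_isStrictlyLE b i hi)
      have hfl : DRing.TermwiseFlat ((DerSch.stalkCxOver f x).obj E) := fun i => hEflS i x
      have h1 := TorAmp.flat_coker_of_torAmp _ b hb hfl a b (hEx x)
      have e1 : ((DerSch.stalkCxOver f x).obj E).opcycles a ≅
          (DerSch.stalkOver f x).obj (E.opcycles a) :=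
        (E.sc a).mapOpcyclesIso (DerSch.stalkOver f x)
      have e2 := TorAmp.opcyclesIsoQuotient ((DerSch.stalkCxOver f x).obj E) (a - 1) a (by omega)
      have : Module.Flat (S.presheaf.stalk (f.base x))
          ((DerSch.stalkOver f x).obj (E.opcycles a)) :=
        Module.Flat.of_linearEquiv (e1.symm ≪≫ e2).toLinearEquiv
      exact this
    refine ⟨E.truncGE a, fun i hi => ?_, fun i => ?_, ⟨?_⟩⟩
    · rcases hi with hi | hi
      · exact (E.truncGE a).isZero_of_isStrictlyGE a i hi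
      · exact IsZero.of_iso (E.isZero_of_isStrictlyLE b i hi) (E.truncGEXIso a i (by omega))
    · rcases lt_trichotomy i a with h' | h' | h'
      · exact isFlatOver_of_isZero f _ ((E.truncGE a).isZero_of_isStrictlyGE a i h')
      · subst h'
        exact isFlatOver_of_iso f (E.truncGEXIsoOpcycles i).symm ho
      · exact isFlatOver_of_iso f (E.truncGEXIso a i h').symm (hEflS i)
    · exact (asIso (Q.map (E.πTruncGE a))).symm ≪≫ asIso (Q.map q)
  · have hEex : ∀ i : ℤ, E.ExactAt i := fun i => hexE i (by omega)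
    have hz : IsZero (DCoh.toD X E) := FlatAcyc.isZero_Q_obj_of_exactAt E hEex
    refine ⟨0, fun i _ => ?_, fun i => ?_,
      ⟨(Functor.map_isZero Q (isZero_zero _)).iso hz ≪≫ asIso (Q.map q)⟩⟩
    · exact Functor.map_isZero (HomologicalComplex.eval _ _ i) (isZero_zero _)
    · exact isFlatOver_of_isZero f _
        (Functor.map_isZero (HomologicalComplex.eval _ _ i) (isZero_zero _))

/-- **`DCoh.LocHasFiniteRelTorDim`, stalkwise**, for a flat morphism. -/
theorem locHasFiniteRelTorDim_iff (f : X ⟶ S) [Flat f] (K : DCoh.D X) :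
    DCoh.LocHasFiniteRelTorDim f K ↔
      ∀ x : X, ∃ (V : X.Opens) (a b : ℤ), x ∈ V ∧ ∀ x' : X, x' ∈ V → TorAt f a b K x' := by
  constructor
  · intro h x
    obtain ⟨V, a, b, hx, hV⟩ := h x
    obtain ⟨F₀, ⟨e₀⟩⟩ := RS.exists_rep K
    refine ⟨V, a, b, hx, fun x' hx' => ?_⟩
    have h1 := hV F₀ ⟨e₀⟩
    obtain ⟨z, hz⟩ : ∃ z : V, V.ι z = x' := ⟨⟨x', hx'⟩, rfl⟩
    subst hz
    have h2 := torAt_of_hasRelFlatAmplitudeIn (V.ι ≫ f) a b _ h1 z
    have h3 := (torAt_toD_iff (V.ι ≫ f) a b _ z).1 h2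
    have h4 := (hasTorAmplitudeAt_RCx_iff f V.ι F₀ z a b).1 h3
    exact torAt_of_iso f a b e₀ _ ((torAt_toD_iff f a b F₀ _).2 h4)
  · intro h x
    obtain ⟨V, a, b, hx, hV⟩ := h x
    refine ⟨V, a, b, hx, ?_⟩
    rintro F' ⟨eF'⟩
    apply hasRelFlatAmplitudeIn_of_stalks (V.ι ≫ f) ((DCoh.restrictCx V).obj F') a b
    intro z
    have h1 : DerSch.HasTorAmplitudeAt f a b F' (V.ι z) :=
      (torAt_toD_iff f a b F' _).1 (torAt_of_iso f a b eF'.symm _ (hV _ z.2))
    exact (hasTorAmplitudeAt_RCx_iff f V.ι F' z a b).2 h1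

/-! ### Closure properties of the stalkwise form -/

/-- locally finite tor amplitude over the base, stalkwise. -/
def LocTorAt (f : X ⟶ S) (K : DCoh.D X) : Prop :=
  ∀ x : X, ∃ (V : X.Opens) (a b : ℤ), x ∈ V ∧ ∀ x' : X, x' ∈ V → TorAt f a b K x'

lemma locTorAt_of_iso (f : X ⟶ S) {K L : DCoh.D X} (e : K ≅ L) (h : LocTorAt f K) :
    LocTorAt f L := by
  intro x
  obtain ⟨V, a, b, hx, hV⟩ := h x
  exact ⟨V, a, b, hx, fun x' hx' => torAt_of_iso f a b e x' (hV x' hx')⟩

lemma locTorAt_of_isZero (f : X ⟶ S) (K : DCoh.D X) (hK : IsZero K) : LocTorAt f K :=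
  fun _ => ⟨⊤, 0, 0, trivial, fun x' _ =>
    TorAmp.torAmp_of_isZero _ ((sD f x').map_isZero hK) 0 0⟩

lemma locTorAt_shift (f : X ⟶ S) (K : DCoh.D X) (n : ℤ) (h : LocTorAt f K) :
    LocTorAt f (K⟦n⟧) := by
  intro x
  obtain ⟨V, a, b, hx, hV⟩ := h x
  exact ⟨V, a - n, b - n, hx, fun x' hx' =>
    TorAmp.hasTorAmplitudeIn_of_iso (((sD f x').commShiftIso n).app K).symm _ _
      (TorAmp.torAmp_shift _ a b n (hV x' hx'))⟩

open CategoryTheory.Pretriangulated in
lemma locTorAt_obj₂ (f : X ⟶ S) (T : Triangle (DCoh.D X)) (hT : T ∈ distTriang (DCoh.D X))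
    (h1 : LocTorAt f T.obj₁) (h3 : LocTorAt f T.obj₃) : LocTorAt f T.obj₂ := by
  intro x
  obtain ⟨V₁, a₁, b₁, hx₁, hV₁⟩ := h1 x
  obtain ⟨V₃, a₃, b₃, hx₃, hV₃⟩ := h3 x
  refine ⟨V₁ ⊓ V₃, min a₁ a₃, max b₁ b₃, ⟨hx₁, hx₃⟩, fun x' hx' => ?_⟩
  have hT' := (sD f x').map_distinguished T hT
  exact TorAmp.torAmp_obj₂ _ hT' _ _
    (TorAmp.torAmp_mono _ a₁ b₁ _ _ (min_le_left _ _) (le_max_left _ _) (hV₁ x' hx'.1))
    (TorAmp.torAmp_mono _ a₃ b₃ _ _ (min_le_right _ _) (le_max_right _ _) (hV₃ x' hx'.2))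

lemma locTorAt_of_biprod (f : X ⟶ S) (K L : DCoh.D X) (h : LocTorAt f (K ⊞ L)) :
    LocTorAt f K ∧ LocTorAt f L := by
  have key : ∀ (x' : X) (a b : ℤ), TorAt f a b (K ⊞ L) x' → TorAt f a b K x' ∧ TorAt f a b L x' := by
    intro x' a b h'
    haveI : ∀ M : ModuleCat.{u} (S.presheaf.stalk (f.base x')),
        DRing.HasLTensor (S.presheaf.stalk (f.base x')) M := fun M => DRE.hasLTensor M
    haveI : PreservesBinaryBiproducts (sD f x') := preservesBinaryBiproducts_of_preservesBiproducts _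
    exact Groth.Agent.S7018.result _ a b _ _
      (TorAmp.hasTorAmplitudeIn_of_iso ((sD f x').mapBiprod K L) a b h')
  constructor
  · intro x
    obtain ⟨V, a, b, hx, hV⟩ := h x
    exact ⟨V, a, b, hx, fun x' hx' => (key x' a b (hV x' hx')).1⟩
  · intro x
    obtain ⟨V, a, b, hx, hV⟩ := h x
    exact ⟨V, a, b, hx, fun x' hx' => (key x' a b (hV x' hx')).2⟩

end Sch

section Retract

open CategoryTheory.Pretriangulated

variable {C : Type*} [Category C] [Preadditive C] [HasZeroObject C] [HasShift C ℤ]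
  [∀ n : ℤ, (shiftFunctor C n).Additive] [Pretriangulated C]

/-- a retract in a pretriangulated category is a direct summand. -/
lemma exists_biprod_iso_of_retract {K M : C} (h : Retract K M) :
    ∃ K' : C, Nonempty (M ≅ K ⊞ K') := by
  obtain ⟨K', g, w, hT⟩ := distinguished_cocone_triangle h.i
  have hw : w = 0 := by
    have h1 : w ≫ h.i⟦(1 : ℤ)⟧' = 0 := comp_distTriang_mor_zero₃₁ _ hT
    have h2 : h.i⟦(1 : ℤ)⟧' ≫ h.r⟦(1 : ℤ)⟧' = 𝟙 _ := by
      rw [← Functor.map_comp, h.retract, CategoryTheory.Functor.map_id]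
    calc w = w ≫ h.i⟦(1 : ℤ)⟧' ≫ h.r⟦(1 : ℤ)⟧' := by rw [h2, Category.comp_id]
      _ = 0 := by rw [reassoc_of% h1, zero_comp]
  obtain ⟨e, -⟩ := exists_iso_binaryBiproduct_of_distTriang _ hT hw
  exact ⟨K', ⟨e⟩⟩

end Retract

end Groth.Agent.Lib.Helper16.RelAmp
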