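import Mathlib
import Groth.Prelude.Def_CxOX
import Groth.Prelude.Def_DerSch2
import Groth.Prelude.Def_KSix
import Groth.Agent.Lib.Helper16.CI17
import Groth.Agent.Lib.Helper16.RelAmp1
import Groth.Agent.Lib.Helper16.RS7
import Groth.Agent.Lib.Helper15.RelPC27

/-!
# Helper16 — CI27: perfect amplitude of the direct image along a closed immersion into a smooth
scheme gives perfect amplitude relative to the base.
-/

set_option autoImplicit false
set_option linter.style.haveILetI false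
universe u
open CategoryTheory CategoryTheory.Limits AlgebraicGeometry CategoryTheory.Pretriangulated
  TopologicalSpace Opposite

attribute [local instance] HasDerivedCategory.standard

namespace Groth.Agent.Lib.Helper16.CI

open Groth.Agent.Lib.Helper16.RS DerivedCategory Groth.Agent.Lib.Helper1.LocPC
  Groth.Agent.Lib.Helper16.PC Groth.Agent.Lib.Helper16.CIPC Groth.Agent.Lib.Helper16.AffRed
  Groth.Agent.Lib.Helper16.RelPC Scheme.Modules

variable {X Y S : Scheme.{u}}

theorem isPseudoCoherentD_of_hasPerfectAmplitudeIn (a b : ℤ) (K : DCoh.D Y)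
    (h : KSix.HasPerfectAmplitudeIn a b K) (m : ℤ) : DCoh.IsPseudoCoherentD m K := by
  intro x
  obtain ⟨V, hx, hV⟩ := h x
  refine ⟨V, hx, fun F hF => ?_⟩
  obtain ⟨E, hE, hfl, ⟨e⟩⟩ := hV F hF
  exact ⟨E, e.inv, ⟨⟨a, b, hE⟩, hfl⟩, fun i _ => inferInstance, inferInstance⟩

lemma hasTorAmplitudeAt_congr {f f' : X ⟶ S} (h : f = f') (a b : ℤ)
    (F : CochainComplex X.Modules ℤ) (x : X) (H : DerSch.HasTorAmplitudeAt f a b F x) :
    DerSch.HasTorAmplitudeAt f' a b F x := by
  subst h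
  exact H

/-- tor amplitude relative to `i ≫ g` from perfect amplitude of the direct image, `g` flat. -/
theorem hasTorAmplitude_of_hasPerfectAmplitudeIn_pushforward (i : X ⟶ Y) [IsClosedImmersion i]
    (g : Y ⟶ S) [Flat g] (a b : ℤ) (F : CochainComplex X.Modules ℤ)
    (hF : KSix.HasPerfectAmplitudeIn a b (DCoh.toD Y
      (((Scheme.Modules.pushforward i).mapHomologicalComplex (ComplexShape.up ℤ)).obj F))) :
    DerSch.HasTorAmplitude (i ≫ g) a b F := by
  intro x
  obtain ⟨V, hxV, hV⟩ := hF (i x)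
  obtain ⟨E, hE, hfl, ⟨e⟩⟩ := hV _ ⟨Iso.refl _⟩
  have hflat : DCoh.HasFlatAmplitudeIn a b (DCoh.toD (V : Scheme.{u})
      (((Scheme.Modules.pushforward (i ∣_ V)).mapHomologicalComplex (ComplexShape.up ℤ)).obj
        ((RCx (i ⁻¹ᵁ V).ι).obj F))) :=
    ⟨E, hE, fun k => isFlat_of_isFinLocFree _ (hfl k), ⟨e.symm ≪≫ Q.mapIso ((bcCx i V).app F)⟩⟩
  haveI : Flat (V.ι ≫ g) := inferInstance
  have h1 := Groth.Agent.Lib.Helper15.RelPC27.hasTorAmplitude_of_hasFlatAmplitudeIn_pushforward
    (i ∣_ V) (V.ι ≫ g) (i ∣_ V).isClosedEmbedding.isInducing _ a b hflat ⟨x, hxV⟩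
  have hm : (i ∣_ V) ≫ V.ι ≫ g = (i ⁻¹ᵁ V).ι ≫ (i ≫ g) := by
    rw [← Category.assoc, morphismRestrict_ι, Category.assoc]
  have h2 := hasTorAmplitudeAt_congr hm a b _ _ h1
  exact (Groth.Agent.Lib.Helper16.RelAmp.hasTorAmplitudeAt_RCx_iff (i ≫ g) (i ⁻¹ᵁ V).ι F
    ⟨x, hxV⟩ a b).1 h2

/-- perfect amplitude of the direct image along a closed immersion into a smooth scheme gives
perfect amplitude relative to the base. -/
theorem hasPerfAmplitudeRel_of_hasPerfectAmplitudeIn_pushforward (i : X ⟶ Y) [IsClosedImmersion i]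
    (g : Y ⟶ S) [Smooth g] (a b : ℤ) (F : CochainComplex X.Modules ℤ)
    (hF : KSix.HasPerfectAmplitudeIn a b (DCoh.toD Y
      (((Scheme.Modules.pushforward i).mapHomologicalComplex (ComplexShape.up ℤ)).obj F))) :
    DerSch.HasPerfAmplitudeRel (i ≫ g) a b F := by
  haveI : Flat g := inferInstance
  haveI : LocallyOfFinitePresentation g := inferInstance
  refine ⟨fun m => ?_, hasTorAmplitude_of_hasPerfectAmplitudeIn_pushforward i g a b F hF⟩
  rw [isPseudoCoherentRel_comp_closedImmersion_iff i g m]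
  have hg : ∀ n : ℤ, DerSch.IsNPseudoCoherent g n := fun n => isNPseudoCoherent_of_flat_lfp g n
  rw [← isPseudoCoherentD_iff_isPseudoCoherentRel g hg m]
  exact isPseudoCoherentD_of_iso (PDQIso i F).symm
    (isPseudoCoherentD_of_hasPerfectAmplitudeIn a b _ hF m)

end Groth.Agent.Lib.Helper16.CI
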