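import Mathlib
import Groth.Prelude.Def_CxOX
import Groth.Agent.Lib.Helper28.QCohPush

/-!
# Helper16 — CIPC8: a module whose direct image along a closed immersion is quasi-coherent is
quasi-coherent.
-/

set_option autoImplicit false
universe u
open CategoryTheory CategoryTheory.Limits AlgebraicGeometry Opposite TopologicalSpace

namespace Groth.Agent.Lib.Helper16.CIPC

open Groth.Agent.Lib.Helper28.QCohLoc

variable {X Y : Scheme.{u}} (f : X ⟶ Y) [IsClosedImmersion f] (F : X.Modules)

/-- the localization property descends along a closed immersion. -/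
theorem isLocOn_of_isLocOn_pushforward {V : Y.Opens} (hV : IsAffineOpen V)
    (h : IsLocOn ((Scheme.Modules.pushforward f).obj F) V) : IsLocOn F (f ⁻¹ᵁ V) := by
  have hsurj : Function.Surjective (f.app V) := f.app_surjective V hV
  refine ⟨fun r' y => ?_, fun r' x hx => ?_⟩
  · obtain ⟨r, rfl⟩ := hsurj r'
    have e : f ⁻¹ᵁ (Y.basicOpen r) = X.basicOpen (f.app V r) := Scheme.preimage_basicOpen f r
    have hW : f ⁻¹ᵁ (Y.basicOpen r) ≤ f ⁻¹ᵁ V := f.preimage_mono (Y.basicOpen_le r)
    have key : ∀ (W : X.Opens) (e : W = X.basicOpen (f.app V r)) (hW : W ≤ f ⁻¹ᵁ V),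
        (∀ y : Γ(F, W), ∃ (n : ℕ) (x : Γ(F, f ⁻¹ᵁ V)),
          ((resO hW (f.app V r)) ^ n • y : Γ(F, W)) = res F hW x) →
        ∀ y : Γ(F, X.basicOpen (f.app V r)), ∃ (n : ℕ) (x : Γ(F, f ⁻¹ᵁ V)),
          ((resO (X.basicOpen_le (f.app V r)) (f.app V r)) ^ n • y :
            Γ(F, X.basicOpen (f.app V r))) = res F (X.basicOpen_le (f.app V r)) x := by
      intro W e hW hy
      subst e
      exact hy
    refine key _ e hW (fun y => ?_) y
    obtain ⟨n, x, hx⟩ := h.surj r (show Γ((Scheme.Modules.pushforward f).obj F, Y.basicOpen r) from y)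
    refine ⟨n, x, ?_⟩
    have h1 : f.app (Y.basicOpen r) ((resO (Y.basicOpen_le r) r) ^ n) =
        (resO hW (f.app V r)) ^ n := by
      rw [map_pow, app_resO]
    rw [← h1]
    exact hx
  · obtain ⟨r, rfl⟩ := hsurj r'
    have e : f ⁻¹ᵁ (Y.basicOpen r) = X.basicOpen (f.app V r) := Scheme.preimage_basicOpen f r
    have hW : f ⁻¹ᵁ (Y.basicOpen r) ≤ f ⁻¹ᵁ V := f.preimage_mono (Y.basicOpen_le r)
    have key : ∀ (W : X.Opens) (e : W = X.basicOpen (f.app V r)) (hW : W ≤ f ⁻¹ᵁ V),
        res F (X.basicOpen_le (f.app V r)) x = 0 → res F hW x = 0 := by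
      intro W e hW hx
      subst e
      exact hx
    have hx' := key _ e hW hx
    obtain ⟨n, hn⟩ := h.inj r (show Γ((Scheme.Modules.pushforward f).obj F, V) from x) hx'
    refine ⟨n, ?_⟩
    rw [← map_pow]
    exact hn

/-- quasi-coherence descends along a closed immersion. -/
theorem isQuasicoherent_of_isQuasicoherent_pushforward
    [((Scheme.Modules.pushforward f).obj F).IsQuasicoherent] : F.IsQuasicoherent := by
  refine isQuasicoherent_of_isLocOn F (fun U : Y.affineOpens => f ⁻¹ᵁ U.1) ?_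
    (fun U => U.2.preimage f) (fun U => isLocOn_of_isLocOn_pushforward f F U.2
      (isLocOn_of_isQuasicoherent _ U.2))
  refine IsOpenCover.mk (eq_top_iff.mpr fun x _ => ?_)
  have hx : f x ∈ (⨆ U : Y.affineOpens, (U : Y.Opens)) := by
    rw [iSup_affineOpens_eq_top]; trivial
  obtain ⟨U, hU⟩ := Opens.mem_iSup.1 hx
  exact Opens.mem_iSup.2 ⟨U, hU⟩

end Groth.Agent.Lib.Helper16.CIPC
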