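import Mathlib
import Groth.Prelude.Def_CxOX
import Groth.Prelude.Def_DerSch2
import Groth.Agent.Lib.Helper16.CIPC7
import Groth.Agent.Lib.Helper16.CIPC8
import Groth.Agent.S7240

/-!
# Helper16 — CIPC9: quasi-coherence of the cohomology sheaves of a chart-pseudo-coherent object,
over the chart.
-/

set_option autoImplicit false
set_option linter.style.haveILetI false
universe u
open CategoryTheory CategoryTheory.Limits AlgebraicGeometry CategoryTheory.Pretriangulated

attribute [local instance] HasDerivedCategory.standard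

namespace Groth.Agent.Lib.Helper16.CIPC

open Groth.Agent.Lib.Helper16.RS DerivedCategory Groth.Agent.Lib.Helper1.LocPC
  Groth.Agent.Lib.Helper16.PC

variable {X Y : Scheme.{u}}

theorem isQuasicoherent_restrict_HD_of_chartPC (f : X ⟶ Y) (k : ℤ) (K : DCoh.D X) {U : X.Opens}
    (hU : IsAffineOpen U) (V : Y.Opens) (h : U ≤ f ⁻¹ᵁ V) {n : ℕ}
    (φ : MvPolynomial (Fin n) Γ(Y, V) →+* Γ(X, U)) (hφ : DerSch.IsChart f U V h φ)
    (hK : DerSch.ChartPC (k - 1) K U V φ) :
    ((DCoh.HD K k).restrict U.ι).IsQuasicoherent := by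
  obtain ⟨G, ⟨eG⟩⟩ := exists_rep K
  have h1 := hK G ⟨eG⟩
  haveI := isClosedImmersion_chartImm hU φ hφ.1
  have h2 := (Groth.Agent.S7240.result (k - 1) _ h1).1 k (by omega)
  have e1 : DCoh.HD (DCoh.toD _ ((DerSch.pushCx (DerSch.chartImm U φ)).obj
      ((DCoh.restrictCx U).obj G))) k ≅
      (Scheme.Modules.pushforward (DerSch.chartImm U φ)).obj ((DCoh.HD K k).restrict U.ι) :=
    (homologyFunctor _ k).mapIso (PDQIso (DerSch.chartImm U φ) ((RCx U.ι).obj G)).symm ≪≫
      Groth.Agent.Lib.Helper26.SuppD2.homologyIso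
        (Scheme.Modules.pushforward (DerSch.chartImm U φ)) _ k ≪≫
      (Scheme.Modules.pushforward (DerSch.chartImm U φ)).mapIso
        ((homologyFunctor _ k).mapIso ((RDQIso U.ι G).symm ≪≫ (RD U.ι).mapIso eG) ≪≫
          Groth.Agent.Lib.Helper26.SuppD2.homologyIso (Scheme.Modules.restrictFunctor U.ι) K k)
  haveI : ((Scheme.Modules.pushforward (DerSch.chartImm U φ)).obj
      ((DCoh.HD K k).restrict U.ι)).IsQuasicoherent :=
    (SheafOfModules.isQuasicoherent.{u} _).prop_of_iso e1 h2
  exact isQuasicoherent_of_isQuasicoherent_pushforward (DerSch.chartImm U φ) _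

end Groth.Agent.Lib.Helper16.CIPC
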