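import Mathlib
import Groth.Prelude.Def_CxOX
import Groth.Prelude.Def_DerSch2
import Groth.Agent.Lib.Helper16.CIPC9

/-!
# Helper16 — CIPC10: quasi-coherence of the cohomology sheaves above `m` of an object which is
`m`-pseudo-coherent on a chart.
-/

set_option autoImplicit false
set_option linter.style.haveILetI false
universe u
open CategoryTheory CategoryTheory.Limits AlgebraicGeometry CategoryTheory.Pretriangulated

attribute [local instance] HasDerivedCategory.standard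

namespace Groth.Agent.Lib.Helper16.CIPC

open Groth.Agent.Lib.Helper16.RS DerivedCategory Groth.Agent.Lib.Helper1.LocPC
  Groth.Agent.Lib.Helper16.PC

variable {X Y : Scheme.{u}}

theorem isQuasicoherent_restrict_HD_of_chartPC_of_lt (f : X ⟶ Y) (m k : ℤ) (hk : m < k)
    (K : DCoh.D X) {U : X.Opens}
    (hU : IsAffineOpen U) (V : Y.Opens) (h : U ≤ f ⁻¹ᵁ V) {n : ℕ}
    (φ : MvPolynomial (Fin n) Γ(Y, V) →+* Γ(X, U)) (hφ : DerSch.IsChart f U V h φ)
    (hK : DerSch.ChartPC m K U V φ) :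
    ((DCoh.HD K k).restrict U.ι).IsQuasicoherent := by
  obtain ⟨G, ⟨eG⟩⟩ := exists_rep K
  have h1 := hK G ⟨eG⟩
  haveI := isClosedImmersion_chartImm hU φ hφ.1
  have h2 := (Groth.Agent.S7240.result m _ h1).1 k hk
  have e1 : DCoh.HD (DCoh.toD _ ((DerSch.pushCx (DerSch.chartImm U φ)).obj
      ((DCoh.restrictCx U).obj G))) k ≅
      (Scheme.Modules.pushforward (DerSch.chartImm U φ)).obj ((DCoh.HD K k).restrict U.ι) :=
    (homologyFunctor _ k).mapIso (PDQIso (DerSch.chartImm U φ) ((RCx U.ι).obj G)).symm ≪≫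
      Groth.Agent.Lib.Helper26.SuppD2.homologyIso
        (Scheme.Modules.pushforward (DerSch.chartImm U φ)) _ k ≪≫
      (Scheme.Modules.pushforward (DerSch.chartImm U φ)).mapIso
        ((homologyFunctor _ k).mapIso ((RDQIso U.ι G).symm ≪≫ (RD U.ι).mapIso eG) ≪≫
          Groth.Agent.Lib.Helper26.SuppD2.homologyIso (Scheme.Modules.restrictFunctor U.ι) K k)
  haveI : ((Scheme.Modules.pushforward (DerSch.chartImm U φ)).obj
      ((DCoh.HD K k).restrict U.ι)).IsQuasicoherent :=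
    (SheafOfModules.isQuasicoherent.{u} _).prop_of_iso e1 h2
  exact isQuasicoherent_of_isQuasicoherent_pushforward (DerSch.chartImm U φ) _

/-- the cohomology sheaves above `m` of an object `m`-pseudo-coherent relative to `f` are
quasi-coherent. -/
theorem isQuasicoherent_HD_of_isPseudoCoherentRel (f : X ⟶ Y) (m : ℤ) (E : DCoh.D X)
    (hE : DerSch.IsPseudoCoherentRel f m E) (k : ℤ) (hk : m < k) :
    (DCoh.HD E k).IsQuasicoherent := by
  apply Groth.Agent.Lib.Helper1.LocFree.isQuasicoherent_of_locally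
  intro x
  obtain ⟨-, 𝒱, h𝒱, hV⟩ := hE
  have hx : f x ∈ (⨆ V ∈ 𝒱, (V : Y.Opens)) := by rw [h𝒱]; trivial
  obtain ⟨V, hx⟩ := TopologicalSpace.Opens.mem_iSup.1 hx
  obtain ⟨hV𝒱, hxV⟩ := TopologicalSpace.Opens.mem_iSup.1 hx
  obtain ⟨𝒰, h𝒰, hU⟩ := hV V hV𝒱
  have hx' : x ∈ (⨆ U ∈ 𝒰, (U : X.Opens)) := by rw [h𝒰]; exact hxV
  obtain ⟨U, hx'⟩ := TopologicalSpace.Opens.mem_iSup.1 hx'
  obtain ⟨hU𝒰, hxU⟩ := TopologicalSpace.Opens.mem_iSup.1 hx'
  have hle : (U : X.Opens) ≤ f ⁻¹ᵁ (V : Y.Opens) := by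
    rw [← h𝒰]
    exact le_iSup₂ (f := fun (U : X.affineOpens) (_ : U ∈ 𝒰) => (U : X.Opens)) U hU𝒰
  obtain ⟨n, φ, hφ, hpc⟩ := hU U hU𝒰 hle
  exact ⟨U, hxU, isQuasicoherent_restrict_HD_of_chartPC_of_lt f m k hk E U.2
    (V : Y.Opens) hle φ hφ hpc⟩

end Groth.Agent.Lib.Helper16.CIPC
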