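import Groth.Prelude.Def_W4stkcategoriessitesFib

/-!
# Helper lemmas on `FibCat.categoricalPullbackMap` (helper16)
-/

set_option autoImplicit false
set_option backward.isDefEq.respectTransparency false
open CategoryTheory CategoryTheory.Limits
universe v u

namespace Groth.Agent.Lib.Helper16.CatPullbackMap

variable {X Y Z A B C : Type u} [Category.{v} X] [Category.{v} Y] [Category.{v} Z]
  [Category.{v} A] [Category.{v} B] [Category.{v} C] {H : X ⥤ Z} {I : Y ⥤ Z} {F : A ⥤ C}
  {G : B ⥤ C} (ψ : CatCospanTransform H I F G)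

lemma map_fst {x y : CategoricalPullback H I} (f : x ⟶ y) :
    ((FibCat.categoricalPullbackMap ψ).map f).fst = ψ.left.map f.fst := by
  simp [FibCat.categoricalPullbackMap]

lemma map_snd {x y : CategoricalPullback H I} (f : x ⟶ y) :
    ((FibCat.categoricalPullbackMap ψ).map f).snd = ψ.right.map f.snd := by
  simp [FibCat.categoricalPullbackMap]

lemma obj_fst (x : CategoricalPullback H I) :
    ((FibCat.categoricalPullbackMap ψ).obj x).fst = ψ.left.obj x.fst := rfl

lemma obj_snd (x : CategoricalPullback H I) :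
    ((FibCat.categoricalPullbackMap ψ).obj x).snd = ψ.right.obj x.snd := rfl

lemma obj_iso_hom (x : CategoricalPullback H I) :
    ((FibCat.categoricalPullbackMap ψ).obj x).iso.hom =
      ψ.squareLeft.iso.inv.app x.fst ≫ ψ.base.map x.iso.hom ≫ ψ.squareRight.iso.hom.app x.snd := by
  simp [FibCat.categoricalPullbackMap]
  rfl

theorem faithful [ψ.left.Faithful] [ψ.right.Faithful] :
    (FibCat.categoricalPullbackMap ψ).Faithful := by
  constructor
  intro x y f g hfg
  apply CategoricalPullback.hom_ext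
  · apply ψ.left.map_injective
    rw [← map_fst, ← map_fst, hfg]
  · apply ψ.right.map_injective
    rw [← map_snd, ← map_snd, hfg]

theorem full [ψ.left.Full] [ψ.right.Full] [ψ.base.Faithful] :
    (FibCat.categoricalPullbackMap ψ).Full := by
  constructor
  intro x y m
  obtain ⟨a', ha'⟩ := ψ.left.map_surjective (X := x.fst) (Y := y.fst) m.fst
  obtain ⟨b', hb'⟩ := ψ.right.map_surjective (X := x.snd) (Y := y.snd) m.snd
  have hw := m.w
  rw [obj_iso_hom, obj_iso_hom, ← ha', ← hb'] at hw
  have nl := ψ.squareLeft.iso.inv.naturality a'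
  have nr := ψ.squareRight.iso.hom.naturality b'
  simp only [Functor.comp_map] at nl nr
  have hw' : H.map a' ≫ y.iso.hom = x.iso.hom ≫ I.map b' := by
    apply ψ.base.map_injective
    rw [Functor.map_comp, Functor.map_comp]
    rw [← cancel_epi (ψ.squareLeft.iso.inv.app x.fst),
      ← cancel_mono (ψ.squareRight.iso.hom.app y.snd)]
    simp only [Category.assoc]
    rw [nr, ← reassoc_of% nl]
    simpa only [Category.assoc] using hw
  refine ⟨⟨a', b', hw'⟩, ?_⟩
  apply CategoricalPullback.hom_ext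
  · rw [map_fst]; exact ha'
  · rw [map_snd]; exact hb'

theorem essSurj [ψ.left.EssSurj] [ψ.right.EssSurj] [ψ.base.Full] [ψ.base.Faithful] :
    (FibCat.categoricalPullbackMap ψ).EssSurj := by
  constructor
  intro t
  let x₀ := ψ.left.objPreimage t.fst
  let eA : ψ.left.obj x₀ ≅ t.fst := ψ.left.objObjPreimageIso t.fst
  let y₀ := ψ.right.objPreimage t.snd
  let eB : ψ.right.obj y₀ ≅ t.snd := ψ.right.objObjPreimageIso t.snd
  let θ : ψ.base.obj (H.obj x₀) ≅ ψ.base.obj (I.obj y₀) :=
    ψ.squareLeft.iso.app x₀ ≪≫ F.mapIso eA ≪≫ t.iso ≪≫ (G.mapIso eB).symm ≪≫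
      (ψ.squareRight.iso.app y₀).symm
  let φ : H.obj x₀ ≅ I.obj y₀ := ψ.base.preimageIso θ
  let s : CategoricalPullback H I := ⟨x₀, y₀, φ⟩
  refine ⟨s, ⟨CategoricalPullback.mkIso eA eB ?_⟩⟩
  rw [obj_iso_hom]
  have hφ : ψ.base.map s.iso.hom = θ.hom := by
    change ψ.base.map (ψ.base.preimageIso θ).hom = θ.hom
    simp
  rw [hφ]
  change F.map eA.hom ≫ t.iso.hom = (ψ.squareLeft.iso.inv.app x₀ ≫ θ.hom ≫
    ψ.squareRight.iso.hom.app y₀) ≫ G.map eB.hom
  simp [θ]

theorem isEquivalence [ψ.left.IsEquivalence] [ψ.right.IsEquivalence] [ψ.base.Full]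
    [ψ.base.Faithful] : (FibCat.categoricalPullbackMap ψ).IsEquivalence := by
  have := faithful ψ
  have := full ψ
  have := essSurj ψ
  exact { }

end Groth.Agent.Lib.Helper16.CatPullbackMap
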