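import Groth.Prelude.Def_KGr
import Mathlib.RingTheory.MvPolynomial.Symmetric.NewtonIdentities
import Mathlib.Tactic

/-!
# Helper library (helper16): the polynomial `KGr.chPoly d` in terms of Newton polynomials
-/

set_option autoImplicit false

open MvPolynomial Finset

namespace Groth.Agent.Lib.Helper16.CP

variable (d : ℕ)

/-- `ι = aeval (esymm (·+1))`. -/
noncomputable def iota : MvPolynomial (Fin d) ℚ →ₐ[ℚ] MvPolynomial (Fin d) ℚ :=
  aeval (fun i : Fin d => esymm (Fin d) ℚ (i + 1))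

lemma iota_eq (p : MvPolynomial (Fin d) ℚ) :
    iota d p = ((esymmAlgEquiv (Fin d) ℚ (Fintype.card_fin d)) p).val := by
  rw [esymmAlgEquiv_apply, esymmAlgHom_apply]
  rfl

lemma iota_injective : Function.Injective (iota d) := by
  intro p q h
  rw [iota_eq, iota_eq] at h
  exact (esymmAlgEquiv (Fin d) ℚ (Fintype.card_fin d)).injective (Subtype.ext h)

lemma iota_symm (s : symmetricSubalgebra (Fin d) ℚ) :
    iota d ((esymmAlgEquiv (Fin d) ℚ (Fintype.card_fin d)).symm s) = s.val := by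
  rw [iota_eq, AlgEquiv.apply_symm_apply]

/-- the Newton polynomial `N_k` with `N_k(e_1, …, e_d) = p_k`. -/
noncomputable def Npoly (k : ℕ) : MvPolynomial (Fin d) ℚ :=
  (esymmAlgEquiv (Fin d) ℚ (Fintype.card_fin d)).symm
    ⟨psum (Fin d) ℚ k, psum_isSymmetric (Fin d) ℚ k⟩

lemma iota_Npoly (k : ℕ) : iota d (Npoly d k) = psum (Fin d) ℚ k := by
  unfold Npoly
  rw [iota_symm]

/-- `e'_j`: `1` for `j = 0`, the variable `X_{j-1}` for `1 ≤ j ≤ d`. -/
noncomputable def epoly (j : ℕ) : MvPolynomial (Fin d) ℚ :=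
  if h0 : j = 0 then 1 else if h : j ≤ d then X ⟨j - 1, by omega⟩ else 0

lemma iota_epoly (j : ℕ) (hj : j ≤ d) : iota d (epoly d j) = esymm (Fin d) ℚ j := by
  unfold epoly
  split_ifs with h0
  · subst h0
    rw [map_one, esymm_zero]
  · unfold iota
    rw [aeval_X]
    congr 1
    simp only
    omega

lemma Npoly_zero : Npoly d 0 = (d : MvPolynomial (Fin d) ℚ) := by
  apply iota_injective
  rw [iota_Npoly, psum_zero, map_natCast, Fintype.card_fin]

lemma chPoly_eq :
    KGr.chPoly d = ∑ k ∈ range (d + 1), C (1 / (Nat.factorial k : ℚ)) * Npoly d k := by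
  apply iota_injective
  unfold KGr.chPoly
  rw [iota_symm, map_sum]
  simp only [map_mul, iota_Npoly]
  unfold KGr.expTrunc
  simp only [map_sum, map_mul, map_pow, Polynomial.aeval_C, Polynomial.aeval_X]
  rw [Finset.sum_comm]
  apply Finset.sum_congr rfl
  intro k _
  unfold psum
  rw [Finset.mul_sum]
  apply Finset.sum_congr rfl
  intro i _
  congr 1
  unfold iota
  rw [aeval_C]

lemma newton_range (σ : Type*) [Fintype σ] (k : ℕ) :
    (k : MvPolynomial σ ℚ) * esymm σ ℚ k =
      (-1) ^ (k + 1) * ∑ i ∈ range k, (-1) ^ i * esymm σ ℚ i * psum σ ℚ (k - i) := by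
  classical
  rw [mul_esymm_eq_sum, Finset.sum_filter,
    Finset.Nat.sum_antidiagonal_eq_sum_range_succ_mk, Finset.sum_range_succ]
  simp only [lt_self_iff_false, if_false, add_zero]
  congr 1
  apply Finset.sum_congr rfl
  intro i hi
  rw [if_pos (Finset.mem_range.mp hi)]

lemma newton_poly (k : ℕ) (hk : k ≤ d) :
    (k : MvPolynomial (Fin d) ℚ) * epoly d k =
      (-1) ^ (k + 1) * ∑ i ∈ range k, (-1) ^ i * epoly d i * Npoly d (k - i) := by
  apply iota_injective
  rw [map_mul, map_natCast, iota_epoly d k hk, newton_range, map_mul, map_pow, map_neg, map_one,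
    map_sum]
  congr 1
  apply Finset.sum_congr rfl
  intro i hi
  have hi' := Finset.mem_range.mp hi
  rw [map_mul, map_mul, map_pow, map_neg, map_one, iota_epoly d i (by omega), iota_Npoly]

section compare

lemma alg_neg_one_pow {R : Type*} [CommRing R] [Algebra ℚ R] (n : ℕ) :
    (-1 : R) ^ n = algebraMap ℚ R ((-1) ^ n) := by simp

/-- two Newton recursions with the same elementary part have the same power-sum part up to the
standard sign. -/
lemma newton_compare {R : Type*} [CommRing R] [Algebra ℚ R] (d : ℕ) (c s β : ℕ → R)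
    (hc0 : c 0 = 1)
    (h1 : ∀ k : ℕ, k ≤ d → (k : ℚ) • c k =
      (-1) ^ (k + 1) * ∑ i ∈ range k, (-1) ^ i * c i * s (k - i))
    (h2 : ∀ k : ℕ, (k : ℚ) • c k = ∑ i ∈ range k, c i * β (k - i)) :
    ∀ k, 1 ≤ k → k ≤ d → s k = (-1) ^ (k + 1) * β k := by
  intro k
  induction k using Nat.strong_induction_on with
  | _ k ih =>
    intro hk1 hk
    obtain ⟨k', rfl⟩ : ∃ k', k = k' + 1 := ⟨k - 1, by omega⟩
    have e1 := h1 (k' + 1) hk
    have e2 := h2 (k' + 1)
    rw [e2, Finset.sum_range_succ', Finset.sum_range_succ'] at e1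
    simp only [pow_zero, one_mul, hc0, Nat.sub_zero] at e1
    have h3 : ∀ i ∈ range k', (-1 : R) ^ (k' + 1 + 1) *
        ((-1) ^ (i + 1) * c (i + 1) * s (k' + 1 - (i + 1))) =
        c (i + 1) * β (k' + 1 - (i + 1)) := by
      intro i hi
      have hi' := Finset.mem_range.mp hi
      rw [ih (k' + 1 - (i + 1)) (by omega) (by omega) (by omega)]
      have e : (-1 : R) ^ (k' + 1 + 1) * (-1) ^ (i + 1) * (-1) ^ (k' + 1 - (i + 1) + 1) = 1 := by
        rw [← pow_add, ← pow_add]
        apply Even.neg_one_pow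
        refine ⟨k' + 2, ?_⟩
        omega
      calc (-1 : R) ^ (k' + 1 + 1) * ((-1) ^ (i + 1) * c (i + 1) *
            ((-1) ^ (k' + 1 - (i + 1) + 1) * β (k' + 1 - (i + 1))))
          = ((-1 : R) ^ (k' + 1 + 1) * (-1) ^ (i + 1) * (-1) ^ (k' + 1 - (i + 1) + 1)) *
              (c (i + 1) * β (k' + 1 - (i + 1))) := by ring
        _ = _ := by rw [e, one_mul]
    rw [mul_add, Finset.mul_sum, Finset.sum_congr rfl h3] at e1
    have h4 := add_left_cancel e1
    have e3 : (-1 : R) ^ (k' + 1 + 1) * (-1) ^ (k' + 1 + 1) = 1 := by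
      rw [← pow_add]
      apply Even.neg_one_pow
      refine ⟨k' + 2, ?_⟩
      omega
    calc s (k' + 1)
        = ((-1 : R) ^ (k' + 1 + 1) * (-1) ^ (k' + 1 + 1)) * s (k' + 1) := by
          rw [e3, one_mul]
      _ = (-1 : R) ^ (k' + 1 + 1) * ((-1) ^ (k' + 1 + 1) * s (k' + 1)) := by ring
      _ = _ := by rw [← h4]

end compare

end Groth.Agent.Lib.Helper16.CP
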