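import Mathlib.Algebra.Homology.Homotopy
import Mathlib.Algebra.Homology.ShortComplex.Exact
import Mathlib.Algebra.Homology.ShortComplex.HomologicalComplex
import Mathlib.Algebra.Homology.HomologySequence
import Mathlib.Algebra.Homology.QuasiIso
import Mathlib.CategoryTheory.Preadditive.Projective.Basic
import Mathlib.Algebra.Homology.HomologicalComplexAbelian

namespace Groth.Agent.Lib.Helper16.ChainContract

open CategoryTheory CategoryTheory.Limits

universe v u
variable {V : Type u} [Category.{v} V] [Abelian V]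

/-- an acyclic `ℕ`-indexed chain complex of projective objects is contractible -/
theorem nonempty_homotopy_id_zero (C : ChainComplex V ℕ) [∀ n, Projective (C.X n)]
    (hC : ∀ n, C.ExactAt n) : Nonempty (Homotopy (𝟙 C) 0) := by
  have ex0 : (C.sc' 1 0 0).Exact := (C.exactAt_iff' 1 0 0 (by simp) (by simp)).1 (hC 0)
  have exs : ∀ n : ℕ, (C.sc' (n + 2) (n + 1) n).Exact := fun n =>
    (C.exactAt_iff' (n + 2) (n + 1) n (by simp) (by simp)).1 (hC (n + 1))
  let zero : C.X 0 ⟶ C.X 1 := ex0.liftFromProjective (𝟙 (C.X 0)) (by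
    show 𝟙 (C.X 0) ≫ C.d 0 0 = 0
    rw [C.shape 0 0 (by simp), comp_zero])
  have hzero : zero ≫ C.d 1 0 = 𝟙 _ := ex0.liftFromProjective_comp _ _
  have h1 : (𝟙 (C.X 1) - C.d 1 0 ≫ zero) ≫ C.d 1 0 = 0 := by
    rw [Preadditive.sub_comp, Category.assoc, hzero, Category.id_comp, Category.comp_id, sub_self]
  let one : C.X 1 ⟶ C.X 2 := (exs 0).liftFromProjective (𝟙 (C.X 1) - C.d 1 0 ≫ zero) h1
  have hone : one ≫ C.d 2 1 = 𝟙 (C.X 1) - C.d 1 0 ≫ zero := (exs 0).liftFromProjective_comp _ _
  refine ⟨Homotopy.mkInductive (𝟙 C) zero ?_ one ?_ ?_⟩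
  · rw [hzero]; rfl
  · rw [hone]; simp
  · rintro n ⟨f, f', hf⟩
    have hf' : f' ≫ C.d (n + 2) (n + 1) = 𝟙 _ - C.d (n + 1) n ≫ f := by
      have : (𝟙 C : C ⟶ C).f (n + 1) = 𝟙 _ := rfl
      rw [this] at hf
      rw [hf]; abel
    have h2 : (𝟙 (C.X (n + 2)) - C.d (n + 2) (n + 1) ≫ f') ≫ C.d (n + 2) (n + 1) = 0 := by
      rw [Preadditive.sub_comp, Category.assoc, hf', Preadditive.comp_sub, Category.id_comp,
        Category.comp_id, C.d_comp_d_assoc, zero_comp, sub_zero, sub_self]
    let l : C.X (n + 2) ⟶ C.X (n + 3) := (exs (n + 1)).liftFromProjective _ h2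
    have hl : l ≫ C.d (n + 3) (n + 2) = 𝟙 (C.X (n + 2)) - C.d (n + 2) (n + 1) ≫ f' :=
      (exs (n + 1)).liftFromProjective_comp _ h2
    refine ⟨l, ?_⟩
    show 𝟙 (C.X (n + 2)) = C.d (n + 2) (n + 1) ≫ f' + l ≫ C.d (n + 3) (n + 2)
    rw [hl]; abel

/-- in a short exact sequence of `ℕ`-indexed chain complexes whose first map is a quasi-isomorphism,
the third complex is acyclic -/
theorem exactAt_X₃ (S : ShortComplex (ChainComplex V ℕ)) (hS : S.ShortExact) [QuasiIso S.f]
    (n : ℕ) : S.X₃.ExactAt n := by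
  rw [HomologicalComplex.exactAt_iff_isZero_homology]
  have qi : ∀ k, IsIso (HomologicalComplex.homologyMap S.f k) := fun k => by
    have := (inferInstance : QuasiIso S.f).quasiIsoAt k
    rwa [quasiIsoAt_iff_isIso_homologyMap] at this
  have hb : HomologicalComplex.homologyMap S.g n = 0 := by
    have := qi n
    have e : HomologicalComplex.homologyMap S.f n ≫ HomologicalComplex.homologyMap S.g n = 0 := by
      rw [← HomologicalComplex.homologyMap_comp, S.zero, HomologicalComplex.homologyMap_zero]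
    rw [← cancel_epi (HomologicalComplex.homologyMap S.f n), e, comp_zero]
  cases n with
  | zero =>
    have := hS.epi_g
    have : Epi (S.g.f 0) := inferInstance
    have : Epi (HomologicalComplex.homologyMap S.g 0) :=
      HomologicalComplex.epi_homologyMap_of_epi_of_not_rel S.g 0 (by simp)
    rw [IsZero.iff_id_eq_zero, ← cancel_epi (HomologicalComplex.homologyMap S.g 0), hb, zero_comp,
      comp_zero]
  | succ j =>
    have hij : (ComplexShape.down ℕ).Rel (j + 1) j := by simp
    have hδ : hS.δ (j + 1) j hij = 0 := by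
      have := qi j
      rw [← cancel_mono (HomologicalComplex.homologyMap S.f j), hS.δ_comp, zero_comp]
    exact (hS.homology_exact₃ (j + 1) j hij).isZero_X₂ hb hδ

/-- a short exact sequence of `ℕ`-indexed chain complexes with degreewise projective cokernel and
whose first map is a quasi-isomorphism has a section (as complexes) -/
theorem exists_section (S : ShortComplex (ChainComplex V ℕ)) (hS : S.ShortExact) [QuasiIso S.f]
    [∀ n, Projective (S.X₃.X n)] : ∃ h : S.X₃ ⟶ S.X₂, h ≫ S.g = 𝟙 _ := by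
  obtain ⟨s⟩ := nonempty_homotopy_id_zero S.X₃ (exactAt_X₃ S hS)
  have := hS.epi_g
  have hepi : ∀ q, Epi (S.g.f q) := fun q => inferInstance
  let σ : ∀ q, S.X₃.X q ⟶ S.X₂.X q := fun q => Projective.factorThru (𝟙 _) (S.g.f q)
  have hσ : ∀ q, σ q ≫ S.g.f q = 𝟙 _ := fun q => Projective.factorThru_comp _ _
  refine ⟨Homotopy.nullHomotopicMap (fun i j => s.hom i j ≫ σ j), ?_⟩
  rw [Homotopy.nullHomotopicMap_comp]
  have : (fun i j => (s.hom i j ≫ σ j) ≫ S.g.f j) = fun i j => s.hom i j := by
    funext i j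
    rw [Category.assoc, hσ, Category.comp_id]
  rw [this]
  ext i
  have := s.comm i
  rw [HomologicalComplex.zero_f_apply, add_zero] at this
  exact this.symm

/-- ... and a retraction -/
theorem exists_retraction (S : ShortComplex (ChainComplex V ℕ)) (hS : S.ShortExact) [QuasiIso S.f]
    [∀ n, Projective (S.X₃.X n)] : ∃ g : S.X₂ ⟶ S.X₁, S.f ≫ g = 𝟙 _ := by
  obtain ⟨h, hh⟩ := exists_section S hS
  have hk : (𝟙 S.X₂ - S.g ≫ h) ≫ S.g = 0 := by
    rw [Preadditive.sub_comp, Category.assoc, hh, Category.comp_id, Category.id_comp, sub_self]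
  refine ⟨hS.fIsKernel.lift (KernelFork.ofι _ hk), ?_⟩
  have := hS.mono_f
  rw [← cancel_mono S.f, Category.assoc]
  have e : hS.fIsKernel.lift (KernelFork.ofι _ hk) ≫ S.f = 𝟙 S.X₂ - S.g ≫ h :=
    hS.fIsKernel.fac _ WalkingParallelPair.zero
  rw [e, Preadditive.comp_sub, Category.comp_id, Category.id_comp, S.zero_assoc, zero_comp, sub_zero]

end Groth.Agent.Lib.Helper16.ChainContract
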