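import Groth.Agent.Lib.Helper16.ChernChar

/-!
# Helper library (helper16): the Chern character is additive and bijective rationally
-/

set_option autoImplicit false
universe v

open scoped TensorProduct
open Finset

namespace Groth.Agent.Lib.Helper16.CC

open LambdaRing KGr Groth.Agent.Lib.Helper20.GFP Groth.Agent.Lib.Helper16.GR
  Groth.Agent.Lib.Helper16.GN Groth.Agent.Lib.Helper16.CP

variable {K : Type v} [CommRing K] [LambdaOps K] (P : PosStructure K) (d : ℕ)

lemma mem_filt_one_of_aug_zero {y : K} (hy : P.aug y = 0) : y ∈ gammaFiltration P 1 := by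
  have h := gamma_mem P hy 1
  rwa [Groth.Agent.Lib.Helper20.GF.gamma_one_left] at h

lemma mem_filt_zero (x : K) : x ∈ gammaFiltration P 0 := by
  rw [filt_zero]; trivial

lemma grK_zero_eq (x : K) : grK P ((0 : ℕ) : ℤ) x = algebraMap ℚ (Gr P) (P.aug x : ℚ) := by
  have e : x = red P x + ((P.aug x : ℤ) : K) * 1 := by unfold red; ring
  conv_lhs => rw [e]
  rw [grK_add P (mem_filt_zero P _) (mem_filt_zero P _),
    grK_eq_zero_of_mem P (mem_filt_one_of_aug_zero P (aug_red P x)),
    grK_intCast_mul P (mem_filt_zero P 1), grK_one, zero_add, smul_def', mul_one]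

/-- the higher part of `chS`. -/
lemma chS_sub_grK_zero (x : K) : chS P d x - grK P ((0 : ℕ) : ℤ) x ∈ GU P 1 := by
  unfold chS
  rw [grK_zero_eq, add_sub_cancel_left]
  apply Submodule.sum_mem
  intro k _
  apply Submodule.smul_mem
  exact grK_mem_GU P (by omega) (bco_mem P _ (aug_red P x) (k + 1))

lemma chS_sub_grK (hK : HasSplitting K P) {n : ℕ} (hn1 : 1 ≤ n) (hnd : n ≤ d) {x : K}
    (hx : x ∈ gammaFiltration P n) : chS P d x - grK P (n : ℤ) x ∈ GU P (n + 1) := by
  have hε : P.aug x = 0 := aug_eq_zero_of_mem P hK hn1 hx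
  have hred : red P x = x := red_of_aug_zero P hε
  unfold chS
  rw [hε, Int.cast_zero, map_zero, zero_add]
  obtain ⟨n', rfl⟩ : ∃ n', n = n' + 1 := ⟨n - 1, by omega⟩
  have hmem : n' ∈ range d := Finset.mem_range.mpr (by omega)
  rw [← Finset.add_sum_erase _ _ hmem]
  have hmain : (((-1 : ℚ) ^ n' / ((n' + 1).factorial : ℚ)) : ℚ) • beta P x (n' + 1) =
      grK P ((n' + 1 : ℕ) : ℤ) x := by
    unfold beta
    rw [hred]
    have h1 := bco_sub_mem P hK hx (n' + 1)
    have e : bco P (n' + 1) x = (bco P (n' + 1) x - ((cco (n' + 1) (n' + 1) : ℤ) : K) * x) +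
        ((cco (n' + 1) (n' + 1) : ℤ) : K) * x := by ring
    rw [e, grK_add P (filt_anti P (Nat.le_succ _) h1) (smul_mem P _ hx),
      grK_eq_zero_of_mem P h1, zero_add, grK_intCast_mul P hx, smul_smul,
      cco_self (n' + 1) (by omega)]
    have hf : ((n' + 1).factorial : ℚ) ≠ 0 := by exact_mod_cast Nat.factorial_ne_zero _
    have e2 : ((-1 : ℚ) ^ n' / ((n' + 1).factorial : ℚ)) *
        (((-1) ^ (n' + 1 + 1) * ((n' + 1).factorial : ℤ) : ℤ) : ℚ) = 1 := by
      push_cast
      have : ((-1 : ℚ)) ^ (n' + 1 + 1) = (-1) ^ n' := by rw [pow_add, pow_add]; norm_num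
      rw [this]
      field_simp
      rw [← pow_mul, mul_comm, pow_mul, neg_one_sq, one_pow]
    rw [e2, one_smul]
  rw [hmain, add_sub_cancel_left]
  apply Submodule.sum_mem
  intro k hk
  have hk' := Finset.mem_erase.mp hk
  apply Submodule.smul_mem
  unfold beta
  rw [hred]
  rcases Nat.lt_or_ge k n' with hlt | hge
  · rw [grK_eq_zero_of_mem' P (by omega : k + 1 < n' + 1) (bco_mem_of_mem P hK hx (k + 1))]
    exact Submodule.zero_mem _
  · have hne : k ≠ n' := hk'.1
    exact grK_mem_GU P (by omega) (bco_mem P _ hε (k + 1))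

/-- the Chern character as an additive map. -/
noncomputable def chAdd : K →+ Gr P where
  toFun := chS P d
  map_zero' := chS_zero P d
  map_add' := chS_add P d

/-- the Chern character, ℚ-linearly extended. -/
noncomputable def chLin : ℚ ⊗[ℤ] K →ₗ[ℚ] Gr P :=
  LinearMap.liftBaseChange ℚ (chAdd P d).toIntLinearMap

lemma chLin_tmul (q : ℚ) (x : K) : chLin P d (q ⊗ₜ[ℤ] x) = q • chS P d x := by
  unfold chLin
  rw [LinearMap.liftBaseChange_tmul]
  rfl

lemma chS_natCast_mul (N : ℕ) (x : K) : chS P d ((N : K) * x) = (N : ℚ) • chS P d x := by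
  have h := map_nsmul (chAdd P d) N x
  rw [nsmul_eq_mul] at h
  change chS P d ((N : K) * x) = N • chS P d x at h
  rw [h, Nat.cast_smul_eq_nsmul]

theorem chLin_surjective (hK : HasSplitting K P) (hd : gammaFiltration P (d + 1) = ⊥) :
    Function.Surjective (chLin P d) := by
  have hrange : ∀ x : K, chS P d x ∈ LinearMap.range (chLin P d) := by
    intro x
    refine ⟨(1 : ℚ) ⊗ₜ[ℤ] x, ?_⟩
    rw [chLin_tmul, one_smul]
  have key : ∀ j : ℕ, j ≤ d + 1 → GU P (d + 1 - j) ≤ LinearMap.range (chLin P d) := by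
    intro j
    induction j with
    | zero =>
      intro _
      rw [Nat.sub_zero, GU_eq_bot P hd le_rfl]
      exact bot_le
    | succ j ih =>
      intro hj
      have ih' := ih (by omega)
      have e : d + 1 - j = (d + 1 - (j + 1)) + 1 := by omega
      rw [e] at ih'
      generalize hn : d + 1 - (j + 1) = n at ih' ⊢
      apply Submodule.span_le.mpr
      rintro y ⟨m, x, hx, hm, rfl⟩
      rcases Nat.lt_or_ge n m with hlt | hge
      · exact ih' (clsQ_mem_GU P (by omega) x hx)
      · have hmn : m = n := by omega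
        subst hmn
        rw [← grK_eq_clsQ P m x hx]
        have h1 : chS P d x - grK P (m : ℤ) x ∈ GU P (m + 1) := by
          rcases Nat.eq_zero_or_pos m with h0 | hpos
          · subst h0
            exact chS_sub_grK_zero P d x
          · exact chS_sub_grK P d hK hpos (by omega) hx
        have h2 : grK P (m : ℤ) x = chS P d x - (chS P d x - grK P (m : ℤ) x) := by ring
        rw [h2]
        exact Submodule.sub_mem _ (hrange x) (ih' h1)
  have h0 := key (d + 1) le_rfl
  rw [Nat.sub_self, GU_zero] at h0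
  exact LinearMap.range_eq_top.mp (top_le_iff.mp h0)

theorem chLin_injective (hK : HasSplitting K P) (hd : gammaFiltration P (d + 1) = ⊥) :
    Function.Injective (chLin P d) := by
  rw [injective_iff_map_eq_zero]
  intro z hz
  obtain ⟨M, x, hM, hMz⟩ := exists_nat_smul_eq z
  have hx : chS P d x = 0 := by
    have h1 := congrArg (chLin P d) hMz
    rw [map_smul, hz, smul_zero, chLin_tmul, one_smul] at h1
    exact h1.symm
  have key : ∀ n : ℕ, n ≤ d + 1 → ∃ N : ℕ, 1 ≤ N ∧ (N : K) * x ∈ gammaFiltration P n := by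
    intro n
    induction n with
    | zero => intro _; exact ⟨1, le_rfl, mem_filt_zero P _⟩
    | succ n ih =>
      intro hn
      obtain ⟨N, hN, hNx⟩ := ih (by omega)
      have hy : chS P d ((N : K) * x) = 0 := by rw [chS_natCast_mul, hx, smul_zero]
      have h1 : chS P d ((N : K) * x) - grK P (n : ℤ) ((N : K) * x) ∈ GU P (n + 1) := by
        rcases Nat.eq_zero_or_pos n with h0 | hpos
        · subst h0
          exact chS_sub_grK_zero P d _
        · exact chS_sub_grK P d hK hpos (by omega) hNx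
      rw [hy, zero_sub, grK_eq_clsQ P n _ hNx] at h1
      have h2 := Submodule.neg_mem _ h1
      rw [neg_neg] at h2
      obtain ⟨M', hM', h3⟩ := exists_mul_mem_of_clsQ_mem P n _ hNx h2
      refine ⟨M' * N, Nat.mul_pos hM' hN, ?_⟩
      rw [Nat.cast_mul, mul_assoc]
      exact h3
  obtain ⟨N, hN, hNx⟩ := key (d + 1) le_rfl
  rw [hd, AddSubgroup.mem_bot] at hNx
  have h4 : (N : ℚ) • ((1 : ℚ) ⊗ₜ[ℤ] x) = 0 := by
    rw [TensorProduct.smul_tmul', smul_eq_mul, mul_one]
    have : ((N : ℚ) ⊗ₜ[ℤ] x : ℚ ⊗[ℤ] K) = (1 : ℚ) ⊗ₜ[ℤ] ((N : K) * x) := by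
      rw [← nsmul_eq_mul, TensorProduct.tmul_smul, TensorProduct.smul_tmul']
      simp
    rw [this, hNx, TensorProduct.tmul_zero]
  have hN0 : (N : ℚ) ≠ 0 := by exact_mod_cast (by omega : N ≠ 0)
  have h5 : (1 : ℚ) ⊗ₜ[ℤ] x = (0 : ℚ ⊗[ℤ] K) := (smul_eq_zero.mp h4).resolve_left hN0
  rw [h5] at hMz
  have hM0 : (M : ℚ) ≠ 0 := by exact_mod_cast (by omega : M ≠ 0)
  exact (smul_eq_zero.mp hMz).resolve_left hM0

end Groth.Agent.Lib.Helper16.CC
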