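import Groth.Agent.Lib.Helper16.GammaNewton
import Groth.Agent.Lib.Helper20.AdamsFilt
import Mathlib.Algebra.Group.ForwardDiff

/-!
# Helper library (helper16): the Newton coefficients `b_m` and the γ-filtration
-/

set_option autoImplicit false
universe u

open PowerSeries Finset

namespace Groth.Agent.Lib.Helper16.GN

open LambdaRing Groth.Agent.Lib.Helper20.LR Groth.Agent.Lib.Helper20.GFP Groth.Agent.Lib.Helper20.AF

variable {K : Type u} [CommRing K] [LambdaOps K] (P : PosStructure K)

section aug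

lemma map_aug_lamSeries_pos (hK : HasSplitting K P) (e : K) (he : e ∈ P.pos) :
    PowerSeries.map P.aug (lamSeries e) = (1 + X) ^ (P.aug e).toNat := by
  obtain ⟨C, hKC, hC⟩ := hK
  obtain ⟨L', hL', g, hg, s, hs, hse⟩ := hC ⟨K, P⟩ hKC e he
  have h1 := map_aug_lamSeries_lines L'.posStr s hs
  have h2 := aug_multiset_sum_lines L'.posStr s hs
  rw [hse, hg.aug_comp] at h2
  rw [hse] at h1
  have h3 : PowerSeries.map P.aug (lamSeries e) =
      PowerSeries.map L'.posStr.aug (lamSeries (g e)) := by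
    ext n
    rw [coeff_map, coeff_map, coeff_lamSeries, coeff_lamSeries]
    change _ = L'.posStr.aug (LambdaOps.lam n (g e))
    rw [← hg.isLambdaHom, hg.aug_comp]
  rw [h3, h1, h2]
  simp

lemma map_aug_lamSeries_of_aug_zero (hK : HasSplitting K P) (y : K) (hy : P.aug y = 0) :
    PowerSeries.map P.aug (lamSeries y) = 1 := by
  obtain ⟨e, f, he, hf, rfl⟩ := P.exists_sub y
  have hm : P.aug e = P.aug f := by
    rw [map_sub] at hy
    exact sub_eq_zero.mp hy
  have h1 : lamSeries (e - f) * lamSeries f = lamSeries e := by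
    rw [← lamSeries_add, sub_add_cancel]
  have h2 := congrArg (PowerSeries.map P.aug) h1
  rw [map_mul, map_aug_lamSeries_pos P hK e he, map_aug_lamSeries_pos P hK f hf, hm] at h2
  have hu : IsUnit ((1 + X : PowerSeries ℤ) ^ (P.aug f).toNat) := by
    apply IsUnit.pow
    rw [isUnit_iff_constantCoeff]
    simp
  have h3 : PowerSeries.map P.aug (lamSeries (e - f)) * (1 + X) ^ (P.aug f).toNat =
      1 * (1 + X) ^ (P.aug f).toNat := by rw [h2, one_mul]
  exact hu.mul_right_cancel h3

lemma aug_lam_of_aug_zero (hK : HasSplitting K P) (y : K) (hy : P.aug y = 0) (j : ℕ) (hj : 1 ≤ j) :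
    P.aug (LambdaOps.lam j y) = 0 := by
  have h := congrArg (coeff j) (map_aug_lamSeries_of_aug_zero P hK y hy)
  rw [coeff_map, coeff_lamSeries, coeff_one, if_neg (by omega)] at h
  exact h

lemma aug_gamma_of_aug_zero (hK : HasSplitting K P) (y : K) (hy : P.aug y = 0) (r : ℕ)
    (hr : 1 ≤ r) : P.aug (gamma r y) = 0 := by
  unfold gamma
  rw [if_neg (by omega), map_sum]
  apply Finset.sum_eq_zero
  intro j _
  rw [map_mul]
  split_ifs with hj
  · simp
  · rw [aug_lam_of_aug_zero P hK y hy j (by omega), mul_zero]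

lemma aug_eq_zero_of_mem (hK : HasSplitting K P) {n : ℕ} (hn : 1 ≤ n) {x : K}
    (hx : x ∈ gammaFiltration P n) : P.aug x = 0 := by
  rw [Groth.Agent.S3291.filt_succ P n (by omega)] at hx
  refine AddSubgroup.closure_induction ?_ ?_ ?_ ?_ hx
  · rintro y ⟨l, h1, h2, rfl⟩
    have key : ∀ (l : List (ℕ × K)), (∀ p ∈ l, P.aug p.2 = 0) → 1 ≤ (l.map Prod.fst).sum →
        P.aug (l.map fun p => gamma p.1 p.2).prod = 0 := by
      intro l
      induction l with
      | nil => intro _ h; simp at h
      | cons a l ih =>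
        intro h1 h2
        rw [List.map_cons, List.prod_cons, map_mul]
        by_cases ha : 1 ≤ a.1
        · rw [aug_gamma_of_aug_zero P hK a.2 (h1 a (List.mem_cons_self)) a.1 ha, zero_mul]
        · rw [ih (fun p hp => h1 p (List.mem_cons_of_mem _ hp)) (by
            rw [List.map_cons, List.sum_cons] at h2
            omega), mul_zero]
    exact key l h1 (by omega)
  · exact map_zero _
  · intro a b _ _ ha hb
    rw [map_add, ha, hb, add_zero]
  · intro a _ ha
    rw [map_neg, ha, neg_zero]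

end aug

section mem

lemma bco_zero (x : K) : bco P 0 x = 0 := by
  rw [bco_eq]
  simp [coeff_Aser]

/-- `b_m(x) ∈ F^m` for `ε(x) = 0`. -/
lemma bco_mem (x : K) (hx : P.aug x = 0) (m : ℕ) : bco P m x ∈ gammaFiltration P m := by
  induction m using Nat.strong_induction_on with
  | _ m ih =>
    rcases m with _ | m
    · rw [filt_zero]; trivial
    · have h := newton P (m + 1) x
      rw [Finset.sum_range_succ'] at h
      simp only [Nat.sub_zero] at h
      have e0 : gamma 0 x = 1 := by simp [gamma]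
      rw [e0, one_mul] at h
      have h' : bco P (m + 1) x = ((m + 1 : ℕ) : K) * gamma (m + 1) x -
          ∑ i ∈ range m, gamma (i + 1) x * bco P (m + 1 - (i + 1)) x := by
        rw [h]; ring
      rw [h']
      apply AddSubgroup.sub_mem
      · exact smul_mem P _ (gamma_mem P hx (m + 1))
      · apply AddSubgroup.sum_mem
        intro i hi
        have hi' := Finset.mem_range.mp hi
        have h1 := mul_mem P (gamma_mem P hx (i + 1)) (ih (m + 1 - (i + 1)) (by omega))
        have e1 : i + 1 + (m + 1 - (i + 1)) = m + 1 := by omega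
        rwa [e1] at h1

/-- the integer `Σ_k C(m,k) (-1)^(k+1) k^n`. -/
def cco (m n : ℕ) : ℤ :=
  ∑ k ∈ range (m + 1), (m.choose k : ℤ) * (if k = 0 then 0 else (-1) ^ (k + 1) * (k : ℤ) ^ n)

lemma adams_mem_of_mem (hK : HasSplitting K P) {n : ℕ} {x : K} (hx : x ∈ gammaFiltration P n)
    (k : ℕ) : adams P k x ∈ gammaFiltration P n := by
  have h1 := adams_sub_mem P hK k n x hx
  have h2 : adams P k x = (adams P k x - (k : K) ^ n * x) + (k : K) ^ n * x := by ring
  rw [h2]
  exact AddSubgroup.add_mem _ (filt_anti P (Nat.le_succ n) h1) (smul_mem P _ hx)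

/-- `b_m(x) ≡ c(m,n) x` modulo `F^{n+1}` for `x ∈ F^n`. -/
lemma bco_sub_mem (hK : HasSplitting K P) {n : ℕ} {x : K} (hx : x ∈ gammaFiltration P n)
    (m : ℕ) : bco P m x - ((cco m n : ℤ) : K) * x ∈ gammaFiltration P (n + 1) := by
  rw [bco_eq, cco]
  push_cast
  rw [Finset.sum_mul, ← Finset.sum_sub_distrib]
  apply AddSubgroup.sum_mem
  intro k _
  rw [coeff_Aser]
  split_ifs with hk
  · simp
  · have h1 := adams_sub_mem P hK k n x hx
    have h2 : (m.choose k : K) * ((-1) ^ (k + 1) * adams P k x) -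
        (m.choose k : K) * ((-1) ^ (k + 1) * (k : K) ^ n) * x =
        ((m.choose k : K) * (-1) ^ (k + 1)) * (adams P k x - (k : K) ^ n * x) := by ring
    rw [h2]
    exact smul_mem P _ h1

lemma bco_mem_of_mem (hK : HasSplitting K P) {n : ℕ} {x : K} (hx : x ∈ gammaFiltration P n)
    (m : ℕ) : bco P m x ∈ gammaFiltration P n := by
  have h1 := bco_sub_mem P hK hx m
  have h2 : bco P m x = (bco P m x - ((cco m n : ℤ) : K) * x) + ((cco m n : ℤ) : K) * x := by ring
  rw [h2]
  exact AddSubgroup.add_mem _ (filt_anti P (Nat.le_succ n) h1) (smul_mem P _ hx)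

lemma cco_self (n : ℕ) (hn : 1 ≤ n) : cco n n = (-1) ^ (n + 1) * (n.factorial : ℤ) := by
  have h1 := congrFun (fwdDiff_iter_eq_factorial (R := ℤ) (n := n)) 0
  rw [fwdDiff_iter_eq_sum_shift] at h1
  simp only [zero_add, smul_eq_mul, nsmul_eq_mul, mul_one, Pi.natCast_apply] at h1
  unfold cco
  have h2 : ∀ k ∈ range (n + 1),
      (n.choose k : ℤ) * (if k = 0 then 0 else (-1) ^ (k + 1) * (k : ℤ) ^ n) =
        (-1) ^ (n + 1) * ((-1 : ℤ) ^ (n - k) * (n.choose k : ℤ) * (k : ℤ) ^ n) := by
    intro k hk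
    have hk' := Finset.mem_range.mp hk
    split_ifs with h0
    · subst h0
      simp [zero_pow (by omega : n ≠ 0)]
    · have e1 : (-1 : ℤ) ^ (n + 1) * (-1) ^ (n - k) = (-1) ^ (k + 1) := by
        rw [← pow_add]
        have : n + 1 + (n - k) = (k + 1) + 2 * (n - k) := by omega
        rw [this, pow_add, pow_mul]
        simp
      calc (n.choose k : ℤ) * ((-1) ^ (k + 1) * (k : ℤ) ^ n)
          = ((-1 : ℤ) ^ (n + 1) * (-1) ^ (n - k)) * ((n.choose k : ℤ) * (k : ℤ) ^ n) := by
            rw [e1]; ring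
        _ = _ := by ring
  rw [Finset.sum_congr rfl h2, ← Finset.mul_sum]
  congr 1

end mem

end Groth.Agent.Lib.Helper16.GN
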