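import Groth.Agent.Lib.Helper16.GrK
import Groth.Agent.Lib.Helper16.GammaNewton2
import Groth.Agent.Lib.Helper16.ChPoly

/-!
# Helper library (helper16): the Chern character `KGr.chK` in terms of the Newton coefficients
-/

set_option autoImplicit false
universe v

open scoped TensorProduct
open Finset

namespace Groth.Agent.Lib.Helper16.CC

open LambdaRing KGr Groth.Agent.Lib.Helper20.GFP Groth.Agent.Lib.Helper16.GR
  Groth.Agent.Lib.Helper16.GN Groth.Agent.Lib.Helper16.CP

variable {K : Type v} [CommRing K] [LambdaOps K] (P : PosStructure K)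

lemma smul_def' (q : ℚ) (z : Gr P) : q • z = algebraMap ℚ (Gr P) q * z := Algebra.smul_def q z

/-- `x - ε(x)`. -/
def red (x : K) : K := x - (P.aug x : K)

lemma aug_red (x : K) : P.aug (red P x) = 0 := by
  unfold red
  rw [map_sub, map_intCast]
  simp

lemma red_add (x y : K) : red P (x + y) = red P x + red P y := by
  unfold red
  rw [map_add]
  push_cast
  ring

lemma red_of_aug_zero {x : K} (hx : P.aug x = 0) : red P x = x := by
  unfold red
  rw [hx]
  simp

/-- `c_j(x)`, with `c_0 = 1`. -/
noncomputable def cc (x : K) (j : ℕ) : Gr P := grK P (j : ℤ) (gamma j (red P x))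

/-- `β_j(x)`: the class of the Newton coefficient `b_j(x - ε x)` in degree `j`. -/
noncomputable def beta (x : K) (j : ℕ) : Gr P := grK P (j : ℤ) (bco P j (red P x))

lemma chern_eq (i : ℕ) (x : K) : chern P i x = cc P x i := rfl

lemma cc_zero (x : K) : cc P x 0 = 1 := by
  unfold cc
  have : gamma 0 (red P x) = 1 := by simp [gamma]
  rw [this]
  exact grK_one P

lemma beta_add (x y : K) (j : ℕ) : beta P (x + y) j = beta P x j + beta P y j := by
  unfold beta
  rw [red_add, bco_add, grK_add P (bco_mem P _ (aug_red P x) j) (bco_mem P _ (aug_red P y) j)]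

lemma newton_gr (x : K) (m : ℕ) :
    (m : ℚ) • cc P x m = ∑ i ∈ range m, cc P x i * beta P x (m - i) := by
  have h := newton P m (red P x)
  have hx := aug_red P x
  have h1 := congrArg (grK P (m : ℤ)) h
  rw [grK_natCast_mul P (gamma_mem P hx m)] at h1
  rw [grK_sum P (range m) (n := m)] at h1
  · rw [show cc P x m = grK P (m : ℤ) (gamma m (red P x)) from rfl, h1]
    apply Finset.sum_congr rfl
    intro i hi
    have hi' := Finset.mem_range.mp hi
    exact grK_mul' P (by omega) (gamma_mem P hx i) (bco_mem P _ hx (m - i))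
  · intro i hi
    have hi' := Finset.mem_range.mp hi
    have h2 := mul_mem P (gamma_mem P hx i) (bco_mem P _ hx (m - i))
    have e : i + (m - i) = m := by omega
    rwa [e] at h2

variable (d : ℕ)

/-- the evaluation point of `chK`. -/
noncomputable def cvec (x : K) : Fin d → Gr P := fun i => chern P (i.1 + 1) x

/-- `s_k = N_k(c_1, …, c_d)`. -/
noncomputable def ss (x : K) (k : ℕ) : Gr P := MvPolynomial.aeval (cvec P d x) (Npoly d k)

lemma aeval_epoly (x : K) (j : ℕ) (hj : j ≤ d) :
    MvPolynomial.aeval (cvec P d x) (epoly d j) = cc P x j := by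
  unfold epoly
  split_ifs with h0
  · subst h0
    rw [map_one, cc_zero]
  · rw [MvPolynomial.aeval_X]
    unfold cvec
    rw [chern_eq]
    congr 1
    simp only
    omega

lemma newton_aeval (x : K) (k : ℕ) (hk : k ≤ d) :
    (k : ℚ) • cc P x k =
      (-1) ^ (k + 1) * ∑ i ∈ range k, (-1) ^ i * cc P x i * ss P d x (k - i) := by
  have h := congrArg (MvPolynomial.aeval (cvec P d x)) (newton_poly d k hk)
  rw [map_mul, map_natCast, aeval_epoly P d x k hk, map_mul, map_pow, map_neg, map_one, map_sum] at h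
  rw [Nat.cast_smul_eq_nsmul, nsmul_eq_mul, h]
  congr 1
  apply Finset.sum_congr rfl
  intro i hi
  have hi' := Finset.mem_range.mp hi
  rw [map_mul, map_mul, map_pow, map_neg, map_one, aeval_epoly P d x i (by omega)]
  rfl

lemma ss_eq (x : K) (k : ℕ) (hk1 : 1 ≤ k) (hk : k ≤ d) :
    ss P d x k = (-1) ^ (k + 1) * beta P x k :=
  newton_compare d (cc P x) (ss P d x) (beta P x) (cc_zero P x)
    (fun k hk => newton_aeval P d x k hk) (fun k => newton_gr P x k) k hk1 hk

lemma neg_one_pow_Gr (n : ℕ) : (-1 : Gr P) ^ n = algebraMap ℚ (Gr P) ((-1) ^ n) :=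
  alg_neg_one_pow (R := Gr P) n

/-- the Chern character in terms of the Newton coefficients. -/
noncomputable def chS (x : K) : Gr P :=
  algebraMap ℚ (Gr P) (P.aug x : ℚ) +
    ∑ k ∈ range d, (((-1 : ℚ) ^ k / ((k + 1).factorial : ℚ)) : ℚ) • beta P x (k + 1)

lemma chK_eq (x : K) : chK P d x = chS P d x := by
  unfold chK chS
  rw [chPoly_eq, map_sum, Finset.sum_range_succ']
  have h0 : MvPolynomial.aeval (fun i : Fin d => chern P (i.1 + 1) x)
      (MvPolynomial.C (1 / (Nat.factorial 0 : ℚ)) * Npoly d 0) = algebraMap ℚ (Gr P) (d : ℚ) := by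
    rw [Npoly_zero, map_mul, MvPolynomial.aeval_C, map_natCast, Nat.factorial_zero, Nat.cast_one,
      div_one, map_one, one_mul, map_natCast]
  rw [h0]
  have h1 : ∀ k ∈ range d, MvPolynomial.aeval (fun i : Fin d => chern P (i.1 + 1) x)
      (MvPolynomial.C (1 / (Nat.factorial (k + 1) : ℚ)) * Npoly d (k + 1)) =
      (((-1 : ℚ) ^ k / ((k + 1).factorial : ℚ)) : ℚ) • beta P x (k + 1) := by
    intro k hk
    have hk' := Finset.mem_range.mp hk
    rw [map_mul, MvPolynomial.aeval_C]
    change _ * ss P d x (k + 1) = _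
    rw [ss_eq P d x (k + 1) (by omega) (by omega), neg_one_pow_Gr, smul_def', ← mul_assoc,
      ← map_mul]
    congr 2
    have : ((-1 : ℚ)) ^ (k + 1 + 1) = (-1) ^ k := by rw [pow_add, pow_add]; norm_num
    rw [this]
    ring
  rw [Finset.sum_congr rfl h1, map_sub, map_natCast]
  ring

lemma chS_add (x y : K) : chS P d (x + y) = chS P d x + chS P d y := by
  unfold chS
  have e : algebraMap ℚ (Gr P) ((P.aug (x + y) : ℤ) : ℚ) =
      algebraMap ℚ (Gr P) (P.aug x : ℚ) + algebraMap ℚ (Gr P) (P.aug y : ℚ) := by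
    rw [map_add, Int.cast_add, map_add]
  rw [e]
  simp only [beta_add, smul_add, Finset.sum_add_distrib]
  abel

lemma chS_zero : chS P d (0 : K) = 0 := by
  have h := chS_add P d (0 : K) 0
  rw [add_zero] at h
  exact left_eq_add.mp h

end Groth.Agent.Lib.Helper16.CC
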