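import Mathlib.Algebra.Group.ForwardDiff
import Mathlib.Tactic

/-!
# Helper library (helper16): difference tables and the Leibniz rule for iterated forward differences
-/

set_option autoImplicit false

open Finset

namespace Groth.Agent.Lib.Helper16.DT

variable {R : Type*} [CommRing R]

/-- the difference table: `Dtab g m i = (Δ^m g)(i)`. -/
def Dtab (g : ℕ → R) : ℕ → ℕ → R
  | 0, i => g i
  | m + 1, i => Dtab g m (i + 1) - Dtab g m i

lemma Dtab_zero (g : ℕ → R) (i : ℕ) : Dtab g 0 i = g i := rfl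

lemma Dtab_succ (g : ℕ → R) (m i : ℕ) : Dtab g (m + 1) i = Dtab g m (i + 1) - Dtab g m i := rfl

lemma Dtab_shift (g : ℕ → R) (m i : ℕ) : Dtab g m (i + 1) = Dtab g m i + Dtab g (m + 1) i := by
  rw [Dtab_succ]; ring

open fwdDiff in
lemma Dtab_eq_iter (g : ℕ → R) (m : ℕ) : (fun i => Dtab g m i) = (Δ_[1])^[m] g := by
  induction m with
  | zero => rfl
  | succ m ih =>
    rw [Function.iterate_succ_apply', ← ih]
    ext i
    rfl

lemma Dtab_closed (g : ℕ → R) (m : ℕ) :
    Dtab g m 0 = ∑ j ∈ range (m + 1), ((-1 : ℤ) ^ (m - j) * (m.choose j : ℤ)) • g j := by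
  have h : Dtab g m 0 = (fwdDiff 1)^[m] g 0 := congrFun (Dtab_eq_iter g m) 0
  rw [h, fwdDiff_iter_eq_sum_shift]
  apply Finset.sum_congr rfl
  intro j _
  simp

/-- Leibniz rule. -/
lemma leibniz (f g : ℕ → R) (k : ℕ) : ∀ n : ℕ, Dtab (fun j => f j * g j) k n =
    ∑ i ∈ range (k + 1), (k.choose i : R) * Dtab f i n * Dtab g (k - i) (n + i) := by
  induction k with
  | zero =>
    intro n
    simp [Dtab_zero]
  | succ k ih =>
    intro n
    rw [Dtab_succ, ih (n + 1), ih n, ← Finset.sum_sub_distrib]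
    have h1 : ∀ i ∈ range (k + 1),
        (k.choose i : R) * Dtab f i (n + 1) * Dtab g (k - i) (n + 1 + i) -
          (k.choose i : R) * Dtab f i n * Dtab g (k - i) (n + i) =
        (k.choose i : R) * Dtab f (i + 1) n * Dtab g (k - i) (n + (i + 1)) +
          (k.choose i : R) * Dtab f i n * Dtab g (k + 1 - i) (n + i) := by
      intro i hi
      have hi' := Finset.mem_range.mp hi
      have e1 : n + 1 + i = n + i + 1 := by ring
      have e2 : n + (i + 1) = n + i + 1 := by ring
      have e3 : k + 1 - i = (k - i) + 1 := by omega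
      rw [e1, e2, e3, Dtab_shift f i n, Dtab_shift g (k - i) (n + i)]
      ring
    rw [Finset.sum_congr rfl h1, Finset.sum_add_distrib]
    -- RHS
    rw [Finset.sum_range_succ' (fun i => ((k + 1).choose i : R) * Dtab f i n *
      Dtab g (k + 1 - i) (n + i))]
    have h2 : ∀ i ∈ range (k + 1), ((k + 1).choose (i + 1) : R) * Dtab f (i + 1) n *
        Dtab g (k + 1 - (i + 1)) (n + (i + 1)) =
        (k.choose i : R) * Dtab f (i + 1) n * Dtab g (k - i) (n + (i + 1)) +
        (k.choose (i + 1) : R) * Dtab f (i + 1) n * Dtab g (k - i) (n + (i + 1)) := by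
      intro i _
      rw [Nat.choose_succ_succ, Nat.cast_add, Nat.succ_sub_succ]
      ring
    rw [Finset.sum_congr rfl h2, Finset.sum_add_distrib]
    -- second sum of LHS
    rw [Finset.sum_range_succ' (fun i => (k.choose i : R) * Dtab f i n *
      Dtab g (k + 1 - i) (n + i))]
    rw [Finset.sum_range_succ (fun i => (k.choose (i + 1) : R) * Dtab f (i + 1) n *
      Dtab g (k - i) (n + (i + 1)))]
    have h3 : ∀ i ∈ range k, (k.choose (i + 1) : R) * Dtab f (i + 1) n *
        Dtab g (k + 1 - (i + 1)) (n + (i + 1)) =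
        (k.choose (i + 1) : R) * Dtab f (i + 1) n * Dtab g (k - i) (n + (i + 1)) := by
      intro i _
      rw [Nat.succ_sub_succ]
    rw [Finset.sum_congr rfl h3]
    simp only [Nat.choose_zero_right, Nat.cast_one, Nat.choose_succ_self, Nat.cast_zero, zero_mul,
      add_zero, Nat.sub_zero]
    ring

end Groth.Agent.Lib.Helper16.DT
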