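import Groth.Agent.Lib.Helper16.ChernBij
import Groth.Agent.Lib.Helper16.DiffTable

/-!
# Helper library (helper16): multiplicativity of the Chern character
-/

set_option autoImplicit false
universe v

open scoped TensorProduct
open Finset

namespace Groth.Agent.Lib.Helper16.CC

open LambdaRing KGr Groth.Agent.Lib.Helper20.GFP Groth.Agent.Lib.Helper16.GR
  Groth.Agent.Lib.Helper16.GN Groth.Agent.Lib.Helper16.CP Groth.Agent.Lib.Helper16.DT
  Groth.Agent.Lib.Helper20.LR

variable {K : Type v} [CommRing K] [LambdaOps K] (P : PosStructure K) (d : ℕ)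

/-- `j ↦ ψ^j(x)`. -/
noncomputable def fA (x : K) : ℕ → K := fun j => adams P j x

/-- `Ψ^k(x) = (Δ^k ψ^•(x))(0)`. -/
noncomputable def Psi (k : ℕ) (x : K) : K := Dtab (fA P x) k 0

lemma adams_mul' (hK : HasSplitting K P) (j : ℕ) (x y : K) :
    adams P j (x * y) = adams P j x * adams P j y := by
  obtain ⟨ψ, hψ⟩ := Groth.Agent.S3285.result K P hK j
  rw [← hψ, ← hψ, ← hψ, map_mul]

lemma adams_intCast (hK : HasSplitting K P) (j : ℕ) (c : ℤ) : adams P j (c : K) = c := by
  obtain ⟨ψ, hψ⟩ := Groth.Agent.S3285.result K P hK j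
  rw [← hψ, map_intCast]

lemma Psi_zero (x : K) : Psi P 0 x = (P.aug x : K) := by
  unfold Psi fA
  rw [Dtab_zero, adams_zero_eq]

lemma Psi_eq_bco (hK : HasSplitting K P) (k : ℕ) (hk : 1 ≤ k) (x : K) :
    Psi P k x = (-1) ^ (k + 1) * bco P k (red P x) := by
  unfold Psi
  rw [Dtab_closed, bco_eq, Finset.mul_sum]
  have hx : x = red P x + ((P.aug x : ℤ) : K) := by unfold red; ring
  have h1 : ∀ j ∈ range (k + 1), ((-1 : ℤ) ^ (k - j) * (k.choose j : ℤ)) • fA P x j =
      (-1) ^ (k + 1) * ((k.choose j : K) * PowerSeries.coeff j (Aser P (red P x))) +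
        (((-1 : ℤ) ^ k * ((-1) ^ j * (k.choose j : ℤ)) : ℤ) : K) * ((P.aug x : ℤ) : K) := by
    intro j hj
    have hj' := Finset.mem_range.mp hj
    unfold fA
    conv_lhs => rw [hx, adams_add, adams_intCast P hK]
    rw [coeff_Aser, zsmul_eq_mul]
    have e1 : ((-1 : ℤ) ^ (k - j)) = (-1) ^ k * (-1) ^ j := by
      have : k = (k - j) + j := by omega
      conv_rhs => rw [this, pow_add, mul_assoc, ← pow_add, ← two_mul, pow_mul]
      simp
    by_cases h0 : j = 0
    · subst h0
      rw [if_pos rfl, adams_zero_eq, aug_red]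
      rw [e1]
      push_cast
      ring
    · rw [if_neg h0, e1]
      push_cast
      have e2 : (-1 : K) ^ (k + 1) * (-1) ^ (j + 1) = (-1) ^ k * (-1) ^ j := by
        rw [pow_succ, pow_succ]; ring
      calc (-1 : K) ^ k * (-1) ^ j * (k.choose j : K) *
            (adams P j (red P x) + ((P.aug x : ℤ) : K))
          = ((-1 : K) ^ k * (-1) ^ j) * ((k.choose j : K) * adams P j (red P x)) +
            (-1 : K) ^ k * ((-1) ^ j * (k.choose j : K)) * ((P.aug x : ℤ) : K) := by ring
        _ = _ := by rw [← e2]; ring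
  rw [Finset.sum_congr rfl h1, Finset.sum_add_distrib, ← Finset.sum_mul]
  have h2 : ∑ j ∈ range (k + 1), (((-1 : ℤ) ^ k * ((-1) ^ j * (k.choose j : ℤ)) : ℤ) : K) = 0 := by
    rw [← Int.cast_sum, ← Finset.mul_sum, Int.alternating_sum_range_choose_of_ne (by omega)]
    simp
  rw [h2, zero_mul, add_zero]

lemma Psi_mem (hK : HasSplitting K P) (k : ℕ) (x : K) : Psi P k x ∈ gammaFiltration P k := by
  rcases Nat.eq_zero_or_pos k with h0 | hpos
  · subst h0
    rw [filt_zero]; trivial
  · rw [Psi_eq_bco P hK k hpos]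
    exact smul_mem P _ (bco_mem P _ (aug_red P x) k)

/-- all entries of the difference table of `ψ^•(x)` in row `m` lie in `F^m`, and agree modulo
`F^{m+1}`. -/
lemma Dtab_mem (hK : HasSplitting K P) (x : K) (i : ℕ) :
    ∀ m : ℕ, Dtab (fA P x) m i ∈ gammaFiltration P m ∧
      Dtab (fA P x) m i - Dtab (fA P x) m 0 ∈ gammaFiltration P (m + 1) := by
  induction i with
  | zero =>
    intro m
    refine ⟨Psi_mem P hK m x, ?_⟩
    rw [sub_self]
    exact AddSubgroup.zero_mem _
  | succ i ih =>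
    intro m
    rw [Dtab_shift]
    refine ⟨AddSubgroup.add_mem _ (ih m).1 (filt_anti P (Nat.le_succ m) (ih (m + 1)).1), ?_⟩
    have e : Dtab (fA P x) m i + Dtab (fA P x) (m + 1) i - Dtab (fA P x) m 0 =
        (Dtab (fA P x) m i - Dtab (fA P x) m 0) + Dtab (fA P x) (m + 1) i := by ring
    rw [e]
    exact AddSubgroup.add_mem _ (ih m).2 (ih (m + 1)).1

/-- the class of `Ψ^k(x)` in degree `k`. -/
noncomputable def uu (x : K) (k : ℕ) : Gr P := grK P (k : ℤ) (Psi P k x)

lemma uu_zero (x : K) : uu P x 0 = algebraMap ℚ (Gr P) (P.aug x : ℚ) := by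
  unfold uu
  rw [Psi_zero, grK_zero_eq]
  simp

lemma uu_succ (hK : HasSplitting K P) (x : K) (k : ℕ) :
    uu P x (k + 1) = ((-1 : ℚ) ^ k) • beta P x (k + 1) := by
  unfold uu beta
  rw [Psi_eq_bco P hK (k + 1) (by omega)]
  have e : (-1 : K) ^ (k + 1 + 1) = (((-1 : ℤ) ^ k : ℤ) : K) := by
    rw [pow_succ, pow_succ]; push_cast; ring
  rw [e, grK_intCast_mul P (bco_mem P _ (aug_red P x) (k + 1))]
  push_cast
  rfl

lemma chS_eq_sum (hK : HasSplitting K P) (x : K) :
    chS P d x = ∑ k ∈ range (d + 1), ((1 : ℚ) / (k.factorial : ℚ)) • uu P x k := by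
  unfold chS
  rw [Finset.sum_range_succ', uu_zero, add_comm]
  congr 1
  · apply Finset.sum_congr rfl
    intro k _
    rw [uu_succ P hK, smul_smul]
    congr 1
    ring
  · simp

lemma uu_mul (hK : HasSplitting K P) (x y : K) (k : ℕ) :
    uu P (x * y) k = ∑ i ∈ range (k + 1), (k.choose i : ℚ) • (uu P x i * uu P y (k - i)) := by
  unfold uu Psi
  have hf : fA P (x * y) = fun j => fA P x j * fA P y j := by
    funext j
    exact adams_mul' P hK j x y
  rw [hf, leibniz]
  simp only [zero_add]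
  have hmem : ∀ i ∈ range (k + 1), (k.choose i : K) * Dtab (fA P x) i 0 * Dtab (fA P y) (k - i) i ∈
      gammaFiltration P k := by
    intro i hi
    have hi' := Finset.mem_range.mp hi
    have h1 := mul_mem P ((Dtab_mem P hK x 0 i).1) ((Dtab_mem P hK y i (k - i)).1)
    have e : i + (k - i) = k := by omega
    rw [e] at h1
    rw [mul_assoc]
    exact smul_mem P _ h1
  rw [grK_sum P _ _ hmem]
  apply Finset.sum_congr rfl
  intro i hi
  have hi' := Finset.mem_range.mp hi
  have h1 := mul_mem P ((Dtab_mem P hK x 0 i).1) ((Dtab_mem P hK y i (k - i)).1)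
  have e : i + (k - i) = k := by omega
  rw [mul_assoc, grK_natCast_mul P (by rwa [e] at h1)]
  congr 1
  rw [grK_mul' P e (Dtab_mem P hK x 0 i).1 (Dtab_mem P hK y i (k - i)).1]
  congr 1
  -- replace the shifted entry by the entry at 0
  have h2 := (Dtab_mem P hK y i (k - i)).2
  have e2 : Dtab (fA P y) (k - i) i = (Dtab (fA P y) (k - i) i - Dtab (fA P y) (k - i) 0) +
      Dtab (fA P y) (k - i) 0 := by ring
  rw [e2, grK_add P (filt_anti P (Nat.le_succ _) h2) (Dtab_mem P hK y 0 (k - i)).1,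
    grK_eq_zero_of_mem P h2, zero_add]

lemma uu_mul_eq_zero (hK : HasSplitting K P) (hd : gammaFiltration P (d + 1) = ⊥) (x y : K)
    (i j : ℕ) (h : d < i + j) : uu P x i * uu P y j = 0 := by
  unfold uu
  rw [← grK_mul P (Psi_mem P hK i x) (Psi_mem P hK j y)]
  have h1 := mul_mem P (Psi_mem P hK i x) (Psi_mem P hK j y)
  have h2 := filt_anti P (by omega : d + 1 ≤ i + j) h1
  rw [hd, AddSubgroup.mem_bot] at h2
  rw [h2, grK_zero]

theorem chS_mul (hK : HasSplitting K P) (hd : gammaFiltration P (d + 1) = ⊥) (x y : K) :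
    chS P d (x * y) = chS P d x * chS P d y := by
  rw [chS_eq_sum P d hK, chS_eq_sum P d hK, chS_eq_sum P d hK, Finset.sum_mul_sum]
  -- restrict the inner sum
  have h1 : ∀ i ∈ range (d + 1), ∑ j ∈ range (d + 1),
      ((1 : ℚ) / (i.factorial : ℚ)) • uu P x i * ((1 : ℚ) / (j.factorial : ℚ)) • uu P y j =
      ∑ k ∈ Finset.Ico i (d + 1), ((1 : ℚ) / (i.factorial : ℚ)) • uu P x i *
        ((1 : ℚ) / ((k - i).factorial : ℚ)) • uu P y (k - i) := by
    intro i hi
    have hi' := Finset.mem_range.mp hi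
    rw [Finset.sum_Ico_eq_sum_range]
    have hsub : range (d + 1 - i) ⊆ range (d + 1) := Finset.range_subset_range.mpr (by omega)
    rw [← Finset.sum_subset hsub]
    · apply Finset.sum_congr rfl
      intro j _
      rw [Nat.add_sub_cancel_left]
    · intro j hj hj2
      have hj' := Finset.mem_range.mp hj
      have hj2' : ¬ j < d + 1 - i := fun h => hj2 (Finset.mem_range.mpr h)
      rw [smul_mul_smul_comm, uu_mul_eq_zero P d hK hd x y i j (by omega), smul_zero]
  rw [Finset.sum_congr rfl h1, Finset.range_eq_Ico, Finset.sum_Ico_Ico_comm]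
  apply Finset.sum_congr rfl
  intro k hk
  have hk' := Finset.mem_Ico.mp hk
  rw [uu_mul P hK, Finset.smul_sum, Finset.range_eq_Ico]
  apply Finset.sum_congr rfl
  intro i hi
  have hi' := Finset.mem_Ico.mp hi
  rw [smul_mul_smul_comm, smul_smul]
  congr 1
  have hf1 : (i.factorial : ℚ) ≠ 0 := by exact_mod_cast Nat.factorial_ne_zero _
  have hf2 : ((k - i).factorial : ℚ) ≠ 0 := by exact_mod_cast Nat.factorial_ne_zero _
  have hf3 : (k.factorial : ℚ) ≠ 0 := by exact_mod_cast Nat.factorial_ne_zero _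
  have hc : (k.choose i : ℚ) * (i.factorial : ℚ) * ((k - i).factorial : ℚ) = (k.factorial : ℚ) := by
    exact_mod_cast Nat.choose_mul_factorial_mul_factorial (by omega : i ≤ k)
  field_simp
  rw [← hc]

lemma bco_zero_right (m : ℕ) : bco P m (0 : K) = 0 := by
  have h := bco_add P m (0 : K) 0
  rw [add_zero] at h
  exact left_eq_add.mp h

theorem chS_one : chS P d (1 : K) = 1 := by
  unfold chS
  have h1 : red P (1 : K) = 0 := by unfold red; simp
  have h2 : ∀ k ∈ range d, (((-1 : ℚ) ^ k / ((k + 1).factorial : ℚ)) : ℚ) • beta P (1 : K) (k + 1) = 0 := by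
    intro k _
    unfold beta
    rw [h1, bco_zero_right, grK_zero, smul_zero]
  rw [Finset.sum_eq_zero h2, add_zero, map_one, Int.cast_one, map_one]

end Groth.Agent.Lib.Helper16.CC
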