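import Mathlib
import Groth.Agent.S1005
import Groth.Agent.Lib.Helper16.RM5
import Groth.Agent.Lib.Helper26.CohFive
import Groth.Agent.Lib.Helper6.K0Free

/-!
# Helper16 — Coh1: bounded above objects with coherent cohomology on locally Noetherian schemes
are pseudo-coherent; bounded above complexes of finite free modules and their tensor products.
-/

set_option autoImplicit false
set_option linter.style.haveILetI false
universe u
open CategoryTheory CategoryTheory.Limits AlgebraicGeometry CategoryTheory.Pretriangulated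

attribute [local instance] HasDerivedCategory.standard

namespace Groth.Agent.Lib.Helper16.CohT

open Groth.Agent.Lib.Helper16.KF (Idx)
open DerivedCategory Groth.Agent.Lib.Helper1.LocPC Groth.Agent.Lib.Helper16.RS
  Groth.Agent.Lib.Helper16.BiCx Groth.Agent.Lib.Helper16.RM Groth.Agent.Lib.Helper16.DerT

variable {X : Scheme.{u}}

/-- **a bounded above object with coherent cohomology on a locally Noetherian scheme is
pseudo-coherent.** -/
theorem pc_of_bddAbove_coh [IsLocallyNoetherian X] (K : DCoh.D X) (a : ℤ) [K.IsLE a]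
    (hK : DCoh.IsCohD K) (m : ℤ) : DCoh.IsPseudoCoherentD m K := by
  have hT := (TStructure.t (C := X.Modules)).triangleLTGE_distinguished m K
  have h1 : DCoh.IsPseudoCoherentD m (((TStructure.t (C := X.Modules)).truncLT m).obj K) := by
    have := PCat.of_isLE (((TStructure.t (C := X.Modules)).truncLT m).obj K) (m - 1) inferInstance
    rw [show m - 1 + 1 = m by omega] at this
    exact Groth.Agent.S6518.isPseudoCoherentD_of_pcat this
  have h3 : DCoh.IsPseudoCoherentD m (((TStructure.t (C := X.Modules)).truncGE m).obj K) := by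
    refine Groth.Agent.S1005.pc_of_bounded_coh _ m a ?_ m
    intro i
    by_cases hi : m ≤ i
    · haveI := isIso_homologyMap_truncGEπ K m i hi
      exact Groth.Agent.Lib.Helper26.CohFive.isCoh_of_iso
        (asIso ((homologyFunctor X.Modules i).map
          (((TStructure.t (C := X.Modules)).truncGEπ m).app K))) (hK i)
    · exact Groth.Agent.Lib.Helper26.CohFive.isCoh_of_isZero _
        (isZero_of_isGE _ m i (by omega))
  exact (Groth.Agent.S0889.result m _ hT).2.1 h1 h3

/-- bounded above complexes of finite free modules. -/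
def IsBddAboveFree (E : CochainComplex X.Modules ℤ) (b : ℤ) : Prop :=
  (∀ i : ℤ, b < i → IsZero (E.X i)) ∧ ∀ i : ℤ, ∃ n : ℕ, Nonempty (E.X i ≅ FlatMod.freeMod X n)

/-- **the tensor product of bounded above complexes of finite free modules is a bounded above
complex of finite free modules.** -/
theorem isBddAboveFree_T (E₁ E₂ : CochainComplex X.Modules ℤ) (b d : ℤ)
    (h₁ : IsBddAboveFree E₁ b) (h₂ : IsBddAboveFree E₂ d) :
    IsBddAboveFree (T (DCoh.tensorBi (X := X)) E₁ E₂) (b + d) := by
  obtain ⟨hb, hf₁⟩ := h₁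
  obtain ⟨hd, hf₂⟩ := h₂
  refine ⟨fun n hn => ?_, fun n => ?_⟩
  · rw [IsZero.iff_id_eq_zero]
    apply T_hom_ext
    intro p q hpq
    have hz : IsZero ((DCoh.tensorBi.obj (E₁.X p)).obj (E₂.X q)) := by
      by_cases hp : b < p
      · exact isZero_tensorBi_left (hb p hp) _
      · exact isZero_tensorBi_right _ (hd q (by omega))
    exact hz.eq_of_src _ _
  · let S : Set (Idx n) := {i | n - d ≤ i.1.1 ∧ i.1.1 ≤ b}
    haveI : Finite S := by
      refine Finite.of_injective
        (fun s : S => (⟨s.1.1.1, Finset.mem_Icc.2 s.2⟩ : Finset.Icc (n - d) b))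
        (fun s s' h => ?_)
      have h1 : s.1.1.1 = s'.1.1.1 := congrArg Subtype.val h
      have h2 : s.1.1.2 = s'.1.1.2 := by
        have e1 := Idx.add s.1
        have e2 := Idx.add s'.1
        omega
      exact Subtype.ext (Subtype.ext (Prod.ext h1 h2))
    have hc := isColimitRestrict (cofanT (DCoh.tensorBi (X := X)) E₁ E₂ n)
      (isColimitCofanT (DCoh.tensorBi (X := X)) E₁ E₂ n) S (fun i hi => by
        by_cases hp : b < i.1.1
        · exact isZero_tensorBi_left (hb i.1.1 hp) _
        · refine isZero_tensorBi_right _ (hd i.1.2 ?_)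
          have e1 := Idx.add i
          by_contra hcon
          exact hi ⟨by omega, by omega⟩)
    have hfin := isFinCoprod_of_cofan (U := Coh.structureModule X) _ hc (fun s => by
      obtain ⟨n₁, ⟨e₁⟩⟩ := hf₁ s.1.1.1
      obtain ⟨n₂, ⟨e₂⟩⟩ := hf₂ s.1.1.2
      exact isFinCoprod_tensorBi e₁ e₂)
    obtain ⟨N, ⟨e⟩⟩ := hfin.exists_iso
    exact ⟨N, ⟨e⟩⟩

/-- the cohomology of a complex with coherent terms on a locally Noetherian scheme is coherent. -/
theorem isCoh_homology_of_terms [IsLocallyNoetherian X] (E : CochainComplex X.Modules ℤ)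
    (hE : ∀ i : ℤ, Coh.IsCoh (E.X i)) (i : ℤ) : Coh.IsCoh (E.homology i) := by
  have hcyc : Coh.IsCoh (E.cycles i) := by
    have h1 : Coh.IsCoh (kernel (E.d i (i + 1))) :=
      Groth.Agent.Lib.Helper26.CohFive.isCoh_kernel _ (hE i) (hE (i + 1))
    exact Groth.Agent.Lib.Helper26.CohFive.isCoh_of_iso
      (IsLimit.conePointUniqueUpToIso (kernelIsKernel (E.d i (i + 1)))
        (E.cyclesIsKernel i (i + 1) (by simp))) h1
  have h2 : Coh.IsCoh (cokernel (E.toCycles (i - 1) i)) :=
    Groth.Agent.Lib.Helper26.CohFive.isCoh_cokernel _ (hE (i - 1)) hcyc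
  exact Groth.Agent.Lib.Helper26.CohFive.isCoh_of_iso
    (IsColimit.coconePointUniqueUpToIso (cokernelIsCokernel (E.toCycles (i - 1) i))
      (E.homologyIsCokernel (i - 1) i (by simp))) h2

/-- finite free modules are coherent. -/
lemma isCoh_of_iso_freeMod [IsLocallyNoetherian X] {M : X.Modules} {n : ℕ}
    (e : M ≅ FlatMod.freeMod X n) : Coh.IsCoh M :=
  Groth.Agent.Lib.Helper26.CohFive.isCoh_of_iso e.symm
    (Groth.Agent.Lib.Helper6.K0Free.isCoh_freeMod n)

/-- the cohomology of a bounded above complex of finite free modules on a locally Noetherian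
scheme is coherent, and vanishes above the bound. -/
theorem isCoh_homology_of_isBddAboveFree [IsLocallyNoetherian X] (E : CochainComplex X.Modules ℤ)
    (b : ℤ) (hE : IsBddAboveFree E b) (i : ℤ) :
    Coh.IsCoh (E.homology i) ∧ (b < i → IsZero (E.homology i)) := by
  refine ⟨isCoh_homology_of_terms E (fun j => ?_) i, fun hi => ?_⟩
  · obtain ⟨n, ⟨e⟩⟩ := hE.2 j
    exact isCoh_of_iso_freeMod e
  · exact (HomologicalComplex.ExactAt.of_isZero (hE.1 i hi)).isZero_homology

end Groth.Agent.Lib.Helper16.CohT
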