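import Mathlib
import Groth.Prelude
import Groth.Agent.Lib.Helper5.FibreStalkC
import Groth.Agent.Lib.Helper5.GorFibreC

/-!
# Helper16 — DualSch1: ring-level form of Gorenstein morphisms `Spec B ⟶ Spec A`
-/

set_option autoImplicit false
set_option linter.style.haveILetI false
universe u
open CategoryTheory CategoryTheory.Limits AlgebraicGeometry TensorProduct IsLocalRing

namespace Groth.Agent.Lib.Helper16.DualSch

open Groth.Agent.Lib.Helper5.FibreStalk Groth.Agent.Lib.Helper5.FibreComp
  Groth.Agent.Lib.Helper5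

lemma map_maximalIdeal_of_ringEquiv {R S : Type u} [CommRing R] [CommRing S] [IsLocalRing R]
    [IsLocalRing S] (e : R ≃+* S) :
    (maximalIdeal R).map (e : R →+* S) = maximalIdeal S := by
  have h1 : (maximalIdeal R).map (e : R →+* S) = (maximalIdeal R).comap (e.symm : S →+* R) :=
    Ideal.map_comap_of_equiv e
  rw [h1]
  have hloc : IsLocalHom (e.symm : S →+* R) := ⟨fun a ha => by
    have : IsUnit (e (e.symm a)) := ha.map e
    simpa using this⟩
  exact ((local_hom_TFAE (e.symm : S →+* R)).out 0 4).1 hloc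

variable {A B : Type u} [CommRing A] [CommRing B] [Algebra A B]

/-- ring-level form of `IsGorensteinAt` for `Spec B ⟶ Spec A`. -/
theorem isGorensteinLocalRing_quot_of_gorAt (p : PrimeSpectrum B)
    (h : Dual3.IsGorensteinAt (Spec.map (CommRingCat.ofHom (algebraMap A B))) p) :
    LocCoh.IsGorensteinLocalRing (Localization.AtPrime p.asIdeal ⧸
      (p.asIdeal.comap (algebraMap A B)).map
        (algebraMap A (Localization.AtPrime p.asIdeal))) := by
  have h2 := ((fibP_iff flatLocalProp_gorenstein
    (Spec.map (CommRingCat.ofHom (algebraMap A B))) p).2 h).2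
  let eS : (Spec (CommRingCat.of B)).presheaf.stalk p ≃+* Localization.AtPrime p.asIdeal :=
    (Spec.stalkIso (CommRingCat.of B) p).commRingCatIsoToRingEquiv
  let q : PrimeSpectrum A := p.comap (algebraMap A B)
  let eA : (Spec (CommRingCat.of A)).presheaf.stalk
      ((Spec.map (CommRingCat.ofHom (algebraMap A B))) p) ≃+* Localization.AtPrime q.asIdeal :=
    (Spec.stalkIso (CommRingCat.of A) q).commRingCatIsoToRingEquiv
  have hsq : (eS : _ →+* _).comp
      ((Spec.map (CommRingCat.ofHom (algebraMap A B))).stalkMap p).hom =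
      (Localization.localRingHom q.asIdeal p.asIdeal (algebraMap A B) rfl).comp
        (eA : _ →+* _) := by
    have := Scheme.localRingHom_comp_stalkIso (CommRingCat.ofHom (algebraMap A B)) p
    rw [← this]
    ext x
    change (Spec.stalkIso (CommRingCat.of B) p).hom.hom
      (((Spec.stalkIso (CommRingCat.of A) q).hom ≫ CommRingCat.ofHom
        (Localization.localRingHom q.asIdeal p.asIdeal (algebraMap A B) rfl) ≫
        (Spec.stalkIso (CommRingCat.of B) p).inv).hom x) =
      (Localization.localRingHom q.asIdeal p.asIdeal (algebraMap A B) rfl)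
        ((Spec.stalkIso (CommRingCat.of A) q).hom.hom x)
    simp only [CommRingCat.hom_comp, CommRingCat.hom_ofHom]
    exact CommRingCat.inv_hom_apply _ _
  have hmap : (q.asIdeal.map (algebraMap A (Localization.AtPrime p.asIdeal))) =
      (mX (Spec.map (CommRingCat.ofHom (algebraMap A B))) p).map (eS : _ →+* _) := by
    unfold mX
    rw [Ideal.map_map, hsq, ← Ideal.map_map, map_maximalIdeal_of_ringEquiv eA,
      ← Localization.AtPrime.map_eq_maximalIdeal, Ideal.map_map]
    congr 1
    ext a
    exact (IsScalarTower.algebraMap_apply A B (Localization.AtPrime p.asIdeal) a).trans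
      (Localization.localRingHom_to_map q.asIdeal p.asIdeal (algebraMap A B) rfl a).symm
  haveI := h2
  exact GorIso.isGorensteinLocalRing_of_ringEquiv (Ideal.quotientEquiv _ _ eS hmap)

/-- a Gorenstein morphism `Spec B ⟶ Spec A` has Gorenstein fibre rings (`κ(𝔭) ⊗ B` form). -/
theorem isGorensteinRing_fiber_of_gorMor' [IsNoetherianRing B]
    (h : Dual3.IsGorensteinMor (Spec.map (CommRingCat.ofHom (algebraMap A B))))
    (𝔭 : PrimeSpectrum A) :
    LocCoh.IsGorensteinRing (𝔭.asIdeal.Fiber B) := by
  have hN : IsNoetherianRing (𝔭.asIdeal.Fiber B) :=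
    GorFibre.isNoetherianRing_fiber A B 𝔭.asIdeal
  refine { isGorensteinLocalRing_localization := fun n' _ => ?_ }
  apply GorFibre.localization_fiber_of_quotient A B 𝔭.asIdeal
    (fun R _ => LocCoh.IsGorensteinLocalRing R)
    (fun R S _ _ e h => by
      haveI := h
      exact GorIso.isGorensteinLocalRing_of_ringEquiv e)
  have hover := GorFibre.comap_includeRight_liesOver A B 𝔭.asIdeal n'
  have heq : (n'.comap (Algebra.TensorProduct.includeRight :
      B →ₐ[A] 𝔭.asIdeal.Fiber B)).comap (algebraMap A B) = 𝔭.asIdeal :=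
    (Ideal.over_def _ _).symm
  have h3 := isGorensteinLocalRing_quot_of_gorAt (A := A)
    ⟨n'.comap (Algebra.TensorProduct.includeRight : B →ₐ[A] 𝔭.asIdeal.Fiber B),
      Ideal.comap_isPrime _ _⟩ (h _)
  have key : ∀ (I : Ideal A), I = 𝔭.asIdeal →
      LocCoh.IsGorensteinLocalRing (Localization.AtPrime (n'.comap
        (Algebra.TensorProduct.includeRight : B →ₐ[A] 𝔭.asIdeal.Fiber B)) ⧸
        I.map (algebraMap A (Localization.AtPrime (n'.comap
          (Algebra.TensorProduct.includeRight : B →ₐ[A] 𝔭.asIdeal.Fiber B))))) →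
      LocCoh.IsGorensteinLocalRing (Localization.AtPrime (n'.comap
        (Algebra.TensorProduct.includeRight : B →ₐ[A] 𝔭.asIdeal.Fiber B)) ⧸
        𝔭.asIdeal.map (algebraMap A (Localization.AtPrime (n'.comap
          (Algebra.TensorProduct.includeRight : B →ₐ[A] 𝔭.asIdeal.Fiber B))))) := by
    rintro _ rfl h
    exact h
  exact key _ heq h3

/-- a Gorenstein morphism `Spec B ⟶ Spec A` has Gorenstein fibre rings (`B ⊗ κ(𝔭)` form). -/
theorem isGorensteinRing_fiber_of_gorMor [IsNoetherianRing B]
    (h : Dual3.IsGorensteinMor (Spec.map (CommRingCat.ofHom (algebraMap A B))))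
    (𝔭 : PrimeSpectrum A) :
    LocCoh.IsGorensteinRing (B ⊗[A] 𝔭.asIdeal.ResidueField) :=
  GorFibre.isGorensteinRing_of_ringEquiv
    (Algebra.TensorProduct.comm A 𝔭.asIdeal.ResidueField B).toRingEquiv
    (isGorensteinRing_fiber_of_gorMor' h 𝔭)

end Groth.Agent.Lib.Helper16.DualSch
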