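import Mathlib
import Groth.Prelude
import Groth.Agent.Lib.Helper16.DualSch1

/-!
# Helper16 — DualSch1b: open immersions are Gorenstein morphisms
-/

set_option autoImplicit false
set_option linter.style.haveILetI false
universe u
open CategoryTheory CategoryTheory.Limits AlgebraicGeometry TensorProduct IsLocalRing

namespace Groth.Agent.Lib.Helper16.DualSch

open Groth.Agent.Lib.Helper5.FibreStalk Groth.Agent.Lib.Helper5.FibreComp
  Groth.Agent.Lib.Helper5

/-- a field is a Gorenstein local ring. -/
theorem isGorensteinLocalRing_of_isField (R : Type u) [CommRing R] (h : IsField R) :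
    LocCoh.IsGorensteinLocalRing R := by
  letI : Field R := h.toField
  haveI : Module.Injective R R := Module.injective_of_isSemisimpleRing R R
  haveI : Injective (ModuleCat.of R R) := Module.injective_object_of_injective_module R R
  exact { exists_hasInjectiveDimensionLT := ⟨1, inferInstance⟩ }

/-- open immersions are Gorenstein at every point. -/
theorem isGorensteinAt_of_isOpenImmersion {U X : Scheme.{u}} (k : U ⟶ X) [IsOpenImmersion k]
    (x : U) : Dual3.IsGorensteinAt k x := by
  refine (fibP_iff flatLocalProp_gorenstein k x).1 ⟨Flat.stalkMap k x, ?_⟩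
  apply isGorensteinLocalRing_of_isField
  have hm : mX k x = maximalIdeal (U.presheaf.stalk x) := by
    have := map_maximalIdeal_of_ringEquiv
      (asIso (k.stalkMap x)).commRingCatIsoToRingEquiv
    exact this
  rw [hm]
  exact (Ideal.Quotient.maximal_ideal_iff_isField_quotient _).1 (maximalIdeal.isMaximal _)

end Groth.Agent.Lib.Helper16.DualSch
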