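import Mathlib
import Groth.Prelude
import Groth.Agent.Lib.Helper16.DualSch1
import Groth.Agent.Lib.Helper16.AffRed8
import Groth.Agent.Lib.Helper16.GF6
import Groth.Agent.Lib.Helper1.LocFree8
import Groth.Agent.Lib.Helper16.DualSch1b

/-!
# Helper16 — DualSch2: quasi-coherence is local for open immersions; charts of `Lf^*` of a
`tilde`; base change of dualizing complexes along Gorenstein morphisms of affine schemes
-/

set_option autoImplicit false
set_option linter.style.haveILetI false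
universe u
open CategoryTheory CategoryTheory.Limits AlgebraicGeometry TensorProduct

attribute [local instance] HasDerivedCategory.standard

namespace Groth.Agent.Lib.Helper16.DualSch

open Scheme.Modules Groth.Agent.Lib.Helper16.RS Groth.Agent.Lib.Helper1.LocPC
  Groth.Agent.Lib.Helper16.KD Groth.Agent.Lib.Helper16.FlatBC Groth.Agent.Lib.Helper16.AffRed

section QCoh

variable {X : Scheme.{u}}

/-- quasi-coherence can be checked on a family of open immersions covering `X`. -/
theorem isQuasicoherent_of_cover (M : X.Modules)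
    (h : ∀ x : X, ∃ (U : Scheme.{u}) (j : U ⟶ X) (_ : IsOpenImmersion j),
      x ∈ Set.range j ∧ ((restrictFunctor j).obj M).IsQuasicoherent) :
    M.IsQuasicoherent := by
  apply Groth.Agent.Lib.Helper1.LocFree.isQuasicoherent_of_locally
  intro x
  obtain ⟨U, j, hj, hx, hM⟩ := h x
  refine ⟨j.opensRange, hx, ?_⟩
  have hc : j.isoOpensRange.inv ≫ j = j.opensRange.ι := by simp
  haveI := hM
  have h1 : ((restrictFunctor j.isoOpensRange.inv).obj
      ((restrictFunctor j).obj M)).IsQuasicoherent := inferInstance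
  exact (SheafOfModules.isQuasicoherent (j.opensRange : Scheme.{u}).ringCatSheaf).prop_of_iso
    (((restrictFunctorComp j.isoOpensRange.inv j).symm ≪≫ restrictFunctorCongr hc).app M) h1

theorem isQCohD_of_cover (K : DCoh.D X)
    (h : ∀ x : X, ∃ (U : Scheme.{u}) (j : U ⟶ X) (_ : IsOpenImmersion j),
      x ∈ Set.range j ∧ DCoh.IsQCohD ((RD j).obj K)) :
    DCoh.IsQCohD K := by
  intro i
  apply isQuasicoherent_of_cover
  intro x
  obtain ⟨U, j, hj, hx, hK⟩ := h x
  refine ⟨U, j, hj, hx, ?_⟩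
  exact (SheafOfModules.isQuasicoherent U.ringCatSheaf).prop_of_iso
    (Groth.Agent.Lib.Helper26.SuppD2.homologyIso (restrictFunctor j) K i) (hK i)

end QCoh

section Chart

variable {A B : Type u} [CommRing A] [CommRing B] [Algebra A B] [Module.Flat A B]

/-- `L(Spec B → Spec A → X)^* E ≅ (ω ⊗_A B)~` when `E|_{Spec A} ≅ ω~`. -/
theorem nonempty_Lpull_chart_iso {X : Scheme.{u}} (E : DCoh.D X)
    (jA : Spec (CommRingCat.of A) ⟶ X) [IsOpenImmersion jA] (ω : Dual.D A)
    (e : (RD jA).obj E ≅ (DCoh.tildeD (CommRingCat.of A)).obj ω)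
    [DCoh.HasLpull (Spec.map (CommRingCat.ofHom (algebraMap A B)) ≫ jA)] :
    Nonempty ((DCoh.Lpull (Spec.map (CommRingCat.ofHom (algebraMap A B)) ≫ jA)).obj E ≅
      (DCoh.tildeD (CommRingCat.of B)).obj ((ε (algebraMap A B)).obj ω)) := by
  haveI := hasLpull jA
  haveI := hasLpull (Spec.map (CommRingCat.ofHom (algebraMap A B)))
  haveI := Groth.Agent.Lib.Helper16.DRE.hasLBaseChange (algebraMap A B)
  obtain ⟨e0⟩ := nonempty_Lpull_iso_RD jA E
  obtain ⟨e55⟩ := Groth.Agent.S1055.result (algebraMap A B)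
  obtain ⟨e8⟩ := nonempty_LBaseChange_iso_ε (algebraMap A B) ω
  exact ⟨((LpullCompIso (Spec.map (CommRingCat.ofHom (algebraMap A B))) jA).app E).symm ≪≫
    (DCoh.Lpull (Spec.map (CommRingCat.ofHom (algebraMap A B)))).mapIso (e0 ≪≫ e) ≪≫
    (e55.app ω).symm ≪≫ (DCoh.tildeD (CommRingCat.of B)).mapIso e8⟩

/-- `(Lf^* E)|_{Spec B} ≅ (ω ⊗_A B)~` for a chart `Spec B → Spec A` of `f`. -/
theorem nonempty_RD_Lpull_chart_iso {X' X : Scheme.{u}} (f : X' ⟶ X) [DCoh.HasLpull f]
    (E : DCoh.D X) (g : Spec (CommRingCat.of B) ⟶ X') [IsOpenImmersion g]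
    (jA : Spec (CommRingCat.of A) ⟶ X) [IsOpenImmersion jA]
    (hg : g ≫ f = Spec.map (CommRingCat.ofHom (algebraMap A B)) ≫ jA) (ω : Dual.D A)
    (e : (RD jA).obj E ≅ (DCoh.tildeD (CommRingCat.of A)).obj ω) :
    Nonempty ((RD g).obj ((DCoh.Lpull f).obj E) ≅
      (DCoh.tildeD (CommRingCat.of B)).obj ((ε (algebraMap A B)).obj ω)) := by
  haveI := hasLpull g
  haveI := hasLpull (g ≫ f)
  haveI := hasLpull (Spec.map (CommRingCat.ofHom (algebraMap A B)) ≫ jA)
  obtain ⟨e1⟩ := nonempty_Lpull_iso_RD g ((DCoh.Lpull f).obj E)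
  obtain ⟨e2⟩ := nonempty_Lpull_chart_iso (B := B) E jA ω e
  have key : ∀ (k : Spec (CommRingCat.of B) ⟶ X) [DCoh.HasLpull k],
      k = Spec.map (CommRingCat.ofHom (algebraMap A B)) ≫ jA →
      Nonempty ((DCoh.Lpull k).obj E ≅
        (DCoh.tildeD (CommRingCat.of B)).obj ((ε (algebraMap A B)).obj ω)) := by
    intro k _ hk
    subst hk
    exact ⟨e2⟩
  obtain ⟨e3⟩ := key (g ≫ f) hg
  exact ⟨e1.symm ≪≫ (LpullCompIso g f).app E ≪≫ e3⟩

/-- `E|_{Spec B} ≅ (ω ⊗_A B)~` for an open immersion `Spec B → Spec A`. -/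
theorem nonempty_RD_chart_iso {X : Scheme.{u}} (E : DCoh.D X)
    (jA : Spec (CommRingCat.of A) ⟶ X) [IsOpenImmersion jA]
    [IsOpenImmersion (Spec.map (CommRingCat.ofHom (algebraMap A B)))] (ω : Dual.D A)
    (e : (RD jA).obj E ≅ (DCoh.tildeD (CommRingCat.of A)).obj ω) :
    Nonempty ((RD (Spec.map (CommRingCat.ofHom (algebraMap A B)) ≫ jA)).obj E ≅
      (DCoh.tildeD (CommRingCat.of B)).obj ((ε (algebraMap A B)).obj ω)) := by
  haveI := hasLpull (Spec.map (CommRingCat.ofHom (algebraMap A B)) ≫ jA)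
  obtain ⟨e1⟩ := nonempty_Lpull_iso_RD (Spec.map (CommRingCat.ofHom (algebraMap A B)) ≫ jA) E
  obtain ⟨e2⟩ := nonempty_Lpull_chart_iso (B := B) E jA ω e
  exact ⟨e1.symm ≪≫ e2⟩

omit [Module.Flat A B] in
/-- base change of a dualizing complex along a flat Gorenstein morphism of finite type between
noetherian affine schemes. -/
theorem isDualizing_ε_of_gorMor [IsNoetherianRing A] [IsNoetherianRing B] [Module.Flat A B]
    [Algebra.FiniteType A B]
    (h : Dual3.IsGorensteinMor (Spec.map (CommRingCat.ofHom (algebraMap A B))))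
    (ω : Dual.D A) (hω : Dual.IsDualizing A ω) :
    Dual.IsDualizing B ((ε (algebraMap A B)).obj ω) :=
  Groth.Agent.Lib.Helper16.GF.isDualizing_ε_of_gorenstein_fibres
    (fun p => isGorensteinRing_fiber_of_gorMor h p) ω hω

end Chart

end Groth.Agent.Lib.Helper16.DualSch
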