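import Mathlib
import Groth.Agent.Lib.Helper16.FlatBC3

/-!
# Helper16 — RelDesc1: descent of pseudo-coherence along a finite jointly faithfully flat family
of flat ring maps.
-/

open CategoryTheory CategoryTheory.Limits DerivedCategory CategoryTheory.Pretriangulated
open TensorProduct

set_option linter.style.haveILetI false
set_option autoImplicit false

namespace Groth.Agent.Lib.Helper16.RelDesc

open Groth.Agent.Lib.Helper16.PC Groth.Agent.Lib.Helper16.LDer Groth.Agent.Lib.Helper8.PAmp
  Groth.Agent.Lib.Helper16.FlatBC

universe u v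

attribute [local instance] HasDerivedCategory.standard

/-- joint conservativity of a family of algebras: a module vanishes if all its base changes do. -/
def JSub (A : Type u) [CommRing A] {ι : Type v} (B : ι → Type u) [∀ i, CommRing (B i)]
    [∀ i, Algebra A (B i)] : Prop :=
  ∀ (N : Type u) [AddCommGroup N] [Module A N], (∀ i, Subsingleton (B i ⊗[A] N)) → Subsingleton N

section Mod

variable {A : Type u} [CommRing A] {ι : Type v} [Finite ι] (B : ι → Type u) [∀ i, CommRing (B i)]
  [∀ i, Algebra A (B i)]

/-- finiteness descends along a finite jointly conservative family. -/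
theorem finite_of_jSub (hB : JSub A B) (N : Type u) [AddCommGroup N] [Module A N]
    (h : ∀ i, Module.Finite (B i) (B i ⊗[A] N)) : Module.Finite A N := by
  classical
  haveI := Fintype.ofFinite ι
  have key : ∀ i, ∃ T : Finset N, ∀ N₀ : Submodule A N, (T : Set N) ⊆ N₀ →
      Subsingleton (B i ⊗[A] (N ⧸ N₀)) := by
    intro i
    obtain ⟨n, s, hs⟩ := Module.Finite.exists_fin (R := B i) (M := B i ⊗[A] N)
    choose k t m hm using fun j : Fin n ↦ TensorProduct.exists_sum_tmul_eq (s j)
    refine ⟨Finset.univ.biUnion (fun j : Fin n => Finset.univ.image (m j)), fun N₀ hN₀ => ?_⟩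
    let π : B i ⊗[A] N →ₗ[B i] B i ⊗[A] (N ⧸ N₀) :=
      AlgebraTensorModule.lTensor (B i) (B i) N₀.mkQ
    have hπ : Function.Surjective π := by
      have := LinearMap.lTensor_surjective (B i) N₀.mkQ_surjective
      exact this
    have hzero : π = 0 := by
      apply LinearMap.ext_on_range hs
      intro j
      rw [hm j, map_sum]
      apply Finset.sum_eq_zero
      intro l _
      have hmem : m j l ∈ N₀ := by
        apply hN₀
        simp only [Finset.coe_biUnion, Finset.coe_univ, Set.mem_univ, Finset.coe_image,
          Set.image_univ, Set.iUnion_true, Set.mem_iUnion, Set.mem_range]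
        exact ⟨j, l, rfl⟩
      change (t j l) ⊗ₜ[A] (N₀.mkQ (m j l)) = 0
      have h0 : N₀.mkQ (m j l) = 0 := (Submodule.Quotient.mk_eq_zero N₀).2 hmem
      rw [h0, tmul_zero]
    refine ⟨fun x y => ?_⟩
    obtain ⟨x', rfl⟩ := hπ x
    obtain ⟨y', rfl⟩ := hπ y
    rw [hzero]
    rfl
  choose T hT using key
  let N₀ : Submodule A N := Submodule.span A (↑(Finset.univ.biUnion T) : Set N)
  have hsub : Subsingleton (N ⧸ N₀) := by
    apply hB
    intro i
    apply hT i N₀
    intro x hx
    apply Submodule.subset_span
    simp only [Finset.coe_biUnion, Finset.coe_univ, Set.mem_univ, Set.iUnion_true, Set.mem_iUnion]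
    exact ⟨i, hx⟩
  have htop : N₀ = ⊤ := Submodule.Quotient.subsingleton_iff.1 hsub
  exact ⟨⟨Finset.univ.biUnion T, htop⟩⟩

end Mod

section Desc

variable {A : Type u} [CommRing A] {ι : Type v} [Finite ι] (B : ι → Type u) [∀ i, CommRing (B i)]
  [∀ i, Algebra A (B i)] [∀ i, Module.Flat A (B i)]

omit [Finite ι] [∀ i, Module.Flat A (B i)] in
include B in
lemma subsingleton_of_ext_family (hB : JSub A B) (N : ModuleCat.{u} A)
    (h : ∀ i, Subsingleton ((ModuleCat.extendScalars.{u, u, u} (algebraMap A (B i))).obj N)) :
    Subsingleton N := by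
  apply hB
  intro i
  haveI := h i
  exact (extEquiv (A := A) (B := B i) N).toEquiv.subsingleton

omit [∀ i, Module.Flat A (B i)] in
include B in
lemma finite_of_ext_family (hB : JSub A B) (N : ModuleCat.{u} A)
    (h : ∀ i, Module.Finite (B i)
      ((ModuleCat.extendScalars.{u, u, u} (algebraMap A (B i))).obj N)) :
    Module.Finite A N := by
  apply finite_of_jSub B hB
  intro i
  haveI := h i
  exact Module.Finite.equiv (extEquiv (A := A) (B := B i) N).symm

omit [Finite ι] in
lemma isLE_of_ε_isLE_family (hB : JSub A B) (K : Dual.D A) (b : ℤ)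
    (h : ∀ i, ((ε (algebraMap A (B i))).obj K).IsLE b) : K.IsLE b := by
  rw [isLE_iff]
  intro j hj
  have := subsingleton_of_ext_family B hB ((homologyFunctor (ModuleCat.{u} A) j).obj K)
    (fun i => by
      obtain ⟨e⟩ := nonempty_εHomologyIso (algebraMap A (B i)) K j
      exact ModuleCat.subsingleton_of_isZero ((((isLE_iff _ b).1 (h i)) j hj).of_iso e.symm))
  exact ModuleCat.isZero_of_subsingleton _

theorem pc_of_pc_ε_family_aux (hB : JSub A B) (m : ℤ) : ∀ (n : ℕ) (K : Dual.D A) (b : ℤ),
    K.IsLE b → b + 1 - m ≤ n →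
    (∀ i, DRing.IsPseudoCoherent (B i) m ((ε (algebraMap A (B i))).obj K)) →
    DRing.IsPseudoCoherent A m K := by
  intro n
  induction n with
  | zero =>
    intro K b hK hn _
    exact pc_of_isLE K m b hK (by simp at hn; omega)
  | succ n ih =>
    intro K b hK hn h
    by_cases hbm : b < m
    · exact pc_of_isLE K m b hK hbm
    · have hfinA : Module.Finite A ((homologyFunctor (ModuleCat.{u} A) b).obj K) := by
        apply finite_of_ext_family B hB
        intro i
        have hεle := ε_isLE (algebraMap A (B i)) K b hK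
        have hfinB : Module.Finite (B i) ((homologyFunctor (ModuleCat.{u} (B i)) b).obj
            ((ε (algebraMap A (B i))).obj K)) :=
          (Groth.Agent.S2068.result _ b (pc_of_le (by omega) (h i))).1
            (fun j hj => (isLE_iff _ b).1 hεle j hj)
        obtain ⟨e⟩ := nonempty_εHomologyIso (algebraMap A (B i)) K b
        exact Module.Finite.equiv e.toLinearEquiv
      obtain ⟨k, f, hf⟩ :=
        Module.Finite.exists_fin' A ((homologyFunctor (ModuleCat.{u} A) b).obj K)
      let F₀ : ModuleCat.{u} A := ModuleCat.of A (Fin k → A)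
      have hF₀ : FinFree F₀ := ⟨(inferInstance : Module.Finite A (Fin k → A)),
        (inferInstance : Module.Free A (Fin k → A))⟩
      have : Projective F₀ := finFree_proj F₀ hF₀
      have hπ : Epi (ModuleCat.ofHom f) := (ModuleCat.epi_iff_surjective _).2 hf
      obtain ⟨β, hβ⟩ := exists_lift_of_projective b F₀ K (ModuleCat.ofHom f)
      have hβgood : Good b β := by
        refine ⟨fun i hi => ?_, ?_⟩
        · have h1 : IsZero ((homologyFunctor (ModuleCat.{u} A) i).obj
              ((singleFunctor (ModuleCat.{u} A) b).obj F₀)) :=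
            isZero_homology_single b F₀ i (by omega)
          have h2 : IsZero ((homologyFunctor (ModuleCat.{u} A) i).obj K) :=
            (isLE_iff K b).1 hK i hi
          exact ⟨⟨0, h1.eq_of_src _ _, h2.eq_of_src _ _⟩⟩
        · rw [hβ]
          infer_instance
      obtain ⟨C, g, w, hT⟩ := distinguished_cocone_triangle β
      have hC : C.IsLE (b - 1) := (good_iff_isLE _ hT b (b - 1) (by omega)).1 hβgood
      have hSA : ∀ m' : ℤ, DRing.IsPseudoCoherent A m'
          ((singleFunctor (ModuleCat.{u} A) b).obj F₀) := fun m' =>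
        (isPseudoCoherent_iff _ _).2 (isPC_single finFree_zero finFree_iso F₀ hF₀ b m')
      have hCB : ∀ i, DRing.IsPseudoCoherent (B i) m ((ε (algebraMap A (B i))).obj C) := by
        intro i
        have hSB := pc_ε (algebraMap A (B i)) _ (m + 1) (hSA (m + 1))
        have hT' := (ε (algebraMap A (B i))).map_distinguished _ hT
        exact (isPseudoCoherent_two_of_three _ hT' m).1 hSB (h i)
      have hCA := ih C (b - 1) hC (by push_cast at hn; omega) hCB
      exact (isPseudoCoherent_two_of_three _ hT m).2.1 (hSA m) hCA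

/-- **descent of pseudo-coherence along a finite jointly faithfully flat family.** -/
theorem pc_of_pc_ε_family (hB : JSub A B) (K : Dual.D A) (b : ℤ) (hK : K.IsLE b) (m : ℤ)
    (h : ∀ i, DRing.IsPseudoCoherent (B i) m ((ε (algebraMap A (B i))).obj K)) :
    DRing.IsPseudoCoherent A m K :=
  pc_of_pc_ε_family_aux B hB m (b + 1 - m).toNat K b hK (Int.self_le_toNat _) h

end Desc

end Groth.Agent.Lib.Helper16.RelDesc
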