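import Mathlib
import Groth.Agent.Lib.Helper15.RelPC12

/-!
# Helper16 — PCHn: ring maps making the target `n`-pseudo-coherent relative to the source, as a
local property of ring homomorphisms (fixed level `n`), stable under flat base change and
descending along faithfully flat maps.  (Level-`n` version of Helper15's `RelPC9`, `RelPC10`,
`RelPC12`.)
-/

open CategoryTheory CategoryTheory.Limits DerivedCategory CategoryTheory.Pretriangulated

set_option linter.style.haveILetI false

namespace Groth.Agent.Lib.Helper16.NPC

open Groth.Agent.Lib.Helper16.PC Groth.Agent.Lib.Helper16.RelPC Groth.Agent.Lib.Helper16.RestrictD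
  Groth.Agent.Lib.Helper16.FlatBC Groth.Agent.Lib.Helper16.LDer
  Groth.Agent.Lib.Helper15.RelPC5 Groth.Agent.Lib.Helper15.RelPC6 Groth.Agent.Lib.Helper15.RelPC7
  Groth.Agent.Lib.Helper15.RelPC8 Groth.Agent.Lib.Helper15.RelPC9 Groth.Agent.Lib.Helper15.RelPC10
  Groth.Agent.Lib.Helper16.TorAmp Groth.Agent.Lib.Helper16.TorBal Groth.Agent.Lib.Helper15.RelPC11

universe u

attribute [local instance] HasDerivedCategory.standard
attribute [local instance] MvPolynomial.algebraMvPolynomial

variable (n : ℤ)

/-- the target, as a module over itself, is `n`-pseudo-coherent relative to the source. -/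
def PCHn {A B : Type u} [CommRing A] [CommRing B] (φ : A →+* B) : Prop :=
  letI := φ.toAlgebra
  DerCA.IsRelPseudoCoherent A B n (Dual.inD B B)

variable {A B C : Type u} [CommRing A] [CommRing B] [CommRing C]

lemma pchn_algebraMap [Algebra A B] :
    PCHn n (algebraMap A B) ↔ DerCA.IsRelPseudoCoherent A B n (Dual.inD B B) := by
  unfold PCHn
  rw [Groth.Agent.Lib.Helper15.RelPC9.toAlgebra_algebraMap]

variable {n}

lemma finiteType_of_rel [Algebra A B] {K : Dual.D B} (h : DerCA.IsRelPseudoCoherent A B n K) :
    Algebra.FiniteType A B := by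
  obtain ⟨k, α, hα, -⟩ := h
  exact Algebra.FiniteType.of_surjective α hα

/-- localization of the target. -/
theorem rel_away_target [Algebra A B] (h : DerCA.IsRelPseudoCoherent A B n (Dual.inD B B)) (g : B)
    (B' : Type u) [CommRing B'] [Algebra B B'] [Algebra A B'] [IsScalarTower A B B']
    [IsLocalization.Away g B'] : DerCA.IsRelPseudoCoherent A B' n (Dual.inD B' B') := by
  obtain ⟨k, α, hα, hv⟩ := h
  obtain ⟨g0, rfl⟩ := hα g
  haveI : Module.Flat B B' := IsLocalization.flat B' (Submonoid.powers (α g0))
  have h1 := via_locPres_of_via α g0 B' (sCx (ModuleCat.of B B)) n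
    (via_of_iso hv (toDSingleIso _).symm)
  exact ⟨k + 1, locPres α g0 B', locPres_surjective α g0 B' hα, via_of_iso h1 toDExtSingleIso⟩

theorem pchn_awayTarget : RingHom.StableUnderCompositionWithLocalizationAwayTarget (@PCHn n) := by
  intro R S T _ _ _ _ s _ f hf
  letI := f.toAlgebra
  letI : Algebra R T := ((algebraMap S T).comp f).toAlgebra
  haveI : IsScalarTower R S T := .of_algebraMap_eq (fun _ => rfl)
  exact rel_away_target hf s T

theorem pchn_awaySource : RingHom.StableUnderCompositionWithLocalizationAwaySource (@PCHn n) := by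
  intro R S T _ _ _ _ r _ f hf
  letI := f.toAlgebra
  letI : Algebra R T := (f.comp (algebraMap R S)).toAlgebra
  haveI : IsScalarTower R S T := .of_algebraMap_eq (fun _ => rfl)
  have hf' : DerCA.IsRelPseudoCoherent S T n (Dual.inD T T) := hf
  haveI : Algebra.FiniteType S T := finiteType_of_rel hf'
  haveI : Algebra.FiniteType R S := IsLocalization.finiteType_of_monoid_fg (Submonoid.powers r) S
  haveI : Algebra.FiniteType R T := Algebra.FiniteType.trans ‹Algebra.FiniteType R S› ‹_›
  have hA := relPCModuleAll_away r S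
  exact ((Groth.Agent.S6985.result (R := R) (A := S) (B := T) hA (Dual.inD T T) n).1).1 hf'

theorem pchn_localizationAwayPreserves : RingHom.LocalizationAwayPreserves (@PCHn n) := by
  intro R S _ _ f r R' S' _ _ _ _ _ _ hf
  letI := f.toAlgebra
  letI : Algebra R S' := ((algebraMap S S').comp f).toAlgebra
  haveI : IsScalarTower R S S' := .of_algebraMap_eq (fun _ => rfl)
  letI : Algebra R' S' := (IsLocalization.Away.map R' S' f r).toAlgebra
  haveI : IsScalarTower R R' S' := .of_algebraMap_eq (fun x => by
    change algebraMap S S' (f x) = IsLocalization.Away.map R' S' f r (algebraMap R R' x)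
    exact (IsLocalization.map_eq _ x).symm)
  have h1 : DerCA.IsRelPseudoCoherent R S' n (Dual.inD S' S') := rel_away_target hf (f r) S'
  haveI : Algebra.FiniteType R S' := finiteType_of_rel h1
  haveI : Algebra.FiniteType R R' := IsLocalization.finiteType_of_monoid_fg (Submonoid.powers r) R'
  haveI : Algebra.FiniteType R' S' := Algebra.FiniteType.of_restrictScalars_finiteType R R' S'
  have hA := relPCModuleAll_away r R'
  exact ((Groth.Agent.S6985.result (R := R) (A := R') (B := S') hA (Dual.inD S' S') n).1).2 h1

theorem pchn_ofLocalizationFiniteSpanTarget :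
    RingHom.OfLocalizationFiniteSpanTarget (@PCHn n) := by
  intro R S _ _ f s hs h
  letI := f.toAlgebra
  have hft : f.FiniteType := by
    apply RingHom.finiteType_ofLocalizationSpanTarget f (s : Set S) hs
    intro r
    have hr := h ⟨r.1, r.2⟩
    letI := ((algebraMap S (Localization.Away (r : S))).comp f).toAlgebra
    exact finiteType_of_rel hr
  haveI : Algebra.FiniteType R S := hft
  obtain ⟨k, α, hα⟩ := exists_presentation R S
  let e := s.equivFin
  let F : Fin s.card → S := fun i => (e.symm i).1
  have hF : Ideal.span (Set.range F) = ⊤ := by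
    have : Set.range F = (s : Set S) := by
      ext x
      constructor
      · rintro ⟨i, rfl⟩
        exact (e.symm i).2
      · intro hx
        exact ⟨e ⟨x, hx⟩, by simp [F]⟩
    rw [this, hs]
  have hall : DerCA.IsRelPseudoCoherentVia α n (DRing.toD (sCx (ModuleCat.of S S))) := by
    apply via_of_family α hα F hF (fun i => Localization.Away (F i))
    intro i
    have hi := h ⟨F i, (e.symm i).2⟩
    have hi' : DerCA.IsRelPseudoCoherent R (Localization.Away (F i)) n
        (Dual.inD (Localization.Away (F i)) (Localization.Away (F i))) := by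
      have hh : ((algebraMap S (Localization.Away (F i))).comp f).toAlgebra =
          (inferInstance : Algebra R (Localization.Away (F i))) :=
        Algebra.algebra_ext _ _ (fun x => (IsScalarTower.algebraMap_apply R S _ x).symm)
      unfold PCHn at hi
      rw [hh] at hi
      exact hi
    exact rel_of_iso hi' toDExtSingleIso.symm
  exact ⟨k, α, hα, via_of_iso hall (toDSingleIso _)⟩

theorem pchn_ofLocalizationSpanTarget : RingHom.OfLocalizationSpanTarget (@PCHn n) :=
  (RingHom.ofLocalizationSpanTarget_iff_finite _).2 pchn_ofLocalizationFiniteSpanTarget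

theorem pchn_isLocal : RingHom.PropertyIsLocal (@PCHn n) :=
  ⟨pchn_localizationAwayPreserves, pchn_ofLocalizationSpanTarget,
    pchn_ofLocalizationSpanTarget.ofLocalizationSpan pchn_awaySource,
    pchn_awayTarget⟩

section BaseChange

variable {R S R' S' : Type u} [CommRing R] [CommRing S] [CommRing R'] [CommRing S']
  [Algebra R S] [Algebra R R'] [Algebra R S'] [Algebra S S'] [Algebra R' S']
  [IsScalarTower R S S'] [IsScalarTower R R' S']

theorem rel_baseChange [Algebra.IsPushout R S R' S'] [Module.Flat R R']
    (h : DerCA.IsRelPseudoCoherent R S n (Dual.inD S S)) :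
    DerCA.IsRelPseudoCoherent R' S' n (Dual.inD S' S') := by
  obtain ⟨k, α, hα, h1⟩ := id h
  let α' : MvPolynomial (Fin k) R' →ₐ[R'] S' := bcPres α
  have hα' : Function.Surjective α' := bcPres_surjective α hα
  letI : Algebra (MvPolynomial (Fin k) R) S := (α : MvPolynomial (Fin k) R →+* S).toAlgebra
  letI : Algebra (MvPolynomial (Fin k) R') S' := (α' : MvPolynomial (Fin k) R' →+* S').toAlgebra
  letI : Algebra (MvPolynomial (Fin k) R) S' :=
    ((algebraMap S S').comp (α : MvPolynomial (Fin k) R →+* S)).toAlgebra
  haveI : IsScalarTower (MvPolynomial (Fin k) R) S S' := .of_algebraMap_eq (fun _ => rfl)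
  haveI : IsScalarTower (MvPolynomial (Fin k) R) (MvPolynomial (Fin k) R') S' :=
    .of_algebraMap_eq (fun x => (bcPres_map α x).symm)
  haveI : IsScalarTower R (MvPolynomial (Fin k) R) S :=
    .of_algebraMap_eq (fun x => (α.commutes x).symm)
  haveI : IsScalarTower R' (MvPolynomial (Fin k) R') S' :=
    .of_algebraMap_eq (fun x => (α'.commutes x).symm)
  haveI : IsScalarTower R (MvPolynomial (Fin k) R') S' := .of_algebraMap_eq (fun x => by
    rw [IsScalarTower.algebraMap_apply R R' S',
      IsScalarTower.algebraMap_apply R R' (MvPolynomial (Fin k) R')]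
    exact (α'.commutes _).symm)
  haveI : Algebra.IsPushout (MvPolynomial (Fin k) R) S (MvPolynomial (Fin k) R') S' :=
    (Algebra.IsPushout.comp_iff R (MvPolynomial (Fin k) R) R' (MvPolynomial (Fin k) R')
      (T := S) (T' := S')).1 inferInstance
  haveI : Algebra.IsPushout (MvPolynomial (Fin k) R) (MvPolynomial (Fin k) R') S S' :=
    Algebra.IsPushout.symm inferInstance
  haveI : Module.Flat (MvPolynomial (Fin k) R) (MvPolynomial (Fin k) R') :=
    Module.Flat.of_linearEquiv
      (Algebra.IsPushout.equiv R (MvPolynomial (Fin k) R) R'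
        (MvPolynomial (Fin k) R')).symm.toLinearEquiv
  haveI : Module.Flat S S' :=
    Module.Flat.of_linearEquiv (Algebra.IsPushout.equiv R S R' S').symm.toLinearEquiv
  refine ⟨k, α', hα', ?_⟩
  let K₀ : DRing.Cx S := sCx (ModuleCat.of S S)
  have h2 : DerCA.IsRelPseudoCoherentVia α n (DRing.toD K₀) := via_of_iso h1 (toDSingleIso _).symm
  have h3 := pc_ε (algebraMap (MvPolynomial (Fin k) R) (MvPolynomial (Fin k) R')) _ n h2
  have e : (ε (algebraMap (MvPolynomial (Fin k) R) (MvPolynomial (Fin k) R'))).obj
        ((DRing.restrictD (α : MvPolynomial (Fin k) R →+* S)).obj (DRing.toD K₀)) ≅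
      (DRing.restrictD (α' : MvPolynomial (Fin k) R' →+* S')).obj
        (DRing.toD ((extCx (algebraMap S S')).obj K₀)) :=
    (ε _).mapIso (restrictQIso _ K₀) ≪≫ εQIso _ _ ≪≫
      Q.mapIso (sqCxIso (MvPolynomial (Fin k) R) (MvPolynomial (Fin k) R') S' K₀) ≪≫
      (restrictQIso _ _).symm
  exact via_of_iso (K := DRing.toD ((extCx (algebraMap S S')).obj K₀)) (pc_of_iso h3 e)
    toDExtSingleIso

theorem rel_codescends [Algebra.IsPushout R S R' S'] [Module.FaithfullyFlat R R']
    (h : DerCA.IsRelPseudoCoherent R' S' n (Dual.inD S' S')) :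
    DerCA.IsRelPseudoCoherent R S n (Dual.inD S S) := by
  haveI : Algebra.FiniteType R' S' := finiteType_of_rel h
  haveI : Algebra.FiniteType R S := by
    have h1 : (algebraMap R R').FaithfullyFlat :=
      RingHom.faithfullyFlat_algebraMap_iff.2 inferInstance
    have h2 : (algebraMap R' S').FiniteType := RingHom.finiteType_algebraMap.2 inferInstance
    exact RingHom.finiteType_algebraMap.1
      (RingHom.FiniteType.codescendsAlong_faithfullyFlat (R := R) (S := S) (R' := R') (S' := S')
        h1 h2)
  obtain ⟨k, α, hα⟩ := exists_presentation R S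
  let α' : MvPolynomial (Fin k) R' →ₐ[R'] S' := bcPres α
  have hα' : Function.Surjective α' := bcPres_surjective α hα
  letI : Algebra (MvPolynomial (Fin k) R) S := (α : MvPolynomial (Fin k) R →+* S).toAlgebra
  letI : Algebra (MvPolynomial (Fin k) R') S' := (α' : MvPolynomial (Fin k) R' →+* S').toAlgebra
  letI : Algebra (MvPolynomial (Fin k) R) S' :=
    ((algebraMap S S').comp (α : MvPolynomial (Fin k) R →+* S)).toAlgebra
  haveI : IsScalarTower (MvPolynomial (Fin k) R) S S' := .of_algebraMap_eq (fun _ => rfl)
  haveI : IsScalarTower (MvPolynomial (Fin k) R) (MvPolynomial (Fin k) R') S' :=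
    .of_algebraMap_eq (fun x => (bcPres_map α x).symm)
  haveI : IsScalarTower R (MvPolynomial (Fin k) R) S :=
    .of_algebraMap_eq (fun x => (α.commutes x).symm)
  haveI : IsScalarTower R' (MvPolynomial (Fin k) R') S' :=
    .of_algebraMap_eq (fun x => (α'.commutes x).symm)
  haveI : IsScalarTower R (MvPolynomial (Fin k) R') S' := .of_algebraMap_eq (fun x => by
    rw [IsScalarTower.algebraMap_apply R R' S',
      IsScalarTower.algebraMap_apply R R' (MvPolynomial (Fin k) R')]
    exact (α'.commutes _).symm)
  haveI : Algebra.IsPushout (MvPolynomial (Fin k) R) S (MvPolynomial (Fin k) R') S' :=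
    (Algebra.IsPushout.comp_iff R (MvPolynomial (Fin k) R) R' (MvPolynomial (Fin k) R')
      (T := S) (T' := S')).1 inferInstance
  haveI : Algebra.IsPushout (MvPolynomial (Fin k) R) (MvPolynomial (Fin k) R') S S' :=
    Algebra.IsPushout.symm inferInstance
  haveI : Module.FaithfullyFlat (MvPolynomial (Fin k) R) (MvPolynomial (Fin k) R') :=
    Module.FaithfullyFlat.of_linearEquiv _ _
      (Algebra.IsPushout.equiv R (MvPolynomial (Fin k) R) R'
        (MvPolynomial (Fin k) R')).symm.toLinearEquiv
  haveI : Module.Flat S S' :=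
    Module.Flat.of_linearEquiv (Algebra.IsPushout.equiv R S R' S').symm.toLinearEquiv
  refine ⟨k, α, hα, ?_⟩
  have h1 : DerCA.IsRelPseudoCoherentVia α' n (Dual.inD S' S') :=
    (rel_iff_via α' hα' n _).1 h
  let K₀ : DRing.Cx S := sCx (ModuleCat.of S S)
  have h2 : DerCA.IsRelPseudoCoherentVia α' n
      (DRing.toD ((extCx (algebraMap S S')).obj K₀)) := via_of_iso h1 toDExtSingleIso.symm
  have h3 : DRing.IsPseudoCoherent (MvPolynomial (Fin k) R') n
      (DRing.toD (((ModuleCat.extendScalars (algebraMap (MvPolynomial (Fin k) R)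
        (MvPolynomial (Fin k) R'))).mapHomologicalComplex (ComplexShape.up ℤ)).obj
        (((ModuleCat.restrictScalars.{u}
          (algebraMap (MvPolynomial (Fin k) R) S)).mapHomologicalComplex
          (ComplexShape.up ℤ)).obj K₀))) :=
    pc_of_iso h2 (restrictQIso _ _ ≪≫
      (Q.mapIso (sqCxIso (MvPolynomial (Fin k) R) (MvPolynomial (Fin k) R') S' K₀)).symm)
  have h4 := (Groth.Agent.S6941.result (R := MvPolynomial (Fin k) R)
    (R' := MvPolynomial (Fin k) R') _ n).1 h3
  exact via_of_iso (K := DRing.toD K₀) (pc_of_iso h4 (restrictQIso _ K₀).symm) (toDSingleIso _)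

theorem pchn_codescendsAlong : RingHom.CodescendsAlong (@PCHn n) RingHom.FaithfullyFlat := by
  intro R S R' S' _ _ _ _ _ _ _ _ _ _ _ _ hff h
  haveI : Module.FaithfullyFlat R R' := RingHom.faithfullyFlat_algebraMap_iff.1 hff
  exact (pchn_algebraMap n).2 (rel_codescends ((pchn_algebraMap n).1 h))

open TensorProduct in
attribute [local instance] Algebra.TensorProduct.rightAlgebra in
theorem pchn_flat_tensor ⦃R S T : Type u⦄ [CommRing R] [CommRing S] [CommRing T] [Algebra R S]
    [Algebra R T] (hfl : Module.Flat R S) (h : PCHn n (algebraMap R T)) :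
    PCHn n (algebraMap S (S ⊗[R] T)) :=
  (pchn_algebraMap n).2 (rel_baseChange (R := R) (S := T) (R' := S) (S' := S ⊗[R] T)
    ((pchn_algebraMap n).1 h))

end BaseChange

end Groth.Agent.Lib.Helper16.NPC
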