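import Mathlib
import Groth.Prelude.Def_DRing2
import Groth.Prelude.Def_DDual2
import Groth.Agent.Lib.Helper15.RelPC25
import Groth.Agent.Lib.Helper16.RestrictD
import Groth.Agent.Lib.Helper16.TorAmp8
import Groth.Agent.Lib.Helper16.TorBal8
import Groth.Agent.Lib.Helper16.FlatAcyc2

/-!
# Helper16 — SmTor1: tor amplitude over a (localised) smooth algebra from tor amplitude over the
base, with the sharp bound `[a - n, b]`.
-/

set_option autoImplicit false
universe u
open CategoryTheory CategoryTheory.Limits DerivedCategory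

namespace Groth.Agent.Lib.Helper16.SmTor

open Groth.Agent.Lib.Helper16.TorAmp Groth.Agent.Lib.Helper16.TorBal
  Groth.Agent.Lib.Helper16.RestrictD

attribute [local instance] HasDerivedCategory.standard

section Def

variable {A B : Type u} [CommRing A] [CommRing B]

/-- `B`-modules which are flat over `A` have tor dimension `≤ n` over `B`. -/
def FlatTD (n : ℕ) (σ : A →+* B) : Prop :=
  ∀ N : ModuleCat.{u} B, Module.Flat A ((ModuleCat.restrictScalars.{u} σ).obj N) →
    DRing.HasTorAmplitudeIn B (-(n : ℤ)) 0 ((singleFunctor (ModuleCat.{u} B) 0).obj N)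

lemma FlatTD.mono {n m : ℕ} (h : n ≤ m) {σ : A →+* B} (hσ : FlatTD n σ) : FlatTD m σ :=
  fun N hN => torAmp_mono _ _ _ _ _ (by omega) le_rfl (hσ N hN)

/-- the cokernel of `res d` as `res` of the cokernel of `d`. -/
noncomputable def resCokerIso (σ : A →+* B) {X Y : ModuleCat.{u} B} (d : X ⟶ Y) :
    (ModuleCat.restrictScalars.{u} σ).obj (ModuleCat.of B (Y ⧸ LinearMap.range d.hom)) ≅
      ModuleCat.of A (((ModuleCat.restrictScalars.{u} σ).obj Y) ⧸
        LinearMap.range ((ModuleCat.restrictScalars.{u} σ).map d).hom) :=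
  (ModuleCat.restrictScalars.{u} σ).mapIso (ModuleCat.cokernelIsoRangeQuotient d).symm ≪≫
    PreservesCokernel.iso (ModuleCat.restrictScalars.{u} σ) d ≪≫
    ModuleCat.cokernelIsoRangeQuotient _

lemma exactAt_of_restrict (σ : A →+* B) (P : DRing.Cx B) (i : ℤ)
    (h : (((ModuleCat.restrictScalars.{u} σ).mapHomologicalComplex (ComplexShape.up ℤ)).obj
      P).ExactAt i) : P.ExactAt i := by
  rw [HomologicalComplex.exactAt_iff_isZero_homology] at h ⊢
  have h1 : IsZero ((ModuleCat.restrictScalars.{u} σ).obj (P.homology i)) :=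
    h.of_iso (mapHomologyIso' σ P i).symm
  have := ModuleCat.subsingleton_of_isZero h1
  have h2 : Subsingleton (P.homology i) := this
  exact ModuleCat.isZero_of_subsingleton _

/-- **Main ring-level lemma.** If `B` is flat over `A`, `B`-modules flat over `A` have tor
dimension `≤ n` over `B`, and `K ∈ D(B)` has tor amplitude in `[a, b]` over `A`, then `K` has
tor amplitude in `[a - n, b]` over `B`. -/
theorem torAmp_of_torAmp_restrict (σ : A →+* B) (hσ : σ.Flat) (n : ℕ) (h2 : FlatTD n σ)
    (K : Dual.D B) (a b : ℤ)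
    (hK : DRing.HasTorAmplitudeIn A a b ((DRing.restrictD σ).obj K)) :
    DRing.HasTorAmplitudeIn B (a - n) b K := by
  have hle : K.IsLE b := isLE_of_restrict_isLE σ K b (isLE_of_torAmp _ a b hK)
  obtain ⟨P, hP, hproj, ⟨e⟩⟩ := exists_projective_model K b hle
  refine hasTorAmplitudeIn_of_iso e _ _ ?_
  have hPA : DRing.HasTorAmplitudeIn A a b (DRing.toD
      (((ModuleCat.restrictScalars.{u} σ).mapHomologicalComplex (ComplexShape.up ℤ)).obj P)) :=
    hasTorAmplitudeIn_of_iso ((DRing.restrictD σ).mapIso e.symm ≪≫ restrictQIso σ P) a b hK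
  have hPAfl : DRing.TermwiseFlat
      (((ModuleCat.restrictScalars.{u} σ).mapHomologicalComplex (ComplexShape.up ℤ)).obj P) := by
    intro i
    letI : Algebra A B := σ.toAlgebra
    haveI : Module.Flat A B := hσ
    haveI := hproj i
    haveI : Module.Flat B (P.X i) := inferInstance
    exact Module.Flat.trans A B ((ModuleCat.restrictScalars.{u} (algebraMap A B)).obj (P.X i))
  have hPAb : DRing.VanishesAbove
      (((ModuleCat.restrictScalars.{u} σ).mapHomologicalComplex (ComplexShape.up ℤ)).obj P) b :=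
    fun i hi => Functor.map_isZero (ModuleCat.restrictScalars.{u} σ) (hP i hi)
  have hcok := flat_coker_of_torAmp _ b hPAb hPAfl a b hPA
  have hex : ∀ i : ℤ, i < a → P.ExactAt i := fun i hi =>
    exactAt_of_restrict σ P i (exactAt_of_torAmp _ a b hPA i (Or.inl hi))
  have hNfl : Module.Flat A ((ModuleCat.restrictScalars.{u} σ).obj
      (ModuleCat.of B (P.X a ⧸ LinearMap.range (P.d (a - 1) a).hom))) := by
    haveI : Module.Flat A (ModuleCat.of A (((ModuleCat.restrictScalars.{u} σ).obj (P.X a)) ⧸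
        LinearMap.range ((ModuleCat.restrictScalars.{u} σ).map (P.d (a - 1) a)).hom)) := hcok
    exact Module.Flat.of_linearEquiv (resCokerIso σ (P.d (a - 1) a)).toLinearEquiv
  have hN := h2 _ hNfl
  haveI : P.IsGE a := (P.isGE_iff a).2 hex
  have hq' : IsIso (Q.map (P.πTruncGE a)) := by
    rw [isIso_Q_map_iff_quasiIso]
    infer_instance
  refine hasTorAmplitudeIn_of_iso (asIso (Q.map (P.πTruncGE a))).symm _ _ ?_
  by_cases hab : a ≤ b
  · refine torAmp_of_bounded_termwise (a - n) b (P.truncGE a) a b ?_ ?_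
    · intro i hi
      rcases hi with hi | hi
      · exact (P.truncGE a).isZero_of_isStrictlyGE a i hi
      · exact (hP i hi).of_iso (P.truncGEXIso a i (by omega))
    · intro i
      rcases lt_trichotomy i a with h | h | h
      · exact torAmp_of_isZero _ (Functor.map_isZero _
          ((P.truncGE a).isZero_of_isStrictlyGE a i h)) _ _
      · subst h
        have e1 : ModuleCat.of B (P.X i ⧸ LinearMap.range (P.d (i - 1) i).hom) ≅
            (P.truncGE i).X i :=
          ((P.truncGEXIsoOpcycles i) ≪≫ opcyclesIsoQuotient P (i - 1) i (by omega)).symm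
        exact torAmp_mono _ _ _ _ _ (by omega) (by omega)
          (hasTorAmplitudeIn_of_iso ((singleFunctor (ModuleCat.{u} B) 0).mapIso e1) _ _ hN)
      · by_cases hib : b < i
        · exact torAmp_of_isZero _ (Functor.map_isZero _
            ((hP i hib).of_iso (P.truncGEXIso a i h))) _ _
        · haveI := hproj i
          haveI : Module.Flat B (P.X i) := inferInstance
          have hfl : Module.Flat B ((P.truncGE a).X i) :=
            Module.Flat.of_linearEquiv (P.truncGEXIso a i h).toLinearEquiv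
          exact torAmp_mono _ 0 0 _ _ (by omega) (by omega)
            ((torAmp_zero_iff_flat (R := B) ((P.truncGE a).X i)).2 hfl)
  · -- `a > b`: everything vanishes
    have hz : ∀ i : ℤ, P.ExactAt i := fun i =>
      exactAt_of_restrict σ P i (exactAt_of_torAmp _ a b hPA i (by omega))
    refine torAmp_of_isZero _ ?_ _ _
    have : IsZero (Q.obj P) := Groth.Agent.Lib.Helper16.FlatAcyc.isZero_Q_obj_of_exactAt P hz
    exact this.of_iso (asIso (Q.map (P.πTruncGE a))).symm

end Def

section Retract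

variable {R : Type u} [CommRing R]

/-- tor dimension of a retract. -/
theorem hasTorDimLE_of_retract {M M' : Type u} [AddCommGroup M] [Module R M] [AddCommGroup M']
    [Module R M'] (i : M' →ₗ[R] M) (r : M →ₗ[R] M') (h : r.comp i = LinearMap.id) (d : ℕ)
    (hM : DRing.HasTorDimLE R d M) : DRing.HasTorDimLE R d M' := by
  intro N _ _ p hp
  have hs := hM N p hp
  let fi := ((CategoryTheory.Tor (ModuleCat.{u} R) p).map (ModuleCat.ofHom i)).app
    (ModuleCat.of R N)
  let fr := ((CategoryTheory.Tor (ModuleCat.{u} R) p).map (ModuleCat.ofHom r)).app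
    (ModuleCat.of R N)
  have hir : fi ≫ fr = 𝟙 _ := by
    rw [← NatTrans.comp_app, ← Functor.map_comp, ← ModuleCat.ofHom_comp, h, ModuleCat.ofHom_id,
      CategoryTheory.Functor.map_id]
    rfl
  refine ⟨fun x y => ?_⟩
  have hx : fr.hom (fi.hom x) = x := by
    have := congrArg (fun φ => φ.hom x) hir
    simpa using this
  have hy : fr.hom (fi.hom y) = y := by
    have := congrArg (fun φ => φ.hom y) hir
    simpa using this
  rw [← hx, ← hy]
  congr 1
  exact Subsingleton.elim _ _

end Retract

section Tsz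

open Groth.Agent.Lib.Helper15.RelPC25 Groth.Agent.Lib.Helper15.RelPC21
  Groth.Agent.Lib.Helper15.RelPC23

attribute [local instance] Groth.Agent.Lib.Helper15.RelPC25.opModule

variable {R₀ B₀ : Type u} [CommRing R₀] [CommRing B₀]

/-- over a standard smooth algebra of relative dimension `n`, modules flat over the base have tor
dimension `≤ n`. -/
theorem flatTD_of_standardSmooth (n : ℕ) (ψ : R₀ →+* B₀)
    (hψ : ψ.IsStandardSmoothOfRelativeDimension n) : FlatTD n ψ := by
  intro N hN
  have hfl : ψ.Flat := (RingHom.IsStandardSmoothOfRelativeDimension.isStandardSmooth n ψ hψ).smooth.flat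
  -- flatness of `B₀ ⊕ N` over `R₀`
  have hS := tszSC_shortExact (B := B₀) N
  have hSR := hS.map_of_exact (ModuleCat.restrictScalars.{u} ψ)
  have hT := hSR.singleTriangle_distinguished
  have h1 : DRing.HasTorAmplitudeIn R₀ 0 0 ((singleFunctor (ModuleCat.{u} R₀) 0).obj
      ((ModuleCat.restrictScalars.{u} ψ).obj N)) :=
    (torAmp_zero_iff_flat (R := R₀) ((ModuleCat.restrictScalars.{u} ψ).obj N)).2 hN
  have h3 : DRing.HasTorAmplitudeIn R₀ 0 0 ((singleFunctor (ModuleCat.{u} R₀) 0).obj
      ((ModuleCat.restrictScalars.{u} ψ).obj (ModuleCat.of B₀ B₀))) :=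
    torAmp_single_restrict_of_flat ψ hfl (ModuleCat.of B₀ B₀) 0 0
      ((torAmp_zero_iff_flat (R := B₀) B₀).2 inferInstance)
  have h2 := torAmp_obj₂ _ hT 0 0 h1 h3
  have h2' : Module.Flat R₀ ((ModuleCat.restrictScalars.{u} ψ).obj
      (ModuleCat.of B₀ (TrivSqZeroExt B₀ N))) :=
    (torAmp_zero_iff_flat (R := R₀) _).1 h2
  have hC : ((algebraMap B₀ (TrivSqZeroExt B₀ N)).comp ψ).Flat := by
    letI : Algebra R₀ (TrivSqZeroExt B₀ N) :=
      ((algebraMap B₀ (TrivSqZeroExt B₀ N)).comp ψ).toAlgebra
    have key : ∀ (r : R₀) (y : TrivSqZeroExt B₀ N),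
        ψ r • y = algebraMap B₀ (TrivSqZeroExt B₀ N) (ψ r) * y := fun r y => Algebra.smul_def _ _
    change Module.Flat R₀ (TrivSqZeroExt B₀ N)
    exact Module.Flat.of_linearEquiv (M := ((ModuleCat.restrictScalars.{u} ψ).obj
        (ModuleCat.of B₀ (TrivSqZeroExt B₀ N))))
      { toFun := fun x => x
        invFun := fun x => x
        map_add' := fun _ _ => rfl
        map_smul' := fun r x => (key r x).symm
        left_inv := fun _ => rfl
        right_inv := fun _ => rfl }
  have h4 : TDLE n (algebraMap B₀ (TrivSqZeroExt B₀ N)) :=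
    tdle_of_flat_over_standardSmooth n ψ _ hψ hC
  have h5 : DRing.HasTorDimLE B₀ n (TrivSqZeroExt B₀ N) := (tdle_algebraMap n).1 h4
  have h6 : DRing.HasTorDimLE B₀ n N :=
    hasTorDimLE_of_retract (TrivSqZeroExt.inrHom B₀ N) (TrivSqZeroExt.sndHom B₀ N)
      (by ext x; simp) n h5
  exact (hasTorDimLE_iff_torAmp N n).1 h6

end Tsz

section Square

open Groth.Agent.Lib.Helper15.RelPC25 Groth.Agent.Lib.Helper16.FlatBC

variable {R₀ B₀ R₁ B₁ : Type u} [CommRing R₀] [CommRing B₀] [CommRing R₁] [CommRing B₁]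

/-- the property `FlatTD n` passes to localisations. -/
theorem flatTD_of_square (n : ℕ) (ψ : R₀ →+* B₀) (gS : R₀ →+* R₁) (gB : B₀ →+* B₁)
    (σ : R₁ →+* B₁) (hsq : σ.comp gS = gB.comp ψ) (hψ : FlatTD n ψ) (hgS : gS.Flat)
    (M : Submonoid B₀) (hgB : letI := gB.toAlgebra; IsLocalization M B₁) : FlatTD n σ := by
  intro N hN
  -- `N` is flat over `R₀`
  have e1 : (ModuleCat.restrictScalars.{u} gS).obj ((ModuleCat.restrictScalars.{u} σ).obj N) ≅
      (ModuleCat.restrictScalars.{u} ψ).obj ((ModuleCat.restrictScalars.{u} gB).obj N) :=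
    ((ModuleCat.restrictScalarsComp'.{u} gS σ _ rfl).app N).symm ≪≫
      (ModuleCat.restrictScalarsComp'.{u} ψ gB _ hsq).app N
  have h1 : Module.Flat R₀ ((ModuleCat.restrictScalars.{u} gS).obj
      ((ModuleCat.restrictScalars.{u} σ).obj N)) := by
    letI : Algebra R₀ R₁ := gS.toAlgebra
    haveI : Module.Flat R₀ R₁ := hgS
    haveI : Module.Flat R₁ ((ModuleCat.restrictScalars.{u} σ).obj N) := hN
    exact Module.Flat.trans R₀ R₁ ((ModuleCat.restrictScalars.{u} (algebraMap R₀ R₁)).obj
      ((ModuleCat.restrictScalars.{u} σ).obj N))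
  have h2 : Module.Flat R₀ ((ModuleCat.restrictScalars.{u} ψ).obj
      ((ModuleCat.restrictScalars.{u} gB).obj N)) :=
    Module.Flat.of_linearEquiv e1.symm.toLinearEquiv
  have h3 := hψ _ h2
  haveI : FlatHom gB := ⟨by
    letI := gB.toAlgebra
    haveI : IsLocalization M B₁ := hgB
    exact (IsLocalization.flat B₁ M : Module.Flat B₀ B₁)⟩
  have h4 := torAmp_ε gB _ _ _ h3
  exact hasTorAmplitudeIn_of_iso (εSingleIso gB _ ≪≫
    (singleFunctor (ModuleCat.{u} B₁) 0).mapIso (extendRestrictIsoOfLocalization gB M hgB N)) _ _ h4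

end Square

end Groth.Agent.Lib.Helper16.SmTor
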