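import Mathlib
import Groth.Agent.Lib.Helper16.NPC1
import Groth.Agent.Lib.Helper16.SmTor1
import Groth.Agent.Lib.Helper16.LBCpc
import Groth.Agent.Lib.Helper16.FlatAcyc2
import Groth.Agent.Lib.Helper16.DRE2

/-!
# Helper16 — TIBC1: tor-independent base change at the level of rings.

For a pushout square `k → C`, `k → Λ`, `Λ' = Λ ⊗_k C`, extension of scalars `Λ → Λ'` preserves
exactness of bounded above complexes of `Λ`-modules which are flat over `k`; hence computes the
derived base change of such complexes.
-/

open CategoryTheory CategoryTheory.Limits DerivedCategory CategoryTheory.Pretriangulated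

set_option linter.style.haveILetI false
set_option autoImplicit false

namespace Groth.Agent.Lib.Helper16.TIBC

open Groth.Agent.Lib.Helper16.PC Groth.Agent.Lib.Helper16.RelPC Groth.Agent.Lib.Helper16.RestrictD
  Groth.Agent.Lib.Helper16.FlatBC Groth.Agent.Lib.Helper16.LDer
  Groth.Agent.Lib.Helper15.RelPC5 Groth.Agent.Lib.Helper15.RelPC6 Groth.Agent.Lib.Helper15.RelPC7
  Groth.Agent.Lib.Helper15.RelPC8 Groth.Agent.Lib.Helper15.RelPC9 Groth.Agent.Lib.Helper15.RelPC10
  Groth.Agent.Lib.Helper16.TorAmp Groth.Agent.Lib.Helper16.TorBal Groth.Agent.Lib.Helper15.RelPC11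
  Groth.Agent.Lib.Helper16.SmTor Groth.Agent.Lib.Helper16.FlatKer Groth.Agent.Lib.Helper16.FlatAcyc

universe u

attribute [local instance] HasDerivedCategory.standard

section TI

variable (k C Λ Λ' : Type u) [CommRing k] [CommRing C] [CommRing Λ] [CommRing Λ']
  [Algebra k C] [Algebra k Λ] [Algebra Λ Λ'] [Algebra C Λ'] [Algebra k Λ']
  [IsScalarTower k C Λ'] [IsScalarTower k Λ Λ'] [Algebra.IsPushout k C Λ Λ']

/-- a complex of `Λ`-modules is termwise flat over `k`. -/
def BaseFlat (X : DRing.Cx Λ) : Prop :=
  ∀ i : ℤ, Module.Flat k ((ModuleCat.restrictScalars.{u} (algebraMap k Λ)).obj (X.X i))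

include C in
variable {Λ} in
/-- extension of scalars along `Λ → Λ ⊗_k C` preserves exactness of bounded above complexes of
`Λ`-modules flat over `k`. -/
theorem exactAt_ext_of_baseFlat (X : DRing.Cx Λ) (n : ℤ) (hX : DRing.VanishesAbove X n)
    (hex : ∀ i : ℤ, X.ExactAt i) (hfl : BaseFlat k Λ X) (i : ℤ) :
    ((extCx (algebraMap Λ Λ')).obj X).ExactAt i := by
  apply exactAt_of_restrict (algebraMap C Λ')
  have e := sqCxIso k C Λ' X
  refine HomologicalComplex.ExactAt.of_iso ?_ e
  refine exactAt_ext (algebraMap k C) _ n (fun j hj => ?_) (fun j => ?_) (fun j => hfl j) i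
  · exact (ModuleCat.restrictScalars.{u} (algebraMap k Λ)).map_isZero (hX j hj)
  · rw [HomologicalComplex.exactAt_iff_isZero_homology]
    have h1 := hex j
    rw [HomologicalComplex.exactAt_iff_isZero_homology] at h1
    exact ((ModuleCat.restrictScalars.{u} (algebraMap k Λ)).map_isZero h1).of_iso
      (mapHomologyIso' (algebraMap k Λ) X j)

include C in
variable {Λ} in
/-- extension of scalars along `Λ → Λ ⊗_k C` preserves quasi-isomorphisms between bounded above
complexes of `Λ`-modules flat over `k`. -/
theorem isIso_Q_map_ext_of_baseFlat {K L : DRing.Cx Λ} (f : K ⟶ L) (hf : QuasiIso f) (n : ℤ)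
    (hK : DRing.VanishesAbove K n) (hL : DRing.VanishesAbove L n)
    (hKfl : BaseFlat k Λ K) (hLfl : BaseFlat k Λ L) :
    IsIso (Q.map ((extCx (algebraMap Λ Λ')).map f)) := by
  let G : HomotopyCategory (ModuleCat.{u} Λ) (ComplexShape.up ℤ) ⥤ Dual.D Λ' :=
    DRing.baseChangeKh (algebraMap Λ Λ')
  have hTG := G.map_distinguished _ (HomotopyCategory.mappingCone_triangleh_distinguished f)
  have hC : IsZero (Q.obj ((extCx (algebraMap Λ Λ')).obj (CochainComplex.mappingCone f))) := by
    apply isZero_Q_obj_of_exactAt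
    intro i
    refine exactAt_ext_of_baseFlat k C Λ' _ n (fun j hj => ?_)
      (fun j => Groth.Agent.Lib.Helper8.DRing2.exactAt_mappingCone_of_quasiIso f j)
      (fun j => ?_) i
    · exact Groth.Agent.Lib.Helper8.DRing2.isZero_mappingCone_X f j (hK _ (by omega)) (hL j hj)
    · have h1 : flatProp k ((ModuleCat.restrictScalars.{u} (algebraMap k Λ)).obj (K.X (j + 1))) :=
        hKfl _
      have h2 : flatProp k ((ModuleCat.restrictScalars.{u} (algebraMap k Λ)).obj (L.X j)) :=
        hLfl _
      have e := HomologicalComplex.homotopyCofiber.XIsoBiprod f j (j + 1) (by simp)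
      haveI : PreservesBinaryBiproduct (K.X (j + 1)) (L.X j)
          (ModuleCat.restrictScalars.{u} (algebraMap k Λ)) :=
        preservesBinaryBiproduct_of_preservesBiproduct _ _ _
      exact (flatProp k).prop_of_iso
        ((ModuleCat.restrictScalars.{u} (algebraMap k Λ)).mapIso e ≪≫
          (ModuleCat.restrictScalars.{u} (algebraMap k Λ)).mapBiprod _ _).symm
        (flatProp_biprod _ _ h1 h2)
  exact (Triangle.isZero₃_iff_isIso₁ _ hTG).1 hC

include C in
variable {Λ} in
/-- **tor-independent base change**: for a bounded above complex `X` of `Λ`-modules flat over `k`,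
with `Λ` flat over `k`, the derived base change of `X` along `Λ → Λ ⊗_k C` is computed by plain
extension of scalars. -/
theorem nonempty_lBaseChange_iso_of_baseFlat [Module.Flat k Λ]
    [DRing.HasLBaseChange (algebraMap Λ Λ')] (X : DRing.Cx Λ) (b : ℤ)
    (hXb : DRing.VanishesAbove X b) (hXfl : BaseFlat k Λ X) :
    Nonempty ((DRing.LBaseChange (algebraMap Λ Λ')).obj (DRing.toD X) ≅
      DRing.toD ((extCx (algebraMap Λ Λ')).obj X)) := by
  have hLE : (Q.obj X).IsLE b := by
    rw [isLE_Q_obj_iff]
    haveI : X.IsStrictlyLE b := (CochainComplex.isStrictlyLE_iff _ _).2 hXb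
    infer_instance
  obtain ⟨F, a, hFb, hFproj, ha⟩ := exists_projective_resolution X b hLE
  have hFproj' : ∀ i, Module.Projective Λ (F.X i) := fun i =>
    haveI := hFproj i
    ModuleCat.projective_of_module_projective (F.X i)
  have hFfl : BaseFlat k Λ F := fun i => by
    haveI := hFproj' i
    haveI : Module.Flat Λ (F.X i) := Module.Flat.of_projective
    letI : Module k (F.X i) := Module.compHom _ (algebraMap k Λ)
    haveI : IsScalarTower k Λ (F.X i) := IsScalarTower.of_algebraMap_smul fun _ _ => rfl
    exact Module.Flat.trans k Λ (F.X i)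
  haveI := isIso_Q_map_ext_of_baseFlat k C Λ' a ha b hFb hXb hFfl hXfl
  haveI : IsIso (Q.map a) := by
    rw [isIso_Q_map_iff_quasiIso]
    exact ha
  exact ⟨(DRing.LBaseChange (algebraMap Λ Λ')).mapIso (asIso (Q.map a)).symm ≪≫
    lBaseChangeIso' (algebraMap Λ Λ') F b hFb hFproj' ≪≫
    asIso (Q.map ((extCx (algebraMap Λ Λ')).map a))⟩

end TI

section Single

variable {A A' : Type u} [CommRing A] [CommRing A'] [Algebra A A']

/-- `Q ((A[0]) ⊗ A') ≅ A'[0]`, without flatness. -/
noncomputable def toDExtSingleIso' :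
    DRing.toD ((extCx (algebraMap A A')).obj (sCx (ModuleCat.of A A))) ≅ Dual.inD A' A' :=
  Q.mapIso ((HomologicalComplex.singleMapHomologicalComplex
      (ModuleCat.extendScalars.{u, u, u} (algebraMap A A')) (ComplexShape.up ℤ) 0).app
        (ModuleCat.of A A)) ≪≫
    toDSingleIso _ ≪≫
    (singleFunctor (ModuleCat.{u} A') 0).mapIso
      ((extIso (A := A) (B := A') A).symm ≪≫
        (TensorProduct.AlgebraTensorModule.rid A A' A').toModuleIso)

end Single

section BaseChange

attribute [local instance] MvPolynomial.algebraMvPolynomial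

variable {n : ℤ}
variable {k C R S R' S' : Type u} [CommRing k] [CommRing C] [CommRing R] [CommRing S]
  [CommRing R'] [CommRing S']
  [Algebra k C] [Algebra k R] [Algebra R R'] [Algebra C R'] [Algebra k R']
  [IsScalarTower k C R'] [IsScalarTower k R R'] [Algebra.IsPushout k C R R']
  [Algebra R S] [Algebra k S] [IsScalarTower k R S]
  [Algebra R S'] [Algebra S S'] [Algebra R' S'] [IsScalarTower R S S'] [IsScalarTower R R' S']
  [Algebra.IsPushout R S R' S']

include k C in
/-- **tor-independent base change of relative pseudo-coherence**: `R` and `S` flat over `k`,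
`R' = R ⊗_k C`, `S' = S ⊗_R R' = S ⊗_k C`. -/
theorem rel_baseChange_TI [Module.Flat k R] [Module.Flat k S]
    (h : DerCA.IsRelPseudoCoherent R S n (Dual.inD S S)) :
    DerCA.IsRelPseudoCoherent R' S' n (Dual.inD S' S') := by
  obtain ⟨m, α, hα, h1⟩ := id h
  let α' : MvPolynomial (Fin m) R' →ₐ[R'] S' := bcPres α
  have hα' : Function.Surjective α' := bcPres_surjective α hα
  letI : Algebra (MvPolynomial (Fin m) R) S := (α : MvPolynomial (Fin m) R →+* S).toAlgebra
  letI : Algebra (MvPolynomial (Fin m) R') S' := (α' : MvPolynomial (Fin m) R' →+* S').toAlgebra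
  letI : Algebra (MvPolynomial (Fin m) R) S' :=
    ((algebraMap S S').comp (α : MvPolynomial (Fin m) R →+* S)).toAlgebra
  haveI : IsScalarTower (MvPolynomial (Fin m) R) S S' := .of_algebraMap_eq (fun _ => rfl)
  haveI : IsScalarTower (MvPolynomial (Fin m) R) (MvPolynomial (Fin m) R') S' :=
    .of_algebraMap_eq (fun x => (bcPres_map α x).symm)
  haveI : IsScalarTower R (MvPolynomial (Fin m) R) S :=
    .of_algebraMap_eq (fun x => (α.commutes x).symm)
  haveI : IsScalarTower R' (MvPolynomial (Fin m) R') S' :=
    .of_algebraMap_eq (fun x => (α'.commutes x).symm)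
  haveI : IsScalarTower R (MvPolynomial (Fin m) R') S' := .of_algebraMap_eq (fun x => by
    rw [IsScalarTower.algebraMap_apply R R' S',
      IsScalarTower.algebraMap_apply R R' (MvPolynomial (Fin m) R')]
    exact (α'.commutes _).symm)
  haveI : Algebra.IsPushout (MvPolynomial (Fin m) R) S (MvPolynomial (Fin m) R') S' :=
    (Algebra.IsPushout.comp_iff R (MvPolynomial (Fin m) R) R' (MvPolynomial (Fin m) R')
      (T := S) (T' := S')).1 inferInstance
  haveI : Algebra.IsPushout (MvPolynomial (Fin m) R) (MvPolynomial (Fin m) R') S S' :=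
    Algebra.IsPushout.symm inferInstance
  -- the square over `k`
  haveI : IsScalarTower k (MvPolynomial (Fin m) R) (MvPolynomial (Fin m) R') :=
    .of_algebraMap_eq (fun x => by
      change MvPolynomial.C (algebraMap k R' x) =
        MvPolynomial.map (algebraMap R R') (MvPolynomial.C (algebraMap k R x))
      rw [MvPolynomial.map_C, ← IsScalarTower.algebraMap_apply k R R'])
  haveI : Algebra.IsPushout k R C R' := Algebra.IsPushout.symm inferInstance
  haveI : Algebra.IsPushout k (MvPolynomial (Fin m) R) C (MvPolynomial (Fin m) R') :=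
    (Algebra.IsPushout.comp_iff k R C R'
      (T := MvPolynomial (Fin m) R) (T' := MvPolynomial (Fin m) R')).2 inferInstance
  haveI : Algebra.IsPushout k C (MvPolynomial (Fin m) R) (MvPolynomial (Fin m) R') :=
    Algebra.IsPushout.symm inferInstance
  haveI : Module.Flat k (MvPolynomial (Fin m) R) := Module.Flat.trans k R _
  haveI : DRing.HasLBaseChange
      (algebraMap (MvPolynomial (Fin m) R) (MvPolynomial (Fin m) R')) :=
    Groth.Agent.Lib.Helper16.DRE.hasLBaseChange _
  refine ⟨m, α', hα', ?_⟩
  let K₀ : DRing.Cx S := sCx (ModuleCat.of S S)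
  have h2 : DerCA.IsRelPseudoCoherentVia α n (DRing.toD K₀) := via_of_iso h1 (toDSingleIso _).symm
  have h3 := Groth.Agent.Lib.Helper16.LBCpc.pc_lBaseChange
    (algebraMap (MvPolynomial (Fin m) R) (MvPolynomial (Fin m) R')) _ n h2
  -- the restricted complex is flat over `k`
  have hαk : ∀ c : k, α (algebraMap k (MvPolynomial (Fin m) R) c) = algebraMap k S c := fun c => by
    rw [IsScalarTower.algebraMap_apply k R (MvPolynomial (Fin m) R), α.commutes,
      ← IsScalarTower.algebraMap_apply k R S]
  have hS : flatProp k ((ModuleCat.restrictScalars.{u}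
      (algebraMap k (MvPolynomial (Fin m) R))).obj
        ((ModuleCat.restrictScalars.{u} (α : MvPolynomial (Fin m) R →+* S)).obj
          (ModuleCat.of S S))) := by
    let e : S ≃ₗ[k] ((ModuleCat.restrictScalars.{u}
        (algebraMap k (MvPolynomial (Fin m) R))).obj
          ((ModuleCat.restrictScalars.{u} (α : MvPolynomial (Fin m) R →+* S)).obj
            (ModuleCat.of S S))) :=
      { toFun := fun s => s
        invFun := fun s => s
        map_add' := fun _ _ => rfl
        map_smul' := fun c s => by
          change c • s = α (algebraMap k (MvPolynomial (Fin m) R) c) * s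
          rw [hαk, Algebra.smul_def]
        left_inv := fun _ => rfl
        right_inv := fun _ => rfl }
    exact (Module.Flat.of_linearEquiv e.symm : Module.Flat k _)
  let X : DRing.Cx (MvPolynomial (Fin m) R) :=
    ((ModuleCat.restrictScalars.{u} (α : MvPolynomial (Fin m) R →+* S)).mapHomologicalComplex
      (ComplexShape.up ℤ)).obj K₀
  have hXz : ∀ j : ℤ, j ≠ 0 → IsZero (X.X j) := fun j hj =>
    (ModuleCat.restrictScalars.{u} (α : MvPolynomial (Fin m) R →+* S)).map_isZero
      (HomologicalComplex.isZero_single_obj_X (ComplexShape.up ℤ) 0 _ j hj)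
  have hXb : DRing.VanishesAbove X 0 := fun j hj => hXz j (by omega)
  have hXfl : BaseFlat k (MvPolynomial (Fin m) R) X := fun j => by
    by_cases hj : j = 0
    · subst hj
      exact (flatProp k).prop_of_iso
        ((ModuleCat.restrictScalars.{u} (algebraMap k (MvPolynomial (Fin m) R))).mapIso
          ((ModuleCat.restrictScalars.{u} (α : MvPolynomial (Fin m) R →+* S)).mapIso
            (HomologicalComplex.singleObjXSelf (ComplexShape.up ℤ) 0 (ModuleCat.of S S)))).symm hS
    · exact flatProp_zero _
        ((ModuleCat.restrictScalars.{u} (algebraMap k (MvPolynomial (Fin m) R))).map_isZero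
          (hXz j hj))
  obtain ⟨eTI⟩ := nonempty_lBaseChange_iso_of_baseFlat k C (MvPolynomial (Fin m) R') X 0 hXb hXfl
  have e : (DRing.LBaseChange
        (algebraMap (MvPolynomial (Fin m) R) (MvPolynomial (Fin m) R'))).obj
        ((DRing.restrictD (α : MvPolynomial (Fin m) R →+* S)).obj (DRing.toD K₀)) ≅
      (DRing.restrictD (α' : MvPolynomial (Fin m) R' →+* S')).obj
        (DRing.toD ((extCx (algebraMap S S')).obj K₀)) :=
    (DRing.LBaseChange _).mapIso (restrictQIso _ K₀) ≪≫ eTI ≪≫
      Q.mapIso (sqCxIso (MvPolynomial (Fin m) R) (MvPolynomial (Fin m) R') S' K₀) ≪≫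
      (restrictQIso _ _).symm
  exact via_of_iso (K := DRing.toD ((extCx (algebraMap S S')).obj K₀)) (pc_of_iso h3 e)
    toDExtSingleIso'

end BaseChange

end Groth.Agent.Lib.Helper16.TIBC
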