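import Mathlib
import Groth.Agent.Lib.Helper16.TIBC1
import Groth.Agent.Lib.Helper16.TorBal8

/-!
# Helper16 — TIBC3: tor-independent base change with a `Tor`-vanishing hypothesis.
-/

open CategoryTheory CategoryTheory.Limits DerivedCategory CategoryTheory.Pretriangulated
open TensorProduct

set_option linter.style.haveILetI false
set_option autoImplicit false

namespace Groth.Agent.Lib.Helper16.TIBC

open Groth.Agent.Lib.Helper16.PC Groth.Agent.Lib.Helper16.RelPC Groth.Agent.Lib.Helper16.RestrictD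
  Groth.Agent.Lib.Helper16.FlatBC Groth.Agent.Lib.Helper16.LDer
  Groth.Agent.Lib.Helper15.RelPC5 Groth.Agent.Lib.Helper15.RelPC6 Groth.Agent.Lib.Helper15.RelPC7
  Groth.Agent.Lib.Helper15.RelPC8 Groth.Agent.Lib.Helper15.RelPC9 Groth.Agent.Lib.Helper15.RelPC10
  Groth.Agent.Lib.Helper16.TorAmp Groth.Agent.Lib.Helper16.TorBal Groth.Agent.Lib.Helper15.RelPC11
  Groth.Agent.Lib.Helper16.SmTor Groth.Agent.Lib.Helper16.FlatKer Groth.Agent.Lib.Helper16.FlatAcyc

universe u

attribute [local instance] HasDerivedCategory.standard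

section Alg

variable {k : Type u} [CommRing k]

/-- the `3 × 3` lemma: `Tor₁(C, X₃) = 0` computed through a flat presentation of `C` gives
injectivity of `X₁ ⊗ C → X₂ ⊗ C`. -/
theorem injective_rTensor_of_injective_rTensor
    {X₁ X₂ X₃ Z B C : Type u} [AddCommGroup X₁] [Module k X₁] [AddCommGroup X₂] [Module k X₂]
    [AddCommGroup X₃] [Module k X₃] [AddCommGroup Z] [Module k Z] [AddCommGroup B] [Module k B]
    [AddCommGroup C] [Module k C] [Module.Flat k B]
    (f : X₁ →ₗ[k] X₂) (g : X₂ →ₗ[k] X₃) (hf : Function.Injective f) (hfg : Function.Exact f g)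
    (hg : Function.Surjective g)
    (j : Z →ₗ[k] B) (π : B →ₗ[k] C) (hjπ : Function.Exact j π)
    (hπ : Function.Surjective π)
    (h : Function.Injective (j.rTensor X₃)) :
    Function.Injective (f.lTensor C) := by
  have h' : Function.Injective (j.lTensor X₃) := (LinearMap.lTensor_inj_iff_rTensor_inj _ _).2 h
  suffices hs : Function.Injective (f.rTensor C) from
    (LinearMap.lTensor_inj_iff_rTensor_inj _ _).2 hs
  rw [injective_iff_map_eq_zero]
  intro x hx
  obtain ⟨y, rfl⟩ := LinearMap.lTensor_surjective X₁ hπ x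
  have hc1 : ∀ t, (f.rTensor C) ((π.lTensor X₁) t) = (π.lTensor X₂) ((f.rTensor B) t) := fun t => by
    rw [← LinearMap.comp_apply, ← LinearMap.comp_apply, LinearMap.lTensor_comp_rTensor,
      LinearMap.rTensor_comp_lTensor]
  rw [hc1] at hx
  have hexA : Function.Exact (j.lTensor X₂) (π.lTensor X₂) := lTensor_exact X₂ hjπ hπ
  obtain ⟨z, hz⟩ := (hexA _).1 hx
  have hc2 : ∀ t, (j.lTensor X₃) ((g.rTensor Z) t) = (g.rTensor B) ((j.lTensor X₂) t) := fun t => by
    rw [← LinearMap.comp_apply, ← LinearMap.comp_apply, LinearMap.lTensor_comp_rTensor,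
      LinearMap.rTensor_comp_lTensor]
  have hgf : g ∘ₗ f = 0 := by
    ext t
    exact hfg.apply_apply_eq_zero t
  have hz0 : (g.rTensor Z) z = 0 := by
    apply h'
    rw [hc2, hz, map_zero, ← LinearMap.comp_apply, ← LinearMap.rTensor_comp, hgf,
      LinearMap.rTensor_zero, LinearMap.zero_apply]
  have hexZ : Function.Exact (f.rTensor Z) (g.rTensor Z) := rTensor_exact Z hfg hg
  obtain ⟨w, hw⟩ := (hexZ _).1 hz0
  have hc3 : ∀ t, (f.rTensor B) ((j.lTensor X₁) t) = (j.lTensor X₂) ((f.rTensor Z) t) := fun t => by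
    rw [← LinearMap.comp_apply, ← LinearMap.comp_apply, LinearMap.lTensor_comp_rTensor,
      LinearMap.rTensor_comp_lTensor]
  have hy : y = (j.lTensor X₁) w := by
    apply Module.Flat.rTensor_preserves_injective_linearMap (M := B) f hf
    rw [hc3, hw, hz]
  have hπj : π ∘ₗ j = 0 := by
    ext t
    exact hjπ.apply_apply_eq_zero t
  rw [hy, ← LinearMap.comp_apply, ← LinearMap.lTensor_comp, hπj, LinearMap.lTensor_zero,
    LinearMap.zero_apply]

/-- `Tor₁(C₀, S.X₃) = 0` implies that `C₀ ⊗ S.X₁ → C₀ ⊗ S.X₂` is injective. -/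
theorem injective_lTensor_of_torVan (C₀ : ModuleCat.{u} k) (S : ShortComplex (ModuleCat.{u} k))
    (hS : S.ShortExact) (h : TorVan C₀ S.X₃ (-1)) :
    Function.Injective (S.f.hom.lTensor C₀) := by
  obtain ⟨P, hP, hproj, ⟨e⟩⟩ := exists_resolution C₀
  obtain ⟨eC⟩ := nonempty_iso_quot P hP C₀ e
  have h1 := (torVan_neg_one_iff P hP hproj C₀ e S.X₃).1 h
  haveI := hproj 0
  let ZB : Submodule k (P.X 0) := LinearMap.range (P.d (-1) 0).hom
  let π : P.X 0 →ₗ[k] C₀ := eC.inv.hom ∘ₗ ZB.mkQ
  have hinv : Function.Bijective eC.inv.hom :=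
    (ConcreteCategory.bijective_of_isIso eC.inv)
  refine injective_rTensor_of_injective_rTensor S.f.hom S.g.hom
    ((ModuleCat.mono_iff_injective _).1 hS.mono_f)
    ((ShortComplex.ShortExact.moduleCat_exact_iff_function_exact _).1 hS.exact)
    ((ModuleCat.epi_iff_surjective _).1 hS.epi_g) ZB.subtype π ?_ ?_ h1
  · intro x
    constructor
    · intro hx
      have h2 : ZB.mkQ x = 0 := by
        apply hinv.1
        rw [map_zero]
        exact hx
      rw [Submodule.mkQ_apply, Submodule.Quotient.mk_eq_zero] at h2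
      exact ⟨⟨x, h2⟩, rfl⟩
    · rintro ⟨y, rfl⟩
      change eC.inv.hom (ZB.mkQ (y : P.X 0)) = 0
      rw [Submodule.mkQ_apply, (Submodule.Quotient.mk_eq_zero ZB).2 y.2, map_zero]
  · exact hinv.2.comp (Submodule.mkQ_surjective ZB)

/-- long exact sequence of `Tor`, first term. -/
theorem torVan_X₁ (C₀ : ModuleCat.{u} k) (S : ShortComplex (ModuleCat.{u} k))
    (hS : S.ShortExact) (i : ℤ) (h2 : TorVan C₀ S.X₂ i) (h3 : TorVan C₀ S.X₃ (i - 1)) :
    TorVan C₀ S.X₁ i := by
  obtain ⟨P, hP, hproj, ⟨e⟩⟩ := exists_resolution C₀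
  rw [torVan_iff C₀ _ _ P 0 hP hproj e] at h2 h3 ⊢
  have hT := triangleOfSES_distinguished
    (tensSC_shortExact S hS P (termwiseFlat_of_projective P hproj))
  rw [exactAt_iff_isZero_Q] at h2 h3 ⊢
  have hex := HomologySequence.exact₁ _ hT (i - 1) i (by omega)
  exact hex.isZero_of_both_zeros (h3.eq_of_src _ _) (h2.eq_of_tgt _ _)

/-- long exact sequence of `Tor`, middle term. -/
theorem torVan_X₂ (C₀ : ModuleCat.{u} k) (S : ShortComplex (ModuleCat.{u} k))
    (hS : S.ShortExact) (i : ℤ) (h1 : TorVan C₀ S.X₁ i) (h3 : TorVan C₀ S.X₃ i) :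
    TorVan C₀ S.X₂ i := by
  obtain ⟨P, hP, hproj, ⟨e⟩⟩ := exists_resolution C₀
  rw [torVan_iff C₀ _ _ P 0 hP hproj e] at h1 h3 ⊢
  have hT := triangleOfSES_distinguished
    (tensSC_shortExact S hS P (termwiseFlat_of_projective P hproj))
  rw [exactAt_iff_isZero_Q] at h1 h3 ⊢
  have hex := HomologySequence.exact₂ _ hT i
  exact hex.isZero_of_both_zeros (h1.eq_of_src _ _) (h3.eq_of_tgt _ _)

/-- a module is `Tor`-independent of `C₀`. -/
def TIc (C₀ N : ModuleCat.{u} k) : Prop := ∀ q : ℕ, TorVan C₀ N (-((q : ℤ) + 1))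

lemma tic_of_iso (C₀ : ModuleCat.{u} k) {N N' : ModuleCat.{u} k} (e : N ≅ N') (h : TIc C₀ N) :
    TIc C₀ N' := fun q => torVan_of_iso₂ e C₀ _ (h q)

lemma tic_of_isZero (C₀ : ModuleCat.{u} k) {N : ModuleCat.{u} k} (hN : IsZero N) : TIc C₀ N := by
  intro q P n hP hproj he
  rw [HomologicalComplex.exactAt_iff_isZero_homology]
  apply ShortComplex.isZero_homology_of_isZero_X₂
  exact Functor.map_isZero (MonoidalCategory.tensorLeft (P.X (-((q : ℤ) + 1)))) hN

lemma tic_of_flat (C₀ N : ModuleCat.{u} k) [Module.Flat k N] : TIc C₀ N := by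
  intro q P n hP hproj he
  obtain ⟨e⟩ := he
  exact exactAt_tensCx_of_flat N P _ (exactAt_of_iso_single P C₀ e _ (by omega))

lemma tic_kernel (C₀ : ModuleCat.{u} k) (S : ShortComplex (ModuleCat.{u} k)) (hS : S.ShortExact)
    (h2 : TIc C₀ S.X₂) (h3 : TIc C₀ S.X₃) : TIc C₀ S.X₁ := fun q =>
  torVan_X₁ C₀ S hS _ (h2 q) (by
    have := h3 (q + 1)
    have e : -(((q + 1 : ℕ) : ℤ) + 1) = -((q : ℤ) + 1) - 1 := by push_cast; ring
    rwa [e] at this)

lemma tic_middle (C₀ : ModuleCat.{u} k) (S : ShortComplex (ModuleCat.{u} k)) (hS : S.ShortExact)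
    (h1 : TIc C₀ S.X₁) (h3 : TIc C₀ S.X₃) : TIc C₀ S.X₂ := fun q =>
  torVan_X₂ C₀ S hS _ (h1 q) (h3 q)

end Alg

section Ext

variable (k C : Type u) [CommRing k] [CommRing C] [Algebra k C]

/-- `C` as a `k`-module. -/
noncomputable abbrev Cmod : ModuleCat.{u} k :=
  (ModuleCat.restrictScalars.{u} (algebraMap k C)).obj (ModuleCat.of C C)

/-- `k`-modules `Tor`-independent of `C`, as an object property. -/
def tiProp : ObjectProperty (ModuleCat.{u} k) := fun N => TIc (Cmod k C) N

instance : (tiProp k C).IsClosedUnderIsomorphisms where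
  of_iso e h := tic_of_iso _ e h

lemma tiProp_zero (X : ModuleCat.{u} k) (hX : IsZero X) : tiProp k C X := tic_of_isZero _ hX

lemma tiProp_kernel (E F : ModuleCat.{u} k) (v : E ⟶ F) (hv : Epi v)
    (hE : tiProp k C E) (hF : tiProp k C F) : tiProp k C (kernel v) := by
  have hS : (ShortComplex.mk (kernel.ι v) v (kernel.condition v)).ShortExact :=
    ShortComplex.ShortExact.mk' (ShortComplex.exact_of_f_is_kernel _ (kernelIsKernel v))
      (inferInstanceAs (Mono (kernel.ι v))) hv
  exact tic_kernel _ _ hS hE hF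

lemma tiProp_biprod (E F : ModuleCat.{u} k) (hE : tiProp k C E) (hF : tiProp k C F) :
    tiProp k C (E ⊞ F) := by
  have hS : (ShortComplex.mk (biprod.inl : E ⟶ E ⊞ F) biprod.snd (by simp)).ShortExact :=
    ShortComplex.ShortExact.mk' ((ShortComplex.Splitting.ofHasBinaryBiproduct E F).exact)
      (inferInstanceAs (Mono (biprod.inl : E ⟶ E ⊞ F)))
      (inferInstanceAs (Epi (biprod.snd : E ⊞ F ⟶ F)))
  exact tic_middle _ _ hS hE hF

/-- extension of scalars preserves monomorphisms with cokernel `Tor`-independent of `C`. -/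
lemma mono_ext_of_ti (S : ShortComplex (ModuleCat.{u} k)) (hS : S.ShortExact)
    (h3 : tiProp k C S.X₃) :
    Mono ((ModuleCat.extendScalars.{u, u, u} (algebraMap k C)).map S.f) := by
  rw [ModuleCat.mono_iff_injective]
  have h := h3 0
  have e : -(((0 : ℕ) : ℤ) + 1) = -1 := by norm_num
  rw [e] at h
  exact injective_lTensor_of_torVan (Cmod k C) S hS h

/-- extension of scalars of an exact bounded above complex of modules `Tor`-independent of `C` is
exact. -/
theorem exactAt_ext_ti (K : DRing.Cx k) (n : ℤ) (hK : DRing.VanishesAbove K n)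
    (hex : ∀ i : ℤ, K.ExactAt i) (hti : ∀ i : ℤ, tiProp k C (K.X i)) (i : ℤ) :
    ((extCx (algebraMap k C)).obj K).ExactAt i :=
  exactAt_map (ModuleCat.extendScalars.{u, u, u} (algebraMap k C)) (tiProp k C) (tiProp_zero k C)
    (tiProp_kernel k C) (mono_ext_of_ti k C) K (i - 1) n hK (fun j _ => hex j)
    (fun j _ => hti j) i (by omega)

end Ext

section TI

variable (k C Λ Λ' : Type u) [CommRing k] [CommRing C] [CommRing Λ] [CommRing Λ']
  [Algebra k C] [Algebra k Λ] [Algebra Λ Λ'] [Algebra C Λ'] [Algebra k Λ']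
  [IsScalarTower k C Λ'] [IsScalarTower k Λ Λ'] [Algebra.IsPushout k C Λ Λ']

/-- a complex of `Λ`-modules is termwise `Tor`-independent of `C` over `k`. -/
def BaseTI (X : DRing.Cx Λ) : Prop :=
  ∀ i : ℤ, tiProp k C ((ModuleCat.restrictScalars.{u} (algebraMap k Λ)).obj (X.X i))

include C in
variable {Λ} in
theorem exactAt_ext_of_baseTI (X : DRing.Cx Λ) (n : ℤ) (hX : DRing.VanishesAbove X n)
    (hex : ∀ i : ℤ, X.ExactAt i) (hti : BaseTI k C Λ X) (i : ℤ) :
    ((extCx (algebraMap Λ Λ')).obj X).ExactAt i := by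
  apply exactAt_of_restrict (algebraMap C Λ')
  have e := sqCxIso k C Λ' X
  refine HomologicalComplex.ExactAt.of_iso ?_ e
  refine exactAt_ext_ti k C _ n (fun j hj => ?_) (fun j => ?_) (fun j => hti j) i
  · exact (ModuleCat.restrictScalars.{u} (algebraMap k Λ)).map_isZero (hX j hj)
  · rw [HomologicalComplex.exactAt_iff_isZero_homology]
    have h1 := hex j
    rw [HomologicalComplex.exactAt_iff_isZero_homology] at h1
    exact ((ModuleCat.restrictScalars.{u} (algebraMap k Λ)).map_isZero h1).of_iso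
      (mapHomologyIso' (algebraMap k Λ) X j)

include C in
variable {Λ} in
theorem isIso_Q_map_ext_of_baseTI {K L : DRing.Cx Λ} (f : K ⟶ L) (hf : QuasiIso f) (n : ℤ)
    (hK : DRing.VanishesAbove K n) (hL : DRing.VanishesAbove L n)
    (hKti : BaseTI k C Λ K) (hLti : BaseTI k C Λ L) :
    IsIso (Q.map ((extCx (algebraMap Λ Λ')).map f)) := by
  let G : HomotopyCategory (ModuleCat.{u} Λ) (ComplexShape.up ℤ) ⥤ Dual.D Λ' :=
    DRing.baseChangeKh (algebraMap Λ Λ')
  have hTG := G.map_distinguished _ (HomotopyCategory.mappingCone_triangleh_distinguished f)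
  have hC : IsZero (Q.obj ((extCx (algebraMap Λ Λ')).obj (CochainComplex.mappingCone f))) := by
    apply isZero_Q_obj_of_exactAt
    intro i
    refine exactAt_ext_of_baseTI k C Λ' _ n (fun j hj => ?_)
      (fun j => Groth.Agent.Lib.Helper8.DRing2.exactAt_mappingCone_of_quasiIso f j)
      (fun j => ?_) i
    · exact Groth.Agent.Lib.Helper8.DRing2.isZero_mappingCone_X f j (hK _ (by omega)) (hL j hj)
    · have h1 : tiProp k C ((ModuleCat.restrictScalars.{u} (algebraMap k Λ)).obj (K.X (j + 1))) :=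
        hKti _
      have h2 : tiProp k C ((ModuleCat.restrictScalars.{u} (algebraMap k Λ)).obj (L.X j)) :=
        hLti _
      have e := HomologicalComplex.homotopyCofiber.XIsoBiprod f j (j + 1) (by simp)
      haveI : PreservesBinaryBiproduct (K.X (j + 1)) (L.X j)
          (ModuleCat.restrictScalars.{u} (algebraMap k Λ)) :=
        preservesBinaryBiproduct_of_preservesBiproduct _ _ _
      exact (tiProp k C).prop_of_iso
        ((ModuleCat.restrictScalars.{u} (algebraMap k Λ)).mapIso e ≪≫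
          (ModuleCat.restrictScalars.{u} (algebraMap k Λ)).mapBiprod _ _).symm
        (tiProp_biprod k C _ _ h1 h2)
  exact (Triangle.isZero₃_iff_isIso₁ _ hTG).1 hC

omit [Algebra Λ Λ'] [Algebra C Λ'] [Algebra k Λ'] [IsScalarTower k C Λ'] [IsScalarTower k Λ Λ']
  [Algebra.IsPushout k C Λ Λ'] [CommRing Λ'] in
variable {Λ} in
/-- a flat `Λ`-module is `Tor`-independent of `C` over `k` when `Λ` is. -/
theorem tiProp_restrict_of_flat (hΛ : tiProp k C (ModuleCat.of k Λ)) (N : ModuleCat.{u} Λ)
    [Module.Flat Λ N] :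
    tiProp k C ((ModuleCat.restrictScalars.{u} (algebraMap k Λ)).obj N) := by
  intro q
  have h1 := hΛ q
  obtain ⟨Y, hY, hproj, ⟨e⟩⟩ := exists_resolution (Cmod k C)
  rw [torVan_iff _ _ _ Y 0 hY hproj e,
    exactAt_tensCx_iff _ Y (-((q : ℤ) + 1) - 1) _ (-((q : ℤ) + 1) + 1) (by omega) (by omega)]
    at h1 ⊢
  exact exact_rTensor_of_flat_baseChange _ _
    ((ModuleCat.restrictScalars.{u} (algebraMap k Λ)).obj N) h1

include C in
variable {Λ} in
/-- **tor-independent base change**: for a bounded above complex `X` of `Λ`-modules which are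
`Tor`-independent of `C` over `k`, with `Λ` itself `Tor`-independent of `C`, the derived base
change of `X` along `Λ → Λ ⊗_k C` is computed by plain extension of scalars. -/
theorem nonempty_lBaseChange_iso_of_baseTI (hΛ : tiProp k C (ModuleCat.of k Λ))
    [DRing.HasLBaseChange (algebraMap Λ Λ')] (X : DRing.Cx Λ) (b : ℤ)
    (hXb : DRing.VanishesAbove X b) (hXti : BaseTI k C Λ X) :
    Nonempty ((DRing.LBaseChange (algebraMap Λ Λ')).obj (DRing.toD X) ≅
      DRing.toD ((extCx (algebraMap Λ Λ')).obj X)) := by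
  have hLE : (Q.obj X).IsLE b := by
    rw [isLE_Q_obj_iff]
    haveI : X.IsStrictlyLE b := (CochainComplex.isStrictlyLE_iff _ _).2 hXb
    infer_instance
  obtain ⟨F, a, hFb, hFproj, ha⟩ := exists_projective_resolution X b hLE
  have hFproj' : ∀ i, Module.Projective Λ (F.X i) := fun i =>
    haveI := hFproj i
    ModuleCat.projective_of_module_projective (F.X i)
  have hFti : BaseTI k C Λ F := fun i => by
    haveI := hFproj' i
    haveI : Module.Flat Λ (F.X i) := Module.Flat.of_projective
    exact tiProp_restrict_of_flat k C hΛ (F.X i)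
  haveI := isIso_Q_map_ext_of_baseTI k C Λ' a ha b hFb hXb hFti hXti
  haveI : IsIso (Q.map a) := by
    rw [isIso_Q_map_iff_quasiIso]
    exact ha
  exact ⟨(DRing.LBaseChange (algebraMap Λ Λ')).mapIso (asIso (Q.map a)).symm ≪≫
    lBaseChangeIso' (algebraMap Λ Λ') F b hFb hFproj' ≪≫
    asIso (Q.map ((extCx (algebraMap Λ Λ')).map a))⟩

end TI

section Main

attribute [local instance] MvPolynomial.algebraMvPolynomial

variable {R S R' S' : Type u} [CommRing R] [CommRing S] [CommRing R'] [CommRing S']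
  [Algebra R S] [Algebra R R'] [Algebra R S'] [Algebra S S'] [Algebra R' S']
  [IsScalarTower R S S'] [IsScalarTower R R' S']

/-- **tor-independent base change of relative pseudo-coherence** for objects of `D(S)`:
`S' = S ⊗_R R'` with `Tor^R_p(S, R') = 0` for `p > 0`. -/
theorem rel_lBaseChange_of_ti [Algebra.IsPushout R S R' S']
    (htor : tiProp R R' (ModuleCat.of R S)) [DRing.HasLBaseChange (algebraMap S S')]
    (K : Dual.D S) (m : ℤ) (h : DerCA.IsRelPseudoCoherent R S m K) :
    DerCA.IsRelPseudoCoherent R' S' m ((DRing.LBaseChange (algebraMap S S')).obj K) := by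
  obtain ⟨n, α, hα, h1⟩ := id h
  let α' : MvPolynomial (Fin n) R' →ₐ[R'] S' := bcPres α
  have hα' : Function.Surjective α' := bcPres_surjective α hα
  letI : Algebra (MvPolynomial (Fin n) R) S := (α : MvPolynomial (Fin n) R →+* S).toAlgebra
  letI : Algebra (MvPolynomial (Fin n) R') S' := (α' : MvPolynomial (Fin n) R' →+* S').toAlgebra
  letI : Algebra (MvPolynomial (Fin n) R) S' :=
    ((algebraMap S S').comp (α : MvPolynomial (Fin n) R →+* S)).toAlgebra
  haveI : IsScalarTower (MvPolynomial (Fin n) R) S S' := .of_algebraMap_eq (fun _ => rfl)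
  haveI : IsScalarTower (MvPolynomial (Fin n) R) (MvPolynomial (Fin n) R') S' :=
    .of_algebraMap_eq (fun x => (bcPres_map α x).symm)
  haveI : IsScalarTower R (MvPolynomial (Fin n) R) S :=
    .of_algebraMap_eq (fun x => (α.commutes x).symm)
  haveI : IsScalarTower R' (MvPolynomial (Fin n) R') S' :=
    .of_algebraMap_eq (fun x => (α'.commutes x).symm)
  haveI : IsScalarTower R (MvPolynomial (Fin n) R') S' := .of_algebraMap_eq (fun x => by
    rw [IsScalarTower.algebraMap_apply R R' S',
      IsScalarTower.algebraMap_apply R R' (MvPolynomial (Fin n) R')]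
    exact (α'.commutes _).symm)
  haveI : Algebra.IsPushout (MvPolynomial (Fin n) R) S (MvPolynomial (Fin n) R') S' :=
    (Algebra.IsPushout.comp_iff R (MvPolynomial (Fin n) R) R' (MvPolynomial (Fin n) R')
      (T := S) (T' := S')).1 inferInstance
  haveI : Algebra.IsPushout (MvPolynomial (Fin n) R) (MvPolynomial (Fin n) R') S S' :=
    Algebra.IsPushout.symm inferInstance
  haveI : Algebra.IsPushout R R' (MvPolynomial (Fin n) R) (MvPolynomial (Fin n) R') :=
    Algebra.IsPushout.symm inferInstance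
  haveI : DRing.HasLBaseChange
      (algebraMap (MvPolynomial (Fin n) R) (MvPolynomial (Fin n) R')) :=
    Groth.Agent.Lib.Helper16.DRE.hasLBaseChange _
  refine ⟨n, α', hα', ?_⟩
  have h3 := Groth.Agent.Lib.Helper16.LBCpc.pc_lBaseChange
    (algebraMap (MvPolynomial (Fin n) R) (MvPolynomial (Fin n) R')) _ m h1
  -- `K` is bounded above
  obtain ⟨b, hb⟩ := ((isPseudoCoherent_iff m _).1 h1).exists_isLE
  have hKb : K.IsLE b := isLE_of_restrict_isLE (α : MvPolynomial (Fin n) R →+* S) K b hb
  obtain ⟨F, hFb, hFproj, ⟨eF⟩⟩ := exists_projective_model K b hKb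
  let X : DRing.Cx (MvPolynomial (Fin n) R) :=
    ((ModuleCat.restrictScalars.{u} (α : MvPolynomial (Fin n) R →+* S)).mapHomologicalComplex
      (ComplexShape.up ℤ)).obj F
  have hXb : DRing.VanishesAbove X b := fun j hj =>
    (ModuleCat.restrictScalars.{u} (α : MvPolynomial (Fin n) R →+* S)).map_isZero (hFb j hj)
  have hαR : algebraMap R S = (α : MvPolynomial (Fin n) R →+* S).comp
      (algebraMap R (MvPolynomial (Fin n) R)) := by
    ext x
    exact (α.commutes x).symm
  have hXti : BaseTI R R' (MvPolynomial (Fin n) R) X := fun j => by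
    haveI := hFproj j
    haveI : Module.Flat S (F.X j) := Module.Flat.of_projective
    exact (tiProp R R').prop_of_iso
      (ModuleCat.restrictScalarsComp'App (algebraMap R (MvPolynomial (Fin n) R))
        (α : MvPolynomial (Fin n) R →+* S) (algebraMap R S) hαR (F.X j))
      (tiProp_restrict_of_flat R R' htor (F.X j))
  have hΛ : tiProp R R' (ModuleCat.of R (MvPolynomial (Fin n) R)) := tic_of_flat _ _
  obtain ⟨eTI⟩ := nonempty_lBaseChange_iso_of_baseTI R R' (MvPolynomial (Fin n) R') hΛ X b hXb hXti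
  have e : (DRing.LBaseChange
        (algebraMap (MvPolynomial (Fin n) R) (MvPolynomial (Fin n) R'))).obj
        ((DRing.restrictD (α : MvPolynomial (Fin n) R →+* S)).obj K) ≅
      (DRing.restrictD (α' : MvPolynomial (Fin n) R' →+* S')).obj
        ((DRing.LBaseChange (algebraMap S S')).obj K) :=
    (DRing.LBaseChange _).mapIso ((DRing.restrictD _).mapIso eF.symm ≪≫ restrictQIso _ F) ≪≫
      eTI ≪≫
      Q.mapIso (sqCxIso (MvPolynomial (Fin n) R) (MvPolynomial (Fin n) R') S' F) ≪≫
      (restrictQIso _ _).symm ≪≫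
      (DRing.restrictD _).mapIso ((lBaseChangeIso' (algebraMap S S') F b hFb hFproj).symm ≪≫
        (DRing.LBaseChange (algebraMap S S')).mapIso eF)
  exact pc_of_iso h3 e

end Main

end Groth.Agent.Lib.Helper16.TIBC
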