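import Mathlib
import Groth.Agent.Lib.Helper16.TIBC3
import Groth.Agent.Lib.Helper16.RelPC3
import Groth.Agent.S6935

/-!
# Helper16 — RelTens: tensoring a relatively `m`-pseudo-coherent complex with a pseudo-coherent
module.
-/

open CategoryTheory CategoryTheory.Limits DerivedCategory CategoryTheory.Pretriangulated
open TensorProduct

set_option linter.style.haveILetI false
set_option autoImplicit false

namespace Groth.Agent.Lib.Helper16.RelTens

open Groth.Agent.Lib.Helper16.PC Groth.Agent.Lib.Helper16.RelPC Groth.Agent.Lib.Helper16.RestrictD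
  Groth.Agent.Lib.Helper16.TorAmp Groth.Agent.Lib.Helper16.TorBal
  Groth.Agent.Lib.Helper16.FlatKer Groth.Agent.Lib.Helper16.FlatAcyc

universe u

attribute [local instance] HasDerivedCategory.standard

variable {R Λ : Type u} [CommRing R] [CommRing Λ] [Algebra R Λ] [Algebra.FiniteType R Λ]

omit [Algebra.FiniteType R Λ] in
lemma rel_of_le {m t : ℤ} (hmt : m ≤ t) {K : Dual.D Λ} (h : DerCA.IsRelPseudoCoherent R Λ m K) :
    DerCA.IsRelPseudoCoherent R Λ t K := by
  obtain ⟨n, α, hα, h1⟩ := h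
  exact ⟨n, α, hα, pc_of_le hmt h1⟩

omit [Algebra.FiniteType R Λ] in
lemma rel_of_iso {m : ℤ} {K K' : Dual.D Λ} (e : K ≅ K') (h : DerCA.IsRelPseudoCoherent R Λ m K) :
    DerCA.IsRelPseudoCoherent R Λ m K' := by
  obtain ⟨n, α, hα, h1⟩ := h
  exact ⟨n, α, hα, pc_of_iso h1 ((DRing.restrictD _).mapIso e)⟩

lemma rel_of_isLE (K : Dual.D Λ) (b t : ℤ) (hK : K.IsLE b) (hbt : b < t) :
    DerCA.IsRelPseudoCoherent R Λ t K := by
  obtain ⟨n, α, hα⟩ := exists_presentation R Λ
  exact ⟨n, α, hα, pc_of_isLE _ t b (restrict_isLE _ K b hK) hbt⟩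

/-- `F ⊗ N ≅ F ⊗ N'` for `N ≅ N'`. -/
noncomputable def tensCxIsoOfIso {N N' : ModuleCat.{u} Λ} (e : N ≅ N') (F : DRing.Cx Λ) :
    (tensCx N).obj F ≅ (tensCx N').obj F :=
  (NatIso.mapHomologicalComplex ((MonoidalCategory.tensoringRight (ModuleCat.{u} Λ)).mapIso e)
    (ComplexShape.up ℤ)).app F

lemma isLE_Q_tensCx (N : ModuleCat.{u} Λ) (F : DRing.Cx Λ) (b : ℤ)
    (hFb : DRing.VanishesAbove F b) : (Q.obj ((tensCx N).obj F)).IsLE b := by
  rw [isLE_Q_obj_iff]
  haveI : ((tensCx N).obj F).IsStrictlyLE b := (CochainComplex.isStrictlyLE_iff _ _).2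
    (fun i hi => Functor.map_isZero (MonoidalCategory.tensorRight N) (hFb i hi))
  infer_instance

theorem rel_two_of_three (m : ℤ) (T : Triangle (Dual.D Λ)) (hT : T ∈ distinguishedTriangles) :
    (DerCA.IsRelPseudoCoherent R Λ (m + 1) T.obj₁ → DerCA.IsRelPseudoCoherent R Λ m T.obj₂ →
        DerCA.IsRelPseudoCoherent R Λ m T.obj₃) ∧
      (DerCA.IsRelPseudoCoherent R Λ m T.obj₁ → DerCA.IsRelPseudoCoherent R Λ m T.obj₃ →
        DerCA.IsRelPseudoCoherent R Λ m T.obj₂) ∧
      (DerCA.IsRelPseudoCoherent R Λ (m + 1) T.obj₂ → DerCA.IsRelPseudoCoherent R Λ m T.obj₃ →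
        DerCA.IsRelPseudoCoherent R Λ (m + 1) T.obj₁) := by
  obtain ⟨n, α, hα⟩ := exists_presentation R Λ
  have hT' := (DRing.restrictD (α : MvPolynomial (Fin n) R →+* Λ)).map_distinguished _ hT
  have key := isPseudoCoherent_two_of_three _ hT' m
  simp only [rel_iff_via α hα]
  exact key

/-- the distinguished triangle `F ⊗ X₁ → F ⊗ X₂ → F ⊗ X₃` of a short exact sequence of modules. -/
lemma tens_triangle_distinguished (S : ShortComplex (ModuleCat.{u} Λ)) (hS : S.ShortExact)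
    (F : DRing.Cx Λ) (hfl : DRing.TermwiseFlat F) :
    triangleOfSES (tensSC_shortExact S hS F hfl) ∈ distTriang (Dual.D Λ) :=
  triangleOfSES_distinguished (tensSC_shortExact S hS F hfl)

lemma rel_tens_of_isZero (F : DRing.Cx Λ) (N : ModuleCat.{u} Λ) (hN : IsZero N) (t : ℤ) :
    DerCA.IsRelPseudoCoherent R Λ t (Q.obj ((tensCx N).obj F)) := by
  refine rel_of_isLE _ (t - 1) t ?_ (by omega)
  rw [isLE_Q_obj_iff]
  haveI : ((tensCx N).obj F).IsStrictlyLE (t - 1) := (CochainComplex.isStrictlyLE_iff _ _).2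
    (fun i _ => Functor.map_isZero (MonoidalCategory.tensorLeft (F.X i)) hN)
  infer_instance

/-- two out of three along a short exact sequence of modules: the middle term. -/
lemma rel_tens_middle (S : ShortComplex (ModuleCat.{u} Λ)) (hS : S.ShortExact)
    (F : DRing.Cx Λ) (hfl : DRing.TermwiseFlat F) (t : ℤ)
    (h1 : DerCA.IsRelPseudoCoherent R Λ t (Q.obj ((tensCx S.X₁).obj F)))
    (h3 : DerCA.IsRelPseudoCoherent R Λ t (Q.obj ((tensCx S.X₃).obj F))) :
    DerCA.IsRelPseudoCoherent R Λ t (Q.obj ((tensCx S.X₂).obj F)) :=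
  (rel_two_of_three t _ (tens_triangle_distinguished S hS F hfl)).2.1 h1 h3

/-- two out of three along a short exact sequence of modules: the cokernel. -/
lemma rel_tens_coker (S : ShortComplex (ModuleCat.{u} Λ)) (hS : S.ShortExact)
    (F : DRing.Cx Λ) (hfl : DRing.TermwiseFlat F) (t : ℤ)
    (h1 : DerCA.IsRelPseudoCoherent R Λ (t + 1) (Q.obj ((tensCx S.X₁).obj F)))
    (h2 : DerCA.IsRelPseudoCoherent R Λ t (Q.obj ((tensCx S.X₂).obj F))) :
    DerCA.IsRelPseudoCoherent R Λ t (Q.obj ((tensCx S.X₃).obj F)) :=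
  (rel_two_of_three t _ (tens_triangle_distinguished S hS F hfl)).1 h1 h2

/-- finite free modules. -/
lemma rel_tens_pi (F : DRing.Cx Λ) (hfl : DRing.TermwiseFlat F) (t : ℤ)
    (hF : DerCA.IsRelPseudoCoherent R Λ t (Q.obj F)) (r : ℕ) :
    DerCA.IsRelPseudoCoherent R Λ t (Q.obj ((tensCx (ModuleCat.of Λ (Fin r → Λ))).obj F)) := by
  induction r with
  | zero =>
    exact rel_tens_of_isZero F _ (ModuleCat.isZero_of_subsingleton _) t
  | succ r ih =>
    have e1 : ModuleCat.of Λ (Fin (r + 1) → Λ) ≅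
        ModuleCat.of Λ Λ ⊞ ModuleCat.of Λ (Fin r → Λ) :=
      (LinearEquiv.toModuleIso (Fin.consLinearEquiv Λ (fun _ : Fin (r + 1) => Λ)).symm) ≪≫
        (ModuleCat.biprodIsoProd (ModuleCat.of Λ Λ) (ModuleCat.of Λ (Fin r → Λ))).symm
    refine rel_of_iso (Q.mapIso (tensCxIsoOfIso e1.symm F)) ?_
    have hS : (ShortComplex.mk (biprod.inl : ModuleCat.of Λ Λ ⟶ ModuleCat.of Λ Λ ⊞
        ModuleCat.of Λ (Fin r → Λ)) biprod.snd (by simp)).ShortExact :=
      ShortComplex.ShortExact.mk' ((ShortComplex.Splitting.ofHasBinaryBiproduct _ _).exact)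
        (inferInstanceAs (Mono (biprod.inl : ModuleCat.of Λ Λ ⟶ _ ⊞ _)))
        (inferInstanceAs (Epi (biprod.snd : _ ⊞ _ ⟶ ModuleCat.of Λ (Fin r → Λ))))
    refine rel_tens_middle _ hS F hfl t ?_ ih
    exact rel_of_iso (Q.mapIso (tensCxUnitIso F)).symm hF

/-- a module which is pseudo-coherent (in all degrees). -/
def PcAll (N : ModuleCat.{u} Λ) : Prop :=
  ∀ m : ℤ, DRing.IsPseudoCoherent Λ m ((singleFunctor (ModuleCat.{u} Λ) 0).obj N)

omit [Algebra R Λ] [Algebra.FiniteType R Λ] in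
/-- a pseudo-coherent module is a quotient of a finite free module by a pseudo-coherent module. -/
lemma exists_presentation_of_pcAll (N : ModuleCat.{u} Λ) (hN : PcAll N) :
    ∃ (r : ℕ) (S : ShortComplex (ModuleCat.{u} Λ)), S.ShortExact ∧
      Nonempty (S.X₂ ≅ ModuleCat.of Λ (Fin r → Λ)) ∧ Nonempty (S.X₃ ≅ N) ∧ PcAll S.X₁ := by
  have hfin : Module.Finite Λ N := (Groth.Agent.S6935.result Λ N).1.1 (hN 0)
  obtain ⟨n, f, hf⟩ := Module.Finite.exists_fin' Λ N
  let F : ModuleCat.{u} Λ := ModuleCat.of Λ (Fin n → Λ)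
  let N' : ModuleCat.{u} Λ := ModuleCat.of Λ (LinearMap.ker f)
  let S : ShortComplex (ModuleCat.{u} Λ) :=
    ShortComplex.mk (ModuleCat.ofHom (LinearMap.ker f).subtype : N' ⟶ F)
      (ModuleCat.ofHom f : F ⟶ N) (by
        ext x
        exact x.2)
  have hS : S.ShortExact := by
    refine ShortComplex.ShortExact.mk' ?_ ?_ ?_
    · rw [ShortComplex.ShortExact.moduleCat_exact_iff_function_exact]
      intro x
      change f x = 0 ↔ x ∈ Set.range (LinearMap.ker f).subtype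
      constructor
      · intro hx
        exact ⟨⟨x, hx⟩, rfl⟩
      · rintro ⟨y, rfl⟩
        exact y.2
    · rw [ModuleCat.mono_iff_injective]
      exact Submodule.subtype_injective _
    · rw [ModuleCat.epi_iff_surjective]
      exact hf
  refine ⟨n, S, hS, ⟨Iso.refl _⟩, ⟨Iso.refl _⟩, fun m' => ?_⟩
  have hT := hS.singleTriangle_distinguished
  have hF : ∀ m' : ℤ, DRing.IsPseudoCoherent Λ m'
      ((singleFunctor (ModuleCat.{u} Λ) 0).obj F) :=
    fun m' => (isPseudoCoherent_iff _ _).2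
      (isPC_single finFree_zero finFree_iso _
        ⟨(inferInstance : Module.Finite Λ (Fin n → Λ)),
          (inferInstance : Module.Free Λ (Fin n → Λ))⟩ 0 m')
  have h3 := (isPseudoCoherent_two_of_three _ hT (m' - 1)).2.2
  rw [sub_add_cancel] at h3
  exact h3 (hF _) (hN _)

/-- **tensoring with a pseudo-coherent module** preserves relative `m`-pseudo-coherence of a
bounded above complex of flat modules. -/
theorem rel_tens_of_pcAll (F : DRing.Cx Λ) (b : ℤ) (hFb : DRing.VanishesAbove F b)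
    (hfl : DRing.TermwiseFlat F) (m : ℤ) (hF : DerCA.IsRelPseudoCoherent R Λ m (Q.obj F)) :
    ∀ (s : ℕ) (N : ModuleCat.{u} Λ), PcAll N → ∀ t : ℤ, m ≤ t → b + 1 ≤ t + s →
      DerCA.IsRelPseudoCoherent R Λ t (Q.obj ((tensCx N).obj F)) := by
  intro s
  induction s with
  | zero =>
    intro N _ t _ hbt
    exact rel_of_isLE _ b t (isLE_Q_tensCx N F b hFb) (by push_cast at hbt; omega)
  | succ s ih =>
    intro N hN t hmt hbt
    obtain ⟨r, S, hS, ⟨e2⟩, ⟨e3⟩, h1⟩ := exists_presentation_of_pcAll N hN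
    have hX1 := ih S.X₁ h1 (t + 1) (by omega) (by push_cast at hbt ⊢; omega)
    have hX2 : DerCA.IsRelPseudoCoherent R Λ t (Q.obj ((tensCx S.X₂).obj F)) :=
      rel_of_iso (Q.mapIso (tensCxIsoOfIso e2.symm F)) (rel_tens_pi F hfl t (rel_of_le hmt hF) r)
    have hX3 := rel_tens_coker S hS F hfl t hX1 hX2
    exact rel_of_iso (Q.mapIso (tensCxIsoOfIso e3 F)) hX3

/-- final form. -/
theorem rel_tens (F : DRing.Cx Λ) (b : ℤ) (hFb : DRing.VanishesAbove F b)
    (hfl : DRing.TermwiseFlat F) (m : ℤ) (hF : DerCA.IsRelPseudoCoherent R Λ m (Q.obj F))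
    (N : ModuleCat.{u} Λ) (hN : PcAll N) :
    DerCA.IsRelPseudoCoherent R Λ m (Q.obj ((tensCx N).obj F)) :=
  rel_tens_of_pcAll F b hFb hfl m hF (b + 1 - m).toNat N hN m le_rfl (by
    have := Int.self_le_toNat (b + 1 - m)
    omega)

end Groth.Agent.Lib.Helper16.RelTens
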