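import Mathlib
import Groth.Agent.Lib.Helper16.RelTens
import Groth.Agent.S6984
import Groth.Agent.S6985
import Groth.Agent.Lib.Helper16.KPR6

/-!
# Helper16 — RelTens2: derived base change along a pseudo-coherent ring map preserves relative
`m`-pseudo-coherence.
-/

open CategoryTheory CategoryTheory.Limits DerivedCategory CategoryTheory.Pretriangulated
open TensorProduct

set_option linter.style.haveILetI false
set_option autoImplicit false

namespace Groth.Agent.Lib.Helper16.RelTens

open Groth.Agent.Lib.Helper16.PC Groth.Agent.Lib.Helper16.RelPC Groth.Agent.Lib.Helper16.RestrictD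
  Groth.Agent.Lib.Helper16.TorAmp Groth.Agent.Lib.Helper16.TorBal
  Groth.Agent.Lib.Helper16.FlatKer Groth.Agent.Lib.Helper16.FlatAcyc
  Groth.Agent.Lib.Helper16.LDer Groth.Agent.Lib.Helper16.TIBC

universe u

attribute [local instance] HasDerivedCategory.standard
attribute [local instance] MvPolynomial.algebraMvPolynomial

section Poly

variable (R : Type u) [CommRing R] (r : ℕ)

/-- a polynomial ring is pseudo-coherent relative to its base. -/
theorem relAll_mvPolynomial :
    DerCA.IsRelPseudoCoherentModuleAll R (MvPolynomial (Fin r) R) (MvPolynomial (Fin r) R) := by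
  intro m
  refine ⟨r, AlgHom.id R _, fun x => ⟨x, rfl⟩, ?_⟩
  let φ : MvPolynomial (Fin r) R →+* MvPolynomial (Fin r) R :=
    ((AlgHom.id R (MvPolynomial (Fin r) R) : _ →ₐ[R] _) : _ →+* _)
  have hiso : (DRing.restrictD φ).obj (Dual.inD _ (MvPolynomial (Fin r) R)) ≅
      (singleFunctor _ 0).obj ((ModuleCat.restrictScalars.{u} φ).obj
        (ModuleCat.of _ (MvPolynomial (Fin r) R))) :=
    ((ModuleCat.restrictScalars.{u} φ).mapDerivedCategorySingleFunctor 0).app _
  let e : ((ModuleCat.restrictScalars.{u} φ).obj (ModuleCat.of _ (MvPolynomial (Fin r) R))) ≃ₗ[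
      MvPolynomial (Fin r) R] (MvPolynomial (Fin r) R) :=
    { toFun := fun x => x
      invFun := fun x => x
      map_add' := fun _ _ => rfl
      map_smul' := fun _ _ => rfl
      left_inv := fun _ => rfl
      right_inv := fun _ => rfl }
  have hF : DRing.IsPseudoCoherent (MvPolynomial (Fin r) R) m
      ((singleFunctor (ModuleCat.{u} (MvPolynomial (Fin r) R)) 0).obj
        (ModuleCat.of _ (MvPolynomial (Fin r) R))) :=
    (isPseudoCoherent_iff _ _).2
      (isPC_single finFree_zero finFree_iso _
        ⟨(inferInstance : Module.Finite (MvPolynomial (Fin r) R) (MvPolynomial (Fin r) R)),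
          (inferInstance : Module.Free (MvPolynomial (Fin r) R) (MvPolynomial (Fin r) R))⟩ 0 m)
  exact pc_of_iso hF ((singleFunctor _ 0).mapIso e.toModuleIso.symm ≪≫ hiso.symm)

end Poly

section Main

variable {R A B : Type u} [CommRing R] [CommRing A] [CommRing B] [Algebra R A] [Algebra A B]
  [Algebra R B] [IsScalarTower R A B] [Algebra.FiniteType R A] [Algebra.FiniteType A B]

/-- first argument flat. -/
lemma tiProp_of_flat (R' : Type u) [CommRing R'] [Algebra R R'] [Module.Flat R R']
    (N : ModuleCat.{u} R) : tiProp R R' N := by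
  intro q
  rw [torVan_symm q]
  let e : R' ≃ₗ[R] (Cmod R R') :=
    { toFun := fun s => s
      invFun := fun s => s
      map_add' := fun _ _ => rfl
      map_smul' := fun c s => Algebra.smul_def c s
      left_inv := fun _ => rfl
      right_inv := fun _ => rfl }
  haveI : Module.Flat R (Cmod R R') := Module.Flat.of_linearEquiv e.symm
  exact tic_of_flat N (Cmod R R') q

theorem rel_lBaseChange_of_relPcAlgebra (hB : DerCA.IsRelPseudoCoherentModuleAll A B B)
    [DRing.HasLBaseChange (algebraMap A B)] (K : Dual.D A) (m : ℤ)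
    (h : DerCA.IsRelPseudoCoherent R A m K) :
    DerCA.IsRelPseudoCoherent R B m ((DRing.LBaseChange (algebraMap A B)).obj K) := by
  obtain ⟨r, γ, hγ, -⟩ := hB 0
  have hBall : ∀ m' : ℤ, DerCA.IsRelPseudoCoherentVia γ m' (Dual.inD B B) :=
    fun m' => (rel_iff_via γ hγ m' _).1 (hB m')
  -- the rings `Ry = R[y]`, `Ay = A[y]`
  haveI : IsScalarTower R (MvPolynomial (Fin r) R) (MvPolynomial (Fin r) A) :=
    .of_algebraMap_eq (fun x => by
      change MvPolynomial.C (algebraMap R A x) =
        MvPolynomial.map (algebraMap R A) (MvPolynomial.C x)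
      rw [MvPolynomial.map_C])
  haveI : DRing.HasLBaseChange (algebraMap A (MvPolynomial (Fin r) A)) :=
    Groth.Agent.Lib.Helper16.DRE.hasLBaseChange _
  -- step 1: `K_y = K ⊗_A A[y]` is `m`-pseudo-coherent relative to `R[y]`, hence to `R`
  have h1 : DerCA.IsRelPseudoCoherent (MvPolynomial (Fin r) R) (MvPolynomial (Fin r) A) m
      ((DRing.LBaseChange (algebraMap A (MvPolynomial (Fin r) A))).obj K) :=
    rel_lBaseChange_of_ti (R := R) (S := A) (R' := MvPolynomial (Fin r) R)
      (S' := MvPolynomial (Fin r) A) (tiProp_of_flat _ _) K m h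
  haveI : Algebra.FiniteType R (MvPolynomial (Fin r) A) :=
    Algebra.FiniteType.trans (inferInstance : Algebra.FiniteType R A) inferInstance
  haveI : Algebra.FiniteType (MvPolynomial (Fin r) R) (MvPolynomial (Fin r) A) := by
    have h0 : (algebraMap R A).FiniteType := RingHom.finiteType_algebraMap.2 inferInstance
    exact RingHom.finiteType_algebraMap.1
      (RingHom.finiteType_isStableUnderBaseChange R A (MvPolynomial (Fin r) R)
        (MvPolynomial (Fin r) A) h0)
  have h2 : DerCA.IsRelPseudoCoherent R (MvPolynomial (Fin r) A) m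
      ((DRing.LBaseChange (algebraMap A (MvPolynomial (Fin r) A))).obj K) :=
    ((Groth.Agent.S6985.result (R := R) (A := MvPolynomial (Fin r) R)
      (B := MvPolynomial (Fin r) A) (relAll_mvPolynomial R r) _ m).1).1 h1
  -- a projective resolution of `K`
  obtain ⟨n, α, hα, hK⟩ := id h
  obtain ⟨b, hb⟩ := ((isPseudoCoherent_iff m _).1 hK).exists_isLE
  have hKb : K.IsLE b := isLE_of_restrict_isLE (α : MvPolynomial (Fin n) R →+* A) K b hb
  obtain ⟨G, hGb, hGproj, ⟨eG⟩⟩ := exists_projective_model K b hKb
  let F : DRing.Cx (MvPolynomial (Fin r) A) := (extCx (algebraMap A (MvPolynomial (Fin r) A))).obj G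
  have hFb : DRing.VanishesAbove F b := fun i hi =>
    extCx_isZero (algebraMap A (MvPolynomial (Fin r) A)) G i (hGb i hi)
  have hFproj : ∀ i, Module.Projective (MvPolynomial (Fin r) A) (F.X i) :=
    Groth.Agent.Lib.Helper16.KPR.projective_extCx _ G hGproj
  have hFfl : DRing.TermwiseFlat F := termwiseFlat_of_projective F hFproj
  have hF : DerCA.IsRelPseudoCoherent R (MvPolynomial (Fin r) A) m (Q.obj F) :=
    rel_of_iso ((DRing.LBaseChange _).mapIso eG.symm ≪≫
      lBaseChangeIso' (algebraMap A (MvPolynomial (Fin r) A)) G b hGb hGproj) h2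
  -- the module `N = B` over `A[y]`
  let γr : MvPolynomial (Fin r) A →+* B := (γ : MvPolynomial (Fin r) A →+* B)
  have hN : PcAll (Groth.Agent.Lib.Helper16.KPR.asMod γr) := fun m' =>
    pc_of_iso (hBall m')
      (((ModuleCat.restrictScalars.{u} γr).mapDerivedCategorySingleFunctor 0).app _)
  have h3 := rel_tens F b hFb hFfl m hF _ hN
  -- back to `B`
  letI : Algebra (MvPolynomial (Fin r) A) B := γr.toAlgebra
  haveI : IsScalarTower A (MvPolynomial (Fin r) A) B :=
    .of_algebraMap_eq (fun x => (γ.commutes x).symm)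
  haveI : IsScalarTower R (MvPolynomial (Fin r) A) B := .of_algebraMap_eq (fun x => by
    rw [IsScalarTower.algebraMap_apply R A B, IsScalarTower.algebraMap_apply R A
      (MvPolynomial (Fin r) A)]
    exact (γ.commutes _).symm)
  haveI : Module.Finite (MvPolynomial (Fin r) A) B :=
    Module.Finite.of_surjective (Algebra.linearMap (MvPolynomial (Fin r) A) B) hγ
  haveI : Algebra.FiniteType R B :=
    Algebra.FiniteType.trans (inferInstance : Algebra.FiniteType R A) inferInstance
  haveI : DRing.HasLBaseChange γr := Groth.Agent.Lib.Helper16.DRE.hasLBaseChange _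
  have hcomp : algebraMap A B = γr.comp (algebraMap A (MvPolynomial (Fin r) A)) := by
    ext x
    exact (γ.commutes x).symm
  -- `X = B ⊗ F`
  let X : Dual.D B := Q.obj ((extCx γr).obj F)
  have hX : DerCA.IsRelPseudoCoherent R B m X := by
    refine ((Groth.Agent.S6984.result (R := R) (A := MvPolynomial (Fin r) A) (B := B) X m).1).2 ?_
    exact rel_of_iso (Q.mapIso (Groth.Agent.Lib.Helper16.KPR.restrictExtCxIso γr F).symm ≪≫
      (restrictQIso γr _).symm) h3
  -- `X ≅ K ⊗^L_A B`
  have e1 : (extCx (algebraMap A B)).obj G ≅ (extCx γr).obj F :=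
    eqToIso (by rw [hcomp]) ≪≫
      (NatIso.mapHomologicalComplex (ModuleCat.extendScalarsComp
        (algebraMap A (MvPolynomial (Fin r) A)) γr) (ComplexShape.up ℤ)).app G ≪≫
      HomologicalComplex.Hom.isoOfComponents (fun i => Iso.refl _) (by
        intro i j _
        exact (Category.id_comp _).trans (Category.comp_id _).symm)
  exact rel_of_iso (Q.mapIso e1.symm ≪≫
    (lBaseChangeIso' (algebraMap A B) G b hGb hGproj).symm ≪≫
    (DRing.LBaseChange (algebraMap A B)).mapIso eG) hX

end Main

end Groth.Agent.Lib.Helper16.RelTens
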