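import Mathlib
import Groth.Agent.Lib.Helper16.RelDesc1
import Groth.Agent.Lib.Helper16.TIBC3
import Groth.Agent.Lib.Helper16.RelTens2
import Groth.Agent.Lib.Helper16.AffRed8

/-!
# Helper16 — RelDesc2: descent of relative pseudo-coherence along a finite jointly faithfully flat
family of flat base changes (ring level).
-/

open CategoryTheory CategoryTheory.Limits DerivedCategory CategoryTheory.Pretriangulated
open TensorProduct

set_option linter.style.haveILetI false
set_option autoImplicit false

namespace Groth.Agent.Lib.Helper16.RelDesc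

open Groth.Agent.Lib.Helper16.PC Groth.Agent.Lib.Helper16.RelPC Groth.Agent.Lib.Helper16.RestrictD
  Groth.Agent.Lib.Helper16.FlatBC Groth.Agent.Lib.Helper16.LDer
  Groth.Agent.Lib.Helper15.RelPC5 Groth.Agent.Lib.Helper15.RelPC6 Groth.Agent.Lib.Helper15.RelPC7
  Groth.Agent.Lib.Helper15.RelPC8 Groth.Agent.Lib.Helper15.RelPC9 Groth.Agent.Lib.Helper15.RelPC10
  Groth.Agent.Lib.Helper16.TorAmp Groth.Agent.Lib.Helper16.TorBal Groth.Agent.Lib.Helper15.RelPC11
  Groth.Agent.Lib.Helper16.SmTor Groth.Agent.Lib.Helper16.FlatKer Groth.Agent.Lib.Helper16.FlatAcyc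
  Groth.Agent.Lib.Helper16.TIBC

universe u v

attribute [local instance] HasDerivedCategory.standard
attribute [local instance] MvPolynomial.algebraMvPolynomial

section Iso

variable {R S R' S' : Type u} [CommRing R] [CommRing S] [CommRing R'] [CommRing S']
  [Algebra R S] [Algebra R R'] [Algebra R S'] [Algebra S S'] [Algebra R' S']
  [IsScalarTower R S S'] [IsScalarTower R R' S']

/-- tor-independent base change commutes with restriction along a presentation. -/
theorem nonempty_lBaseChange_restrict_iso [Algebra.IsPushout R S R' S']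
    (htor : tiProp R R' (ModuleCat.of R S)) [DRing.HasLBaseChange (algebraMap S S')] {n : ℕ}
    (α : MvPolynomial (Fin n) R →ₐ[R] S)
    [DRing.HasLBaseChange (algebraMap (MvPolynomial (Fin n) R) (MvPolynomial (Fin n) R'))]
    (K : Dual.D S) (b : ℤ) (hKb : K.IsLE b) :
    Nonempty ((DRing.LBaseChange
        (algebraMap (MvPolynomial (Fin n) R) (MvPolynomial (Fin n) R'))).obj
        ((DRing.restrictD (α : MvPolynomial (Fin n) R →+* S)).obj K) ≅
      (DRing.restrictD ((bcPres α : MvPolynomial (Fin n) R' →ₐ[R'] S') :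
          MvPolynomial (Fin n) R' →+* S')).obj
        ((DRing.LBaseChange (algebraMap S S')).obj K)) := by
  let α' : MvPolynomial (Fin n) R' →ₐ[R'] S' := bcPres α
  letI : Algebra (MvPolynomial (Fin n) R) S := (α : MvPolynomial (Fin n) R →+* S).toAlgebra
  letI : Algebra (MvPolynomial (Fin n) R') S' := (α' : MvPolynomial (Fin n) R' →+* S').toAlgebra
  letI : Algebra (MvPolynomial (Fin n) R) S' :=
    ((algebraMap S S').comp (α : MvPolynomial (Fin n) R →+* S)).toAlgebra
  haveI : IsScalarTower (MvPolynomial (Fin n) R) S S' := .of_algebraMap_eq (fun _ => rfl)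
  haveI : IsScalarTower (MvPolynomial (Fin n) R) (MvPolynomial (Fin n) R') S' :=
    .of_algebraMap_eq (fun x => (bcPres_map α x).symm)
  haveI : IsScalarTower R (MvPolynomial (Fin n) R) S :=
    .of_algebraMap_eq (fun x => (α.commutes x).symm)
  haveI : IsScalarTower R' (MvPolynomial (Fin n) R') S' :=
    .of_algebraMap_eq (fun x => (α'.commutes x).symm)
  haveI : IsScalarTower R (MvPolynomial (Fin n) R') S' := .of_algebraMap_eq (fun x => by
    rw [IsScalarTower.algebraMap_apply R R' S',
      IsScalarTower.algebraMap_apply R R' (MvPolynomial (Fin n) R')]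
    exact (α'.commutes _).symm)
  haveI : Algebra.IsPushout (MvPolynomial (Fin n) R) S (MvPolynomial (Fin n) R') S' :=
    (Algebra.IsPushout.comp_iff R (MvPolynomial (Fin n) R) R' (MvPolynomial (Fin n) R')
      (T := S) (T' := S')).1 inferInstance
  haveI : Algebra.IsPushout (MvPolynomial (Fin n) R) (MvPolynomial (Fin n) R') S S' :=
    Algebra.IsPushout.symm inferInstance
  haveI : Algebra.IsPushout R R' (MvPolynomial (Fin n) R) (MvPolynomial (Fin n) R') :=
    Algebra.IsPushout.symm inferInstance
  obtain ⟨F, hFb, hFproj, ⟨eF⟩⟩ := exists_projective_model K b hKb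
  let X : DRing.Cx (MvPolynomial (Fin n) R) :=
    ((ModuleCat.restrictScalars.{u} (α : MvPolynomial (Fin n) R →+* S)).mapHomologicalComplex
      (ComplexShape.up ℤ)).obj F
  have hXb : DRing.VanishesAbove X b := fun j hj =>
    (ModuleCat.restrictScalars.{u} (α : MvPolynomial (Fin n) R →+* S)).map_isZero (hFb j hj)
  have hαR : algebraMap R S = (α : MvPolynomial (Fin n) R →+* S).comp
      (algebraMap R (MvPolynomial (Fin n) R)) := by
    ext x
    exact (α.commutes x).symm
  have hXti : BaseTI R R' (MvPolynomial (Fin n) R) X := fun j => by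
    haveI := hFproj j
    haveI : Module.Flat S (F.X j) := Module.Flat.of_projective
    exact (tiProp R R').prop_of_iso
      (ModuleCat.restrictScalarsComp'App (algebraMap R (MvPolynomial (Fin n) R))
        (α : MvPolynomial (Fin n) R →+* S) (algebraMap R S) hαR (F.X j))
      (tiProp_restrict_of_flat R R' htor (F.X j))
  have hΛ : tiProp R R' (ModuleCat.of R (MvPolynomial (Fin n) R)) := tic_of_flat _ _
  obtain ⟨eTI⟩ := nonempty_lBaseChange_iso_of_baseTI R R' (MvPolynomial (Fin n) R') hΛ X b hXb hXti
  exact ⟨(DRing.LBaseChange _).mapIso ((DRing.restrictD _).mapIso eF.symm ≪≫ restrictQIso _ F) ≪≫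
      eTI ≪≫
      Q.mapIso (sqCxIso (MvPolynomial (Fin n) R) (MvPolynomial (Fin n) R') S' F) ≪≫
      (restrictQIso _ _).symm ≪≫
      (DRing.restrictD _).mapIso ((lBaseChangeIso' (algebraMap S S') F b hFb hFproj).symm ≪≫
        (DRing.LBaseChange (algebraMap S S')).mapIso eF)⟩

end Iso

section Poly

variable {R : Type u} [CommRing R] {ι : Type v} (R' : ι → Type u) [∀ i, CommRing (R' i)]
  [∀ i, Algebra R (R' i)]

/-- joint conservativity passes to polynomial rings. -/
theorem jSub_mvPolynomial (hR' : JSub R R') (n : ℕ) :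
    JSub (MvPolynomial (Fin n) R) (fun i => MvPolynomial (Fin n) (R' i)) := by
  intro N _ _ h
  letI : Module R N := Module.compHom N (algebraMap R (MvPolynomial (Fin n) R))
  haveI : IsScalarTower R (MvPolynomial (Fin n) R) N :=
    IsScalarTower.of_algebraMap_smul fun _ _ => rfl
  apply hR' N
  intro i
  haveI : Algebra.IsPushout R (R' i) (MvPolynomial (Fin n) R) (MvPolynomial (Fin n) (R' i)) :=
    Algebra.IsPushout.symm inferInstance
  haveI := h i
  exact (Algebra.IsPushout.cancelBaseChange R (R' i) (MvPolynomial (Fin n) R)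
    (MvPolynomial (Fin n) (R' i)) N).symm.toEquiv.subsingleton

end Poly

section Main

variable {R S : Type u} [CommRing R] [CommRing S] [Algebra R S] [Algebra.FiniteType R S]
  {ι : Type v} [Finite ι] (R' S' : ι → Type u) [∀ i, CommRing (R' i)] [∀ i, CommRing (S' i)]
  [∀ i, Algebra R (R' i)] [∀ i, Algebra R (S' i)] [∀ i, Algebra S (S' i)]
  [∀ i, Algebra (R' i) (S' i)] [∀ i, IsScalarTower R S (S' i)]
  [∀ i, IsScalarTower R (R' i) (S' i)] [∀ i, Algebra.IsPushout R S (R' i) (S' i)]
  [∀ i, Module.Flat R (R' i)]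

/-- **descent of relative pseudo-coherence** along a finite jointly faithfully flat family of flat
base changes. -/
theorem rel_of_rel_lBaseChange_family (hR' : JSub R R')
    [∀ i, DRing.HasLBaseChange (algebraMap S (S' i))] (K : Dual.D S) (b : ℤ) (hK : K.IsLE b)
    (m : ℤ)
    (h : ∀ i, DerCA.IsRelPseudoCoherent (R' i) (S' i) m
      ((DRing.LBaseChange (algebraMap S (S' i))).obj K)) :
    DerCA.IsRelPseudoCoherent R S m K := by
  obtain ⟨n, α, hα⟩ := Algebra.FiniteType.iff_quotient_mvPolynomial''.1
    (inferInstance : Algebra.FiniteType R S)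
  refine ⟨n, α, hα, ?_⟩
  haveI : ∀ i, Module.Flat (MvPolynomial (Fin n) R) (MvPolynomial (Fin n) (R' i)) := fun i =>
    Module.Flat.of_linearEquiv
      (Algebra.IsPushout.equiv R (MvPolynomial (Fin n) R) (R' i)
        (MvPolynomial (Fin n) (R' i))).symm.toLinearEquiv
  have hKb : ((DRing.restrictD (α : MvPolynomial (Fin n) R →+* S)).obj K).IsLE b :=
    restrict_isLE (α : MvPolynomial (Fin n) R →+* S) K b hK
  refine pc_of_pc_ε_family (fun i => MvPolynomial (Fin n) (R' i)) (jSub_mvPolynomial R' hR' n)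
    _ b hKb m (fun i => ?_)
  haveI : DRing.HasLBaseChange
      (algebraMap (MvPolynomial (Fin n) R) (MvPolynomial (Fin n) (R' i))) :=
    Groth.Agent.Lib.Helper16.DRE.hasLBaseChange _
  have h1 := (rel_iff_via (bcPres (R' := R' i) (S' := S' i) α) (bcPres_surjective α hα) m _).1 (h i)
  obtain ⟨e⟩ := nonempty_lBaseChange_restrict_iso (R' := R' i) (S' := S' i)
    (Groth.Agent.Lib.Helper16.RelTens.tiProp_of_flat (R' i) _) α K b hK
  obtain ⟨e'⟩ := Groth.Agent.Lib.Helper16.AffRed.nonempty_LBaseChange_iso_ε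
    (algebraMap (MvPolynomial (Fin n) R) (MvPolynomial (Fin n) (R' i)))
    ((DRing.restrictD (α : MvPolynomial (Fin n) R →+* S)).obj K)
  exact pc_of_iso h1 (e.symm ≪≫ e')

end Main

end Groth.Agent.Lib.Helper16.RelDesc
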