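import Mathlib
import Groth.Agent.Lib.Helper16.RelDesc2

/-!
# Helper16 — RelDesc3: the family descent theorem in terms of ring homomorphisms and pushout
squares in `CommRingCat`.
-/

open CategoryTheory CategoryTheory.Limits DerivedCategory CategoryTheory.Pretriangulated
open TensorProduct

set_option linter.style.haveILetI false
set_option autoImplicit false

namespace Groth.Agent.Lib.Helper16.RelDesc

universe u v

attribute [local instance] HasDerivedCategory.standard

section Pi

variable {R : Type u} [CommRing R] {ι : Type v} [Finite ι] (R' : ι → Type u)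
  [∀ i, CommRing (R' i)] [∀ i, Algebra R (R' i)]

/-- a finite family whose product is faithfully flat is jointly conservative. -/
theorem jSub_of_faithfullyFlat_pi (hff : Module.FaithfullyFlat R (∀ i, R' i)) : JSub R R' := by
  intro N _ _ h
  classical
  haveI := Fintype.ofFinite ι
  haveI : ∀ i, Subsingleton (N ⊗[R] R' i) := fun i =>
    haveI := h i
    (TensorProduct.comm R N (R' i)).toEquiv.subsingleton
  haveI : Subsingleton (N ⊗[R] (∀ i, R' i)) :=
    (TensorProduct.piRight R R N R').toEquiv.subsingleton
  exact (Module.FaithfullyFlat.subsingleton_tensorProduct_iff_left R N (N := ∀ i, R' i)).1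
    inferInstance

end Pi

section Unbundled

variable {R S : Type u} [CommRing R] [CommRing S] {ι : Type v} [Finite ι] (R' S' : ι → Type u)
  [∀ i, CommRing (R' i)] [∀ i, CommRing (S' i)]

open CommRingCat in
/-- **descent of relative pseudo-coherence along a finite jointly faithfully flat family** in terms
of ring homomorphisms. -/
theorem rel_of_family (φRS : R →+* S) (hft : φRS.FiniteType) (φRR' : ∀ i, R →+* R' i)
    (φSS' : ∀ i, S →+* S' i) (φR'S' : ∀ i, R' i →+* S' i)
    (PO : ∀ i, IsPushout (ofHom φRS) (ofHom (φRR' i)) (ofHom (φSS' i)) (ofHom (φR'S' i)))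
    (hfl : ∀ i, (φRR' i).Flat) (hff : (RingHom.pi φRR').FaithfullyFlat)
    [∀ i, DRing.HasLBaseChange (φSS' i)] (K : Dual.D S) (b : ℤ) (hK : K.IsLE b) (m : ℤ)
    (h : ∀ i, letI := (φR'S' i).toAlgebra
      DerCA.IsRelPseudoCoherent (R' i) (S' i) m ((DRing.LBaseChange (φSS' i)).obj K)) :
    letI := φRS.toAlgebra
    DerCA.IsRelPseudoCoherent R S m K := by
  letI aRS : Algebra R S := φRS.toAlgebra
  letI aRR' : ∀ i, Algebra R (R' i) := fun i => (φRR' i).toAlgebra
  letI aSS' : ∀ i, Algebra S (S' i) := fun i => (φSS' i).toAlgebra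
  letI aR'S' : ∀ i, Algebra (R' i) (S' i) := fun i => (φR'S' i).toAlgebra
  letI aRS' : ∀ i, Algebra R (S' i) := fun i => ((φSS' i).comp φRS).toAlgebra
  haveI : ∀ i, IsScalarTower R S (S' i) := fun i => .of_algebraMap_eq (fun _ => rfl)
  haveI : ∀ i, IsScalarTower R (R' i) (S' i) := fun i => .of_algebraMap_eq (fun x => by
    have := congr(($((PO i).w)).hom x)
    exact this)
  haveI : ∀ i, Algebra.IsPushout R S (R' i) (S' i) := fun i =>
    CommRingCat.isPushout_iff_isPushout.1 (PO i)
  haveI : ∀ i, Module.Flat R (R' i) := fun i => hfl i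
  haveI : Algebra.FiniteType R S := hft
  have hJ : JSub R R' := by
    apply jSub_of_faithfullyFlat_pi
    exact hff
  exact rel_of_rel_lBaseChange_family R' S' hJ K b hK m h

end Unbundled

end Groth.Agent.Lib.Helper16.RelDesc
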