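import Mathlib
import Groth.Prelude.Def_CxOX
import Groth.Prelude.Def_DerSch2
import Groth.Agent.Lib.Helper16.NPC1
import Groth.Agent.Lib.Helper16.CI16

/-!
# Helper16 — NPC2: `n`-pseudo-coherent morphisms (chart form) as `affineLocally` of the ring
property `PCHn n`; flat base change and faithfully flat descent.
-/

set_option autoImplicit false
set_option linter.style.haveILetI false
universe u
open CategoryTheory CategoryTheory.Limits AlgebraicGeometry MorphismProperty

attribute [local instance] HasDerivedCategory.standard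

namespace Groth.Agent.Lib.Helper16.NPC

open Groth.Agent.Lib.Helper16.CI Groth.Agent.Lib.Helper15.RelPC10 Groth.Agent.Lib.Helper15.RelPC12

instance (n : ℤ) : HasRingHomProperty (affineLocally (@PCHn n)) (@PCHn n) := ⟨pchn_isLocal, rfl⟩

variable {X Y : Scheme.{u}}

theorem isNPseudoCoherent_iff_affineLocally (f : X ⟶ Y) (n : ℤ) :
    DerSch.IsNPseudoCoherent f n ↔ affineLocally (@PCHn n) f := by
  rw [affineLocally_iff_affineOpens_le]
  constructor
  · intro h V U e
    haveI : LocallyOfFiniteType f := h.1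
    have hU : IsAffineOpen (U : X.Opens) := U.2
    have hV : IsAffineOpen (V : Y.Opens) := V.2
    obtain ⟨k, φ, hφ⟩ := exists_isChart f hU hV e
    obtain ⟨eM⟩ := nonempty_tildeD_unit_iso hU
    have hc := chartPC_of_isPseudoCoherentRel f n _ h hU hV e φ hφ
    rw [chartPC_iff_isRelPseudoCoherent f n _ hU e φ hφ (DerSch.unitCx X) (Iso.refl _) _ eM] at hc
    exact hc
  · intro h
    haveI : LocallyOfFiniteType f := by
      rw [HasRingHomProperty.iff_appLE (P := @LocallyOfFiniteType)]
      intro V U e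
      have h1 := h V U e
      letI := (f.appLE (V : Y.Opens) (U : X.Opens) e).hom.toAlgebra
      exact finiteType_of_rel h1
    refine isPseudoCoherentRel_of_forall f n _ (fun U V hUV => ?_)
    have hU : IsAffineOpen (U : X.Opens) := U.2
    obtain ⟨k, φ, hφ⟩ := exists_isChart f hU V.2 hUV
    refine ⟨k, φ, hφ, ?_⟩
    obtain ⟨eM⟩ := nonempty_tildeD_unit_iso hU
    rw [chartPC_iff_isRelPseudoCoherent f n _ hU hUV φ hφ (DerSch.unitCx X) (Iso.refl _) _ eM]
    exact h V U hUV

theorem isNPseudoCoherent_flat_baseChange {X S X' S' : Scheme.{u}} (f : X ⟶ S) (f' : X' ⟶ S')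
    (g' : X' ⟶ X) (g : S' ⟶ S) [Flat g] (hc : IsPullback g' f' f g) (n : ℤ)
    (hf : DerSch.IsNPseudoCoherent f n) : DerSch.IsNPseudoCoherent f' n := by
  rw [isNPseudoCoherent_iff_affineLocally] at hf ⊢
  have h1 := pullback_fst_of_flat (P := affineLocally (@PCHn n)) pchn_flat_tensor g f hf
  rw [← hc.flip.isoPullback_hom_fst, (affineLocally (@PCHn n)).cancel_left_of_respectsIso]
  exact h1

theorem isNPseudoCoherent_descends {X S X' S' : Scheme.{u}} (f : X ⟶ S) (f' : X' ⟶ S')
    (g' : X' ⟶ X) (g : S' ⟶ S) [Flat g] [Surjective g] [QuasiCompact g]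
    (hc : IsPullback g' f' f g) (n : ℤ) (hf' : DerSch.IsNPseudoCoherent f' n) :
    DerSch.IsNPseudoCoherent f n := by
  rw [isNPseudoCoherent_iff_affineLocally] at hf' ⊢
  haveI := descendsAlong_flat' (P := affineLocally (@PCHn n)) pchn_codescendsAlong
  exact MorphismProperty.of_isPullback_of_descendsAlong
    (Q := @Surjective ⊓ @Flat ⊓ @QuasiCompact) hc.flip
    ⟨⟨inferInstance, inferInstance⟩, inferInstance⟩ hf'

end Groth.Agent.Lib.Helper16.NPC
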