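import Mathlib
import Groth.Agent.Lib.Helper16.TIBC1
import Groth.Agent.Lib.Helper16.NPC2

/-!
# Helper16 — TIBC2: tor-independent base change of `n`-pseudo-coherent morphisms.
-/

open CategoryTheory CategoryTheory.Limits AlgebraicGeometry

set_option linter.style.haveILetI false
set_option autoImplicit false

namespace Groth.Agent.Lib.Helper16.TIBC

open Groth.Agent.Lib.Helper16.NPC

universe u

attribute [local instance] HasDerivedCategory.standard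

section Ring

variable {k C R M R' M' : Type u} [CommRing k] [CommRing C] [CommRing R] [CommRing M]
  [CommRing R'] [CommRing M']

open CommRingCat in
/-- tor-independent base change of `PCHn`, in terms of ring homomorphisms and pushout squares in
`CommRingCat`. -/
theorem pchn_of_isPushout (φkC : k →+* C) (φkR : k →+* R) (φRM : R →+* M) (φCR' : C →+* R')
    (φRR' : R →+* R') (φCM' : C →+* M') (φMM' : M →+* M') (φ : R' →+* M')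
    (PY : IsPushout (ofHom φkC) (ofHom φkR) (ofHom φCR') (ofHom φRR'))
    (PT : IsPushout (ofHom φkC) (ofHom (φRM.comp φkR)) (ofHom φCM') (ofHom φMM'))
    (hE2 : φ.comp φRR' = φMM'.comp φRM) (hE3 : φ.comp φCR' = φCM')
    (hfl₁ : φkR.Flat) (hfl₂ : (φRM.comp φkR).Flat) (n : ℤ) (H : PCHn n φRM) : PCHn n φ := by
  letI aKC : Algebra k C := φkC.toAlgebra
  letI aKR : Algebra k R := φkR.toAlgebra
  letI aRM : Algebra R M := φRM.toAlgebra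
  letI aKM : Algebra k M := (φRM.comp φkR).toAlgebra
  haveI : IsScalarTower k R M := .of_algebraMap_eq (fun _ => rfl)
  letI aCR' : Algebra C R' := φCR'.toAlgebra
  letI aRR' : Algebra R R' := φRR'.toAlgebra
  letI aKR' : Algebra k R' := (φRR'.comp φkR).toAlgebra
  haveI : IsScalarTower k R R' := .of_algebraMap_eq (fun _ => rfl)
  haveI : IsScalarTower k C R' := .of_algebraMap_eq (fun x => by
    have := congr(($(PY.w)).hom x)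
    exact this.symm)
  letI aR'M' : Algebra R' M' := φ.toAlgebra
  letI aMM' : Algebra M M' := φMM'.toAlgebra
  letI aCM' : Algebra C M' := φCM'.toAlgebra
  letI aRM' : Algebra R M' := (φMM'.comp φRM).toAlgebra
  letI aKM' : Algebra k M' := (φMM'.comp (φRM.comp φkR)).toAlgebra
  haveI : IsScalarTower R M M' := .of_algebraMap_eq (fun _ => rfl)
  haveI : IsScalarTower k M M' := .of_algebraMap_eq (fun _ => rfl)
  haveI : IsScalarTower k R M' := .of_algebraMap_eq (fun _ => rfl)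
  haveI : IsScalarTower R R' M' := .of_algebraMap_eq (fun x => by
    exact (congr($hE2 x)).symm)
  haveI : IsScalarTower C R' M' := .of_algebraMap_eq (fun x => by
    exact (congr($hE3 x)).symm)
  haveI : IsScalarTower k C M' := .of_algebraMap_eq (fun x => by
    have := congr(($(PT.w)).hom x)
    exact this.symm)
  haveI : IsScalarTower k R' M' := .of_algebraMap_eq (fun x => by
    change φMM' (φRM (φkR x)) = φ (φRR' (φkR x))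
    exact (congr($hE2 (φkR x))).symm)
  haveI pKCRR' : Algebra.IsPushout k C R R' := CommRingCat.isPushout_iff_isPushout.1 PY
  haveI pKCMM' : Algebra.IsPushout k C M M' := CommRingCat.isPushout_iff_isPushout.1 PT
  haveI : Algebra.IsPushout k R C R' := Algebra.IsPushout.symm inferInstance
  haveI : Algebra.IsPushout k M C M' := Algebra.IsPushout.symm inferInstance
  haveI : Algebra.IsPushout R M R' M' :=
    (Algebra.IsPushout.comp_iff k R C R' (T := M) (T' := M')).1 inferInstance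
  haveI : Module.Flat k R := hfl₁
  haveI : Module.Flat k M := hfl₂
  have H' : DerCA.IsRelPseudoCoherent R M n (Dual.inD M M) := H
  exact rel_baseChange_TI (k := k) (C := C) (R := R) (S := M) (R' := R') (S' := M') H'

end Ring

section AppLE

lemma appLE_congr_hom {X Y : Scheme.{u}} {f g : X ⟶ Y} (h : f = g) (U : Y.Opens) (V : X.Opens)
    (e : V ≤ f ⁻¹ᵁ U) : f.appLE U V e = g.appLE U V (h ▸ e) := by
  subst h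
  rfl

variable {S Y₁ Y₂ X₂ Y T : Scheme.{u}} (q₁ : Y₁ ⟶ S) (q₂ : Y₂ ⟶ S) (f₂ : X₂ ⟶ Y₂)
  [Flat q₂] [Flat (f₂ ≫ q₂)]
  {pY₁ : Y ⟶ Y₁} {pY₂ : Y ⟶ Y₂} (hY : IsPullback pY₁ pY₂ q₁ q₂)
  {tT₁ : T ⟶ Y₁} {tT₂ : T ⟶ X₂} (hT : IsPullback tT₁ tT₂ q₁ (f₂ ≫ q₂))
  (b : T ⟶ Y) (hb₁ : b ≫ pY₁ = tT₁) (hb₂ : b ≫ pY₂ = tT₂ ≫ f₂)

include hY hT hb₁ hb₂ in
theorem pchn_appLE_of_torIndep
    {W : S.Opens} (hW : IsAffineOpen W) {V₁ : Y₁.Opens} (hV₁ : IsAffineOpen V₁)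
    (h₁ : V₁ ≤ q₁ ⁻¹ᵁ W) {V₂ : Y₂.Opens} (hV₂ : IsAffineOpen V₂) (h₂ : V₂ ≤ q₂ ⁻¹ᵁ W)
    {U₂ : X₂.Opens} (hU₂ : IsAffineOpen U₂) (h₃ : U₂ ≤ f₂ ⁻¹ᵁ V₂)
    (n : ℤ) (H : PCHn n (f₂.appLE V₂ U₂ h₃).hom)
    (e : tT₁ ⁻¹ᵁ V₁ ⊓ tT₂ ⁻¹ᵁ U₂ ≤ b ⁻¹ᵁ (pY₁ ⁻¹ᵁ V₁ ⊓ pY₂ ⁻¹ᵁ V₂)) :
    PCHn n (b.appLE (pY₁ ⁻¹ᵁ V₁ ⊓ pY₂ ⁻¹ᵁ V₂) (tT₁ ⁻¹ᵁ V₁ ⊓ tT₂ ⁻¹ᵁ U₂) e).hom := by
  have h₄ : U₂ ≤ (f₂ ≫ q₂) ⁻¹ᵁ W := fun x hx => h₂ (h₃ hx)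
  -- the two pushout squares of rings
  have PY := (isIso_pushoutSection_iff hY h₂ h₁ rfl).1
    (isIso_pushoutSection_of_isAffineOpen hY h₂ h₁ rfl hW hV₂ hV₁)
  have PT := (isIso_pushoutSection_iff hT h₄ h₁ rfl).1
    (isIso_pushoutSection_of_isAffineOpen hT h₄ h₁ rfl hW hU₂ hV₁)
  have leV₁ : pY₁ ⁻¹ᵁ V₁ ⊓ pY₂ ⁻¹ᵁ V₂ ≤ pY₁ ⁻¹ᵁ V₁ := inf_le_left
  have leV₂ : pY₁ ⁻¹ᵁ V₁ ⊓ pY₂ ⁻¹ᵁ V₂ ≤ pY₂ ⁻¹ᵁ V₂ := inf_le_right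
  have leU₁ : tT₁ ⁻¹ᵁ V₁ ⊓ tT₂ ⁻¹ᵁ U₂ ≤ tT₁ ⁻¹ᵁ V₁ := inf_le_left
  have leU₂ : tT₁ ⁻¹ᵁ V₁ ⊓ tT₂ ⁻¹ᵁ U₂ ≤ tT₂ ⁻¹ᵁ U₂ := inf_le_right
  have hE1 : q₂.appLE W V₂ h₂ ≫ f₂.appLE V₂ U₂ h₃ = (f₂ ≫ q₂).appLE W U₂ h₄ :=
    Scheme.Hom.appLE_comp_appLE ..
  have hE2 : pY₂.appLE V₂ _ leV₂ ≫ b.appLE _ _ e = f₂.appLE V₂ U₂ h₃ ≫ tT₂.appLE U₂ _ leU₂ := by
    rw [Scheme.Hom.appLE_comp_appLE, Scheme.Hom.appLE_comp_appLE, appLE_congr_hom hb₂]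
  have hE3 : pY₁.appLE V₁ _ leV₁ ≫ b.appLE _ _ e = tT₁.appLE V₁ _ leU₁ := by
    rw [Scheme.Hom.appLE_comp_appLE, appLE_congr_hom hb₁]
  have fl₁ : (q₂.appLE W V₂ h₂).hom.Flat := Flat.flat_appLE q₂ hW hV₂ h₂
  have fl₂ : ((f₂.appLE V₂ U₂ h₃).hom.comp (q₂.appLE W V₂ h₂).hom).Flat := by
    have := Flat.flat_appLE (f₂ ≫ q₂) hW hU₂ h₄
    rw [← hE1] at this
    exact this
  refine pchn_of_isPushout (q₁.appLE W V₁ h₁).hom (q₂.appLE W V₂ h₂).hom (f₂.appLE V₂ U₂ h₃).hom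
    (pY₁.appLE V₁ _ leV₁).hom (pY₂.appLE V₂ _ leV₂).hom (tT₁.appLE V₁ _ leU₁).hom
    (tT₂.appLE U₂ _ leU₂).hom (b.appLE _ _ e).hom PY ?_ ?_ ?_ fl₁ fl₂ n H
  · rw [← hE1] at PT
    exact PT
  · exact congr(($hE2).hom)
  · exact congr(($hE3).hom)

lemma isAffineOpen_inf_of_isPullback {X Y S T : Scheme.{u}} {f : T ⟶ S} {g : Y ⟶ X} {iX : X ⟶ S}
    {iY : Y ⟶ T} (H : IsPullback g iY iX f) {US : S.Opens} {UT : T.Opens} {UX : X.Opens}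
    (hUST : UT ≤ f ⁻¹ᵁ US) (hUSX : UX ≤ iX ⁻¹ᵁ US) (hUS : IsAffineOpen US)
    (hUT : IsAffineOpen UT) (hUX : IsAffineOpen UX) : IsAffineOpen (g ⁻¹ᵁ UX ⊓ iY ⁻¹ᵁ UT) := by
  have : IsAffine _ := hUS
  have : IsAffine _ := hUT
  have : IsAffine _ := hUX
  exact .of_isIso (Scheme.Hom.isPullback_resLE H hUST hUSX rfl).isoPullback.hom

include hY hT hb₁ hb₂ in
/-- **tor-independent base change** of `n`-pseudo-coherent morphisms (chart form). -/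
theorem affineLocally_pchn_of_torIndep (n : ℤ) (hf₂ : affineLocally (@PCHn n) f₂) :
    affineLocally (@PCHn n) b := by
  rw [HasRingHomProperty.iff_exists_appLE (P := affineLocally (@PCHn n)) pchn_awaySource]
  intro x
  obtain ⟨W, hW, hxW, -⟩ := exists_isAffineOpen_mem_and_subset (X := S) (x := q₁ (tT₁ x))
    (U := ⊤) trivial
  have hxW' : q₂ (f₂ (tT₂ x)) ∈ W := by
    have := congr($(hT.w) x)
    simp only [Scheme.Hom.comp_apply] at this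
    rw [← this]
    exact hxW
  obtain ⟨V₁, hV₁, hxV₁, h₁⟩ := exists_isAffineOpen_mem_and_subset (X := Y₁) (x := tT₁ x)
    (U := q₁ ⁻¹ᵁ W) hxW
  obtain ⟨V₂, hV₂, hxV₂, h₂⟩ := exists_isAffineOpen_mem_and_subset (X := Y₂) (x := f₂ (tT₂ x))
    (U := q₂ ⁻¹ᵁ W) hxW'
  obtain ⟨U₂, hU₂, hxU₂, h₃⟩ := exists_isAffineOpen_mem_and_subset (X := X₂) (x := tT₂ x)
    (U := f₂ ⁻¹ᵁ V₂) hxV₂
  have h₄ : U₂ ≤ (f₂ ≫ q₂) ⁻¹ᵁ W := fun x hx => h₂ (h₃ hx)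
  have hV : IsAffineOpen (pY₁ ⁻¹ᵁ V₁ ⊓ pY₂ ⁻¹ᵁ V₂) :=
    isAffineOpen_inf_of_isPullback hY h₂ h₁ hW hV₂ hV₁
  have hU : IsAffineOpen (tT₁ ⁻¹ᵁ V₁ ⊓ tT₂ ⁻¹ᵁ U₂) :=
    isAffineOpen_inf_of_isPullback hT h₄ h₁ hW hU₂ hV₁
  have e : tT₁ ⁻¹ᵁ V₁ ⊓ tT₂ ⁻¹ᵁ U₂ ≤ b ⁻¹ᵁ (pY₁ ⁻¹ᵁ V₁ ⊓ pY₂ ⁻¹ᵁ V₂) := by
    rintro y ⟨hy₁, hy₂⟩
    refine ⟨?_, ?_⟩
    · change pY₁ (b y) ∈ V₁
      have := congr($hb₁ y)
      simp only [Scheme.Hom.comp_apply] at this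
      rw [this]
      exact hy₁
    · change pY₂ (b y) ∈ V₂
      have := congr($hb₂ y)
      simp only [Scheme.Hom.comp_apply] at this
      rw [this]
      exact h₃ hy₂
  refine ⟨⟨_, hV⟩, ⟨_, hU⟩, ⟨hxV₁, hxU₂⟩, e, ?_⟩
  have H : PCHn n (f₂.appLE V₂ U₂ h₃).hom :=
    (affineLocally_iff_affineOpens_le (P := @PCHn n) f₂).1 hf₂ ⟨V₂, hV₂⟩ ⟨U₂, hU₂⟩ h₃
  exact pchn_appLE_of_torIndep q₁ q₂ f₂ hY hT b hb₁ hb₂ hW hV₁ h₁ hV₂ h₂ hU₂ h₃ n H e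

end AppLE

end Groth.Agent.Lib.Helper16.TIBC
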