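import Mathlib
import Groth.Prelude.Def_CxOX
import Groth.Prelude.Def_DerSch2
import Groth.Agent.Lib.Helper16.RelDesc3
import Groth.Agent.Lib.Helper16.CI16
import Groth.Agent.Lib.Helper16.CI10
import Groth.Agent.Lib.Helper16.AffRed9
import Groth.Agent.Lib.Helper16.DualSch2
import Groth.Agent.Lib.Helper16.DualSchCM
import Groth.Agent.Lib.Helper16.TildeTor
import Groth.Agent.Lib.Helper16.TIBC2
import Groth.Agent.S0997

/-!
# Helper16 — RelDesc4: descent of relative pseudo-coherence (chart form) along a flat, surjective,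
quasi-compact base change, for objects with quasi-coherent cohomology bounded above.
-/

set_option autoImplicit false
set_option linter.style.haveILetI false
universe u
open CategoryTheory CategoryTheory.Limits AlgebraicGeometry CategoryTheory.Pretriangulated

attribute [local instance] HasDerivedCategory.standard

namespace Groth.Agent.Lib.Helper16.RelDesc

open Groth.Agent.Lib.Helper16.RS DerivedCategory Groth.Agent.Lib.Helper1.LocPC
  Groth.Agent.Lib.Helper16.PC Groth.Agent.Lib.Helper16.CIPC Groth.Agent.Lib.Helper16.AffRed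
  Groth.Agent.Lib.Helper16.RelPC Scheme.Modules Groth.Agent.Lib.Helper16.CI
  Groth.Agent.Lib.Helper16.FlatBC Groth.Agent.Lib.Helper16.KD

section Geom

variable {X' X : Scheme.{u}} (f : X' ⟶ X) [Flat f] [Surjective f] [QuasiCompact f]

/-- over an affine open `U` of the target, the preimage under a flat surjective quasi-compact
morphism is covered by finitely many affine opens whose rings of sections form a faithfully flat
product over `Γ(X, U)`. -/
theorem exists_finite_affine_cover_ff (U : X.Opens) (hU : IsAffineOpen U) :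
    ∃ (ι : Type u) (_ : Finite ι) (W : ι → X'.Opens) (_ : ∀ i, IsAffineOpen (W i))
      (hle : ∀ i, W i ≤ f ⁻¹ᵁ U),
      (RingHom.pi fun i => (f.appLE U (W i) (hle i)).hom).FaithfullyFlat := by
  have hc : IsCompact (f ⁻¹ᵁ U : Set X') := f.isCompact_preimage hU.isCompact
  obtain ⟨Us, hUs, hfin, hsup⟩ := X'.isBasis_affineOpens.exists_finite_of_isCompact hc
  haveI : Finite Us := hfin.to_subtype
  let W : Us → X'.Opens := fun i => i.1
  have hW : ∀ i, IsAffineOpen (W i) := fun i => hUs i.2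
  have hWle : ∀ i, W i ≤ f ⁻¹ᵁ U := fun i => by
    rw [hsup]; exact le_sSup i.2
  refine ⟨Us, inferInstance, W, hW, hWle, ?_⟩
  let R : Us → CommRingCat.{u} := fun i => Γ(X', W i)
  let ψi : ∀ i, Γ(X, U) ⟶ R i := fun i => f.appLE U (W i) (hWle i)
  let ψ : Γ(X, U) ⟶ CommRingCat.of (Π i, R i) :=
    CommRingCat.ofHom (RingHom.pi fun i => (ψi i).hom)
  have hψi : ∀ i, ψ ≫ CommRingCat.ofHom (Pi.evalRingHom (fun i => R i) i) = ψi i := fun i => by
    ext x; rfl
  let g : Spec (CommRingCat.of (Π i, R i)) ⟶ X' :=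
    inv (sigmaSpec R) ≫ Sigma.desc (fun i => (hW i).fromSpec)
  have hgi : ∀ i, Spec.map (CommRingCat.ofHom (Pi.evalRingHom (fun i => R i) i)) ≫ g =
      (hW i).fromSpec := fun i => by
    simp only [g]
    rw [← ι_sigmaSpec, Category.assoc, IsIso.hom_inv_id_assoc, Sigma.ι_desc]
  have hg : g ≫ f = Spec.map ψ ≫ hU.fromSpec := by
    rw [← cancel_epi (sigmaSpec R)]
    apply Sigma.hom_ext
    intro i
    have e1 : Sigma.ι _ i ≫ sigmaSpec R ≫ g ≫ f = (hW i).fromSpec ≫ f := by
      rw [← Category.assoc, ι_sigmaSpec, ← Category.assoc, hgi]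
    have e2 : Sigma.ι _ i ≫ sigmaSpec R ≫ Spec.map ψ ≫ hU.fromSpec =
        Spec.map (ψi i) ≫ hU.fromSpec := by
      rw [← Category.assoc, ι_sigmaSpec, ← Category.assoc, ← Spec.map_comp, hψi]
    rw [e1, e2, IsAffineOpen.SpecMap_appLE_fromSpec]
  change ψ.hom.FaithfullyFlat
  rw [← flat_and_surjective_SpecMap_iff]
  constructor
  · haveI : Flat (Sigma.desc (fun i => (hW i).fromSpec)) := inferInstance
    haveI : Flat g := inferInstance
    haveI : Flat (Spec.map ψ ≫ hU.fromSpec) := by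
      rw [← hg]; infer_instance
    haveI : MorphismProperty.HasOfPostcompProperty (@Flat.{u}) (@IsOpenImmersion.{u}) :=
      instHasOfPostcompPropertySchemeIsOpenImmersionOfIsStableUnderBaseChange _
    exact MorphismProperty.of_postcomp (W := @Flat) (W' := @IsOpenImmersion) (Spec.map ψ)
      hU.fromSpec inferInstance inferInstance
  · constructor
    intro p
    obtain ⟨x', hx'⟩ := (inferInstance : Surjective f).surj (hU.fromSpec p)
    have hx'U : x' ∈ f ⁻¹ᵁ U := by
      change f x' ∈ (U : Set X)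
      rw [hx', ← hU.range_fromSpec]
      exact Set.mem_range_self p
    rw [hsup] at hx'U
    obtain ⟨W₀, hW₀mem, hxW₀⟩ := TopologicalSpace.Opens.mem_sSup.1 hx'U
    let i : Us := ⟨W₀, hW₀mem⟩
    have hxr : x' ∈ Set.range (hW i).fromSpec := by
      rw [(hW i).range_fromSpec]; exact hxW₀
    obtain ⟨q, hq⟩ := hxr
    refine ⟨(Spec.map (CommRingCat.ofHom (Pi.evalRingHom (fun i => R i) i))) q, ?_⟩
    apply hU.fromSpec.isOpenEmbedding.injective
    rw [← hx', ← hq, ← hgi i]
    change (Spec.map ψ ≫ hU.fromSpec) _ = f ((Spec.map _ ≫ g) q)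
    rw [← hg]
    rfl

end Geom

section Chart

variable {X Y : Scheme.{u}}

/-- the chart test as ring-level relative pseudo-coherence of a module complex `M` with
`M~ ≅ E|_{Spec Γ(X, U)}`. -/
theorem chartPC_iff_rel_of_tildeD_iso (f : X ⟶ Y) (m : ℤ) (E : DCoh.D X) {U : X.Opens}
    (hU : IsAffineOpen U) {V : Y.Opens} (hUV : U ≤ f ⁻¹ᵁ V) {n : ℕ}
    (φ : MvPolynomial (Fin n) Γ(Y, V) →+* Γ(X, U)) (hφ : DerSch.IsChart f U V hUV φ)
    (M : Dual.D Γ(X, U))
    (eM : (DCoh.tildeD (X.presheaf.obj (Opposite.op U))).obj M ≅ KU hU E) :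
    DerSch.ChartPC m E U V φ ↔
      (letI := (f.appLE V U hUV).hom.toAlgebra
       DerCA.IsRelPseudoCoherent Γ(Y, V) Γ(X, U) m M) := by
  let G := Q.objPreimage E
  let eG : DCoh.toD X G ≅ E := Q.objObjPreimageIso E
  obtain ⟨e1⟩ := nonempty_toD_pushCx_isoSpec_iso hU E G eG
  exact chartPC_iff_isRelPseudoCoherent f m E hU hUV φ hφ G eG M (eM ≪≫ e1.symm)

/-- the module complex of `Lg^* E` on an affine open `U' ⊆ g⁻¹ U`, for flat `Γ(X, U) → Γ(X', U')`. -/
theorem nonempty_tildeD_iso_KU_Lpull {X' : Scheme.{u}} (g : X' ⟶ X) [DCoh.HasLpull g]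
    (E : DCoh.D X) {U : X.Opens} (hU : IsAffineOpen U) {U' : X'.Opens} (hU' : IsAffineOpen U')
    (hle : U' ≤ g ⁻¹ᵁ U) (hfl : (g.appLE U U' hle).hom.Flat) (M : Dual.D Γ(X, U))
    (eM : (DCoh.tildeD (X.presheaf.obj (Opposite.op U))).obj M ≅ KU hU E)
    [DRing.HasLBaseChange (g.appLE U U' hle).hom] :
    Nonempty ((DCoh.tildeD (X'.presheaf.obj (Opposite.op U'))).obj
        ((DRing.LBaseChange (g.appLE U U' hle).hom).obj M) ≅
      KU hU' ((DCoh.Lpull g).obj E)) := by
  letI : Algebra Γ(X, U) Γ(X', U') := (g.appLE U U' hle).hom.toAlgebra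
  haveI : Module.Flat Γ(X, U) Γ(X', U') := hfl
  have hg : hU'.fromSpec ≫ g =
      Spec.map (CommRingCat.ofHom (algebraMap Γ(X, U) Γ(X', U'))) ≫ hU.fromSpec :=
    (IsAffineOpen.SpecMap_appLE_fromSpec g hU hU' hle).symm
  obtain ⟨e⟩ := Groth.Agent.Lib.Helper16.DualSch.nonempty_RD_Lpull_chart_iso
    (A := Γ(X, U)) (B := Γ(X', U')) g E hU'.fromSpec hU.fromSpec hg M eM.symm
  obtain ⟨e8⟩ := nonempty_LBaseChange_iso_ε (algebraMap Γ(X, U) Γ(X', U')) M
  exact ⟨(DCoh.tildeD (X'.presheaf.obj (Opposite.op U'))).mapIso e8 ≪≫ e.symm⟩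

end Chart

end Groth.Agent.Lib.Helper16.RelDesc
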