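import Mathlib
import Groth.Agent.Lib.Helper16.RelDesc4

/-!
# Helper16 — RelDesc5: descent of relative pseudo-coherence (chart form) along a flat, surjective,
quasi-compact base change: the main theorem.
-/

set_option autoImplicit false
set_option linter.style.haveILetI false
universe u
open CategoryTheory CategoryTheory.Limits AlgebraicGeometry CategoryTheory.Pretriangulated

attribute [local instance] HasDerivedCategory.standard

namespace Groth.Agent.Lib.Helper16.RelDesc

open Groth.Agent.Lib.Helper16.RS DerivedCategory Groth.Agent.Lib.Helper1.LocPC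
  Groth.Agent.Lib.Helper16.PC Groth.Agent.Lib.Helper16.CIPC Groth.Agent.Lib.Helper16.AffRed
  Groth.Agent.Lib.Helper16.RelPC Scheme.Modules Groth.Agent.Lib.Helper16.CI
  Groth.Agent.Lib.Helper16.FlatBC Groth.Agent.Lib.Helper16.KD Groth.Agent.Lib.Helper16.TIBC
  Groth.Agent.Lib.Helper16.DualSchCM Groth.Agent.Lib.Helper16.TildeTor

/-- `M` is bounded above when `M~` is. -/
theorem isLE_of_tildeD_isLE (R : CommRingCat.{u}) (M : Dual.D R) (b : ℤ)
    (h : ((DCoh.tildeD R).obj M).IsLE b) : M.IsLE b := by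
  rw [isLE_iff]
  intro i hi
  obtain ⟨e1⟩ := nonempty_HD_tildeD_iso R M i
  have hz : IsZero (DCoh.HD ((DCoh.tildeD R).obj M) i) :=
    DerivedCategory.isZero_of_isLE _ b i hi
  exact isZero_of_isZero_tilde R _ (hz.of_iso e1.symm)

variable {X Y Y' : Scheme.{u}}

/-- **fpqc descent of relative pseudo-coherence** (chart form) for objects with quasi-coherent
cohomology bounded above. -/
theorem isPseudoCoherentRel_of_Lpull_ff (f : X ⟶ Y) [LocallyOfFiniteType f]
    (h : Y' ⟶ Y) [Flat h] [Surjective h] [QuasiCompact h] [DCoh.HasLpull (pullback.fst f h)]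
    (n b : ℤ) (E : DCoh.D X) (hEb : E.IsLE b) (hq : DCoh.IsQCohD E)
    (hE : DerSch.IsPseudoCoherentRel (pullback.snd f h) n
      ((DCoh.Lpull (pullback.fst f h)).obj E)) :
    DerSch.IsPseudoCoherentRel f n E := by
  refine isPseudoCoherentRel_of_forall f n E (fun U V hUV => ?_)
  have hU : IsAffineOpen (U : X.Opens) := U.2
  have hV : IsAffineOpen (V : Y.Opens) := V.2
  obtain ⟨k, φ, hφ⟩ := exists_isChart f hU hV hUV
  refine ⟨k, φ, hφ, ?_⟩
  have hqU : DCoh.IsQCohD (KU hU E) := isQCohD_RD _ E hq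
  obtain ⟨M, ⟨eM⟩⟩ := ((Groth.Agent.S0997.result Γ(X, (U : X.Opens))).2.2 _).1 hqU
  rw [chartPC_iff_rel_of_tildeD_iso f n E hU hUV φ hφ M eM]
  -- `M` is bounded above
  have hMb : M.IsLE b := by
    apply isLE_of_tildeD_isLE Γ(X, (U : X.Opens)) M b
    haveI : (KU hU E).IsLE b := map_isLE (Scheme.Modules.restrictFunctor hU.fromSpec) E b hEb
    exact (TStructure.t).isLE_of_iso eM.symm b
  obtain ⟨ι, hι, W, hW, hWle, hff⟩ := exists_finite_affine_cover_ff h (V : Y.Opens) hV
  have H : IsPullback (pullback.fst f h) (pullback.snd f h) f h := IsPullback.of_hasPullback f h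
  let U' : ι → (pullback f h).Opens := fun i =>
    (pullback.fst f h) ⁻¹ᵁ (U : X.Opens) ⊓ (pullback.snd f h) ⁻¹ᵁ (W i)
  have hU' : ∀ i, IsAffineOpen (U' i) := fun i =>
    isAffineOpen_inf_of_isPullback H (hWle i) hUV hV (hW i) hU
  have le1 : ∀ i, U' i ≤ (pullback.fst f h) ⁻¹ᵁ (U : X.Opens) := fun i => inf_le_left
  have le2 : ∀ i, U' i ≤ (pullback.snd f h) ⁻¹ᵁ (W i) := fun i => inf_le_right
  have PO : ∀ i, IsPushout (f.appLE (V : Y.Opens) (U : X.Opens) hUV)
      (h.appLE (V : Y.Opens) (W i) (hWle i))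
      ((pullback.fst f h).appLE (U : X.Opens) (U' i) (le1 i))
      ((pullback.snd f h).appLE (W i) (U' i) (le2 i)) := fun i =>
    (isIso_pushoutSection_iff H (hWle i) hUV rfl).1
      (isIso_pushoutSection_of_isAffineOpen H (hWle i) hUV rfl hV (hW i) hU)
  haveI : ∀ i, DRing.HasLBaseChange ((pullback.fst f h).appLE (U : X.Opens) (U' i) (le1 i)).hom :=
    fun i => Groth.Agent.Lib.Helper16.DRE.hasLBaseChange _
  have hft : (f.appLE (V : Y.Opens) (U : X.Opens) hUV).hom.FiniteType :=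
    LocallyOfFiniteType.finiteType_appLE f hV hU hUV
  refine rel_of_family (fun i => Γ(Y', W i)) (fun i => Γ(pullback f h, U' i))
    (f.appLE (V : Y.Opens) (U : X.Opens) hUV).hom hft
    (fun i => (h.appLE (V : Y.Opens) (W i) (hWle i)).hom)
    (fun i => ((pullback.fst f h).appLE (U : X.Opens) (U' i) (le1 i)).hom)
    (fun i => ((pullback.snd f h).appLE (W i) (U' i) (le2 i)).hom) PO
    (fun i => Flat.flat_appLE h hV (hW i) (hWle i)) hff M b hMb n (fun i => ?_)
  have hfl : ((pullback.fst f h).appLE (U : X.Opens) (U' i) (le1 i)).hom.Flat :=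
    Flat.flat_appLE (pullback.fst f h) hU (hU' i) (le1 i)
  obtain ⟨eM'⟩ := nonempty_tildeD_iso_KU_Lpull (pullback.fst f h) E hU (hU' i) (le1 i) hfl M eM
  obtain ⟨k', φ', hφ'⟩ := exists_isChart (pullback.snd f h) (hU' i) (hW i) (le2 i)
  have hc := chartPC_of_isPseudoCoherentRel (pullback.snd f h) n _ hE (hU' i) (hW i) (le2 i) φ' hφ'
  exact (chartPC_iff_rel_of_tildeD_iso (pullback.snd f h) n _ (hU' i) (le2 i) φ' hφ' _ eM').1 hc

end Groth.Agent.Lib.Helper16.RelDesc
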