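import Groth.Agent.Lib.Helper17.CohKer
import Groth.Agent.Lib.Helper16.DCoprodW
import Groth.Prelude.Def_DCoh2
import Groth.Agent.Lib.Helper8.SheafModGroth

/-!
# Helper16 — QCohSigma: coproducts of quasi-coherent modules are quasi-coherent;
`D_QCoh` is closed under coproducts.
-/
set_option backward.isDefEq.respectTransparency.types false
set_option autoImplicit false
universe u
open CategoryTheory CategoryTheory.Limits AlgebraicGeometry Opposite TopologicalSpace

attribute [local instance] HasDerivedCategory.standard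

namespace Groth.Agent.Lib.Helper16.QCohSigma

open Groth.Agent.Lib.Helper17.CohKer

section spec
variable {R : CommRingCat.{u}}

theorem isQuasicoherent_sigma_spec {ι : Type u} (F : ι → (Spec R).Modules)
    [∀ i, (F i).IsQuasicoherent] : (∐ F).IsQuasicoherent := by
  have hiso : ∀ i, IsIso (F i).fromTildeΓ := fun i =>
    (isQuasicoherent_iff_isIso_fromTildeΓ (F i)).1 inferInstance
  let e : ∀ i, (tilde.functor R).obj (moduleSpecΓFunctor.obj (F i)) ≅ F i :=
    fun i => @asIso _ _ _ _ (F i).fromTildeΓ (hiso i)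
  rw [isQuasicoherent_iff_isIso_fromTildeΓ, isIso_fromTildeΓ_iff]
  exact ⟨∐ fun i => moduleSpecΓFunctor.obj (F i),
    ⟨(PreservesCoproduct.iso (tilde.functor R) _) ≪≫ Sigma.mapIso e⟩⟩

end spec

variable {X : Scheme.{u}}

theorem isQuasicoherent_sigma {ι : Type u} (F : ι → X.Modules)
    [∀ i, (F i).IsQuasicoherent] : (∐ F).IsQuasicoherent := by
  refine isQuasicoherent_of_restrict_fromSpec _ (fun U : X.affineOpens => U.1)
    (iSup_affineOpens_eq_top X) (fun U => U.2) (fun U => ?_)
  let Rj := Scheme.Modules.restrictFunctor U.2.fromSpec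
  haveI : PreservesColimitsOfSize.{u, u} Rj := inferInstance
  haveI : ∀ i, (Rj.obj (F i)).IsQuasicoherent := fun i => inferInstance
  exact (SheafOfModules.isQuasicoherent.{u} (Spec Γ(X, U.1)).ringCatSheaf).prop_of_iso
    (PreservesCoproduct.iso Rj F).symm (isQuasicoherent_sigma_spec (fun i => Rj.obj (F i)))

end Groth.Agent.Lib.Helper16.QCohSigma

namespace Groth.Agent.Lib.Helper16.QCohSigma

open Groth.Agent.Lib.Helper16.DCoprodW DerivedCategory

variable {X : Scheme.{u}}

/-- the cohomology sheaves of a coproduct in `D(O_X)` are the coproducts of the cohomology sheaves -/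
noncomputable def hdSigmaIso {ι : Type u} (K : ι → DCoh.D X) [HasCoproduct K] (n : ℤ) :
    DCoh.HD (∐ K) n ≅ ∐ fun j => DCoh.HD (K j) n := by
  haveI : IsGrothendieckAbelian.{u} X.Modules :=
    Groth.Agent.Lib.Helper8.SheafModGroth.main _ X.ringCatSheaf
  let H := HomologicalComplex.homologyFunctor X.Modules (ComplexShape.up ℤ) n
  let e1 : (∐ K) ≅ Q.obj (∐ rep K) :=
    (coproductIsCoproduct K).coconePointUniqueUpToIso (isColimitCofan K)
  let e2 : DCoh.HD (Q.obj (∐ rep K)) n ≅ H.obj (∐ rep K) :=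
    (homologyFunctorFactors X.Modules n).app _
  let e3 : H.obj (∐ rep K) ≅ ∐ fun j => H.obj (rep K j) :=
    PreservesCoproduct.iso H (rep K)
  let e4 : ∀ j, H.obj (rep K j) ≅ DCoh.HD (K j) n := fun j =>
    ((homologyFunctorFactors X.Modules n).app _).symm ≪≫
      (DerivedCategory.homologyFunctor X.Modules n).mapIso (repIso K j)
  exact (DerivedCategory.homologyFunctor X.Modules n).mapIso e1 ≪≫ e2 ≪≫ e3 ≪≫ Sigma.mapIso e4

theorem isQCohD_sigma {ι : Type u} (K : ι → DCoh.D X) (hK : ∀ i, DCoh.IsQCohD (K i))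
    [HasCoproduct K] : DCoh.IsQCohD (∐ K) := by
  intro n
  haveI : ∀ j, (DCoh.HD (K j) n).IsQuasicoherent := fun j => hK j n
  exact (SheafOfModules.isQuasicoherent.{u} X.ringCatSheaf).prop_of_iso
    (hdSigmaIso K n).symm (isQuasicoherent_sigma (fun j => DCoh.HD (K j) n))

end Groth.Agent.Lib.Helper16.QCohSigma
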