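import Mathlib
import Groth.Prelude.Def_DTor2
import Groth.Agent.Lib.Helper16.KD9

/-!
# Helper16 — KD10: `- ⊗^L G` and distinguished triangles
-/

set_option autoImplicit false
universe u
open CategoryTheory CategoryTheory.Limits AlgebraicGeometry MonoidalCategory
  CategoryTheory.Pretriangulated

attribute [local instance] HasDerivedCategory.standard

namespace Groth.Agent.Lib.Helper16.KD

open Groth.Agent.Lib.Helper16.BiCx Groth.Agent.Lib.Helper16.Stk CochainComplex

variable {X : Scheme.{u}}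

/-- quasi-isomorphisms on source and target induce an isomorphism on mapping cones in the
derived category. -/
lemma isIso_Q_map_mappingCone_map {K₁ L₁ K₂ L₂ : CochainComplex X.Modules ℤ} (φ₁ : K₁ ⟶ L₁)
    (φ₂ : K₂ ⟶ L₂) (a : K₁ ⟶ K₂) (b : L₁ ⟶ L₂) (comm : φ₁ ≫ b = a ≫ φ₂) [QuasiIso a]
    [QuasiIso b] : IsIso (DerivedCategory.Q.map (mappingCone.map φ₁ φ₂ a b comm)) := by
  let τ : DerivedCategory.Q.mapTriangle.obj (mappingCone.triangle φ₁) ⟶
      DerivedCategory.Q.mapTriangle.obj (mappingCone.triangle φ₂) :=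
    DerivedCategory.Q.mapTriangle.map (mappingCone.triangleMap φ₁ φ₂ a b comm)
  haveI : IsIso τ.hom₁ := inferInstanceAs (IsIso (DerivedCategory.Q.map a))
  haveI : IsIso τ.hom₂ := inferInstanceAs (IsIso (DerivedCategory.Q.map b))
  exact isIso₃_of_isIso₁₂ τ (DerivedCategory.mappingCone_triangle_distinguished φ₁)
    (DerivedCategory.mappingCone_triangle_distinguished φ₂) inferInstance inferInstance

/-- **`- ⊗^L G` sends a distinguished triangle to (the vertices of) a distinguished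
triangle.** -/
theorem exists_distinguished_LTensorMod (T : Triangle (DCoh.D X)) (hT : T ∈ distTriang (DCoh.D X))
    (G : X.Modules) [DCoh.HasLTensorMod G] :
    ∃ T' : Triangle (DCoh.D X), T' ∈ distTriang (DCoh.D X) ∧
      Nonempty (T'.obj₁ ≅ (DCoh.LTensorMod G).obj T.obj₁) ∧
      Nonempty (T'.obj₂ ≅ (DCoh.LTensorMod G).obj T.obj₂) ∧
      Nonempty (T'.obj₃ ≅ (DCoh.LTensorMod G).obj T.obj₃) := by
  obtain ⟨K, L, φ, ⟨e⟩⟩ := (DerivedCategory.mem_distTriang_iff T).1 hT
  obtain ⟨P, ψ, hP⟩ := exists_functorial_kFlat_resolution X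
  have hK := (hP K).1
  have hL := (hP L).1
  haveI : QuasiIso (ψ.app K) := (hP K).2.2.1
  haveI : QuasiIso (ψ.app L) := (hP L).2.2.1
  let φ' : P.obj K ⟶ P.obj L := P.map φ
  have comm : φ' ≫ ψ.app L = ψ.app K ≫ φ := ψ.naturality φ
  have hC : DCoh.IsKFlat (mappingCone φ') :=
    (dcoh_isKFlat_mappingCone_two_out_of_three φ').1 hK hL
  haveI := isIso_Q_map_mappingCone_map φ' φ (ψ.app K) (ψ.app L) comm
  let e₁ : T.obj₁ ≅ DerivedCategory.Q.obj K := (Triangle.π₁).mapIso e
  let e₂ : T.obj₂ ≅ DerivedCategory.Q.obj L := (Triangle.π₂).mapIso e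
  let e₃ : T.obj₃ ≅ DerivedCategory.Q.obj (mappingCone φ) := (Triangle.π₃).mapIso e
  refine ⟨DerivedCategory.Q.mapTriangle.obj (mappingCone.triangle ((tensModCx G).map φ')),
    DerivedCategory.mappingCone_triangle_distinguished _, ⟨?_⟩, ⟨?_⟩, ⟨?_⟩⟩
  · exact (LTensorModIso G (P.obj K) hK).symm ≪≫
      (DCoh.LTensorMod G).mapIso (asIso (DerivedCategory.Q.map (ψ.app K)) ≪≫ e₁.symm)
  · exact (LTensorModIso G (P.obj L) hL).symm ≪≫
      (DCoh.LTensorMod G).mapIso (asIso (DerivedCategory.Q.map (ψ.app L)) ≪≫ e₂.symm)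
  · exact DerivedCategory.Q.mapIso
        (mappingCone.mapHomologicalComplexIso φ' (DCoh.tensorRightMod G)).symm ≪≫
      (LTensorModIso G (mappingCone φ') hC).symm ≪≫
      (DCoh.LTensorMod G).mapIso
        (asIso (DerivedCategory.Q.map (mappingCone.map φ' φ (ψ.app K) (ψ.app L) comm)) ≪≫
          e₃.symm)

end Groth.Agent.Lib.Helper16.KD
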