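import Mathlib
import Groth.Prelude.Def_DTor2
import Groth.Agent.Lib.Helper16.KD10

/-!
# Helper16 — KD11: tor-amplitude and distinguished triangles
-/

set_option autoImplicit false
universe u
open CategoryTheory CategoryTheory.Limits AlgebraicGeometry MonoidalCategory
  CategoryTheory.Pretriangulated

attribute [local instance] HasDerivedCategory.standard

namespace Groth.Agent.Lib.Helper16.KD

open Groth.Agent.Lib.Helper16.BiCx Groth.Agent.Lib.Helper16.Stk CochainComplex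

variable {X : Scheme.{u}}

lemma isZero_HD_of_iso {K L : DCoh.D X} (e : K ≅ L) (i : ℤ) (h : IsZero (DCoh.HD K i)) :
    IsZero (DCoh.HD L i) :=
  IsZero.of_iso h ((DerivedCategory.homologyFunctor X.Modules i).mapIso e.symm)

/-- middle vertex: `H^i(obj₁) = 0 = H^i(obj₃)` gives `H^i(obj₂) = 0`. -/
lemma isZero_HD_obj₂ (T : Triangle (DCoh.D X)) (hT : T ∈ distTriang (DCoh.D X)) (i : ℤ)
    (h₁ : IsZero (DCoh.HD T.obj₁ i)) (h₃ : IsZero (DCoh.HD T.obj₃ i)) :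
    IsZero (DCoh.HD T.obj₂ i) :=
  (DerivedCategory.HomologySequence.exact₂ T hT i).isZero_X₂ (h₁.eq_of_src _ _) (h₃.eq_of_tgt _ _)

/-- third vertex: `H^i(obj₂) = 0 = H^{i+1}(obj₁)` gives `H^i(obj₃) = 0`. -/
lemma isZero_HD_obj₃ (T : Triangle (DCoh.D X)) (hT : T ∈ distTriang (DCoh.D X)) (i : ℤ)
    (h₂ : IsZero (DCoh.HD T.obj₂ i)) (h₁ : IsZero (DCoh.HD T.obj₁ (i + 1))) :
    IsZero (DCoh.HD T.obj₃ i) :=
  (DerivedCategory.HomologySequence.exact₃ T hT i (i + 1) rfl).isZero_X₂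
    (h₂.eq_of_src _ _) (h₁.eq_of_tgt _ _)

/-- first vertex: `H^{i-1}(obj₃) = 0 = H^i(obj₂)` gives `H^i(obj₁) = 0`. -/
lemma isZero_HD_obj₁ (T : Triangle (DCoh.D X)) (hT : T ∈ distTriang (DCoh.D X)) (i : ℤ)
    (h₃ : IsZero (DCoh.HD T.obj₃ (i - 1))) (h₂ : IsZero (DCoh.HD T.obj₂ i)) :
    IsZero (DCoh.HD T.obj₁ i) :=
  (DerivedCategory.HomologySequence.exact₁ T hT (i - 1) i (by omega)).isZero_X₂
    (h₃.eq_of_src _ _) (h₂.eq_of_tgt _ _)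

/-- **tor-amplitude and distinguished triangles (tor-amplitude hypotheses).** -/
theorem torAmplitude_triangle' (T : Triangle (DCoh.D X)) (hT : T ∈ distTriang (DCoh.D X))
    (a b : ℤ) :
    (DCoh.HasTorAmplitudeIn (a + 1) (b + 1) T.obj₁ → DCoh.HasTorAmplitudeIn a b T.obj₂ →
      DCoh.HasTorAmplitudeIn a b T.obj₃) ∧
    (DCoh.HasTorAmplitudeIn a b T.obj₁ → DCoh.HasTorAmplitudeIn a b T.obj₃ →
      DCoh.HasTorAmplitudeIn a b T.obj₂) ∧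
    (DCoh.HasTorAmplitudeIn (a + 1) (b + 1) T.obj₂ → DCoh.HasTorAmplitudeIn a b T.obj₃ →
      DCoh.HasTorAmplitudeIn (a + 1) (b + 1) T.obj₁) := by
  refine ⟨?_, ?_, ?_⟩
  · intro h₁ h₂ G _ i hi
    obtain ⟨T', hT', ⟨e₁⟩, ⟨e₂⟩, ⟨e₃⟩⟩ := exists_distinguished_LTensorMod T hT G
    refine isZero_HD_of_iso e₃ i (isZero_HD_obj₃ T' hT' i ?_ ?_)
    · exact isZero_HD_of_iso e₂.symm i (h₂ G i hi)
    · exact isZero_HD_of_iso e₁.symm (i + 1) (h₁ G (i + 1) (by omega))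
  · intro h₁ h₃ G _ i hi
    obtain ⟨T', hT', ⟨e₁⟩, ⟨e₂⟩, ⟨e₃⟩⟩ := exists_distinguished_LTensorMod T hT G
    refine isZero_HD_of_iso e₂ i (isZero_HD_obj₂ T' hT' i ?_ ?_)
    · exact isZero_HD_of_iso e₁.symm i (h₁ G i hi)
    · exact isZero_HD_of_iso e₃.symm i (h₃ G i hi)
  · intro h₂ h₃ G _ i hi
    obtain ⟨T', hT', ⟨e₁⟩, ⟨e₂⟩, ⟨e₃⟩⟩ := exists_distinguished_LTensorMod T hT G
    refine isZero_HD_of_iso e₁ i (isZero_HD_obj₁ T' hT' i ?_ ?_)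
    · exact isZero_HD_of_iso e₃.symm (i - 1) (h₃ G (i - 1) (by omega))
    · exact isZero_HD_of_iso e₂.symm i (h₂ G i hi)

/-- **tor-amplitude and distinguished triangles (flat-amplitude hypotheses).** -/
theorem torAmplitude_triangle (T : Triangle (DCoh.D X)) (hT : T ∈ distTriang (DCoh.D X))
    (a b : ℤ) :
    (DCoh.HasFlatAmplitudeIn (a + 1) (b + 1) T.obj₁ → DCoh.HasFlatAmplitudeIn a b T.obj₂ →
      DCoh.HasTorAmplitudeIn a b T.obj₃) ∧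
    (DCoh.HasFlatAmplitudeIn a b T.obj₁ → DCoh.HasFlatAmplitudeIn a b T.obj₃ →
      DCoh.HasTorAmplitudeIn a b T.obj₂) ∧
    (DCoh.HasFlatAmplitudeIn (a + 1) (b + 1) T.obj₂ → DCoh.HasFlatAmplitudeIn a b T.obj₃ →
      DCoh.HasTorAmplitudeIn (a + 1) (b + 1) T.obj₁) := by
  obtain ⟨p₁, p₂, p₃⟩ := torAmplitude_triangle' T hT a b
  exact ⟨fun h₁ h₂ => p₁ (hasTorAmplitudeIn_of_hasFlatAmplitudeIn _ _ h₁)
      (hasTorAmplitudeIn_of_hasFlatAmplitudeIn _ _ h₂),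
    fun h₁ h₃ => p₂ (hasTorAmplitudeIn_of_hasFlatAmplitudeIn _ _ h₁)
      (hasTorAmplitudeIn_of_hasFlatAmplitudeIn _ _ h₃),
    fun h₂ h₃ => p₃ (hasTorAmplitudeIn_of_hasFlatAmplitudeIn _ _ h₂)
      (hasTorAmplitudeIn_of_hasFlatAmplitudeIn _ _ h₃)⟩

end Groth.Agent.Lib.Helper16.KD
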