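import Mathlib
import Groth.Prelude.Def_DCoh4
import Groth.Agent.Lib.Helper16.KD11
import Groth.Agent.Lib.Helper16.Sky6

/-!
# Helper16 — KD12: `- ⊗^L E` for a complex `E`: existence and values on K-flat complexes
-/

set_option autoImplicit false
universe u
open CategoryTheory CategoryTheory.Limits AlgebraicGeometry MonoidalCategory

attribute [local instance] HasDerivedCategory.standard

namespace Groth.Agent.Lib.Helper16.KD

open Groth.Agent.Lib.Helper16.BiCx Groth.Agent.Lib.Helper16.Stk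

variable {X : Scheme.{u}}

/-- **an acyclic K-flat complex tensored (on the right) with any complex is acyclic.** -/
theorem acyc_tensor_left_of_acyc_of_isKFlat (C : CochainComplex X.Modules ℤ) (hC : Acyc C)
    (hK : DCoh.IsKFlat C) (E : CochainComplex X.Modules ℤ) :
    Acyc (T (DCoh.tensorBi (X := X)) C E) := by
  rw [acyc_iff_forall_stalk]
  intro x
  have hCx : Acyc (stkCx x C) := (acyc_iff_forall_stalk C).1 hC x
  have hKx := stalk_isKFlat_of_isKFlat x C hK
  exact Acyc.of_iso (Acyc.of_iso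
    (ring_acyc_tensor_of_acyc_of_isKFlat (stkCx x C) hCx hKx (stkCx x E))
    (DTen.braidCx _ _)) (stalkTensorCxIso x C E)

/-- **a quasi-isomorphism between K-flat complexes remains a quasi-isomorphism after tensoring
(on the right) with any complex.** -/
theorem quasiIso_mapL_of_isKFlat_of_isKFlat {P Q : CochainComplex X.Modules ℤ} (α : P ⟶ Q)
    [QuasiIso α] (hP : DCoh.IsKFlat P) (hQ : DCoh.IsKFlat Q) (E : CochainComplex X.Modules ℤ) :
    QuasiIso (mapL (DCoh.tensorBi (X := X)) α E) :=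
  quasiIso_map_of_acyc_cylSC (funL (DCoh.tensorBi (X := X)) E)
    (fun e => (funLHomotopyEquiv (DCoh.tensorBi (X := X)) e E).quasiIso_hom)
    (fun _ hS => shortExact_funL_of_dSplit (DCoh.tensorBi (X := X)) hS E) α
    (acyc_tensor_left_of_acyc_of_isKFlat _ (acyc_cylSC_X₃ α)
      (isKFlatR_cylSC_X₃ (DCoh.tensorBi (X := X)) α hP hQ) E)

variable (E : CochainComplex X.Modules ℤ)

lemma invertsKFlat_tensorCxQ : InvertsKFlat (DCoh.tensorCxQ E) := by
  intro P P' s hP hP' hs
  haveI := hs
  haveI : QuasiIso (mapL (DCoh.tensorBi (X := X)) s E) :=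
    quasiIso_mapL_of_isKFlat_of_isKFlat s hP hP' E
  exact inferInstanceAs (IsIso (DerivedCategory.Q.map (mapL (DCoh.tensorBi (X := X)) s E)))

/-- **`- ⊗^L E` exists.** -/
theorem hasLTensorCx : DCoh.HasLTensorCx E := hasLeftDerivedFunctor (invertsKFlat_tensorCxQ E)

variable [DCoh.HasLTensorCx E]

/-- the counit of `- ⊗^L E`. -/
noncomputable abbrev LTensorCxCounit : DerivedCategory.Q ⋙ DCoh.LTensorCx E ⟶ DCoh.tensorCxQ E :=
  (DCoh.tensorCxQ E).totalLeftDerivedCounit DerivedCategory.Q (qis X)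

lemma isIso_LTensorCxCounit_app (P : CochainComplex X.Modules ℤ) (hP : DCoh.IsKFlat P) :
    IsIso ((LTensorCxCounit E).app P) :=
  isIso_app_of_isKFlat (invertsKFlat_tensorCxQ E) (LTensorCxCounit E) P hP

/-- **`P ⊗^L E` is the total tensor product for K-flat `P`.** -/
noncomputable def LTensorCxIso (P : CochainComplex X.Modules ℤ) (hP : DCoh.IsKFlat P) :
    (DCoh.LTensorCx E).obj (DerivedCategory.Q.obj P) ≅
      DerivedCategory.Q.obj ((DCoh.tensorCx.obj P).obj E) :=
  @asIso _ _ _ _ ((LTensorCxCounit E).app P) (isIso_LTensorCxCounit_app E P hP)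

/-- if `E` is K-flat, the counit of `- ⊗^L E` is an isomorphism everywhere. -/
lemma isIso_LTensorCxCounit_app_of_isKFlat (hE : DCoh.IsKFlat E) (K : CochainComplex X.Modules ℤ) :
    IsIso ((LTensorCxCounit E).app K) := by
  obtain ⟨P, ψ, hP⟩ := exists_functorial_kFlat_resolution X
  haveI : QuasiIso (ψ.app K) := (hP K).2.2.1
  haveI : IsIso (DerivedCategory.Q.map (ψ.app K)) := inferInstance
  haveI : QuasiIso (mapL (DCoh.tensorBi (X := X)) (ψ.app K) E) :=
    dcoh_quasiIso_mapL_of_isKFlat hE (ψ.app K)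
  haveI : IsIso ((DCoh.tensorCxQ E).map (ψ.app K)) :=
    inferInstanceAs (IsIso (DerivedCategory.Q.map (mapL (DCoh.tensorBi (X := X)) (ψ.app K) E)))
  haveI := isIso_LTensorCxCounit_app E (P.obj K) (hP K).1
  haveI : IsIso ((DerivedCategory.Q ⋙ DCoh.LTensorCx E).map (ψ.app K)) :=
    inferInstanceAs (IsIso ((DCoh.LTensorCx E).map (DerivedCategory.Q.map (ψ.app K))))
  have nat := (LTensorCxCounit E).naturality (ψ.app K)
  have : (LTensorCxCounit E).app K =
      inv ((DerivedCategory.Q ⋙ DCoh.LTensorCx E).map (ψ.app K)) ≫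
        (LTensorCxCounit E).app (P.obj K) ≫ (DCoh.tensorCxQ E).map (ψ.app K) := by
    rw [IsIso.eq_inv_comp]; exact nat
  rw [this]
  infer_instance

/-- **`K ⊗^L E` is the total tensor product for K-flat `E`.** -/
noncomputable def LTensorCxIso' (hE : DCoh.IsKFlat E) (K : CochainComplex X.Modules ℤ) :
    (DCoh.LTensorCx E).obj (DerivedCategory.Q.obj K) ≅
      DerivedCategory.Q.obj ((DCoh.tensorCx.obj K).obj E) :=
  @asIso _ _ _ _ ((LTensorCxCounit E).app K) (isIso_LTensorCxCounit_app_of_isKFlat E hE K)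

end Groth.Agent.Lib.Helper16.KD
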