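import Groth.Agent.Lib.Helper16.RM3
import Groth.Agent.Lib.Helper16.BiCx7
import Groth.Agent.Lib.Helper16.RS7
import Groth.Agent.Lib.Helper16.KD12

/-!
# Restriction of complexes to an open subscheme commutes with the tensor product of complexes;
the tensor product of complexes on the derived category
-/

set_option autoImplicit false
universe u
open CategoryTheory CategoryTheory.Limits MonoidalCategory AlgebraicGeometry

attribute [local instance] HasDerivedCategory.standard

namespace Groth.Agent.Lib.Helper16.RM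

open Groth.Agent.Lib.Helper16.BiCx Groth.Agent.Lib.Helper16.RS Groth.Agent.Lib.Helper16.Stk
  Groth.Agent.Lib.Helper16.KD

variable {V X : Scheme.{u}} (j : V ⟶ X) [IsOpenImmersion j]

/-- **restriction to an open subscheme commutes with the tensor product of complexes.** -/
noncomputable def tensorRCxIso (L K : CochainComplex X.Modules ℤ) :
    T (DCoh.tensorBi (X := V)) ((RCx j).obj L) ((RCx j).obj K) ≅
      (RCx j).obj (T (DCoh.tensorBi (X := X)) L K) :=
  cmpIso (DCoh.tensorBi (X := X)) (DCoh.tensorBi (X := V)) (Scheme.Modules.restrictFunctor j)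
    (Scheme.Modules.restrictFunctor j) (Scheme.Modules.restrictFunctor j) (μj j)
    (fun f N => μj_natL j f N) (fun M _ _ g => μj_natR j M g) L K

section Mirror

variable {Y : Scheme.{u}}

/-- a K-flat complex is also K-flat in the first variable of the tensor product. -/
theorem isKFlatL_of_isKFlat (E : CochainComplex Y.Modules ℤ) (hE : DCoh.IsKFlat E) :
    IsKFlatL (DCoh.tensorBi (X := Y)) E := by
  intro K hK
  rw [acyc_iff_forall_stalk]
  intro x
  have hKx : Acyc (stkCx x K) := (acyc_iff_forall_stalk K).1 hK x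
  have hEx := stalk_isKFlat_of_isKFlat x E hE
  exact Acyc.of_iso (Acyc.of_iso (hEx (stkCx x K) hKx) (DTen.braidCx _ _))
    (stalkTensorCxIso x E K)

lemma isInvertedBy_funR_Q (E : CochainComplex Y.Modules ℤ) (hE : DCoh.IsKFlat E) :
    (HomologicalComplex.quasiIso Y.Modules (ComplexShape.up ℤ)).IsInvertedBy
      (funR (DCoh.tensorBi (X := Y)) E ⋙ DerivedCategory.Q) := by
  intro K₁ K₂ f hf
  haveI : QuasiIso f := hf
  haveI : QuasiIso (mapR (DCoh.tensorBi (X := Y)) E f) :=
    quasiIso_mapR_of_isKFlatL (DCoh.tensorBi (X := Y)) (isKFlatL_of_isKFlat E hE) f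
  exact inferInstanceAs (IsIso (DerivedCategory.Q.map (mapR (DCoh.tensorBi (X := Y)) E f)))

/-- `E ⊗ -` on the derived category, for a K-flat complex `E`. -/
noncomputable def tensorLeftD (E : CochainComplex Y.Modules ℤ) (hE : DCoh.IsKFlat E) :
    DCoh.D Y ⥤ DCoh.D Y :=
  Localization.lift (funR (DCoh.tensorBi (X := Y)) E ⋙ DerivedCategory.Q)
    (isInvertedBy_funR_Q E hE) DerivedCategory.Q

/-- `E ⊗ -` on the derived category computes the tensor product of complexes. -/
noncomputable def tensorLeftDIso (E : CochainComplex Y.Modules ℤ) (hE : DCoh.IsKFlat E)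
    (K : CochainComplex Y.Modules ℤ) :
    (tensorLeftD E hE).obj (DerivedCategory.Q.obj K) ≅
      DerivedCategory.Q.obj (T (DCoh.tensorBi (X := Y)) E K) :=
  (Localization.fac (funR (DCoh.tensorBi (X := Y)) E ⋙ DerivedCategory.Q)
    (isInvertedBy_funR_Q E hE) DerivedCategory.Q).app K

/-- **the image in the derived category of the tensor product of complexes only depends on
the images of the factors, for K-flat factors.** -/
theorem nonempty_iso_Q_T {M M' N N' : CochainComplex Y.Modules ℤ} (hN : DCoh.IsKFlat N)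
    (hM' : DCoh.IsKFlat M')
    (eM : DerivedCategory.Q.obj M ≅ DerivedCategory.Q.obj M')
    (eN : DerivedCategory.Q.obj N ≅ DerivedCategory.Q.obj N') :
    Nonempty (DerivedCategory.Q.obj (T (DCoh.tensorBi (X := Y)) M N) ≅
      DerivedCategory.Q.obj (T (DCoh.tensorBi (X := Y)) M' N')) := by
  haveI := hasLTensorCx N
  have e1 : DerivedCategory.Q.obj (T (DCoh.tensorBi (X := Y)) M N) ≅
      DerivedCategory.Q.obj (T (DCoh.tensorBi (X := Y)) M' N) :=
    (LTensorCxIso' N hN M).symm ≪≫ (DCoh.LTensorCx N).mapIso eM ≪≫ LTensorCxIso' N hN M'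
  have e2 : DerivedCategory.Q.obj (T (DCoh.tensorBi (X := Y)) M' N) ≅
      DerivedCategory.Q.obj (T (DCoh.tensorBi (X := Y)) M' N') :=
    (tensorLeftDIso M' hM' N).symm ≪≫ (tensorLeftD M' hM').mapIso eN ≪≫ tensorLeftDIso M' hM' N'
  exact ⟨e1 ≪≫ e2⟩

end Mirror

end Groth.Agent.Lib.Helper16.RM
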