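import Mathlib
import Groth.Agent.Lib.Helper16.Coh1
import Groth.Agent.Lib.Helper16.RelDesc5
import Groth.Agent.Lib.Helper16.PC7e
import Groth.Agent.Lib.Helper16.KF8
import Groth.Agent.Lib.Helper26.LC22
import Groth.Agent.Lib.Helper23.Nis.Gen
import Groth.Agent.Lib.Helper6.CohLocal
import Groth.Agent.Lib.Helper6.K0LocC
import Groth.Agent.S1004

/-!
# Helper16 — Coh2: `D^-_Coh ⊗^L D^-_Coh ⊂ D^-_Coh` on locally Noetherian schemes.
-/

set_option autoImplicit false
set_option linter.style.haveILetI false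
universe u
open CategoryTheory CategoryTheory.Limits AlgebraicGeometry CategoryTheory.Pretriangulated

attribute [local instance] HasDerivedCategory.standard

namespace Groth.Agent.Lib.Helper16.CohT

open DerivedCategory Groth.Agent.Lib.Helper1.LocPC Groth.Agent.Lib.Helper16.RS
  Groth.Agent.Lib.Helper16.BiCx Groth.Agent.Lib.Helper16.RM Groth.Agent.Lib.Helper16.DerT
  Groth.Agent.Lib.Helper16.PC Groth.Agent.Lib.Helper16.KD Groth.Agent.Lib.Helper26

section Affine

variable (R : CommRingCat.{u})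

/-- the tilde of a finite free module is a finite free `O`-module. -/
lemma exists_tilde_iso_freeMod (F : ModuleCat.{u} R) (hF : FinFree F) :
    ∃ n : ℕ, Nonempty ((tilde.functor R).obj F ≅ FlatMod.freeMod (Spec (CommRingCat.of R)) n) := by
  obtain ⟨h1, h2⟩ := hF
  haveI := h1
  haveI := h2
  classical
  let ι := Module.Free.ChooseBasisIndex R F
  haveI : Fintype ι := inferInstance
  let b := Module.Free.chooseBasis R F
  let e₀ : ι ≃ ULift.{u} (Fin (Fintype.card ι)) := (Fintype.equivFin ι).trans Equiv.ulift.symm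
  let e₁ : F ≃ₗ[R] (ULift.{u} (Fin (Fintype.card ι)) →₀ R) :=
    b.repr.trans (Finsupp.domLCongr e₀)
  exact ⟨Fintype.card ι, ⟨(tilde.functor R).mapIso e₁.toModuleIso ≪≫
    Groth.Agent.Lib.Helper23.Nis.freeModTildeIso R (Fintype.card ι)⟩⟩

/-- the termwise tilde of a complex of modules. -/
noncomputable abbrev tCx : DRing.Cx R ⥤ CochainComplex (Spec (CommRingCat.of R)).Modules ℤ :=
  (tilde.functor R).mapHomologicalComplex (ComplexShape.up ℤ)

variable [IsNoetherianRing R]

/-- on the spectrum of a Noetherian ring, a bounded above object with coherent cohomology is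
represented by the tilde of a bounded above complex of finite free modules, with the same
bound. -/
theorem exists_bddAboveFree_rep (K : DCoh.D (Spec (CommRingCat.of R))) (a : ℤ) [K.IsLE a]
    (hK : DCoh.IsCohD K) :
    ∃ P : DRing.Cx R, DRing.VanishesAbove P a ∧ (∀ i, FinFree (P.X i)) ∧
      Nonempty (Q.obj ((tCx R).obj P) ≅ K) := by
  have hpc : ∀ m, DCoh.IsPseudoCoherentD m K := fun m => pc_of_bddAbove_coh K a hK m
  have hq : DCoh.IsQCohD K := fun i => (hK i).1
  obtain ⟨M, ⟨e⟩⟩ := ((Groth.Agent.S0997.result R).2.2 K).1 hq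
  have hM : ∀ m, DRing.IsPseudoCoherent R m M := fun m =>
    (Groth.Agent.S1004.result R M m).1 (Groth.Agent.Lib.Helper16.AffRed.isPseudoCoherentD_of_iso e.symm (hpc m))
  have hMa : M.IsLE a := by
    apply Groth.Agent.Lib.Helper16.RelDesc.isLE_of_tildeD_isLE R M a
    exact (TStructure.t).isLE_of_iso e.symm a
  let L := Q.objPreimage M
  have e' : Q.obj L ≅ M := Q.objObjPreimageIso M
  have hL : ∀ m : ℤ, IsPC (FinFree (R := R)) m (Q.obj L) := fun m =>
    ((isPseudoCoherent_iff m M).1 (hM m)).of_iso e'.symm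
  have hb : (Q.obj L).IsLE a := (TStructure.t).isLE_of_iso e'.symm a
  obtain ⟨E, f, hE, hfree, hqi⟩ := exists_resolution finFree_proj finFree_biprod finFree_iso
    finFree_zero finFree_cover L a hb hL
  haveI : IsIso (Q.map f) := by
    rw [isIso_Q_map_iff_quasiIso]
    exact hqi
  refine ⟨E, hE, hfree, ⟨?_⟩⟩
  exact ((tilde.functor R).mapDerivedCategoryFactors.app E).symm ≪≫
    (DCoh.tildeD R).mapIso (asIso (Q.map f) ≪≫ e') ≪≫ e

/-- the tilde of a bounded above complex of finite free modules. -/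
lemma isBddAboveFree_tCx (P : DRing.Cx R) (a : ℤ) (hP : DRing.VanishesAbove P a)
    (hfree : ∀ i, FinFree (P.X i)) : IsBddAboveFree ((tCx R).obj P) a :=
  ⟨fun i hi => (tilde.functor R).map_isZero (hP i hi), fun i =>
    exists_tilde_iso_freeMod R (P.X i) (hfree i)⟩

/-- the tilde of a bounded above complex of finite free modules is K-flat. -/
lemma isKFlat_tCx (P : DRing.Cx R) (a : ℤ) (hP : DRing.VanishesAbove P a)
    (hfree : ∀ i, FinFree (P.X i)) : DCoh.IsKFlat ((tCx R).obj P) := by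
  apply Groth.Agent.Lib.Helper16.Stk.tilde_isKFlat R P
  apply Groth.Agent.Lib.Helper16.KF.isKFlat_of_boundedAbove P a hP
  intro i
  haveI := (hfree i).1
  haveI := (hfree i).2
  infer_instance

/-- on the spectrum of a Noetherian ring: the tensor product of a K-flat complex and a complex,
both bounded above with coherent cohomology, has coherent cohomology, bounded above. -/
theorem isCoh_tensor_homology_spec
    (P₁ F₁ : CochainComplex (Spec (CommRingCat.of R)).Modules ℤ) (hP₁ : DCoh.IsKFlat P₁)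
    (a b : ℤ) (ha : (Q.obj P₁).IsLE a) (hb : (Q.obj F₁).IsLE b)
    (hQ : DCoh.IsCohD (Q.obj P₁)) (hF : DCoh.IsCohD (Q.obj F₁)) (i : ℤ) :
    Coh.IsCoh ((T (DCoh.tensorBi (X := Spec (CommRingCat.of R))) P₁ F₁).homology i) ∧
      (a + b < i →
        IsZero ((T (DCoh.tensorBi (X := Spec (CommRingCat.of R))) P₁ F₁).homology i)) := by
  obtain ⟨P, hPa, hPf, ⟨eP⟩⟩ := exists_bddAboveFree_rep R (Q.obj P₁) a hQ
  obtain ⟨B, hBb, hBf, ⟨eB⟩⟩ := exists_bddAboveFree_rep R (Q.obj F₁) b hF
  have hB₂ : DCoh.IsKFlat ((tCx R).obj B) := isKFlat_tCx R B b hBb hBf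
  obtain ⟨e₄⟩ := nonempty_iso_Q_T hB₂ hP₁ eP eB
  have hT := isBddAboveFree_T _ _ a b (isBddAboveFree_tCx R P a hPa hPf)
    (isBddAboveFree_tCx R B b hBb hBf)
  have key := isCoh_homology_of_isBddAboveFree _ (a + b) hT i
  let e₅ : (T (DCoh.tensorBi (X := Spec (CommRingCat.of R))) ((tCx R).obj P)
      ((tCx R).obj B)).homology i ≅
      (T (DCoh.tensorBi (X := Spec (CommRingCat.of R))) P₁ F₁).homology i :=
    ((homologyFunctorFactors _ i).app _).symm ≪≫ (homologyFunctor _ i).mapIso e₄ ≪≫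
      (homologyFunctorFactors _ i).app _
  exact ⟨CohFive.isCoh_of_iso e₅ key.1, fun hi => (key.2 hi).of_iso e₅.symm⟩

end Affine

section Transport

variable {X : Scheme.{u}}

/-- restriction along equal open immersions. -/
lemma restrict_congr_prop (P : ∀ {Y : Scheme.{u}}, Y.Modules → Prop) {Y : Scheme.{u}}
    (f g : Y ⟶ X) [IsOpenImmersion f] [IsOpenImmersion g] (h : f = g) (M : X.Modules)
    (hM : P ((Scheme.Modules.restrictFunctor f).obj M)) :
    P ((Scheme.Modules.restrictFunctor g).obj M) := by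
  subst h
  exact hM

/-- a property of modules, invariant under isomorphisms and preserved by restriction along
isomorphisms, holds for the restriction to an affine open `V` if it holds for the restriction
along `Spec Γ(X, V) ⟶ X`. -/
lemma restrict_ι_of_restrict_fromSpec (P : ∀ {Y : Scheme.{u}}, Y.Modules → Prop)
    (hiso : ∀ {Y : Scheme.{u}} (M N : Y.Modules), (M ≅ N) → P M → P N)
    (hres : ∀ {Y Z : Scheme.{u}} (f : Y ⟶ Z) [IsIso f] (M : Z.Modules), P M →
      P ((Scheme.Modules.restrictFunctor f).obj M))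
    {V : X.Opens} (hV : IsAffineOpen V) (M : X.Modules)
    (h : P ((Scheme.Modules.restrictFunctor hV.fromSpec).obj M)) :
    P ((Scheme.Modules.restrictFunctor V.ι).obj M) := by
  have h1 : P ((Scheme.Modules.restrictFunctor (hV.isoSpec.inv ≫ V.ι)).obj M) :=
    restrict_congr_prop P _ _ hV.isoSpec_inv_ι.symm M h
  have h2 : P ((Scheme.Modules.restrictFunctor hV.isoSpec.inv).obj
      ((Scheme.Modules.restrictFunctor V.ι).obj M)) :=
    hiso _ _ ((Scheme.Modules.restrictFunctorComp hV.isoSpec.inv V.ι).app M) h1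
  have h3 := hres hV.isoSpec.hom _ h2
  have h4 : P ((Scheme.Modules.restrictFunctor (hV.isoSpec.hom ≫ hV.isoSpec.inv)).obj
      ((Scheme.Modules.restrictFunctor V.ι).obj M)) :=
    hiso _ _ ((Scheme.Modules.restrictFunctorComp hV.isoSpec.hom hV.isoSpec.inv).app _).symm h3
  have h5 : P ((Scheme.Modules.restrictFunctor (𝟙 (V : Scheme.{u}))).obj
      ((Scheme.Modules.restrictFunctor V.ι).obj M)) :=
    restrict_congr_prop P _ _ hV.isoSpec.hom_inv_id _ h4
  exact hiso _ _ (Scheme.Modules.restrictFunctorId.app _) h5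

end Transport

section Main

variable {X : Scheme.{u}} [IsLocallyNoetherian X]

/-- **`D^-_Coh ⊗^L D^-_Coh ⊂ D^-_Coh` on a locally Noetherian scheme.** -/
theorem isCohD_LTensorCx (E : CochainComplex X.Modules ℤ) [DCoh.HasLTensorCx E] (L : DCoh.D X)
    (hL : DCoh.IsCohD L) (a : ℤ) (hLa : L.IsLE a) (hE : DCoh.IsCohD (DCoh.toD X E)) (b : ℤ)
    (hEb : (DCoh.toD X E).IsLE b) (i : ℤ) :
    Coh.IsCoh (DCoh.HD ((DCoh.LTensorCx E).obj L) i) ∧
      (a + b < i → IsZero (DCoh.HD ((DCoh.LTensorCx E).obj L) i)) := by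
  obtain ⟨P₀, hP₀, ⟨e₁⟩⟩ := LC19.exists_kflat_rep L
  have hQ₀ : DCoh.IsCohD (Q.obj P₀) := fun j =>
    CohFive.isCoh_of_iso ((homologyFunctor _ j).mapIso e₁.symm) (hL j)
  have hQa : (Q.obj P₀).IsLE a := (TStructure.t).isLE_of_iso e₁.symm a
  let e : (DCoh.LTensorCx E).obj L ≅ Q.obj (T (DCoh.tensorBi (X := X)) P₀ E) :=
    (DCoh.LTensorCx E).mapIso e₁.symm ≪≫ LTensorCxIso E P₀ hP₀
  let eH : DCoh.HD ((DCoh.LTensorCx E).obj L) i ≅
      (T (DCoh.tensorBi (X := X)) P₀ E).homology i :=
    (homologyFunctor _ i).mapIso e ≪≫ (homologyFunctorFactors _ i).app _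
  -- the local statement
  have key : ∀ V : X.affineOpens,
      Coh.IsCoh ((Scheme.Modules.restrictFunctor V.2.fromSpec).obj
        ((T (DCoh.tensorBi (X := X)) P₀ E).homology i)) ∧
      (a + b < i → IsZero ((Scheme.Modules.restrictFunctor V.2.fromSpec).obj
        ((T (DCoh.tensorBi (X := X)) P₀ E).homology i))) := by
    rintro ⟨V, (hV : IsAffineOpen V)⟩
    haveI : IsNoetherianRing Γ(X, V) := IsLocallyNoetherian.component_noetherian ⟨V, hV⟩
    have hc : ∀ (I : CochainComplex X.Modules ℤ), DCoh.IsCohD (Q.obj I) →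
        DCoh.IsCohD (Q.obj ((RCx hV.fromSpec).obj I)) := fun I hI j =>
      CohFive.isCoh_of_iso (((homologyFunctorFactors _ j).app _ ≪≫
        SuppD2.homologyMapIso (Scheme.Modules.restrictFunctor hV.fromSpec) I j).symm)
        (Groth.Agent.Lib.Helper6.K0LocC.isCoh_restrict hV.fromSpec _
          (CohFive.isCoh_of_iso ((homologyFunctorFactors _ j).app I) (hI j)))
    have hle : ∀ (I : CochainComplex X.Modules ℤ) (c : ℤ), (Q.obj I).IsLE c →
        (Q.obj ((RCx hV.fromSpec).obj I)).IsLE c := fun I c hI => by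
      haveI := map_isLE (Scheme.Modules.restrictFunctor hV.fromSpec) (Q.obj I) c hI
      exact (TStructure.t).isLE_of_iso (RDQIso hV.fromSpec I) c
    have h1 := isCoh_tensor_homology_spec Γ(X, V) ((RCx hV.fromSpec).obj P₀)
      ((RCx hV.fromSpec).obj E) (isKFlat_RCx hV.fromSpec P₀ hP₀) a b (hle P₀ a hQa)
      (hle E b hEb) (hc P₀ hQ₀) (hc E hE) i
    let e₆ := (HomologicalComplex.homologyFunctor _ _ i).mapIso (tensorRCxIso hV.fromSpec P₀ E) ≪≫
      SuppD2.homologyMapIso (Scheme.Modules.restrictFunctor hV.fromSpec) _ i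
    exact ⟨CohFive.isCoh_of_iso e₆ h1.1, fun hi => (h1.2 hi).of_iso e₆.symm⟩
  constructor
  · refine CohFive.isCoh_of_iso eH.symm ?_
    apply Groth.Agent.Lib.Helper6.CohLocal.isCoh_of_locally
    intro x
    obtain ⟨V, hV, hxV, -⟩ := exists_isAffineOpen_mem_and_subset (X := X) (x := x)
      (U := ⊤) trivial
    refine ⟨V, hxV, ?_⟩
    exact restrict_ι_of_restrict_fromSpec (fun M => Coh.IsCoh M)
      (fun M N e h => CohFive.isCoh_of_iso e h)
      (fun f _ M h => Groth.Agent.Lib.Helper6.K0LocC.isCoh_restrict f M h) hV _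
      (key ⟨V, hV⟩).1
  · intro hi
    refine IsZero.of_iso ?_ eH
    apply Groth.Agent.Lib.Helper1.LocFree.isZero_of_locally
    intro x
    obtain ⟨V, hV, hxV, -⟩ := exists_isAffineOpen_mem_and_subset (X := X) (x := x)
      (U := ⊤) trivial
    refine ⟨V, hxV, ?_⟩
    exact restrict_ι_of_restrict_fromSpec (fun M => IsZero M)
      (fun M N e h => h.of_iso e.symm)
      (fun f _ M h => (Scheme.Modules.restrictFunctor f).map_isZero h) hV _
      ((key ⟨V, hV⟩).2 hi)

end Main

end Groth.Agent.Lib.Helper16.CohT
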