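import Mathlib
import Groth.Prelude.Def_DRing3
import Groth.Prelude.Def_DDual2
import Groth.Agent.Lib.Helper16.DComp3

/-!
# Derived completeness: homology of complexes of DC modules; restriction of scalars
-/

namespace Groth.Agent.Lib.Helper16.DComp

open CategoryTheory Limits DerivedCategory

universe u

attribute [local instance] HasDerivedCategory.standard

section

variable {A : Type u} [CommRing A] (f : A)

lemma DCf.homology_sc (S : ShortComplex (ModuleCat.{u} A)) (h1 : DCf f S.X₁) (h2 : DCf f S.X₂)
    (h3 : DCf f S.X₃) : DCf f S.homology := by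
  have hk : DCf f (LinearMap.ker S.g.hom) := h2.ker h3 _
  have hc : DCf f (LinearMap.ker S.g.hom ⧸ LinearMap.range S.moduleCatToCycles) :=
    h1.coker hk _
  exact hc.of_equiv S.moduleCatHomologyIso.symm.toLinearEquiv

lemma DCf.of_finite_free (hA : DCf f A) (M : Type u) [AddCommGroup M] [Module A M]
    [Module.Finite A M] [Module.Free A M] : DCf f M :=
  (hA.pi _).of_equiv (Module.Free.chooseBasis A M).equivFun.symm

lemma DCf.homology_of_termwise (E : CochainComplex (ModuleCat.{u} A) ℤ)
    (h : ∀ i, DCf f (E.X i)) (n : ℤ) : DCf f (E.homology n) :=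
  DCf.homology_sc f (E.sc n) (h _) (h _) (h _)

lemma DCf.HD_toD (E : CochainComplex (ModuleCat.{u} A) ℤ)
    (h : ∀ i, DCf f (E.X i)) (n : ℤ) : DCf f (Dual.HD A (DerivedCategory.Q.obj E) n) :=
  (DCf.homology_of_termwise f E h n).of_equiv
    ((homologyFunctorFactors (ModuleCat.{u} A) n).app E).symm.toLinearEquiv

end

section Restrict

variable {A B : Type u} [CommRing A] [CommRing B] (φ : A →+* B)

lemma DCf_restrictScalars_iff (N : ModuleCat.{u} B) (f : A) :
    DCf f ((ModuleCat.restrictScalars φ).obj N) ↔ DCf (φ f) N := Iff.rfl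

/-- `H^n` commutes with restriction of scalars. -/
noncomputable def HDrestrictIso (L : Dual.D B) (n : ℤ) :
    (homologyFunctor (ModuleCat.{u} A) n).obj ((DRing.restrictD φ).obj L) ≅
      (ModuleCat.restrictScalars φ).obj ((homologyFunctor (ModuleCat.{u} B) n).obj L) := by
  let F := ModuleCat.restrictScalars.{u} φ
  let L' := DerivedCategory.Q.objPreimage L
  let e₀ : DerivedCategory.Q.obj L' ≅ L := DerivedCategory.Q.objObjPreimageIso L
  refine (homologyFunctor (ModuleCat.{u} A) n).mapIso (F.mapDerivedCategory.mapIso e₀.symm) ≪≫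
    (homologyFunctor (ModuleCat.{u} A) n).mapIso (F.mapDerivedCategoryFactors.app L') ≪≫
    (homologyFunctorFactors (ModuleCat.{u} A) n).app _ ≪≫ ?_ ≪≫
    F.mapIso ((homologyFunctorFactors (ModuleCat.{u} B) n).app L').symm ≪≫
    F.mapIso ((homologyFunctor (ModuleCat.{u} B) n).mapIso e₀)
  exact (L'.sc n).mapHomologyIso F

end Restrict

end Groth.Agent.Lib.Helper16.DComp
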