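import Mathlib
import Groth.Agent.Lib.Helper16.DComp5

/-!
# Derived complete + power torsion => bounded torsion
-/

namespace Groth.Agent.Lib.Helper16.DComp

universe u v

variable {R : Type u} [CommRing R] {M : Type v} [AddCommGroup M] [Module R M]

lemma DCf.sup {f : R} (hM : DCf f M) (P Q : Submodule R M) (hP : DCf f P) (hQ : DCf f Q) :
    DCf f (P ⊔ Q : Submodule R M) := by
  refine ⟨hM.injective_of_injective (P ⊔ Q).subtype (Submodule.subtype_injective _), ?_⟩
  intro c
  have hc : ∀ n, ∃ p : P, ∃ q : Q, (p : M) + (q : M) = c n := by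
    intro n
    obtain ⟨p, hp, q, hq, hpq⟩ := Submodule.mem_sup.mp (c n).2
    exact ⟨⟨p, hp⟩, ⟨q, hq⟩, hpq⟩
  choose p q hpq using hc
  refine ⟨fun n => ⟨(hP.inv p n : M) + (hQ.inv q n : M),
    Submodule.add_mem_sup (hP.inv p n).2 (hQ.inv q n).2⟩, ?_⟩
  funext n
  apply Subtype.ext
  have h1 := congrArg Subtype.val (hP.inv_apply_sub p n)
  have h2 := congrArg Subtype.val (hQ.inv_apply_sub q n)
  simp only [Submodule.coe_sub, Submodule.coe_smul] at h1 h2
  simp only [Phi_apply, Submodule.coe_sub, Submodule.coe_smul, smul_add]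
  rw [← hpq n, ← h1, ← h2]
  abel

lemma DCf.smul_top_of_fg {f : R} (hM : DCf f M) (I : Ideal R) (hI : I.FG) :
    DCf f (I • ⊤ : Submodule R M) := by
  refine Submodule.fg_induction (R := R) (M := R)
    (motive := fun I _ => DCf f (I • ⊤ : Submodule R M)) ?_ ?_ I hI
  · intro a
    have e : (Submodule.span R {a} • ⊤ : Submodule R M) = LinearMap.range (LinearMap.lsmul R M a) := by
      change (Ideal.span {a} • ⊤ : Submodule R M) = _
      rw [Submodule.ideal_span_singleton_smul]
      ext x
      simp [Submodule.mem_smul_pointwise_iff_exists]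
    rw [e]
    exact hM.range hM _
  · intro I₁ I₂ _ _ h₁ h₂
    rw [Submodule.sup_smul]
    exact hM.sup _ _ h₁ h₂

open Classical in
/-- the Baire-style sequence -/
noncomputable def bseq (T : ℕ → Submodule R M) (I : Ideal R) (j : ℕ → ℕ → ℕ) (y : ℕ → ℕ → M) :
    ℕ → M × ℕ
  | 0 => (0, 0)
  | n + 1 =>
    (if (bseq T I j y n).1 ∈ T n ⊔ (I ^ (j n (bseq T I j y n).2) • ⊤ : Submodule R M) then
        (bseq T I j y n).1 + y n (bseq T I j y n).2 else (bseq T I j y n).1,
      j n (bseq T I j y n).2)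

theorem exists_pow_smul_top_eq_bot (I : Ideal R) (hI : I.FG) (h : ∀ f ∈ I, DCf f M)
    (ht : ∀ m : M, ∃ n : ℕ, ∀ a ∈ I ^ n, a • m = 0) :
    ∃ n : ℕ, I ^ n • (⊤ : Submodule R M) = ⊥ := by
  classical
  have hP : IsPrecomplete I M := isPrecomplete_of_fg I hI h
  let T : ℕ → Submodule R M := fun n => Submodule.torsionBySet R M (I ^ n : Ideal R)
  have hT : ∀ n (m : M), m ∈ T n ↔ ∀ a ∈ I ^ n, a • m = 0 := by
    intro n m
    simp only [T, Submodule.mem_torsionBySet_iff]
    constructor
    · intro h a ha; exact h ⟨a, ha⟩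
    · intro h a; exact h a a.2
  -- Step A
  have stepA : ∃ n k : ℕ, ∀ j : ℕ, (I ^ k • ⊤ : Submodule R M) ≤ T n ⊔ I ^ j • ⊤ := by
    by_contra hcon
    push Not at hcon
    have H : ∀ n k : ℕ, ∃ (j : ℕ) (y : M), k < j ∧ y ∈ (I ^ k • ⊤ : Submodule R M) ∧
        y ∉ T n ⊔ (I ^ j • ⊤ : Submodule R M) := by
      intro n k
      obtain ⟨j₀, hj₀⟩ := hcon n k
      obtain ⟨y, hy, hny⟩ := SetLike.not_le_iff_exists.mp hj₀
      refine ⟨max j₀ (k + 1), y, by omega, hy, fun hmem => hny ?_⟩
      have hle : T n ⊔ (I ^ (max j₀ (k + 1)) • ⊤ : Submodule R M) ≤ T n ⊔ I ^ j₀ • ⊤ :=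
        sup_le_sup_left (Submodule.smul_mono_left (Ideal.pow_le_pow_right (le_max_left _ _))) _
      exact hle hmem
    choose j y hj hy hny using H
    let x : ℕ → M := fun n => (bseq T I j y n).1
    let κ : ℕ → ℕ := fun n => (bseq T I j y n).2
    have hκ : ∀ n, κ (n + 1) = j n (κ n) := fun n => rfl
    have hκlt : ∀ n, κ n < κ (n + 1) := fun n => by rw [hκ]; exact hj n (κ n)
    have hκmono : ∀ a b, a ≤ b → κ a ≤ κ b := by
      intro a b hab
      induction b, hab using Nat.le_induction with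
      | base => exact le_rfl
      | succ b _ ih => exact ih.trans (hκlt b).le
    have hκge : ∀ n, n ≤ κ n := by
      intro n
      induction n with
      | zero => exact Nat.zero_le _
      | succ n ih => have := hκlt n; omega
    have hx : ∀ n, x (n + 1) =
        if x n ∈ T n ⊔ (I ^ (j n (κ n)) • ⊤ : Submodule R M) then x n + y n (κ n) else x n :=
      fun n => rfl
    have F2 : ∀ n, x (n + 1) - x n ∈ (I ^ (κ n) • ⊤ : Submodule R M) := by
      intro n
      rw [hx]
      split_ifs
      · rw [add_sub_cancel_left]; exact hy n (κ n)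
      · rw [sub_self]; exact Submodule.zero_mem _
    have F3 : ∀ n, x (n + 1) ∉ T n ⊔ (I ^ (κ (n + 1)) • ⊤ : Submodule R M) := by
      intro n
      rw [hx, hκ]
      split_ifs with hmem
      · intro hmem2
        apply hny n (κ n)
        have := Submodule.sub_mem _ hmem2 hmem
        rwa [add_sub_cancel_left] at this
      · exact hmem
    have F4 : ∀ n m, n + 1 ≤ m → x m - x (n + 1) ∈ (I ^ (κ (n + 1)) • ⊤ : Submodule R M) := by
      intro n m hm
      induction m, hm using Nat.le_induction with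
      | base => rw [sub_self]; exact Submodule.zero_mem _
      | succ m hm ih =>
        have e : x (m + 1) - x (n + 1) = (x (m + 1) - x m) + (x m - x (n + 1)) := by abel
        rw [e]
        refine Submodule.add_mem _ ?_ ih
        exact Submodule.smul_mono_left (Ideal.pow_le_pow_right (hκmono _ _ hm)) (F2 m)
    have hx0 : x 0 = 0 := rfl
    have hd : ∀ n, x (n + 1) - x n ∈ (I ^ n • ⊤ : Submodule R M) := fun n =>
      Submodule.smul_mono_left (Ideal.pow_le_pow_right (hκge n)) (F2 n)
    have hsum : ∀ n, x n = ∑ k ∈ Finset.range n, (x (k + 1) - x k) := by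
      intro n
      rw [Finset.sum_range_sub, hx0, sub_zero]
    obtain ⟨L, hL⟩ := hP.prec (f := fun n => ∑ k ∈ Finset.range n, (x (k + 1) - x k))
      (fun {m n} h => partialSum_smodEq I _ hd h)
    obtain ⟨n₀, hn₀⟩ := ht L
    have hLT : L ∈ T n₀ := (hT n₀ L).mpr hn₀
    apply F3 n₀
    let m := max (n₀ + 1) (κ (n₀ + 1))
    have h1 : x m - L ∈ (I ^ m • ⊤ : Submodule R M) := by
      have := hL m
      rw [SModEq.sub_mem] at this
      rw [hsum m]; exact this
    have h2 := F4 n₀ m (le_max_left _ _)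
    have e : x (n₀ + 1) = L + ((x m - L) - (x m - x (n₀ + 1))) := by abel
    rw [e]
    refine Submodule.add_mem_sup hLT (Submodule.sub_mem _ ?_ h2)
    exact Submodule.smul_mono_left (Ideal.pow_le_pow_right (le_max_right _ _)) h1
  obtain ⟨n, k, hnk⟩ := stepA
  -- Step B
  have hTn : (I ^ n • T n : Submodule R M) = ⊥ := by
    rw [eq_bot_iff, Submodule.smul_le]
    intro a ha m hm
    rw [Submodule.mem_bot]
    exact (hT n m).mp hm a ha
  have key : ∀ j : ℕ, (I ^ (n + k) • ⊤ : Submodule R M) ≤ I ^ (n + j) • ⊤ := by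
    intro j
    rw [pow_add, mul_smul, pow_add, mul_smul]
    refine (Submodule.smul_mono le_rfl (hnk j)).trans ?_
    rw [Submodule.smul_sup, hTn, bot_sup_eq]
  let D : Submodule R M := I ^ (n + k) • ⊤
  have hID : I • D = D := by
    apply le_antisymm
    · exact Submodule.smul_le_right
    · have := key (k + 1)
      rw [← add_assoc, pow_succ', mul_smul] at this
      exact this
  have hDC : ∀ f ∈ I, DCf f D := fun f hf => (h f hf).smul_top_of_fg _ (hI.pow)
  have htop : I • (⊤ : Submodule R D) = ⊤ := by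
    apply Submodule.map_injective_of_injective D.subtype_injective
    rw [Submodule.map_smul'', Submodule.map_top, Submodule.range_subtype, hID]
  have hsub : Subsingleton D := subsingleton_of_fg I hI hDC htop
  refine ⟨n + k, ?_⟩
  exact (Submodule.subsingleton_iff_eq_bot).mp hsub

end Groth.Agent.Lib.Helper16.DComp
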