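import Mathlib
import Groth.Prelude.Def_DDual2
import Groth.Prelude.Def_DRing4
import Groth.Agent.Lib.Helper16.FRes1
import Groth.Agent.Lib.Helper16.RL1
import Groth.Agent.Lib.Helper16.KF12
import Groth.Agent.Lib.Helper16.LD1
import Groth.Agent.Lib.Helper16.LD2
import Groth.Agent.Lib.Helper16.LD3

/-!
# Helper16 — DRE1: functorial K-flat resolutions of complexes of modules over a ring, and the
K-flat left derivability structure
-/

set_option autoImplicit false
universe u v' u'
open CategoryTheory CategoryTheory.Limits MonoidalCategory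

attribute [local instance] HasDerivedCategory.standard

namespace Groth.Agent.Lib.Helper16.DRE

open Groth.Agent.Lib.Helper16.KF Groth.Agent.Lib.Helper16.Res

variable (R : Type u) [CommRing R]

/-- the free cover functor. -/
noncomputable abbrev freeCover : ModuleCat.{u} R ⥤ ModuleCat.{u} R :=
  forget (ModuleCat.{u} R) ⋙ ModuleCat.free R

/-- the free cover. -/
noncomputable abbrev freeCoverπ : freeCover R ⟶ 𝟭 (ModuleCat.{u} R) := (ModuleCat.adj R).counit

lemma epi_freeCoverπ (M : ModuleCat.{u} R) : Epi ((freeCoverπ R).app M) := by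
  rw [ModuleCat.epi_iff_surjective]
  intro m
  refine ⟨ModuleCat.freeMk (R := R) (X := (forget (ModuleCat.{u} R)).obj M) m, ?_⟩
  simp [freeCoverπ, ModuleCat.adj]

lemma flat_freeCover (M : ModuleCat.{u} R) : Module.Flat R ((freeCover R).obj M) := by
  haveI : Module.Free R ((freeCover R).obj M) :=
    inferInstanceAs (Module.Free R (((forget (ModuleCat.{u} R)).obj M) →₀ R))
  haveI : Module.Projective R ((freeCover R).obj M) := Module.Projective.of_free
  exact Module.Flat.of_projective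

variable {R}

/-- K-flat with flat terms. -/
def KFlatFlat (K : Cx R) : Prop := DRing.IsKFlat R K ∧ DRing.TermwiseFlat K

lemma kFlatFlat_of_iso {K L : Cx R} (e : K ≅ L) (h : KFlatFlat K) : KFlatFlat L :=
  ⟨isKFlat_of_iso e h.1, fun n => by
    haveI : Module.Flat R (K.X n) := h.2 n
    have e' : K.X n ≅ L.X n := (HomologicalComplex.eval _ (ComplexShape.up ℤ) n).mapIso e
    exact Module.Flat.of_linearEquiv e'.symm.toLinearEquiv⟩

lemma kFlatFlat_zeroD (Y : ℤ → ModuleCat.{u} R) (hY : ∀ n, Module.Flat R (Y n)) :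
    KFlatFlat (zeroD Y) :=
  ⟨isKFlat_of_d_eq_zero _ (fun _ _ => rfl) hY, hY⟩

open CochainComplex in
lemma kFlatFlat_mappingCone {K L : Cx R} (φ : K ⟶ L) (hK : KFlatFlat K) (hL : KFlatFlat L) :
    KFlatFlat (mappingCone φ) := by
  refine ⟨isKFlat_mappingCone φ hK.1 hL.1, fun n => ?_⟩
  haveI := hK.2 (n + 1)
  haveI := hL.2 n
  haveI := flat_biprod (K.X (n + 1)) (L.X n)
  exact Module.Flat.of_linearEquiv
    (HomologicalComplex.homotopyCofiber.XIsoBiprod φ n (n + 1) rfl).toLinearEquiv

lemma kFlatFlat_of_isColimit (F : ℕ ⥤ Cx R) (c : Cocone F) (hc : IsColimit c)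
    (h : ∀ n, KFlatFlat (F.obj n)) : KFlatFlat c.pt := by
  haveI : HasExactColimitsOfShape ℕ (ModuleCat.{u} R) :=
    KPR.hasExactColimitsOfShape_nat_moduleCat R
  refine ⟨isKFlat_of_isColimit hc (fun n => (h n).1), fun n => ?_⟩
  exact flat_of_isColimit_nat
    (isColimitOfPreserves (HomologicalComplex.eval (ModuleCat.{u} R) (ComplexShape.up ℤ) n) hc)
    (fun k => (h k).2 n)

variable (R)

/-- **Functorial K-flat resolutions with flat terms over a ring.** -/
theorem exists_functorial_kFlat_resolution :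
    ∃ (P : Cx R ⥤ Cx R) (ψ : P ⟶ 𝟭 (Cx R)),
      ∀ C : Cx R, DRing.IsKFlat R (P.obj C) ∧ DRing.TermwiseFlat (P.obj C) ∧
        QuasiIso (ψ.app C) ∧ ∀ n : ℤ, Epi ((ψ.app C).f n) := by
  haveI : HasExactColimitsOfShape ℕ (ModuleCat.{u} R) :=
    KPR.hasExactColimitsOfShape_nat_moduleCat R
  obtain ⟨P, ψ, h⟩ := exists_functorial_resolution (W := fun M : ModuleCat.{u} R => Module.Flat R M)
    (freeCover R) (freeCoverπ R) (epi_freeCoverπ R) (flat_freeCover R)
    KFlatFlat (fun e h => kFlatFlat_of_iso e h) kFlatFlat_zeroD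
    (fun φ hK hL => kFlatFlat_mappingCone φ hK hL) kFlatFlat_of_isColimit
  exact ⟨P, ψ, fun C => ⟨(h C).1.1, (h C).1.2, (h C).2.1, (h C).2.2⟩⟩

end Groth.Agent.Lib.Helper16.DRE
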