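import Mathlib.Algebra.Homology.DerivedCategory.TStructure
import Mathlib.Algebra.Homology.DerivedCategory.FullyFaithful
import Mathlib.Algebra.Homology.DerivedCategory.HomologySequence
import Mathlib.CategoryTheory.Triangulated.TStructure.TruncLTGE

namespace Groth.Agent.Lib.Helper16.DerT

open CategoryTheory Limits DerivedCategory Pretriangulated

universe w v u
variable {C : Type u} [Category.{v} C] [Abelian C] [HasDerivedCategory.{w} C]


/-- maps between objects concentrated in degree `m` are detected by `H^m` -/
lemma eq_zero_of_homologyMap_eq_zero {Y Y' : DerivedCategory C} (m : ℤ)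
    [Y.IsGE m] [Y.IsLE m] [Y'.IsGE m] [Y'.IsLE m] (g : Y ⟶ Y')
    (hg : (homologyFunctor C m).map g = 0) : g = 0 := by
  obtain ⟨M, ⟨e⟩⟩ := exists_iso_singleFunctor_obj_of_isGE_of_isLE Y m
  obtain ⟨M', ⟨e'⟩⟩ := exists_iso_singleFunctor_obj_of_isGE_of_isLE Y' m
  obtain ⟨φ, hφ⟩ := (singleFunctor C m).map_surjective (e.inv ≫ g ≫ e'.hom)
  have h1 : (homologyFunctor C m).map ((singleFunctor C m).map φ) = 0 := by
    rw [hφ, Functor.map_comp, Functor.map_comp, hg, zero_comp, comp_zero]
  have h2 := (singleFunctorCompHomologyFunctorIso C m).hom.naturality φ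
  dsimp at h2
  rw [h1, zero_comp] at h2
  have h3 : φ = 0 := by
    rw [← cancel_epi ((singleFunctorCompHomologyFunctorIso C m).hom.app M), ← h2, comp_zero]
  have h4 : e.inv ≫ g ≫ e'.hom = 0 := by rw [← hφ, h3, Functor.map_zero]
  have h5 : g = e.hom ≫ (e.inv ≫ g ≫ e'.hom) ≫ e'.inv := by simp
  rw [h5, h4, zero_comp, comp_zero]

variable (X : DerivedCategory C) (m : ℤ)

set_option backward.defeqAttrib.useBackward true in
/-- `H^i` of the truncation projection is an epimorphism -/
lemma epi_homologyMap_truncGEπ (i : ℤ) :
    Epi ((homologyFunctor C i).map (((TStructure.t (C := C)).truncGEπ m).app X)) := by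
  have hT := (TStructure.t (C := C)).triangleLTGE_distinguished m X
  have := (HomologySequence.epi_homologyMap_mor₂_iff _ hT i (i+1) rfl).2 (by
    by_cases h : i < m
    · have : IsZero ((homologyFunctor C i).obj (((TStructure.t (C := C)).triangleLTGE m).obj X).obj₃) := by
        dsimp
        exact isZero_of_isGE _ m i h
      exact this.eq_of_src _ _
    · have : IsZero ((homologyFunctor C (i+1)).obj (((TStructure.t (C := C)).triangleLTGE m).obj X).obj₁) := by
        dsimp
        exact isZero_of_isLE _ (m-1) (i+1) (by omega)
      exact this.eq_of_tgt _ _)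
  exact this

set_option backward.defeqAttrib.useBackward true in
/-- `H^i` of the truncation inclusion is a monomorphism -/
lemma mono_homologyMap_truncLTι (i : ℤ) :
    Mono ((homologyFunctor C i).map (((TStructure.t (C := C)).truncLTι m).app X)) := by
  have hT := (TStructure.t (C := C)).triangleLTGE_distinguished m X
  have := (HomologySequence.mono_homologyMap_mor₁_iff _ hT (i-1) i (by omega)).2 (by
    by_cases h : i < m
    · have : IsZero ((homologyFunctor C (i-1)).obj (((TStructure.t (C := C)).triangleLTGE m).obj X).obj₃) := by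
        dsimp
        exact isZero_of_isGE _ m (i-1) (by omega)
      exact this.eq_of_src _ _
    · have : IsZero ((homologyFunctor C i).obj (((TStructure.t (C := C)).triangleLTGE m).obj X).obj₁) := by
        dsimp
        exact isZero_of_isLE _ (m-1) i (by omega)
      exact this.eq_of_tgt _ _)
  exact this

end Groth.Agent.Lib.Helper16.DerT
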