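import Groth.Agent.Lib.Helper16.GammaNewton2
import Groth.Agent.Lib.Helper20.LambdaInv
import Groth.Agent.S8651

/-!
# Helper library (helper16): the determinant homomorphism `D : K → Kˣ` of a λ-ring with positive
structure, `D(e - f) = det e / det f`, and its vanishing on `F^2`.
-/

set_option autoImplicit false
universe u

open Finset

namespace Groth.Agent.Lib.Helper16.DL

open LambdaRing Groth.Agent.Lib.Helper20.LR Groth.Agent.Lib.Helper20.GFP Groth.Agent.Lib.Helper16.GN

section basic
variable {K : Type u} [CommRing K] [LambdaOps K] (P : PosStructure K)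

/-- the top exterior power `det e = λ^{ε e}(e)`. -/
noncomputable def det (e : K) : K := LambdaOps.lam (P.aug e).toNat e

lemma det_add {e g : K} (he : e ∈ P.pos) (hg : g ∈ P.pos) : det P (e + g) = det P e * det P g := by
  unfold det
  have h1 := P.aug_pos e he
  have h2 := P.aug_pos g hg
  have e1 : (P.aug (e + g)).toNat = (P.aug e).toNat + (P.aug g).toNat := by
    rw [map_add, Int.toNat_add h1.le h2.le]
  rw [e1, LambdaOps.lam_add]
  rw [Finset.sum_eq_single (P.aug e).toNat]
  · rw [Nat.add_sub_cancel_left]
  · intro i hi hne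
    have hi' := Finset.mem_range.mp hi
    rcases Nat.lt_or_ge i (P.aug e).toNat with hlt | hge
    · rw [P.lam_eq_zero g hg ((P.aug e).toNat + (P.aug g).toNat - i) (by omega), mul_zero]
    · rw [P.lam_eq_zero e he i (by omega), zero_mul]
  · intro h
    exfalso
    apply h
    rw [Finset.mem_range]
    omega

lemma isUnit_det {e : K} (he : e ∈ P.pos) : IsUnit (det P e) := P.isUnit_lam e he

/-- `det e` as a unit. -/
noncomputable def detU (e : K) (he : e ∈ P.pos) : Kˣ := (isUnit_det P he).unit

@[simp] lemma detU_val (e : K) (he : e ∈ P.pos) : (detU P e he : K) = det P e := rfl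

lemma detU_congr {e e' : K} (h : e = e') (he : e ∈ P.pos) (he' : e' ∈ P.pos) :
    detU P e he = detU P e' he' := by
  subst h; rfl

lemma detU_add {e g : K} (he : e ∈ P.pos) (hg : g ∈ P.pos) :
    detU P (e + g) (P.add_mem e g he hg) = detU P e he * detU P g hg := by
  apply Units.ext
  rw [Units.val_mul, detU_val, detU_val, detU_val, det_add P he hg]

/-- chosen positive numerator. -/
noncomputable def numE (x : K) : K := (P.exists_sub x).choose
/-- chosen positive denominator. -/
noncomputable def denF (x : K) : K := (P.exists_sub x).choose_spec.choose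

lemma numE_mem (x : K) : numE P x ∈ P.pos := (P.exists_sub x).choose_spec.choose_spec.1
lemma denF_mem (x : K) : denF P x ∈ P.pos := (P.exists_sub x).choose_spec.choose_spec.2.1
lemma eq_numE_sub_denF (x : K) : x = numE P x - denF P x :=
  (P.exists_sub x).choose_spec.choose_spec.2.2

/-- the determinant homomorphism. -/
noncomputable def D (x : K) : Kˣ := detU P (numE P x) (numE_mem P x) * (detU P (denF P x) (denF_mem P x))⁻¹

lemma D_eq {x e f : K} (he : e ∈ P.pos) (hf : f ∈ P.pos) (h : x = e - f) :
    D P x = detU P e he * (detU P f hf)⁻¹ := by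
  unfold D
  have h1 : numE P x + f = e + denF P x := by
    have := h.symm.trans (eq_numE_sub_denF P x)
    linear_combination -this
  have h2 := detU_congr P h1 (P.add_mem _ _ (numE_mem P x) hf) (P.add_mem _ _ he (denF_mem P x))
  rw [detU_add P (numE_mem P x) hf, detU_add P he (denF_mem P x)] at h2
  rw [mul_inv_eq_iff_eq_mul, mul_assoc, mul_comm _ (detU P (denF P x) _), ← mul_assoc, ← h2,
    mul_assoc, mul_inv_cancel, mul_one]

lemma D_add (x y : K) : D P (x + y) = D P x * D P y := by
  have hx := eq_numE_sub_denF P x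
  have hy := eq_numE_sub_denF P y
  have h : x + y = (numE P x + numE P y) - (denF P x + denF P y) := by
    conv_lhs => rw [hx, hy]
    ring
  rw [D_eq P (P.add_mem _ _ (numE_mem P x) (numE_mem P y))
    (P.add_mem _ _ (denF_mem P x) (denF_mem P y)) h, detU_add, detU_add]
  unfold D
  rw [mul_inv]
  exact mul_mul_mul_comm _ _ _ _

lemma D_zero : D P (0 : K) = 1 := by
  have h := D_add P (0 : K) 0
  rw [add_zero] at h
  exact (mul_eq_left.mp h.symm)

lemma D_neg (x : K) : D P (-x) = (D P x)⁻¹ := by
  have h := D_add P x (-x)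
  rw [add_neg_cancel, D_zero] at h
  exact (inv_eq_of_mul_eq_one_right h.symm).symm

lemma D_sub (x y : K) : D P (x - y) = D P x * (D P y)⁻¹ := by
  rw [sub_eq_add_neg, D_add, D_neg]

lemma det_line {u : K} (hu : P.IsLine u) : det P u = u := by
  unfold det
  rw [hu.2]
  exact LambdaOps.lam_one u

lemma D_line_sub {u v : K} (hu : P.IsLine u) (hv : P.IsLine v) :
    ((D P (u - v) : Kˣ) : K) * v = u := by
  rw [D_eq P hu.1 hv.1 rfl, Units.val_mul]
  have h1 : ((detU P v hv.1 : Kˣ) : K) = v := by rw [detU_val, det_line P hv]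
  have h2 : ((detU P u hu.1 : Kˣ) : K) = u := by rw [detU_val, det_line P hu]
  calc ((detU P u hu.1 : Kˣ) : K) * (((detU P v hv.1)⁻¹ : Kˣ) : K) * v
      = ((detU P u hu.1 : Kˣ) : K) * ((((detU P v hv.1)⁻¹ : Kˣ) : K) * ((detU P v hv.1 : Kˣ) : K)) := by
        rw [h1]; ring
    _ = u := by rw [Units.inv_mul, mul_one, h2]

end basic

section ext
variable {K L : Type u} [CommRing K] [LambdaOps K] [CommRing L] [LambdaOps L]
  {P : PosStructure K} {P' : PosStructure L}

lemma map_det (g : K →+* L) (hg : IsExtension P P' g) (e : K) : g (det P e) = det P' (g e) := by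
  unfold det
  rw [hg.isLambdaHom, hg.aug_comp]

lemma map_detU (g : K →+* L) (hg : IsExtension P P' g) (e : K) (he : e ∈ P.pos) :
    Units.map (g : K →* L) (detU P e he) = detU P' (g e) (hg.pos_subset e he) := by
  apply Units.ext
  rw [Units.coe_map, detU_val, detU_val]
  exact map_det g hg e

lemma map_D (g : K →+* L) (hg : IsExtension P P' g) (x : K) :
    Units.map (g : K →* L) (D P x) = D P' (g x) := by
  have hx := eq_numE_sub_denF P x
  have h : g x = g (numE P x) - g (denF P x) := by
    conv_lhs => rw [hx, map_sub]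
  rw [D_eq P' (hg.pos_subset _ (numE_mem P x)) (hg.pos_subset _ (denF_mem P x)) h]
  unfold D
  rw [map_mul, map_inv, map_detU g hg, map_detU g hg]

omit [LambdaOps K] [LambdaOps L] in
lemma units_map_injective (g : K →+* L) (hg : Function.Injective g) :
    Function.Injective (Units.map (g : K →* L)) := by
  intro a b h
  apply Units.ext
  apply hg
  have := congrArg Units.val h
  simpa using this

end ext

end Groth.Agent.Lib.Helper16.DL
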