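import Groth.Agent.Lib.Helper16.DetLine2

/-!
# Helper library (helper16): `D = 1` on `F^2`; line elements and `Gr^1`.
-/

set_option autoImplicit false
set_option linter.unusedSectionVars false
universe u

open Finset

namespace Groth.Agent.Lib.Helper16.DL

open LambdaRing Groth.Agent.Lib.Helper20.LR Groth.Agent.Lib.Helper20.GFP Groth.Agent.Lib.Helper16.GN

section gammaline
variable {K : Type u} [CommRing K] [LambdaOps K] (P : PosStructure K)

lemma lam_line_eq_zero {u : K} (hu : P.IsLine u) (j : ℕ) (hj : 2 ≤ j) : LambdaOps.lam j u = 0 :=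
  P.lam_eq_zero u hu.1 j (by rw [hu.2]; exact_mod_cast hj)

lemma gamma_line_sub_one {u : K} (hu : P.IsLine u) (j : ℕ) :
    gamma j (u - 1) = if j = 0 then 1 else if j = 1 then u - 1 else 0 := by
  have h := Groth.Agent.S8651.gammaSeries_sub_one_of_line_like
    (fun k hk => lam_line_eq_zero P (isLine_one P) k hk) u (fun j hj => lam_line_eq_zero P hu j hj)
  have h2 := congrArg (PowerSeries.coeff j) h
  rw [coeff_gammaSeries] at h2
  rw [h2]
  rcases j with _ | _ | j
  · simp
  · simp
  · simp [PowerSeries.coeff_one, PowerSeries.coeff_X]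

lemma gamma_add_line_sub_one {u : K} (hu : P.IsLine u) (x : K) (r : ℕ) :
    gamma (r + 1) (x + (u - 1)) = gamma (r + 1) x + gamma r x * (u - 1) := by
  rw [gamma_add, Finset.sum_range_succ, Finset.sum_range_succ]
  have h0 : ∑ i ∈ range r, gamma i x * gamma (r + 1 - i) (u - 1) = 0 := by
    apply Finset.sum_eq_zero
    intro i hi
    have hi' := Finset.mem_range.mp hi
    rw [gamma_line_sub_one P hu, if_neg (by omega), if_neg (by omega), mul_zero]
  rw [h0, zero_add, gamma_line_sub_one P hu, gamma_line_sub_one P hu]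
  have e1 : r + 1 - r = 1 := by omega
  have e2 : r + 1 - (r + 1) = 0 := by omega
  rw [e1, e2]
  simp
  ring

end gammaline

section cls
variable (C : Set PosLambdaRing.{u})
  (hC : ∀ L ∈ C, ∀ e ∈ L.posStr.pos, ∃ L' ∈ C, ∃ f : L.carrier →+* L'.carrier,
      IsExtension L.posStr L'.posStr f ∧
      ∃ s : Multiset L'.carrier, (∀ u ∈ s, L'.posStr.IsLine u) ∧ s.sum = f e)

/-- `ε x = 0` and `D(γ^r x) = 1` for all `r ≥ 2`. -/
def Good (L : PosLambdaRing.{u}) (x : L.carrier) : Prop :=
  L.posStr.aug x = 0 ∧ ∀ r : ℕ, 2 ≤ r → D L.posStr (gamma r x) = 1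

include hC

lemma good_zero (L : PosLambdaRing.{u}) : Good L (0 : L.carrier) := by
  refine ⟨map_zero _, ?_⟩
  intro r hr
  rw [Groth.Agent.Lib.Helper20.GF.gamma_zero_right (by omega), D_zero]

lemma aug_line_sub_one (L : PosLambdaRing.{u}) {u : L.carrier} (hu : L.posStr.IsLine u) :
    L.posStr.aug (u - 1) = 0 := by
  rw [map_sub, hu.2, map_one, sub_self]

lemma D_step (L : PosLambdaRing.{u}) (hL : L ∈ C) {u : L.carrier} (hu : L.posStr.IsLine u)
    (x : L.carrier) (hx : L.posStr.aug x = 0) (r : ℕ) (hr : 2 ≤ r) :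
    D L.posStr (gamma r (x + (u - 1))) = D L.posStr (gamma r x) := by
  obtain ⟨r', rfl⟩ : ∃ r', r = r' + 1 := ⟨r - 1, by omega⟩
  rw [gamma_add_line_sub_one L.posStr hu, D_add,
    D_mul_eq_one C hC L hL _ _
      (aug_gamma_of_aug_zero L.posStr (hasSplitting_of_mem C hC L hL) x hx r' (by omega))
      (aug_line_sub_one C hC L hu), mul_one]

lemma good_add_line (L : PosLambdaRing.{u}) (hL : L ∈ C) {u : L.carrier} (hu : L.posStr.IsLine u)
    (x : L.carrier) (hx : Good L x) : Good L (x + (u - 1)) := by
  refine ⟨by rw [map_add, hx.1, aug_line_sub_one C hC L hu, add_zero], ?_⟩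
  intro r hr
  rw [D_step C hC L hL hu x hx.1 r hr]
  exact hx.2 r hr

lemma good_of_add_line (L : PosLambdaRing.{u}) (hL : L ∈ C) {u : L.carrier} (hu : L.posStr.IsLine u)
    (x : L.carrier) (hx : L.posStr.aug x = 0) (h : Good L (x + (u - 1))) : Good L x := by
  refine ⟨hx, ?_⟩
  intro r hr
  rw [← D_step C hC L hL hu x hx r hr]
  exact h.2 r hr

lemma good_sum_lines (L : PosLambdaRing.{u}) (hL : L ∈ C) (s : Multiset L.carrier)
    (hs : ∀ u ∈ s, L.posStr.IsLine u) : Good L (s.map fun u => u - 1).sum := by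
  induction s using Multiset.induction_on with
  | empty => simpa using good_zero C hC L
  | cons a s ih =>
    rw [Multiset.map_cons, Multiset.sum_cons, add_comm]
    exact good_add_line C hC L hL (hs a (Multiset.mem_cons_self a s)) _
      (ih (fun u hu => hs u (Multiset.mem_cons_of_mem hu)))

lemma aug_sum_lines_sub_one (L : PosLambdaRing.{u}) (s : Multiset L.carrier)
    (hs : ∀ u ∈ s, L.posStr.IsLine u) : L.posStr.aug (s.map fun u => u - 1).sum = 0 := by
  induction s using Multiset.induction_on with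
  | empty => simp
  | cons a s ih =>
    rw [Multiset.map_cons, Multiset.sum_cons, map_add,
      aug_line_sub_one C hC L (hs a (Multiset.mem_cons_self a s)),
      ih (fun u hu => hs u (Multiset.mem_cons_of_mem hu)), add_zero]

lemma good_of_add_sum (L : PosLambdaRing.{u}) (hL : L ∈ C) (t : Multiset L.carrier)
    (ht : ∀ v ∈ t, L.posStr.IsLine v) :
    ∀ x : L.carrier, L.posStr.aug x = 0 → Good L (x + (t.map fun v => v - 1).sum) → Good L x := by
  induction t using Multiset.induction_on with
  | empty =>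
    intro x _ h
    simpa using h
  | cons a t ih =>
    intro x hx h
    have ha := ht a (Multiset.mem_cons_self a t)
    have ht' : ∀ v ∈ t, L.posStr.IsLine v := fun v hv => ht v (Multiset.mem_cons_of_mem hv)
    rw [Multiset.map_cons, Multiset.sum_cons, ← add_assoc] at h
    have h1 := ih ht' (x + (a - 1))
      (by rw [map_add, hx, aug_line_sub_one C hC L ha, add_zero]) h
    exact good_of_add_line C hC L hL ha x hx h1

lemma sum_sub_one (L : PosLambdaRing.{u}) (s : Multiset L.carrier) :
    (s.map fun u => u - 1).sum = s.sum - (Multiset.card s : L.carrier) := by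
  induction s using Multiset.induction_on with
  | empty => simp
  | cons a s ih =>
    rw [Multiset.map_cons, Multiset.sum_cons, ih, Multiset.sum_cons, Multiset.card_cons]
    push_cast
    ring

/-- `D(γ^r x) = 1` for `ε x = 0`, `r ≥ 2`. -/
lemma D_gamma_eq_one (L : PosLambdaRing.{u}) (hL : L ∈ C) (x : L.carrier)
    (hx : L.posStr.aug x = 0) (r : ℕ) (hr : 2 ≤ r) : D L.posStr (gamma r x) = 1 := by
  obtain ⟨e, f, he, hf, rfl⟩ := L.posStr.exists_sub x
  have hm : L.posStr.aug e = L.posStr.aug f := by
    rw [map_sub] at hx; exact sub_eq_zero.mp hx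
  obtain ⟨L'', hL'', F, hF, s, t, hs, ht, hse, hte⟩ := exists_double_split C hC L hL e f he hf
  have hcard : (Multiset.card s : ℤ) = (Multiset.card t : ℤ) := by
    rw [← aug_multiset_sum_lines L''.posStr s hs, ← aug_multiset_sum_lines L''.posStr t ht, hse, hte,
      hF.aug_comp, hF.aug_comp, hm]
  have hcard' : Multiset.card s = Multiset.card t := by exact_mod_cast hcard
  have hFx : F (e - f) + (t.map fun v => v - 1).sum = (s.map fun u => u - 1).sum := by
    rw [sum_sub_one C hC L'' s, sum_sub_one C hC L'' t, hse, hte, map_sub, hcard']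
    ring
  have hgood : Good L'' (F (e - f)) := by
    apply good_of_add_sum C hC L'' hL'' t ht
    · rw [hF.aug_comp]; exact hx
    · rw [hFx]
      exact good_sum_lines C hC L'' hL'' s hs
  have h1 := hgood.2 r hr
  rw [← map_gamma F hF.isLambdaHom, ← map_D F hF] at h1
  apply units_map_injective F hF.injective
  rw [h1, map_one]

lemma prod_eq_one_of_weight_zero (L : PosLambdaRing.{u}) (l : List (ℕ × L.carrier))
    (h : (l.map Prod.fst).sum = 0) : (l.map fun p => gamma p.1 p.2).prod = 1 := by
  induction l with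
  | nil => simp
  | cons a l ih =>
    rw [List.map_cons, List.sum_cons] at h
    have ha : a.1 = 0 := by omega
    rw [List.map_cons, List.prod_cons, ih (by omega), ha, mul_one]
    simp [gamma]

lemma aug_prod_eq_zero (L : PosLambdaRing.{u}) (hL : L ∈ C) (l : List (ℕ × L.carrier))
    (h1 : ∀ p ∈ l, L.posStr.aug p.2 = 0) (h2 : 1 ≤ (l.map Prod.fst).sum) :
    L.posStr.aug (l.map fun p => gamma p.1 p.2).prod = 0 := by
  have hsp := hasSplitting_of_mem C hC L hL
  induction l with
  | nil => simp at h2
  | cons a l ih =>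
    rw [List.map_cons, List.prod_cons, map_mul]
    by_cases ha : 1 ≤ a.1
    · rw [aug_gamma_of_aug_zero L.posStr hsp a.2 (h1 a (List.mem_cons_self)) a.1 ha, zero_mul]
    · rw [ih (fun p hp => h1 p (List.mem_cons_of_mem _ hp)) (by
        rw [List.map_cons, List.sum_cons] at h2
        omega), mul_zero]

lemma D_monomial (L : PosLambdaRing.{u}) (hL : L ∈ C) (l : List (ℕ × L.carrier))
    (h1 : ∀ p ∈ l, L.posStr.aug p.2 = 0) (h2 : 2 ≤ (l.map Prod.fst).sum) :
    D L.posStr (l.map fun p => gamma p.1 p.2).prod = 1 := by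
  have hsp := hasSplitting_of_mem C hC L hL
  induction l with
  | nil => simp at h2
  | cons a l ih =>
    rw [List.map_cons, List.sum_cons] at h2
    rw [List.map_cons, List.prod_cons]
    have h1' : ∀ p ∈ l, L.posStr.aug p.2 = 0 := fun p hp => h1 p (List.mem_cons_of_mem _ hp)
    have ha := h1 a (List.mem_cons_self)
    rcases Nat.eq_zero_or_pos a.1 with h0 | hpos
    · rw [h0]
      have : gamma 0 a.2 = 1 := by simp [gamma]
      rw [this, one_mul]
      exact ih h1' (by omega)
    · rcases Nat.eq_zero_or_pos (l.map Prod.fst).sum with hw | hw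
      · rw [prod_eq_one_of_weight_zero C hC L l hw, mul_one]
        exact D_gamma_eq_one C hC L hL a.2 ha a.1 (by omega)
      · exact D_mul_eq_one C hC L hL _ _ (aug_gamma_of_aug_zero L.posStr hsp a.2 ha a.1 hpos)
          (aug_prod_eq_zero C hC L hL l h1' hw)

end cls

section main
variable {K : Type u} [CommRing K] [LambdaOps K] (P : PosStructure K)

theorem D_eq_one_of_mem (hK : HasSplitting K P) {z : K} (hz : z ∈ gammaFiltration P 2) :
    D P z = 1 := by
  obtain ⟨C, hKC, hC⟩ := hK
  rw [Groth.Agent.S3291.filt_succ P 2 (by omega)] at hz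
  refine AddSubgroup.closure_induction ?_ ?_ ?_ ?_ hz
  · rintro y ⟨l, h1, h2, rfl⟩
    exact D_monomial C hC ⟨K, P⟩ hKC l h1 h2
  · exact D_zero P
  · intro a b _ _ ha hb
    rw [D_add, ha, hb, one_mul]
  · intro a _ ha
    rw [D_neg, ha, inv_one]

theorem line_eq_of_sub_mem (hK : HasSplitting K P) {u v : K} (hu : P.IsLine u) (hv : P.IsLine v)
    (h : u - v ∈ gammaFiltration P 2) : u = v := by
  have h1 := D_line_sub P hu hv
  rw [D_eq_one_of_mem P hK h, Units.val_one, one_mul] at h1
  exact h1.symm

end main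

end Groth.Agent.Lib.Helper16.DL
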