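import Mathlib
import Groth.Prelude.Def_MoreMor
import Groth.Agent.Lib.Helper15.RelPC11

/-!
# Helper16 — DiagPerf: a perfect diagonal gives, on affine charts, that `B` has finite tor dimension
over `B ⊗[A] B`.
-/

set_option autoImplicit false
universe u
open CategoryTheory CategoryTheory.Limits AlgebraicGeometry TensorProduct

namespace Groth.Agent.Lib.Helper16.DiagPerf

open Groth.Agent.Lib.Helper15.RelPC11 MorphismProperty

section Ring

variable (A B : Type u) [CommRing A] [CommRing B] [Algebra A B]

/-- the multiplication map `B ⊗[A] B → B` as a ring homomorphism. -/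
noncomputable abbrev mulHom : B ⊗[A] B →+* B := (Algebra.TensorProduct.lmul' A (S := B)).toRingHom

/-- the diagonal of `Spec B → Spec A` through `pullbackSpecIso`. -/
lemma diagonal_eq :
    pullback.diagonal (Spec.map (CommRingCat.ofHom (algebraMap A B))) =
      Spec.map (CommRingCat.ofHom (mulHom A B)) ≫ (pullbackSpecIso A B B).inv := by
  apply pullback.hom_ext
  · rw [pullback.diagonal_fst, Category.assoc, pullbackSpecIso_inv_fst, ← Spec.map_comp,
      ← CommRingCat.ofHom_comp]
    have : (mulHom A B).comp (Algebra.TensorProduct.includeLeftRingHom) = RingHom.id B := by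
      ext b
      simp [mulHom]
    rw [this]
    exact (Spec.map_id _).symm
  · rw [pullback.diagonal_snd, Category.assoc, pullbackSpecIso_inv_snd, ← Spec.map_comp,
      ← CommRingCat.ofHom_comp]
    have : (mulHom A B).comp (RingHomClass.toRingHom
        (Algebra.TensorProduct.includeRight (R := A) (A := B) (B := B))) = RingHom.id B := by
      ext b
      simp [mulHom]
    rw [this]
    exact (Spec.map_id _).symm

end Ring

section Scheme

variable {X Y : Scheme.{u}} (f : X ⟶ Y)

/-- **a perfect diagonal gives a perfect multiplication map on affine charts.** -/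
theorem perfH_mulHom_of_isPerfectMor_diagonal
    (hΔ : MoreMor.IsPerfectMor (pullback.diagonal f)) {U : X.Opens} (hU : IsAffineOpen U)
    {V : Y.Opens} (hV : IsAffineOpen V) (e : U ≤ f ⁻¹ᵁ V) :
    letI := (f.appLE V U e).hom.toAlgebra
    PerfH (mulHom Γ(Y, V) Γ(X, U)) := by
  letI := (f.appLE V U e).hom.toAlgebra
  rw [isPerfectMor_iff] at hΔ
  have hφ : Spec.map (CommRingCat.ofHom (algebraMap Γ(Y, V) Γ(X, U))) = Spec.map (f.appLE V U e) :=
    rfl
  have hcomm : Spec.map (CommRingCat.ofHom (algebraMap Γ(Y, V) Γ(X, U))) ≫ hV.fromSpec =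
      hU.fromSpec ≫ f := by
    rw [hφ]
    exact IsAffineOpen.SpecMap_appLE_fromSpec f hV hU e
  let j := pullback.map (Spec.map (CommRingCat.ofHom (algebraMap Γ(Y, V) Γ(X, U))))
    (Spec.map (CommRingCat.ofHom (algebraMap Γ(Y, V) Γ(X, U)))) f f hU.fromSpec hU.fromSpec
    hV.fromSpec hcomm hcomm
  have hnat : pullback.diagonal (Spec.map (CommRingCat.ofHom (algebraMap Γ(Y, V) Γ(X, U)))) ≫ j =
      hU.fromSpec ≫ pullback.diagonal f := by
    apply pullback.hom_ext
    · rw [Category.assoc, Category.assoc, pullback.diagonal_fst, Category.comp_id]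
      simp only [j]
      rw [pullback.lift_fst, pullback.diagonal_fst_assoc]
    · rw [Category.assoc, Category.assoc, pullback.diagonal_snd, Category.comp_id]
      simp only [j]
      rw [pullback.lift_snd, pullback.diagonal_snd_assoc]
  have h1 : affineLocally @PerfH (hU.fromSpec ≫ pullback.diagonal f) :=
    HasRingHomProperty.comp_of_isOpenImmersion (P := affineLocally @PerfH) _ _ hΔ
  rw [← hnat] at h1
  have h2 : affineLocally @PerfH
      (pullback.diagonal (Spec.map (CommRingCat.ofHom (algebraMap Γ(Y, V) Γ(X, U))))) := by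
    haveI : (affineLocally @PerfH).HasOfPostcompProperty @IsOpenImmersion :=
      hasOfPostcompProperty_isOpenImmersion_of_morphismRestrict _
        (fun f U hf => IsZariskiLocalAtTarget.restrict hf U)
    exact MorphismProperty.of_postcomp (W := affineLocally @PerfH) (W' := @IsOpenImmersion) _ j
      inferInstance h1
  rw [diagonal_eq, MorphismProperty.cancel_right_of_respectsIso (P := affineLocally @PerfH),
    HasRingHomProperty.Spec_iff (P := affineLocally @PerfH)] at h2
  exact h2

end Scheme

end Groth.Agent.Lib.Helper16.DiagPerf
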