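import Mathlib
import Groth.Agent.Lib.Helper16.BiCx7

/-!
# Helper16 — Dua1: projections from total complexes, and maps into total complexes whose second
factor has finite support.
-/

set_option autoImplicit false
open CategoryTheory CategoryTheory.Limits HomologicalComplex

namespace Groth.Agent.Lib.Helper16.Dua

open Groth.Agent.Lib.Helper16.BiCx

variable {C₁ C₂ D : Type*} [Category C₁] [Category C₂] [Category D]
  [Abelian C₁] [Abelian C₂] [Abelian D]
  (F : C₁ ⥤ C₂ ⥤ D) [F.Additive] [∀ X, (F.obj X).Additive]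
  [∀ (K₁ : CochainComplex C₁ ℤ) (K₂ : CochainComplex C₂ ℤ),
    HasMapBifunctor K₁ K₂ F (ComplexShape.up ℤ)]
  (L : CochainComplex C₁ ℤ) (K : CochainComplex C₂ ℤ)

/-- transport of a summand along equalities of indices. -/
def summandEq {p p' q q' : ℤ} (hp : p' = p) (hq : q' = q) :
    (F.obj (L.X p')).obj (K.X q') ⟶ (F.obj (L.X p)).obj (K.X q) :=
  eqToHom (by rw [hp, hq])

@[simp] lemma summandEq_rfl (p q : ℤ) : summandEq F L K (rfl : p = p) (rfl : q = q) = 𝟙 _ := rfl

open Classical in
/-- the projection of `(Tot F(L, K)).X n` onto a summand. -/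
noncomputable def πT (p q n : ℤ) (h : p + q = n) :
    (T F L K).X n ⟶ (F.obj (L.X p)).obj (K.X q) :=
  TDesc F (fun p' q' h' => if hp : p' = p then summandEq F L K hp (by omega) else 0)

lemma ι_πT_of_eq {p p' q q' n : ℤ} (h : p + q = n) (h' : p' + q' = n) (hp : p' = p) :
    ιT F L K p' q' n h' ≫ πT F L K p q n h = summandEq F L K hp (by omega) := by
  unfold πT
  rw [ι_TDesc, dif_pos hp]

@[reassoc (attr := simp)]
lemma ι_πT_self (p q n : ℤ) (h : p + q = n) :
    ιT F L K p q n h ≫ πT F L K p q n h = 𝟙 _ := by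
  rw [ι_πT_of_eq F L K h h rfl]
  rfl

@[reassoc]
lemma ι_πT_of_ne {p p' q q' n : ℤ} (h : p + q = n) (h' : p' + q' = n) (hp : p' ≠ p) :
    ιT F L K p' q' n h' ≫ πT F L K p q n h = 0 := by
  unfold πT
  rw [ι_TDesc, dif_neg hp]

/-- compatibility of the projections with `Tot F(f, K)`. -/
@[reassoc]
lemma mapL_πT {L₁ L₂ : CochainComplex C₁ ℤ} (f : L₁ ⟶ L₂) (p q n : ℤ) (h : p + q = n) :
    (mapL F f K).f n ≫ πT F L₂ K p q n h =
      πT F L₁ K p q n h ≫ (F.map (f.f p)).app (K.X q) := by
  apply T_hom_ext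
  intro p' q' h'
  rw [ι_mapL_assoc]
  by_cases hp : p' = p
  · subst hp
    obtain rfl : q' = q := by omega
    rw [ι_πT_self, ι_πT_self_assoc, Category.comp_id]
  · rw [ι_πT_of_ne F L₂ K h h' hp, comp_zero, ι_πT_of_ne_assoc F L₁ K h h' hp, zero_comp]

/-- compatibility of the projections with `Tot F(L, g)`. -/
@[reassoc]
lemma mapR_πT {K₁ K₂ : CochainComplex C₂ ℤ} (g : K₁ ⟶ K₂) (p q n : ℤ) (h : p + q = n) :
    (mapR F L g).f n ≫ πT F L K₂ p q n h =
      πT F L K₁ p q n h ≫ (F.obj (L.X p)).map (g.f q) := by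
  apply T_hom_ext
  intro p' q' h'
  rw [ι_mapR_assoc]
  by_cases hp : p' = p
  · subst hp
    obtain rfl : q' = q := by omega
    rw [ι_πT_self, ι_πT_self_assoc, Category.comp_id]
  · rw [ι_πT_of_ne F L K₂ h h' hp, comp_zero, ι_πT_of_ne_assoc F L K₁ h h' hp, zero_comp]

/-- the differential of the total complex followed by a projection. -/
lemma d_πT (p₀ p q₀ q n n' : ℤ) (hn : n + 1 = n') (hp : p₀ + 1 = p) (hq : q₀ + 1 = q)
    (h : p + q = n') :
    (T F L K).d n n' ≫ πT F L K p q n' h =
      πT F L K p₀ q n (by omega) ≫ (F.map (L.d p₀ p)).app (K.X q) +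
      p.negOnePow • (πT F L K p q₀ n (by omega) ≫ (F.obj (L.X p)).map (K.d q₀ q)) := by
  subst hn hp hq
  apply T_hom_ext
  intro p' q' h'
  rw [ιT_d_assoc, Preadditive.add_comp, Preadditive.comp_add, Category.assoc,
    Linear.units_smul_comp, Linear.comp_units_smul, Category.assoc]
  by_cases h1 : p' = p₀
  · subst h1
    obtain rfl : q' = q₀ + 1 := by omega
    rw [ι_πT_self, Category.comp_id, ι_πT_self_assoc,
      ι_πT_of_ne F L K (p := p' + 1) (p' := p') h (by omega) (by omega), comp_zero, smul_zero,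
      add_zero,
      ι_πT_of_ne_assoc F L K (p := p' + 1) (p' := p') (by omega) h' (by omega), zero_comp,
      smul_zero, add_zero]
  · by_cases h2 : p' = p₀ + 1
    · subst h2
      obtain rfl : q' = q₀ := by omega
      rw [ι_πT_self, Category.comp_id, ι_πT_self_assoc,
        ι_πT_of_ne F L K (p := p₀ + 1) (p' := p₀ + 1 + 1) h (by omega) (by omega), comp_zero,
        zero_add,
        ι_πT_of_ne_assoc F L K (p := p₀) (p' := p₀ + 1) (by omega) h' (by omega), zero_comp,
        zero_add]
    · rw [ι_πT_of_ne F L K (p := p₀ + 1) (p' := p' + 1) h (by omega) (by omega), comp_zero,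
        ι_πT_of_ne F L K (p := p₀ + 1) (p' := p') h (by omega) h2, comp_zero, smul_zero,
        ι_πT_of_ne_assoc F L K (p := p₀) (p' := p') (by omega) h' h1, zero_comp,
        ι_πT_of_ne_assoc F L K (p := p₀ + 1) (p' := p') (by omega) h' h2, zero_comp, smul_zero]

section Bounded

variable (S : Finset ℤ) (hK : ∀ q : ℤ, q ∉ S → IsZero (K.X q))

include hK in
lemma isZero_summand (p q : ℤ) (hq : q ∉ S) : IsZero ((F.obj (L.X p)).obj (K.X q)) :=
  (F.obj (L.X p)).map_isZero (hK q hq)

include hK in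
/-- the identity of `(Tot F(L, K)).X n` is the sum of the projections followed by the
inclusions, when `K` has finite support. -/
lemma sum_πT_ιT (n : ℤ) :
    ∑ q ∈ S, πT F L K (n - q) q n (by omega) ≫ ιT F L K (n - q) q n (by omega) =
      𝟙 ((T F L K).X n) := by
  apply T_hom_ext
  intro p' q' h'
  rw [Preadditive.comp_sum, Category.comp_id]
  by_cases hq : q' ∈ S
  · rw [Finset.sum_eq_single q' (fun q _ hne => ?_) (fun h => absurd hq h)]
    · obtain rfl : p' = n - q' := by omega
      rw [ι_πT_self_assoc]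
    · rw [ι_πT_of_ne_assoc F L K (by omega) h' (by omega), zero_comp]
  · have hz := isZero_summand F L K S hK p' q' hq
    rw [hz.eq_of_src (ιT F L K p' q' n h') 0]
    simp

include hK in
/-- maps into `(Tot F(L, K)).X n` are determined by their projections when `K` has finite
support. -/
lemma T_hom_ext_π {n : ℤ} {A : D} {f g : A ⟶ (T F L K).X n}
    (h : ∀ (p q : ℤ) (hpq : p + q = n), f ≫ πT F L K p q n hpq = g ≫ πT F L K p q n hpq) :
    f = g := by
  rw [← Category.comp_id f, ← Category.comp_id g, ← sum_πT_ιT F L K S hK n,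
    Preadditive.comp_sum, Preadditive.comp_sum]
  refine Finset.sum_congr rfl (fun q _ => ?_)
  rw [← Category.assoc, ← Category.assoc, h]

/-- constructor for morphisms into `(Tot F(L, K)).X n`, when `K` has finite support. -/
noncomputable def TLift {n : ℤ} {A : D}
    (f : ∀ (p q : ℤ) (_ : p + q = n), A ⟶ (F.obj (L.X p)).obj (K.X q)) : A ⟶ (T F L K).X n :=
  ∑ q ∈ S, f (n - q) q (by omega) ≫ ιT F L K (n - q) q n (by omega)

include hK in
@[reassoc]
lemma TLift_π {n : ℤ} {A : D}
    (f : ∀ (p q : ℤ) (_ : p + q = n), A ⟶ (F.obj (L.X p)).obj (K.X q)) (p q : ℤ)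
    (h : p + q = n) : TLift F L K S f ≫ πT F L K p q n h = f p q h := by
  by_cases hq : q ∈ S
  · unfold TLift
    rw [Preadditive.sum_comp, Finset.sum_eq_single q (fun q' _ hne => ?_) (fun h' => absurd hq h')]
    · obtain rfl : p = n - q := by omega
      rw [Category.assoc, ι_πT_self, Category.comp_id]
    · rw [Category.assoc, ι_πT_of_ne F L K h (by omega) (by omega), comp_zero]
  · exact (isZero_summand F L K S hK p q hq).eq_of_tgt _ _

end Bounded

end Groth.Agent.Lib.Helper16.Dua
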