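import Mathlib
import Groth.Agent.Lib.Helper16.Dua1

/-!
# Helper16 — Dua2: the adjunction between `Tot F(-, E)` and `Tot F(-, D)` induced by termwise
adjunctions `F(-, E^q) ⊣ F(-, D^{-q})` compatible with the differentials (up to sign), when `D`
has finite support.
-/

set_option autoImplicit false
open CategoryTheory CategoryTheory.Limits HomologicalComplex

namespace Groth.Agent.Lib.Helper16.Dua

open Groth.Agent.Lib.Helper16.BiCx

lemma homEquiv_units_smul {C D : Type*} [Category C] [Category D] [Preadditive C] [Preadditive D]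
    {G : C ⥤ D} {H : D ⥤ C} (adj : G ⊣ H) [G.Additive] (ε : ℤˣ) {X : C} {Y : D}
    (f : G.obj X ⟶ Y) : adj.homEquiv X Y (ε • f) = ε • adj.homEquiv X Y f := by
  rcases Int.units_eq_one_or ε with rfl | rfl
  · simp
  · simp [Units.neg_smul]

lemma homEquiv_symm_units_smul {C D : Type*} [Category C] [Category D] [Preadditive C]
    [Preadditive D] {G : C ⥤ D} {H : D ⥤ C} (adj : G ⊣ H) [G.Additive] (ε : ℤˣ) {X : C} {Y : D}
    (f : X ⟶ H.obj Y) : (adj.homEquiv X Y).symm (ε • f) = ε • (adj.homEquiv X Y).symm f := by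
  rcases Int.units_eq_one_or ε with rfl | rfl
  · simp
  · simp [Units.neg_smul]

section TotAdj

variable {C C₂ : Type*} [Category C] [Category C₂] [Abelian C] [Abelian C₂]
  (F : C ⥤ C₂ ⥤ C) [F.Additive] [∀ X, (F.obj X).Additive]
  [∀ (K₁ : CochainComplex C ℤ) (K₂ : CochainComplex C₂ ℤ),
    HasMapBifunctor K₁ K₂ F (ComplexShape.up ℤ)]
  (E Dd : CochainComplex C₂ ℤ) (S : Finset ℤ)
  (adj : ∀ q r : ℤ, q + r = 0 → (F.flip.obj (E.X q) ⊣ F.flip.obj (Dd.X r)))

variable {K L : CochainComplex C ℤ}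

/-- the components of the transpose of a map `Tot F(K, E) ⟶ L`. -/
noncomputable def cmpR (φ : T F K E ⟶ L) (p m q r : ℤ) (hq : q + r = 0) (hm : m + r = p) :
    K.X p ⟶ (F.obj (L.X m)).obj (Dd.X r) :=
  (adj q r hq).homEquiv (K.X p) (L.X m) (ιT F K E p q m (by omega) ≫ φ.f m)

/-- the components of the transpose of a map `K ⟶ Tot F(L, D)`. -/
noncomputable def cmpL (ψ : K ⟶ T F L Dd) (p q n r : ℤ) (hq : q + r = 0) (hn : p + q = n) :
    (F.obj (K.X p)).obj (E.X q) ⟶ L.X n :=
  ((adj q r hq).homEquiv (K.X p) (L.X n)).symm (ψ.f p ≫ πT F L Dd n r p (by omega))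

/-- the transpose of a map `Tot F(K, E) ⟶ L`, degreewise. -/
noncomputable def toFunF (φ : T F K E ⟶ L) (p : ℤ) : K.X p ⟶ (T F L Dd).X p :=
  TLift F L Dd S (fun m r hmr => cmpR F E Dd adj φ p m (-r) r (by omega) hmr)

/-- the transpose of a map `K ⟶ Tot F(L, D)`, degreewise. -/
noncomputable def invFunF (ψ : K ⟶ T F L Dd) (n : ℤ) : (T F K E).X n ⟶ L.X n :=
  TDesc F (fun p q hpq => cmpL F E Dd adj ψ p q n (-q) (by omega) hpq)

variable (hD : ∀ r : ℤ, r ∉ S → IsZero (Dd.X r))

include hD in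
lemma toFunF_π (φ : T F K E ⟶ L) (p m q r : ℤ) (hq : q + r = 0) (hm : m + r = p) :
    toFunF F E Dd S adj φ p ≫ πT F L Dd m r p hm = cmpR F E Dd adj φ p m q r hq hm := by
  obtain rfl : q = -r := by omega
  exact TLift_π F L Dd S hD _ m r hm

lemma ι_invFunF (ψ : K ⟶ T F L Dd) (p q n r : ℤ) (hq : q + r = 0) (hn : p + q = n) :
    ιT F K E p q n hn ≫ invFunF F E Dd adj ψ n = cmpL F E Dd adj ψ p q n r hq hn := by
  obtain rfl : r = -q := by omega
  exact ι_TDesc F _ p q hn

variable (compat : ∀ (q q' r r' : ℤ) (_ : q + 1 = q') (_ : r' + 1 = r) (h : q + r = 0)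
    (h' : q' + r' = 0) (A B : C) (φ : (F.obj A).obj (E.X q') ⟶ B),
    (adj q r h).homEquiv A B ((F.obj A).map (E.d q q') ≫ φ) =
      q.negOnePow • ((adj q' r' h').homEquiv A B φ ≫ (F.obj B).map (Dd.d r' r)))

include hD compat in
lemma toFunF_comm (φ : T F K E ⟶ L) (p : ℤ) :
    toFunF F E Dd S adj φ p ≫ (T F L Dd).d p (p + 1) =
      K.d p (p + 1) ≫ toFunF F E Dd S adj φ (p + 1) := by
  apply T_hom_ext_π F L Dd S hD
  intro m r hmr
  obtain ⟨m₀, rfl⟩ : ∃ m₀, m = m₀ + 1 := ⟨m - 1, by omega⟩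
  obtain rfl : p = m₀ + r := by omega
  rw [Category.assoc, Category.assoc,
    d_πT F L Dd m₀ (m₀ + 1) (r - 1) r (m₀ + r) (m₀ + r + 1) rfl rfl (by omega) hmr,
    Preadditive.comp_add, Linear.comp_units_smul,
    ← Category.assoc, ← Category.assoc (toFunF F E Dd S adj φ (m₀ + r)),
    toFunF_π F E Dd S adj hD φ (m₀ + r) m₀ (-r) r (by omega) (by omega),
    toFunF_π F E Dd S adj hD φ (m₀ + r) (m₀ + 1) (-r + 1) (r - 1) (by omega) (by omega),
    toFunF_π F E Dd S adj hD φ (m₀ + r + 1) (m₀ + 1) (-r) r (by omega) hmr]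
  unfold cmpR
  have h1 : (adj (-r) r (by omega)).homEquiv (K.X (m₀ + r)) (L.X m₀)
        (ιT F K E (m₀ + r) (-r) m₀ (by omega) ≫ φ.f m₀) ≫
        (F.map (L.d m₀ (m₀ + 1))).app (Dd.X r) =
      (adj (-r) r (by omega)).homEquiv (K.X (m₀ + r)) (L.X (m₀ + 1))
        ((ιT F K E (m₀ + r) (-r) m₀ (by omega) ≫ φ.f m₀) ≫ L.d m₀ (m₀ + 1)) := by
    exact (Adjunction.homEquiv_naturality_right _ _ _).symm
  rw [h1, Category.assoc, φ.comm, ιT_d_assoc, Preadditive.add_comp, Category.assoc,
    Linear.units_smul_comp, Category.assoc, Adjunction.homAddEquiv_add, homEquiv_units_smul,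
    compat (-r) (-r + 1) r (r - 1) rfl (by omega) (by omega) (by omega)]
  have h2 : (adj (-r) r (by omega)).homEquiv (K.X (m₀ + r)) (L.X (m₀ + 1))
        ((F.map (K.d (m₀ + r) (m₀ + r + 1))).app (E.X (-r)) ≫
          ιT F K E (m₀ + r + 1) (-r) (m₀ + 1) (by omega) ≫ φ.f (m₀ + 1)) =
      K.d (m₀ + r) (m₀ + r + 1) ≫ (adj (-r) r (by omega)).homEquiv (K.X (m₀ + r + 1))
        (L.X (m₀ + 1)) (ιT F K E (m₀ + r + 1) (-r) (m₀ + 1) (by omega) ≫ φ.f (m₀ + 1)) :=
    Adjunction.homEquiv_naturality_left _ _ _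
  have h3 : (m₀ + r).negOnePow * (-r).negOnePow = m₀.negOnePow := by
    rw [Int.negOnePow_add, Int.negOnePow_neg, mul_assoc, Int.units_mul_self, mul_one]
  rw [h2, smul_smul, add_assoc, h3, Int.negOnePow_succ, Units.neg_smul, add_neg_cancel, add_zero]

omit [∀ (K₁ : CochainComplex C ℤ) (K₂ : CochainComplex C₂ ℤ),
  HasMapBifunctor K₁ K₂ F (ComplexShape.up ℤ)] [∀ X, (F.obj X).Additive] in
include compat in
lemma compat_symm (q q' r r' : ℤ) (hq : q + 1 = q') (hr : r' + 1 = r) (h : q + r = 0)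
    (h' : q' + r' = 0) (A B : C) (ψ : A ⟶ (F.obj B).obj (Dd.X r')) :
    (F.obj A).map (E.d q q') ≫ ((adj q' r' h').homEquiv A B).symm ψ =
      q.negOnePow • ((adj q r h).homEquiv A B).symm (ψ ≫ (F.obj B).map (Dd.d r' r)) := by
  apply ((adj q r h).homEquiv A B).injective
  rw [compat q q' r r' hq hr h h', Equiv.apply_symm_apply, homEquiv_units_smul,
    Equiv.apply_symm_apply]

include compat in
lemma invFunF_comm (ψ : K ⟶ T F L Dd) (n : ℤ) :
    invFunF F E Dd adj ψ n ≫ L.d n (n + 1) =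
      (T F K E).d n (n + 1) ≫ invFunF F E Dd adj ψ (n + 1) := by
  apply T_hom_ext
  intro p q hpq
  obtain rfl : n = p + q := by omega
  rw [ιT_d_assoc, Preadditive.add_comp, Category.assoc, Linear.units_smul_comp, Category.assoc,
    ← Category.assoc (ιT F K E p q (p + q) hpq),
    ι_invFunF F E Dd adj ψ p q (p + q) (-q) (by omega) hpq,
    ι_invFunF F E Dd adj ψ (p + 1) q (p + q + 1) (-q) (by omega) (by omega),
    ι_invFunF F E Dd adj ψ p (q + 1) (p + q + 1) (-q - 1) (by omega) (by omega)]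
  unfold cmpL
  have h1 : ((adj q (-q) (by omega)).homEquiv (K.X p) (L.X (p + q))).symm
        (ψ.f p ≫ πT F L Dd (p + q) (-q) p (by omega)) ≫ L.d (p + q) (p + q + 1) =
      ((adj q (-q) (by omega)).homEquiv (K.X p) (L.X (p + q + 1))).symm
        ((ψ.f p ≫ πT F L Dd (p + q) (-q) p (by omega)) ≫
          (F.map (L.d (p + q) (p + q + 1))).app (Dd.X (-q))) :=
    (Adjunction.homEquiv_naturality_right_symm _ _ _).symm
  have h2 : (F.map (K.d p (p + 1))).app (E.X q) ≫
        ((adj q (-q) (by omega)).homEquiv (K.X (p + 1)) (L.X (p + q + 1))).symm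
          (ψ.f (p + 1) ≫ πT F L Dd (p + q + 1) (-q) (p + 1) (by omega)) =
      ((adj q (-q) (by omega)).homEquiv (K.X p) (L.X (p + q + 1))).symm
        (K.d p (p + 1) ≫ ψ.f (p + 1) ≫ πT F L Dd (p + q + 1) (-q) (p + 1) (by omega)) :=
    (Adjunction.homEquiv_naturality_left_symm (adj q (-q) (by omega)) (K.d p (p + 1)) _).symm
  rw [h1, h2, ← ψ.comm_assoc,
    d_πT F L Dd (p + q) (p + q + 1) (-q - 1) (-q) p (p + 1) rfl rfl (by omega) (by omega),
    Preadditive.comp_add, Linear.comp_units_smul, Adjunction.homAddEquiv_symm_add,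
    homEquiv_symm_units_smul, Category.assoc,
    compat_symm F E Dd adj compat q (q + 1) (-q) (-q - 1) rfl (by omega) (by omega) (by omega),
    smul_smul, Category.assoc]
  have h3 : p.negOnePow * q.negOnePow = (p + q).negOnePow := by
    rw [Int.negOnePow_add]
  rw [h3, Int.negOnePow_succ, Units.neg_smul]
  abel

/-- the transpose of a map `Tot F(K, E) ⟶ L`. -/
noncomputable def toHom (φ : T F K E ⟶ L) : K ⟶ T F L Dd where
  f p := toFunF F E Dd S adj φ p
  comm' p p' h := by
    obtain rfl : p + 1 = p' := h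
    exact toFunF_comm F E Dd S adj hD compat φ p

/-- the transpose of a map `K ⟶ Tot F(L, D)`. -/
noncomputable def invHom (ψ : K ⟶ T F L Dd) : T F K E ⟶ L where
  f n := invFunF F E Dd adj ψ n
  comm' n n' h := by
    obtain rfl : n + 1 = n' := h
    exact invFunF_comm F E Dd adj compat ψ n

/-- the bijection `Hom(Tot F(K, E), L) ≃ Hom(K, Tot F(L, D))`. -/
noncomputable def totHomEquiv (K L : CochainComplex C ℤ) : (T F K E ⟶ L) ≃ (K ⟶ T F L Dd) where
  toFun φ := toHom F E Dd S adj hD compat φ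
  invFun ψ := invHom F E Dd adj compat ψ
  left_inv φ := by
    ext n : 1
    apply T_hom_ext
    intro p q hpq
    change ιT F K E p q n hpq ≫ invFunF F E Dd adj (toHom F E Dd S adj hD compat φ) n = _
    rw [ι_invFunF F E Dd adj _ p q n (-q) (by omega) hpq]
    unfold cmpL
    change ((adj q (-q) _).homEquiv _ _).symm (toFunF F E Dd S adj φ p ≫ πT F L Dd n (-q) p _) = _
    rw [toFunF_π F E Dd S adj hD φ p n q (-q) (by omega) (by omega)]
    unfold cmpR
    rw [Equiv.symm_apply_apply]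
  right_inv ψ := by
    ext p : 1
    apply T_hom_ext_π F L Dd S hD
    intro m r hmr
    change toFunF F E Dd S adj (invHom F E Dd adj compat ψ) p ≫ πT F L Dd m r p hmr = _
    rw [toFunF_π F E Dd S adj hD _ p m (-r) r (by omega) hmr]
    unfold cmpR
    change (adj (-r) r _).homEquiv _ _ (ιT F K E p (-r) m _ ≫ invFunF F E Dd adj ψ m) = _
    rw [ι_invFunF F E Dd adj ψ p (-r) m r (by omega) (by omega)]
    unfold cmpL
    rw [Equiv.apply_symm_apply]

/-- **the adjunction `Tot F(-, E) ⊣ Tot F(-, D)`.** -/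
noncomputable def totAdj : funL F E ⊣ funL F Dd :=
  Adjunction.mkOfHomEquiv
    { homEquiv := fun K L => totHomEquiv F E Dd S adj hD compat K L
      homEquiv_naturality_left_symm := by
        intro K' K L f g
        ext n : 1
        apply T_hom_ext
        intro p q hpq
        change ιT F K' E p q n hpq ≫ invFunF F E Dd adj (f ≫ g) n =
          ιT F K' E p q n hpq ≫ (mapL F f E).f n ≫ invFunF F E Dd adj g n
        rw [ι_mapL_assoc, ι_invFunF F E Dd adj _ p q n (-q) (by omega) hpq,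
          ι_invFunF F E Dd adj _ p q n (-q) (by omega) hpq]
        unfold cmpL
        rw [HomologicalComplex.comp_f, Category.assoc]
        exact Adjunction.homEquiv_naturality_left_symm (adj q (-q) (by omega)) (f.f p) _
      homEquiv_naturality_right := by
        intro K L L' φ g
        ext p : 1
        apply T_hom_ext_π F L' Dd S hD
        intro m r hmr
        change toFunF F E Dd S adj (φ ≫ g) p ≫ πT F L' Dd m r p hmr =
          (toFunF F E Dd S adj φ p ≫ (mapL F g Dd).f p) ≫ πT F L' Dd m r p hmr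
        rw [Category.assoc, mapL_πT, ← Category.assoc,
          toFunF_π F E Dd S adj hD _ p m (-r) r (by omega) hmr,
          toFunF_π F E Dd S adj hD _ p m (-r) r (by omega) hmr]
        unfold cmpR
        rw [HomologicalComplex.comp_f, ← Category.assoc]
        exact Adjunction.homEquiv_naturality_right (adj (-r) r (by omega)) _ (g.f m) }

end TotAdj

end Groth.Agent.Lib.Helper16.Dua
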