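import Mathlib
import Groth.Prelude.Def_DCoh4
import Groth.Agent.Lib.Helper16.Stk3
import Groth.Prelude.Def_FlatMod2

/-!
# Helper16 — Dua3: natural unitors for the tensor product of `O_X`-modules; finite free modules
are self-dual: the adjunction `- ⊗ A ⊣ - ⊗ A` for `A` finite free, and its compatibility with
transposes.
-/

set_option autoImplicit false
universe u
open CategoryTheory CategoryTheory.Limits AlgebraicGeometry MonoidalCategory

namespace Groth.Agent.Lib.Helper16.Dua

open Groth.Agent.Lib.Helper16.Stk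

variable {X : Scheme.{u}}

instance isIso_adjSh_counit : IsIso (adjSh (X := X)).counit := inferInstance

/-- the natural right unitor `K ⊗ O ≅ K`. -/
noncomputable def unitorR :
    (DCoh.tensorBi (X := X)).flip.obj (Coh.structureModule X) ≅ 𝟭 X.Modules :=
  NatIso.ofComponents
    (fun K => DCoh.shP.mapIso (ρ_ (DCoh.toP.obj K)) ≪≫ (asIso (adjSh (X := X)).counit).app K)
    (fun {K K'} f => by
      change DCoh.shP.map (DCoh.toP.map f ▷ _) ≫ DCoh.shP.map (ρ_ (DCoh.toP.obj K')).hom ≫
        (adjSh (X := X)).counit.app K' =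
        (DCoh.shP.map (ρ_ (DCoh.toP.obj K)).hom ≫ (adjSh (X := X)).counit.app K) ≫ f
      rw [← Functor.map_comp_assoc, rightUnitor_naturality, Functor.map_comp_assoc,
        Category.assoc]
      congr 1
      exact (adjSh (X := X)).counit.naturality f)

/-- the natural left unitor `O ⊗ A ≅ A`. -/
noncomputable def unitorL :
    (DCoh.tensorBi (X := X)).obj (Coh.structureModule X) ≅ 𝟭 X.Modules :=
  NatIso.ofComponents
    (fun A => DCoh.shP.mapIso (λ_ (DCoh.toP.obj A)) ≪≫ (asIso (adjSh (X := X)).counit).app A)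
    (fun {A A'} f => by
      change DCoh.shP.map (_ ◁ DCoh.toP.map f) ≫ DCoh.shP.map (λ_ (DCoh.toP.obj A')).hom ≫
        (adjSh (X := X)).counit.app A' =
        (DCoh.shP.map (λ_ (DCoh.toP.obj A)).hom ≫ (adjSh (X := X)).counit.app A) ≫ f
      rw [← Functor.map_comp_assoc, leftUnitor_naturality, Functor.map_comp_assoc,
        Category.assoc]
      congr 1
      exact (adjSh (X := X)).counit.naturality f)

section Abstract

variable {C : Type*} [Category C] [Preadditive C] (F : C ⥤ C ⥤ C) [∀ K, (F.obj K).Additive]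
  (O : C) (u : F.flip.obj O ≅ 𝟭 C)

/-- a finite free structure on an object: it is a biproduct of `n` copies of `O`. -/
structure FreeData (A : C) where
  n : ℕ
  ι : Fin n → (O ⟶ A)
  π : Fin n → (A ⟶ O)
  ι_π : ∀ i j, ι i ≫ π j = if i = j then 𝟙 O else 0
  sum : ∑ i, π i ≫ ι i = 𝟙 A

variable {O} {A A' A'' : C} (fd : FreeData O A) (fd' : FreeData O A') (fd'' : FreeData O A'')

/-- the inclusions `K ⟶ K ⊗ A`. -/
def ain (i : Fin fd.n) (K : C) : K ⟶ (F.obj K).obj A :=
  u.inv.app K ≫ (F.obj K).map (fd.ι i)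

/-- the projections `K ⊗ A ⟶ K`. -/
def bpr (i : Fin fd.n) (K : C) : (F.obj K).obj A ⟶ K :=
  (F.obj K).map (fd.π i) ≫ u.hom.app K

/-- the action of an endomorphism of `O` on any object. -/
def act (c : O ⟶ O) (K : C) : K ⟶ K :=
  u.inv.app K ≫ (F.obj K).map c ≫ u.hom.app K

lemma ain_bpr (i j : Fin fd.n) (K : C) :
    ain F u fd i K ≫ bpr F u fd j K = if i = j then 𝟙 K else 0 := by
  unfold ain bpr
  rw [Category.assoc, ← Functor.map_comp_assoc, fd.ι_π]
  split_ifs
  · rw [CategoryTheory.Functor.map_id, Category.id_comp]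
    exact u.inv_hom_id_app K
  · rw [Functor.map_zero, zero_comp, comp_zero]

lemma ain_bpr_self (i : Fin fd.n) (K : C) : ain F u fd i K ≫ bpr F u fd i K = 𝟙 K := by
  rw [ain_bpr, if_pos rfl]

lemma ain_bpr_of_ne {i j : Fin fd.n} (h : i ≠ j) (K : C) :
    ain F u fd i K ≫ bpr F u fd j K = 0 := by
  rw [ain_bpr, if_neg h]

lemma sum_bpr_ain (K : C) : ∑ i, bpr F u fd i K ≫ ain F u fd i K = 𝟙 _ := by
  have h : ∀ i, bpr F u fd i K ≫ ain F u fd i K = (F.obj K).map (fd.π i ≫ fd.ι i) := by
    intro i
    unfold ain bpr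
    rw [Category.assoc, Iso.hom_inv_id_app_assoc, Functor.map_comp]
  simp only [h]
  rw [← Functor.map_sum, fd.sum, CategoryTheory.Functor.map_id]

lemma ain_nat (i : Fin fd.n) {K K' : C} (f : K ⟶ K') :
    ain F u fd i K ≫ (F.map f).app A = f ≫ ain F u fd i K' := by
  unfold ain
  have h1 := (F.map f).naturality (fd.ι i)
  have h2 : f ≫ u.inv.app K' = u.inv.app K ≫ (F.map f).app O := u.inv.naturality f
  rw [Category.assoc, h1, ← Category.assoc, ← h2, Category.assoc]

lemma bpr_nat (i : Fin fd.n) {K K' : C} (f : K ⟶ K') :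
    (F.map f).app A ≫ bpr F u fd i K' = bpr F u fd i K ≫ f := by
  unfold bpr
  have h1 := (F.map f).naturality (fd.π i)
  have h2 : (F.map f).app O ≫ u.hom.app K' = u.hom.app K ≫ f := u.hom.naturality f
  rw [← Category.assoc, ← h1, Category.assoc, h2, Category.assoc]

lemma act_nat (c : O ⟶ O) {K L : C} (g : K ⟶ L) : act F u c K ≫ g = g ≫ act F u c L := by
  unfold act
  have h1 := (F.map g).naturality c
  have h2 : (F.map g).app O ≫ u.hom.app L = u.hom.app K ≫ g := u.hom.naturality g
  have h3 : g ≫ u.inv.app L = u.inv.app K ≫ (F.map g).app O := u.inv.naturality g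
  rw [Category.assoc, Category.assoc, ← h2, ← Category.assoc ((F.obj K).map c), h1,
    Category.assoc, ← Category.assoc g, h3, Category.assoc]

lemma sum_comp_ain_bpr {Z K : C} (g : Fin fd.n → (Z ⟶ K)) (j : Fin fd.n) :
    (∑ i, g i ≫ ain F u fd i K) ≫ bpr F u fd j K = g j := by
  rw [Preadditive.sum_comp, Finset.sum_eq_single j]
  · rw [Category.assoc, ain_bpr_self, Category.comp_id]
  · intro i _ hij
    rw [Category.assoc, ain_bpr_of_ne F u fd hij, comp_zero]
  · intro h
    exact absurd (Finset.mem_univ j) h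

lemma ain_comp_sum_bpr {Z K : C} (h : Fin fd.n → (K ⟶ Z)) (i : Fin fd.n) :
    ain F u fd i K ≫ ∑ j, bpr F u fd j K ≫ h j = h i := by
  rw [Preadditive.comp_sum, Finset.sum_eq_single i]
  · rw [← Category.assoc, ain_bpr_self, Category.id_comp]
  · intro j _ hji
    rw [← Category.assoc, ain_bpr_of_ne F u fd (Ne.symm hji), zero_comp]
  · intro h'
    exact absurd (Finset.mem_univ i) h'

/-- **finite free objects are self-dual**: the adjunction `- ⊗ A ⊣ - ⊗ A`. -/
def freeAdj : F.flip.obj A ⊣ F.flip.obj A :=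
  Adjunction.mkOfHomEquiv
    { homEquiv := fun K L =>
        { toFun := fun φ => ∑ i, ain F u fd i K ≫ φ ≫ ain F u fd i L
          invFun := fun ψ => ∑ i, bpr F u fd i K ≫ ψ ≫ bpr F u fd i L
          left_inv := fun φ => by
            change ∑ j, bpr F u fd j K ≫ (∑ i, ain F u fd i K ≫ φ ≫ ain F u fd i L) ≫
              bpr F u fd j L = φ
            have h : ∀ j, bpr F u fd j K ≫ (∑ i, ain F u fd i K ≫ φ ≫ ain F u fd i L) ≫
                bpr F u fd j L = (bpr F u fd j K ≫ ain F u fd j K) ≫ φ := by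
              intro j
              have := sum_comp_ain_bpr F u fd (fun i => ain F u fd i K ≫ φ) j
              simp only [Category.assoc] at this
              rw [this, Category.assoc]
            simp only [h]
            rw [← Preadditive.sum_comp, sum_bpr_ain]
            exact Category.id_comp φ
          right_inv := fun ψ => by
            change ∑ i, ain F u fd i K ≫ (∑ j, bpr F u fd j K ≫ ψ ≫ bpr F u fd j L) ≫
              ain F u fd i L = ψ
            have h : ∀ i, ain F u fd i K ≫ (∑ j, bpr F u fd j K ≫ ψ ≫ bpr F u fd j L) ≫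
                ain F u fd i L = ψ ≫ bpr F u fd i L ≫ ain F u fd i L := by
              intro i
              rw [← Category.assoc, ain_comp_sum_bpr F u fd (fun j => ψ ≫ bpr F u fd j L) i,
                Category.assoc]
            simp only [h]
            rw [← Preadditive.comp_sum, sum_bpr_ain]
            exact Category.comp_id ψ }
      homEquiv_naturality_left_symm := by
        intro K' K L f g
        change ∑ i, bpr F u fd i K' ≫ (f ≫ g) ≫ bpr F u fd i L =
          (F.map f).app A ≫ ∑ i, bpr F u fd i K ≫ g ≫ bpr F u fd i L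
        rw [Preadditive.comp_sum]
        refine Finset.sum_congr rfl (fun i _ => ?_)
        rw [← Category.assoc ((F.map f).app A), bpr_nat, Category.assoc, Category.assoc]
      homEquiv_naturality_right := by
        intro K L L' φ g
        change ∑ i, ain F u fd i K ≫ (φ ≫ g) ≫ ain F u fd i L' =
          (∑ i, ain F u fd i K ≫ φ ≫ ain F u fd i L) ≫ (F.map g).app A
        rw [Preadditive.sum_comp]
        refine Finset.sum_congr rfl (fun i _ => ?_)
        rw [Category.assoc, Category.assoc, Category.assoc, ain_nat] }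

lemma freeAdj_homEquiv_apply {K L : C} (φ : (F.obj K).obj A ⟶ L) :
    (freeAdj F u fd).homEquiv K L φ = ∑ i, ain F u fd i K ≫ φ ≫ ain F u fd i L := by
  simp [freeAdj]

/-- the transpose of a map between finite free objects. -/
def transp (d : A ⟶ A') : A' ⟶ A :=
  ∑ i, ∑ j, fd'.π j ≫ (fd.ι i ≫ d ≫ fd'.π j) ≫ fd.ι i

lemma transp_zero : transp fd fd' (0 : A ⟶ A') = 0 := by
  simp [transp]

lemma ain_comp_map (d : A ⟶ A') (i : Fin fd.n) (K : C) :
    ain F u fd i K ≫ (F.obj K).map d =
      ∑ j, act F u (fd.ι i ≫ d ≫ fd'.π j) K ≫ ain F u fd' j K := by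
  have h : fd.ι i ≫ d = ∑ j, (fd.ι i ≫ d ≫ fd'.π j) ≫ fd'.ι j := by
    have h0 := congrArg (fun t => (fd.ι i ≫ d) ≫ t) fd'.sum
    simp only [Preadditive.comp_sum, Category.comp_id, Category.assoc] at h0
    simp only [Category.assoc]
    exact h0.symm
  unfold ain act
  rw [Category.assoc, ← Functor.map_comp, h, Functor.map_sum, Preadditive.comp_sum]
  refine Finset.sum_congr rfl (fun j _ => ?_)
  rw [Functor.map_comp, Category.assoc, Category.assoc, Iso.hom_inv_id_app_assoc]

lemma ain_comp_map_transp (d : A ⟶ A') (j : Fin fd'.n) (L : C) :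
    ain F u fd' j L ≫ (F.obj L).map (transp fd fd' d) =
      ∑ i, act F u (fd.ι i ≫ d ≫ fd'.π j) L ≫ ain F u fd i L := by
  have h : fd'.ι j ≫ transp fd fd' d = ∑ i, (fd.ι i ≫ d ≫ fd'.π j) ≫ fd.ι i := by
    unfold transp
    rw [Preadditive.comp_sum]
    refine Finset.sum_congr rfl (fun i _ => ?_)
    rw [Preadditive.comp_sum, Finset.sum_eq_single j]
    · rw [← Category.assoc, fd'.ι_π, if_pos rfl, Category.id_comp]
    · intro j' _ hj'
      rw [← Category.assoc, fd'.ι_π, if_neg (Ne.symm hj'), zero_comp]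
    · intro h'
      exact absurd (Finset.mem_univ j) h'
  unfold ain act
  rw [Category.assoc, ← Functor.map_comp, h, Functor.map_sum, Preadditive.comp_sum]
  refine Finset.sum_congr rfl (fun i _ => ?_)
  rw [Functor.map_comp, Category.assoc, Category.assoc, Iso.hom_inv_id_app_assoc]

/-- **the self-duality adjunctions of finite free objects are compatible with transposes.** -/
theorem freeAdj_compat (d : A ⟶ A') {K L : C} (φ : (F.obj K).obj A' ⟶ L) :
    (freeAdj F u fd).homEquiv K L ((F.obj K).map d ≫ φ) =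
      (freeAdj F u fd').homEquiv K L φ ≫ (F.obj L).map (transp fd fd' d) := by
  rw [freeAdj_homEquiv_apply, freeAdj_homEquiv_apply, Preadditive.sum_comp]
  have hL : ∀ i, ain F u fd i K ≫ ((F.obj K).map d ≫ φ) ≫ ain F u fd i L =
      ∑ j, act F u (fd.ι i ≫ d ≫ fd'.π j) K ≫ ain F u fd' j K ≫ φ ≫ ain F u fd i L := by
    intro i
    rw [Category.assoc, ← Category.assoc (ain F u fd i K), ain_comp_map F u fd fd' d i K,
      Preadditive.sum_comp]
    refine Finset.sum_congr rfl (fun j _ => ?_)
    rw [Category.assoc]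
  have hR : ∀ j, (ain F u fd' j K ≫ φ ≫ ain F u fd' j L) ≫ (F.obj L).map (transp fd fd' d) =
      ∑ i, act F u (fd.ι i ≫ d ≫ fd'.π j) K ≫ ain F u fd' j K ≫ φ ≫ ain F u fd i L := by
    intro j
    rw [Category.assoc, Category.assoc, ain_comp_map_transp F u fd fd' d j L,
      Preadditive.comp_sum, Preadditive.comp_sum]
    refine Finset.sum_congr rfl (fun i _ => ?_)
    rw [← Category.assoc φ, ← Category.assoc (ain F u fd' j K), ← Category.assoc (ain F u fd' j K),
      ← act_nat F u _ (ain F u fd' j K ≫ φ), Category.assoc, Category.assoc]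
  simp only [hL, hR]
  exact Finset.sum_comm

variable (l : F.obj O ≅ 𝟭 C)

include l in
omit [∀ K, (F.obj K).Additive] in
lemma eq_zero_of_map_eq_zero {B B' : C} (t : B ⟶ B') (h : (F.obj O).map t = 0) : t = 0 := by
  have h1 : (F.obj O).map t ≫ l.hom.app B' = l.hom.app B ≫ t := l.hom.naturality t
  rw [h, zero_comp] at h1
  have h2 : l.inv.app B ≫ l.hom.app B ≫ t = 0 := by rw [← h1, comp_zero]
  rwa [Iso.inv_hom_id_app_assoc] at h2

include u l in
theorem transp_comp_eq_zero (d₁ : A ⟶ A') (d₂ : A' ⟶ A'') (h : d₁ ≫ d₂ = 0) :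
    transp fd' fd'' d₂ ≫ transp fd fd' d₁ = 0 := by
  apply eq_zero_of_map_eq_zero F l
  let φ := ((freeAdj F u fd'').homEquiv ((F.obj O).obj A'') O).symm (𝟙 _)
  have h1 := freeAdj_compat F u fd fd' d₁ ((F.obj ((F.obj O).obj A'')).map d₂ ≫ φ)
  rw [freeAdj_compat F u fd' fd'' d₂ φ, Equiv.apply_symm_apply, Category.assoc,
    ← Functor.map_comp] at h1
  have h2 : (F.obj O).map (transp fd' fd'' d₂ ≫ transp fd fd' d₁) =
      𝟙 _ ≫ (F.obj O).map (transp fd' fd'' d₂ ≫ transp fd fd' d₁) := (Category.id_comp _).symm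
  rw [h2, ← h1, ← Category.assoc, ← Functor.map_comp, h, Functor.map_zero, zero_comp,
    freeAdj_homEquiv_apply]
  simp

section DualCx

variable (P : CochainComplex C ℤ) (fdP : ∀ q, FreeData O (P.X q))

/-- the dual of a complex of finite free objects. -/
def dualCx : CochainComplex C ℤ where
  X r := P.X (-r)
  d r r' := (-r').negOnePow • transp (fdP (-r')) (fdP (-r)) (P.d (-r') (-r))
  shape r r' h := by
    have h0 : P.d (-r') (-r) = 0 :=
      P.shape _ _ (by simp only [ComplexShape.up_Rel] at h ⊢; omega)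
    rw [h0, transp_zero, smul_zero]
  d_comp_d' r r' r'' _ _ := by
    rw [Linear.units_smul_comp, Linear.comp_units_smul,
      transp_comp_eq_zero F u _ _ _ l _ _ (P.d_comp_d _ _ _), smul_zero, smul_zero]

/-- the termwise adjunctions between a complex of finite free objects and its dual. -/
def dualAdj (q r : ℤ) (h : q + r = 0) :
    F.flip.obj (P.X q) ⊣ F.flip.obj ((dualCx F u l P fdP).X r) := by
  obtain rfl : q = -r := by omega
  exact freeAdj F u (fdP (-r))

theorem dualAdj_compat (q q' r r' : ℤ) (hq : q + 1 = q') (hr : r' + 1 = r) (h : q + r = 0)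
    (h' : q' + r' = 0) (A B : C) (φ : (F.obj A).obj (P.X q') ⟶ B) :
    (dualAdj F u l P fdP q r h).homEquiv A B ((F.obj A).map (P.d q q') ≫ φ) =
      q.negOnePow • ((dualAdj F u l P fdP q' r' h').homEquiv A B φ ≫
        (F.obj B).map ((dualCx F u l P fdP).d r' r)) := by
  obtain rfl : q = -r := by omega
  obtain rfl : q' = -r' := by omega
  change (freeAdj F u (fdP (-r))).homEquiv A B _ = (-r).negOnePow •
    ((freeAdj F u (fdP (-r'))).homEquiv A B φ ≫ (F.obj B).map
      ((-r).negOnePow • transp (fdP (-r)) (fdP (-r')) (P.d (-r) (-r'))))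
  rw [Functor.map_units_smul, Linear.comp_units_smul, smul_smul, Int.units_mul_self, one_smul]
  exact freeAdj_compat F u (fdP (-r)) (fdP (-r')) (P.d (-r) (-r')) φ

end DualCx

end Abstract

section FreeMod

open Classical in
/-- the finite free structure on a module isomorphic to `O^n`. -/
noncomputable def freeDataOfIso {A : X.Modules} {n : ℕ} (e : A ≅ FlatMod.freeMod X n) :
    FreeData (Coh.structureModule X) A where
  n := n
  ι i := Sigma.ι (fun _ : Fin n => Coh.structureModule X) i ≫ e.inv
  π j := e.hom ≫ Sigma.desc (fun i => if i = j then 𝟙 (Coh.structureModule X) else 0)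
  ι_π i j := by
    rw [Category.assoc, Iso.inv_hom_id_assoc, Sigma.ι_desc]
  sum := by
    have h : ∑ i : Fin n, Sigma.desc (fun k => if k = i then 𝟙 (Coh.structureModule X) else 0) ≫
        Sigma.ι (fun _ : Fin n => Coh.structureModule X) i = 𝟙 _ := by
      apply Sigma.hom_ext
      intro k
      rw [Preadditive.comp_sum, Category.comp_id, Finset.sum_eq_single k]
      · rw [Sigma.ι_desc_assoc, if_pos rfl, Category.id_comp]
      · intro i _ hik
        rw [Sigma.ι_desc_assoc, if_neg (Ne.symm hik), zero_comp]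
      · intro h'
        exact absurd (Finset.mem_univ k) h'
    have h2 : ∀ i : Fin n, (e.hom ≫ Sigma.desc (fun k => if k = i then 𝟙 (Coh.structureModule X)
        else 0)) ≫ Sigma.ι (fun _ : Fin n => Coh.structureModule X) i ≫ e.inv =
        e.hom ≫ (Sigma.desc (fun k => if k = i then 𝟙 (Coh.structureModule X) else 0) ≫
          Sigma.ι (fun _ : Fin n => Coh.structureModule X) i) ≫ e.inv := by
      intro i
      simp only [Category.assoc]
    simp only [h2]
    rw [← Preadditive.comp_sum, ← Preadditive.sum_comp, h, Category.id_comp, Iso.hom_inv_id]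

end FreeMod

end Groth.Agent.Lib.Helper16.Dua
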