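import Groth.Agent.Lib.Helper16.JS5
import Groth.Agent.Lib.Helper16.KD12
import Groth.Agent.Lib.Helper6.DerivedCatAdj

/-!
# Helper16 — JS6: the derived projection formula for extension by zero, and the compatibility of
the internal `RHom` with restriction to an open subscheme
-/

set_option autoImplicit false
universe u
open CategoryTheory CategoryTheory.Limits HomologicalComplex AlgebraicGeometry

attribute [local instance] HasDerivedCategory.standard

namespace Groth.Agent.Lib.Helper16.JS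
open Groth.Agent.Lib.Helper16.Stk Groth.Agent.Lib.Helper16.BiCx Groth.Agent.Lib.Helper16.RM
  Groth.Agent.Lib.Helper16.RS Groth.Agent.Lib.Helper16.KD

variable {U X : Scheme.{u}} (j : U ⟶ X) [IsOpenImmersion j]

/-- extension by zero on derived categories. -/
noncomputable abbrev jSD : DCoh.D U ⥤ DCoh.D X := (jS j).mapDerivedCategory

/-- `Q ⋙ j_! ≅ j_! ⋙ Q`. -/
noncomputable abbrev jSFac : DerivedCategory.Q ⋙ jSD j ≅ jSCx j ⋙ DerivedCategory.Q :=
  (jS j).mapDerivedCategoryFactors

/-- **`j_! ⊣ j^*` on derived categories.** -/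
noncomputable def jSDAdj : jSD j ⊣ RD j :=
  Groth.Agent.Lib.Helper6.DerivedCatAdj.mapDerivedCategoryAdj (jSAdj j)

variable (K : CochainComplex X.Modules ℤ)

/-- the projection formula for complexes, as a natural isomorphism. -/
noncomputable def projNatIso :
    jSCx j ⋙ funL (DCoh.tensorBi (X := X)) K ≅
      funL (DCoh.tensorBi (X := U)) ((RCx j).obj K) ⋙ jSCx j :=
  NatIso.ofComponents (fun P => projCxIso j P K) (fun f => projCxIso_hom_natL j f K)

/-- the functor `P ↦ j_!P ⊗ K` to the derived category. -/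
noncomputable abbrev GG : CochainComplex U.Modules ℤ ⥤ DCoh.D X := jSCx j ⋙ DCoh.tensorCxQ K

lemma invertsKFlat_GG : InvertsKFlat (GG j K) := by
  intro P P' s hP hP' hs
  haveI := hs
  exact invertsKFlat_tensorCxQ K ((jSCx j).map s) (isKFlat_jSCx j P hP) (isKFlat_jSCx j P' hP')
    inferInstance

variable [DCoh.HasLTensorCx K] [DCoh.HasLTensorCx ((RCx j).obj K)]

/-- the structure map exhibiting `j_! ⋙ (- ⊗^L K)` as a left derived functor of `GG`. -/
noncomputable def α₂ : DerivedCategory.Q ⋙ (jSD j ⋙ DCoh.LTensorCx K) ⟶ GG j K :=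
  (Functor.associator _ _ _).inv ≫
    Functor.whiskerRight (jSFac j).hom (DCoh.LTensorCx K) ≫
    (Functor.associator _ _ _).hom ≫
    Functor.whiskerLeft (jSCx j) (LTensorCxCounit K)

omit [DCoh.HasLTensorCx ((RCx j).obj K)] in
lemma α₂_app (P : CochainComplex U.Modules ℤ) :
    (α₂ j K).app P = (DCoh.LTensorCx K).map ((jSFac j).hom.app P) ≫
      (LTensorCxCounit K).app ((jSCx j).obj P) := by
  simp [α₂]

/-- the structure map exhibiting `(- ⊗^L j^*K) ⋙ j_!` as a left derived functor of `GG`. -/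
noncomputable def α₁ :
    DerivedCategory.Q ⋙ (DCoh.LTensorCx ((RCx j).obj K) ⋙ jSD j) ⟶ GG j K :=
  (Functor.associator _ _ _).inv ≫
    Functor.whiskerRight (LTensorCxCounit ((RCx j).obj K)) (jSD j) ≫
    (Functor.associator _ _ _).hom ≫
    Functor.whiskerLeft (funL (DCoh.tensorBi (X := U)) ((RCx j).obj K)) (jSFac j).hom ≫
    (Functor.associator _ _ _).inv ≫
    Functor.whiskerRight (projNatIso j K).inv DerivedCategory.Q ≫
    (Functor.associator _ _ _).hom

omit [DCoh.HasLTensorCx K] in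
lemma α₁_app (P : CochainComplex U.Modules ℤ) :
    (α₁ j K).app P = (jSD j).map ((LTensorCxCounit ((RCx j).obj K)).app P) ≫
      (jSFac j).hom.app ((funL (DCoh.tensorBi (X := U)) ((RCx j).obj K)).obj P) ≫
        DerivedCategory.Q.map ((projNatIso j K).inv.app P) := by
  simp [α₁]

instance isLeftDerivedFunctor₂ :
    (jSD j ⋙ DCoh.LTensorCx K).IsLeftDerivedFunctor (α₂ j K) (qis U) :=
  isLeftDerivedFunctor_of_isIso (invertsKFlat_GG j K) (α₂ j K) (fun P hP => by
    rw [α₂_app]
    haveI := isIso_LTensorCxCounit_app K ((jSCx j).obj P) (isKFlat_jSCx j P hP)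
    infer_instance)

instance isLeftDerivedFunctor₁ :
    (DCoh.LTensorCx ((RCx j).obj K) ⋙ jSD j).IsLeftDerivedFunctor (α₁ j K) (qis U) :=
  isLeftDerivedFunctor_of_isIso (invertsKFlat_GG j K) (α₁ j K) (fun P hP => by
    rw [α₁_app]
    haveI := isIso_LTensorCxCounit_app ((RCx j).obj K) P hP
    infer_instance)

/-- **the derived projection formula for extension by zero**:
`j_!(- ⊗^L j^*K) ≅ j_!(-) ⊗^L K`. -/
noncomputable def derivedProjIso :
    DCoh.LTensorCx ((RCx j).obj K) ⋙ jSD j ≅ jSD j ⋙ DCoh.LTensorCx K :=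
  Functor.leftDerivedUnique _ _ (α₁ j K) (α₂ j K) (qis U)

variable [DCoh.HasRSheafHom K] [DCoh.HasRSheafHom ((RCx j).obj K)]

/-- **the internal `RHom` commutes with restriction to an open subscheme**:
`RHom(j^*K, j^*(-)) ≅ j^* RHom(K, -)`. -/
noncomputable def restrictRSheafHomIso :
    RD j ⋙ DCoh.RSheafHom ((RCx j).obj K) ≅ DCoh.RSheafHom K ⋙ RD j :=
  Adjunction.rightAdjointUniq
    (((DCoh.RSheafHomAdj ((RCx j).obj K)).comp (jSDAdj j)).ofNatIsoLeft (derivedProjIso j K))
    ((jSDAdj j).comp (DCoh.RSheafHomAdj K))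

end Groth.Agent.Lib.Helper16.JS
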