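import Mathlib
import Groth.Prelude.Def_DCoh4
import Groth.Agent.Lib.Helper16.TA3

/-!
# Helper16 — TA4: the associator of the tensor product of complexes of `O_X`-modules
-/

set_option autoImplicit false
universe u
open CategoryTheory CategoryTheory.Limits AlgebraicGeometry MonoidalCategory HomologicalComplex

namespace Groth.Agent.Lib.Helper16.TA

open Groth.Agent.Lib.Helper16.Stk

variable {X : Scheme.{u}}

/-- short name for the tensor bifunctor. -/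
noncomputable abbrev TB : X.Modules ⥤ X.Modules ⥤ X.Modules := DCoh.tensorBi (X := X)

/-- the complex shape of cochain complexes indexed by `ℤ`, in the syntactic form used by
`CochainComplex`. -/
abbrev cz : ComplexShape ℤ :=
  @ComplexShape.up ℤ (@AddSemigroup.toAdd ℤ (@AddRightCancelSemigroup.toAddSemigroup ℤ
    inferInstance)) inferInstance inferInstance

/-- the tensor product of two complexes. -/
noncomputable abbrev TT (A B : CochainComplex X.Modules ℤ) : CochainComplex X.Modules ℤ :=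
  mapBifunctor A B TB cz

/-- `f ⊗ B`. -/
noncomputable abbrev mL {A A' : CochainComplex X.Modules ℤ} (f : A ⟶ A')
    (B : CochainComplex X.Modules ℤ) : TT A B ⟶ TT A' B :=
  mapBifunctorMap f (𝟙 B) TB cz

lemma tensorCx_obj_obj (A B : CochainComplex X.Modules ℤ) :
    (DCoh.tensorCx.obj A).obj B = TT A B := rfl

lemma tensorCx_map_app {A A' : CochainComplex X.Modules ℤ} (f : A ⟶ A')
    (B : CochainComplex X.Modules ℤ) : (DCoh.tensorCx.map f).app B = mL f B := rfl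

lemma ι_mL {A A' : CochainComplex X.Modules ℤ} (f : A ⟶ A') (B : CochainComplex X.Modules ℤ)
    (p q n : ℤ) (h : ComplexShape.π cz cz cz (p, q) = n) :
    ιMapBifunctor A B TB cz p q n h ≫ (mL f B).f n =
      (TB.map (f.f p)).app (B.X q) ≫ ιMapBifunctor A' B TB cz p q n h := by
  refine (ι_mapBifunctorMap f (𝟙 B) TB cz p q n h).trans ?_
  simp

variable (K₁ K₂ K₃ : CochainComplex X.Modules ℤ)

instance hasGood₁₂ : HasGoodTrifunctor₁₂Obj (TB (X := X)) TB K₁ K₂ K₃ cz cz :=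
  fun _ _ => inferInstance

instance hasGood₂₃ : HasGoodTrifunctor₂₃Obj (TB (X := X)) TB K₁ K₂ K₃ cz cz cz :=
  fun _ _ => inferInstance

/-- **the associator of the tensor product of complexes of `O_X`-modules.** -/
noncomputable def assocCx : TT (TT K₁ K₂) K₃ ≅ TT K₁ (TT K₂ K₃) :=
  mapBifunctorAssociator (assocNatIso (X := X)) K₁ K₂ K₃ cz cz cz

variable {K₁} in
lemma ι₁₂_mL_mL {K₁' : CochainComplex X.Modules ℤ} (f : K₁ ⟶ K₁') (i₁ i₂ i₃ j : ℤ)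
    (h : ComplexShape.r cz cz cz cz cz (i₁, i₂, i₃) = j) :
    mapBifunctor₁₂.ι (TB (X := X)) TB K₁ K₂ K₃ cz cz i₁ i₂ i₃ j h ≫ (mL (mL f K₂) K₃).f j =
      (((bifunctorComp₁₂ (TB (X := X)) TB).map (f.f i₁)).app (K₂.X i₂)).app (K₃.X i₃) ≫
        mapBifunctor₁₂.ι (TB (X := X)) TB K₁' K₂ K₃ cz cz i₁ i₂ i₃ j h := by
  have h' : ComplexShape.π cz cz cz (i₁ + i₂, i₃) = j := h
  rw [mapBifunctor₁₂.ι_eq TB TB K₁ K₂ K₃ cz cz i₁ i₂ i₃ (i₁ + i₂) j rfl h',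
    mapBifunctor₁₂.ι_eq TB TB K₁' K₂ K₃ cz cz i₁ i₂ i₃ (i₁ + i₂) j rfl h']
  rw [Category.assoc, ι_mL (mL f K₂) K₃ (i₁ + i₂) i₃ j h']
  rw [← Category.assoc, ← NatTrans.comp_app, ← Functor.map_comp,
    ι_mL f K₂ i₁ i₂ (i₁ + i₂) rfl]
  rw [Functor.map_comp, NatTrans.comp_app, Category.assoc]
  rfl

variable {K₁} in
lemma ι₂₃_mL₀ {K₁' : CochainComplex X.Modules ℤ} (f : K₁ ⟶ K₁') (i₁ i₂ i₃ j : ℤ)
    (h : ComplexShape.r cz cz cz cz cz (i₁, i₂, i₃) = j) :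
    mapBifunctor₂₃.ι (TB (X := X)) TB K₁ K₂ K₃ cz cz cz i₁ i₂ i₃ j h ≫ (mL f (TT K₂ K₃)).f j =
      (TB.map (f.f i₁)).app ((TB.obj (K₂.X i₂)).obj (K₃.X i₃)) ≫
        mapBifunctor₂₃.ι (TB (X := X)) TB K₁' K₂ K₃ cz cz cz i₁ i₂ i₃ j h := by
  have h' : ComplexShape.π cz cz cz (i₁, i₂ + i₃) = j := by
    rw [← h]
    exact (add_assoc i₁ i₂ i₃).symm
  have e1 := mapBifunctor₂₃.ι_eq TB TB K₁ K₂ K₃ cz cz cz i₁ i₂ i₃ (i₂ + i₃) j rfl h'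
  have e2 := mapBifunctor₂₃.ι_eq TB TB K₁' K₂ K₃ cz cz cz i₁ i₂ i₃ (i₂ + i₃) j rfl h'
  rw [e1, e2, Category.assoc]
  have e3 := ι_mL f (TT K₂ K₃) i₁ (i₂ + i₃) j h'
  have e4 := (TB.map (f.f i₁)).naturality (ιMapBifunctor K₂ K₃ TB cz i₂ i₃ (i₂ + i₃) rfl)
  refine (congrArg (fun t => _ ≫ t) e3).trans ?_
  rw [← Category.assoc, ← Category.assoc]
  exact congrArg (fun t => t ≫ _) e4

variable {K₁} in
lemma ι₂₃_mL {K₁' : CochainComplex X.Modules ℤ} (f : K₁ ⟶ K₁') (i₁ i₂ i₃ j : ℤ)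
    (h : ComplexShape.r cz cz cz cz cz (i₁, i₂, i₃) = j) :
    mapBifunctor₂₃.ι (TB (X := X)) TB K₁ K₂ K₃ cz cz cz i₁ i₂ i₃ j h ≫ (mL f (TT K₂ K₃)).f j =
      (((bifunctorComp₂₃ (TB (X := X)) TB).map (f.f i₁)).app (K₂.X i₂)).app (K₃.X i₃) ≫
        mapBifunctor₂₃.ι (TB (X := X)) TB K₁' K₂ K₃ cz cz cz i₁ i₂ i₃ j h :=
  ι₂₃_mL₀ K₂ K₃ f i₁ i₂ i₃ j h

lemma paste3 {C : Type*} [Category C] {P P' Q Q' R R' S S' : C}
    (ι : P ⟶ R) (ι' : P' ⟶ R') (M : R ⟶ R') (A : P ⟶ P') (α : R ⟶ S) (α' : R' ⟶ S')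
    (a : P ⟶ Q) (a' : P' ⟶ Q') (κ : Q ⟶ S) (κ' : Q' ⟶ S') (m : S ⟶ S') (B : Q ⟶ Q')
    (e0 : ι ≫ M = A ≫ ι') (e1 : ι' ≫ α' = a' ≫ κ') (e2 : ι ≫ α = a ≫ κ)
    (e5 : κ ≫ m = B ≫ κ') (e6 : A ≫ a' = a ≫ B) :
    ι ≫ (M ≫ α') = ι ≫ (α ≫ m) := by
  rw [← Category.assoc, e0, Category.assoc, e1, ← Category.assoc, e6, Category.assoc, ← e5,
    ← Category.assoc, ← e2, Category.assoc]

variable {K₁} in
/-- **the associator is natural in the first variable.** -/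
lemma assocCx_nat₁ {K₁' : CochainComplex X.Modules ℤ} (f : K₁ ⟶ K₁') :
    mL (mL f K₂) K₃ ≫ (assocCx K₁' K₂ K₃).hom = (assocCx K₁ K₂ K₃).hom ≫ mL f (TT K₂ K₃) := by
  apply HomologicalComplex.hom_ext
  intro j
  refine mapBifunctor₁₂.hom_ext (F₁₂ := TB (X := X)) (G := TB) (K₁ := K₁) (K₂ := K₂) (K₃ := K₃)
    (c₁₂ := cz) (c₄ := cz) (fun i₁ i₂ i₃ h => ?_)
  rw [HomologicalComplex.comp_f, HomologicalComplex.comp_f]
  have e0 := ι₁₂_mL_mL K₂ K₃ f i₁ i₂ i₃ j h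
  have e1 : mapBifunctor₁₂.ι (TB (X := X)) TB K₁' K₂ K₃ cz cz i₁ i₂ i₃ j h ≫
      (assocCx K₁' K₂ K₃).hom.f j = _ :=
    ι_mapBifunctorAssociatorX_hom (assocNatIso (X := X)) K₁' K₂ K₃ cz cz cz i₁ i₂ i₃ j h
  have e2 : mapBifunctor₁₂.ι (TB (X := X)) TB K₁ K₂ K₃ cz cz i₁ i₂ i₃ j h ≫
      (assocCx K₁ K₂ K₃).hom.f j = _ :=
    ι_mapBifunctorAssociatorX_hom (assocNatIso (X := X)) K₁ K₂ K₃ cz cz cz i₁ i₂ i₃ j h
  have e5 := ι₂₃_mL K₂ K₃ f i₁ i₂ i₃ j h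
  have e6 := NatTrans.naturality_app_app (assocNatIso (X := X)).hom (f.f i₁) (K₂.X i₂) (K₃.X i₃)
  exact paste3 _ _ _ _ _ _ _ _ _ _ _ _ e0 e1 e2 e5 e6

set_option maxHeartbeats 1600000 in
/-- **`(- ⊗ K₂) ⊗ K₃ ≅ - ⊗ (K₂ ⊗ K₃)` as functors on complexes.** -/
noncomputable def assocCxNatIso :
    (DCoh.tensorCx (X := X)).flip.obj K₂ ⋙ (DCoh.tensorCx (X := X)).flip.obj K₃ ≅
      (DCoh.tensorCx (X := X)).flip.obj ((DCoh.tensorCx.obj K₂).obj K₃) :=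
  NatIso.ofComponents (fun N => assocCx N K₂ K₃) (fun f => assocCx_nat₁ K₂ K₃ f)

end Groth.Agent.Lib.Helper16.TA
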