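import Mathlib
import Groth.Prelude.Def_DCoh4
import Groth.Agent.Lib.Helper16.TA4
import Groth.Agent.Lib.Helper16.KD12

/-!
# Helper16 — TA5: `(- ⊗^L K) ⊗^L L ≅ - ⊗^L (K ⊗ L)` for `L` K-flat; internal hom adjunction
-/

set_option autoImplicit false
universe u
open CategoryTheory CategoryTheory.Limits AlgebraicGeometry MonoidalCategory

attribute [local instance] HasDerivedCategory.standard

namespace Groth.Agent.Lib.Helper16.TA

open Groth.Agent.Lib.Helper16.KD

variable {X : Scheme.{u}} (K L : CochainComplex X.Modules ℤ)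
  [DCoh.HasLTensorCx K] [DCoh.HasLTensorCx L] [DCoh.HasLTensorCx ((DCoh.tensorCx.obj K).obj L)]

/-- **`(- ⊗^L K) ⊗^L L ≅ - ⊗^L (K ⊗ L)` when `L` is K-flat.** -/
theorem nonempty_LTensorCx_comp_iso (hL : DCoh.IsKFlat L) :
    Nonempty (DCoh.LTensorCx K ⋙ DCoh.LTensorCx L ≅
      DCoh.LTensorCx ((DCoh.tensorCx.obj K).obj L)) := by
  let β : DerivedCategory.Q ⋙ (DCoh.LTensorCx K ⋙ DCoh.LTensorCx L) ⟶
      DCoh.tensorCxQ ((DCoh.tensorCx.obj K).obj L) :=
    (Functor.associator _ _ _).inv ≫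
      Functor.whiskerRight (LTensorCxCounit K) (DCoh.LTensorCx L) ≫
      (Functor.associator _ _ _).hom ≫
      Functor.whiskerLeft ((DCoh.tensorCx (X := X)).flip.obj K) (LTensorCxCounit L) ≫
      (Functor.associator _ _ _).inv ≫
      Functor.whiskerRight (assocCxNatIso K L).hom DerivedCategory.Q
  have hβ : ∀ P : CochainComplex X.Modules ℤ, β.app P =
      (DCoh.LTensorCx L).map ((LTensorCxCounit K).app P) ≫
        (LTensorCxCounit L).app ((DCoh.tensorCx.obj P).obj K) ≫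
          DerivedCategory.Q.map ((assocCxNatIso K L).hom.app P) := fun P => by
    simp [β]
  haveI : (DCoh.LTensorCx K ⋙ DCoh.LTensorCx L).IsLeftDerivedFunctor β (qis X) :=
    isLeftDerivedFunctor_of_isIso (invertsKFlat_tensorCxQ _) β (fun P hP => by
      rw [hβ]
      haveI := isIso_LTensorCxCounit_app K P hP
      haveI := isIso_LTensorCxCounit_app_of_isKFlat L hL ((DCoh.tensorCx.obj P).obj K)
      infer_instance)
  exact ⟨Functor.leftDerivedUnique _ _ β
    (LTensorCxCounit ((DCoh.tensorCx.obj K).obj L)) (qis X)⟩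

/-- **`RHom(K ⊗ L, -) ≅ RHom(K, RHom(L, -))` when `L` is K-flat.** -/
theorem nonempty_RSheafHom_iso (hL : DCoh.IsKFlat L) [DCoh.HasRSheafHom K] [DCoh.HasRSheafHom L]
    [DCoh.HasRSheafHom ((DCoh.tensorCx.obj K).obj L)] :
    Nonempty (DCoh.RSheafHom ((DCoh.tensorCx.obj K).obj L) ≅
      DCoh.RSheafHom L ⋙ DCoh.RSheafHom K) := by
  obtain ⟨e⟩ := nonempty_LTensorCx_comp_iso K L hL
  exact ⟨Adjunction.rightAdjointUniq
    ((DCoh.RSheafHomAdj ((DCoh.tensorCx.obj K).obj L)).ofNatIsoLeft e.symm)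
    ((DCoh.RSheafHomAdj K).comp (DCoh.RSheafHomAdj L))⟩

end Groth.Agent.Lib.Helper16.TA
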