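import Mathlib
import Groth.Agent.Lib.Helper16.Dua2
import Groth.Agent.Lib.Helper16.Dua3
import Groth.Agent.Lib.Helper16.TA5
import Groth.Agent.Lib.Helper16.JS6
import Groth.Agent.Lib.Helper16.RS11
import Groth.Agent.Lib.Helper16.RM4

/-!
# Helper16 — Dua4: `- ⊗^L P ⊣ - ⊗^L P^∨` for a bounded complex `P` of finite free modules;
`- ⊗^L A` only depends on the class of `A` in the derived category.
-/

set_option autoImplicit false
set_option linter.style.haveILetI false
universe u
open CategoryTheory CategoryTheory.Limits AlgebraicGeometry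

attribute [local instance] HasDerivedCategory.standard

namespace Groth.Agent.Lib.Helper16.Dua

open Groth.Agent.Lib.Helper16.BiCx Groth.Agent.Lib.Helper16.KD Groth.Agent.Lib.Helper16.RM
  Groth.Agent.Lib.Helper16.RS

variable {X : Scheme.{u}}

section Class

/-- **quasi-isomorphic complexes define isomorphic derived tensor product functors.** -/
theorem nonempty_LTensorCx_iso_of_quasiIso {A B : CochainComplex X.Modules ℤ} (f : A ⟶ B)
    [QuasiIso f] [DCoh.HasLTensorCx A] [DCoh.HasLTensorCx B] :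
    Nonempty (DCoh.LTensorCx A ≅ DCoh.LTensorCx B) := by
  let β : DerivedCategory.Q ⋙ DCoh.LTensorCx A ⟶ DCoh.tensorCxQ B :=
    LTensorCxCounit A ≫
      Functor.whiskerRight ((DCoh.tensorCx (X := X)).flip.map f) DerivedCategory.Q
  have hβ : ∀ P, β.app P = (LTensorCxCounit A).app P ≫
      DerivedCategory.Q.map (mapR (DCoh.tensorBi (X := X)) P f) := fun P => rfl
  haveI : (DCoh.LTensorCx A).IsLeftDerivedFunctor β (qis X) :=
    isLeftDerivedFunctor_of_isIso (invertsKFlat_tensorCxQ B) β (fun P hP => by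
      rw [hβ]
      have h1 := isIso_LTensorCxCounit_app A P hP
      haveI : QuasiIso (mapR (DCoh.tensorBi (X := X)) P f) :=
        quasiIso_mapR_of_isKFlatL _ (isKFlatL_of_isKFlat P hP) f
      have h2 : IsIso (DerivedCategory.Q.map (mapR (DCoh.tensorBi (X := X)) P f)) := inferInstance
      exact @IsIso.comp_isIso _ _ _ _ _ ((LTensorCxCounit A).app P)
        (DerivedCategory.Q.map (mapR (DCoh.tensorBi (X := X)) P f)) h1 h2)
  exact ⟨Functor.leftDerivedUnique _ _ β (LTensorCxCounit B) (qis X)⟩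

/-- **`- ⊗^L A` only depends on the class of `A` in the derived category.** -/
theorem nonempty_LTensorCx_iso_of_iso {A B : CochainComplex X.Modules ℤ}
    [DCoh.HasLTensorCx A] [DCoh.HasLTensorCx B]
    (e : DerivedCategory.Q.obj A ≅ DerivedCategory.Q.obj B) :
    Nonempty (DCoh.LTensorCx A ≅ DCoh.LTensorCx B) := by
  obtain ⟨C, s, hs, g, hg⟩ := DerivedCategory.right_fac e.hom
  haveI := hs
  haveI : QuasiIso s := by rwa [DerivedCategory.isIso_Q_map_iff_quasiIso] at hs
  haveI : IsIso (DerivedCategory.Q.map g) := by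
    have : DerivedCategory.Q.map g = DerivedCategory.Q.map s ≫ e.hom := by
      rw [hg, IsIso.hom_inv_id_assoc]
    rw [this]
    infer_instance
  haveI : QuasiIso g := by
    rw [← DerivedCategory.isIso_Q_map_iff_quasiIso]; infer_instance
  haveI := hasLTensorCx C
  obtain ⟨e1⟩ := nonempty_LTensorCx_iso_of_quasiIso s
  obtain ⟨e2⟩ := nonempty_LTensorCx_iso_of_quasiIso g
  exact ⟨e1.symm ≪≫ e2⟩

end Class

section Dual

variable (P : CochainComplex X.Modules ℤ) (a b : ℤ) (hab : DCoh.VanishesOutside P a b)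
  (n : ℤ → ℕ) (e : ∀ i, P.X i ≅ FlatMod.freeMod X (n i))

/-- the dual of a bounded complex of finite free modules. -/
noncomputable abbrev dualFree : CochainComplex X.Modules ℤ :=
  dualCx (DCoh.tensorBi (X := X)) unitorR unitorL P (fun q => freeDataOfIso (e q))

include hab in
lemma isBoundedFree_dualFree : IsBoundedFree (dualFree P n e) :=
  ⟨-b, -a, fun i hi => hab (-i) (by omega), fun i => ⟨n (-i), ⟨e (-i)⟩⟩⟩

include hab e in
lemma isBoundedFree_of_data : IsBoundedFree P := ⟨a, b, hab, fun i => ⟨n i, ⟨e i⟩⟩⟩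

/-- the adjunction `- ⊗ P ⊣ - ⊗ P^∨` on complexes. -/
noncomputable def cxAdj : funL (DCoh.tensorBi (X := X)) P ⊣
    funL (DCoh.tensorBi (X := X)) (dualFree P n e) :=
  totAdj (DCoh.tensorBi (X := X)) P (dualFree P n e) (Finset.Icc (-b) (-a))
    (dualAdj (DCoh.tensorBi (X := X)) unitorR unitorL P (fun q => freeDataOfIso (e q)))
    (fun r hr => hab (-r) (by rw [Finset.mem_Icc] at hr; omega))
    (dualAdj_compat (DCoh.tensorBi (X := X)) unitorR unitorL P (fun q => freeDataOfIso (e q)))

/-- `Q ⋙ (- ⊗^L E) ≅ (- ⊗ E) ⋙ Q` for K-flat `E`. -/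
noncomputable def LTensorCxFac (E : CochainComplex X.Modules ℤ) [DCoh.HasLTensorCx E]
    (hE : DCoh.IsKFlat E) : DerivedCategory.Q ⋙ DCoh.LTensorCx E ≅ DCoh.tensorCxQ E :=
  haveI : ∀ K, IsIso ((LTensorCxCounit E).app K) := fun K =>
    isIso_LTensorCxCounit_app_of_isKFlat E hE K
  haveI : IsIso (LTensorCxCounit E) := NatIso.isIso_of_isIso_app _
  asIso (LTensorCxCounit E)

include hab in
/-- **`- ⊗^L P ⊣ - ⊗^L P^∨` for a bounded complex `P` of finite free modules.** -/
theorem nonempty_LTensorCx_adj [DCoh.HasLTensorCx P] [DCoh.HasLTensorCx (dualFree P n e)] :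
    Nonempty (DCoh.LTensorCx P ⊣ DCoh.LTensorCx (dualFree P n e)) := by
  have hPK : DCoh.IsKFlat P := isKFlat_of_isStrictlyPerfect P
    (isStrictlyPerfect_of_isBoundedFree P (isBoundedFree_of_data P a b hab n e))
  have hDK : DCoh.IsKFlat (dualFree P n e) := isKFlat_of_isStrictlyPerfect _
    (isStrictlyPerfect_of_isBoundedFree _ (isBoundedFree_dualFree P a b hab n e))
  letI : CatCommSq (funL (DCoh.tensorBi (X := X)) P) DerivedCategory.Q DerivedCategory.Q
      (DCoh.LTensorCx P) := ⟨(LTensorCxFac P hPK).symm⟩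
  letI : CatCommSq (funL (DCoh.tensorBi (X := X)) (dualFree P n e)) DerivedCategory.Q
      DerivedCategory.Q (DCoh.LTensorCx (dualFree P n e)) :=
    ⟨(LTensorCxFac (dualFree P n e) hDK).symm⟩
  exact ⟨(cxAdj P a b hab n e).localization DerivedCategory.Q (qis X) DerivedCategory.Q (qis X)
    (DCoh.LTensorCx P) (DCoh.LTensorCx (dualFree P n e))⟩

end Dual

end Groth.Agent.Lib.Helper16.Dua
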