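import Mathlib
import Groth.Agent.Lib.Helper16.Dua4
import Groth.Agent.Lib.Helper16.DualSch2
import Groth.Agent.Lib.Helper16.AffRed5
import Groth.Agent.Lib.Helper26.LC22
import Groth.Agent.Lib.Helper29.FreeIso4

/-!
# Helper16 — Dua5: `RHom(K, L) ∈ D_QCoh` for `K` perfect and `L ∈ D_QCoh`.
-/

set_option autoImplicit false
set_option linter.style.haveILetI false
universe u
open CategoryTheory CategoryTheory.Limits AlgebraicGeometry

attribute [local instance] HasDerivedCategory.standard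

namespace Groth.Agent.Lib.Helper16.Dua

open Groth.Agent.Lib.Helper16.BiCx Groth.Agent.Lib.Helper16.KD Groth.Agent.Lib.Helper16.RM
  Groth.Agent.Lib.Helper16.RS Groth.Agent.Lib.Helper26

variable {X : Scheme.{u}}

/-- strictly perfect complexes have quasi-coherent cohomology. -/
lemma isQCohD_of_isStrictlyPerfect' (E : CochainComplex X.Modules ℤ)
    (hE : DCoh.IsStrictlyPerfect E) : DCoh.IsQCohD (DerivedCategory.Q.obj E) := by
  apply LC8.isQCohD_Q
  intro n
  exact Groth.Agent.Lib.Helper29.FreeIso.isQuasicoherent_of_isFinLocFree _ (hE.2 n)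

/-- the local structure of `RHom(K, -)` for `K` perfect: locally it exists and is `- ⊗^L P^∨`. -/
theorem exists_local_dual (K : CochainComplex X.Modules ℤ)
    (hK : DCoh.IsPerfect (DCoh.toD X K)) (x : X) :
    ∃ (V : X.Opens) (_ : x ∈ V) (D : CochainComplex (V : Scheme.{u}).Modules ℤ)
      (_ : IsBoundedFree D) (_ : DCoh.HasLTensorCx D) (_ : DCoh.HasLTensorCx ((RCx V.ι).obj K)),
      Nonempty (DCoh.LTensorCx ((RCx V.ι).obj K) ⊣ DCoh.LTensorCx D) := by
  obtain ⟨V, hxV, hV⟩ := (isPerfect_iff_locally_bounded_free _).1 hK x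
  obtain ⟨P, a, b, hab, hfree, ⟨eP⟩⟩ := hV K ⟨Iso.refl _⟩
  choose n e using hfree
  let e' : ∀ i, P.X i ≅ FlatMod.freeMod (V : Scheme.{u}) (n i) := fun i => (e i).some
  haveI := hasLTensorCx P
  haveI := hasLTensorCx (dualFree P n e')
  haveI := hasLTensorCx ((RCx V.ι).obj K)
  obtain ⟨adjP⟩ := nonempty_LTensorCx_adj P a b hab n e'
  obtain ⟨eT⟩ := nonempty_LTensorCx_iso_of_iso (A := (RCx V.ι).obj K) (B := P) eP
  exact ⟨V, hxV, dualFree P n e', isBoundedFree_dualFree P a b hab n e', inferInstance,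
    inferInstance, ⟨adjP.ofNatIsoLeft eT.symm⟩⟩

/-- **`RHom(K, L) ∈ D_QCoh` for `K` perfect and `L ∈ D_QCoh`.** -/
theorem isQCohD_RSheafHom_of_isPerfect (K : CochainComplex X.Modules ℤ)
    (hK : DCoh.IsPerfect (DCoh.toD X K)) [DCoh.HasLTensorCx K] [DCoh.HasRSheafHom K]
    (L : DCoh.D X) (hL : DCoh.IsQCohD L) : DCoh.IsQCohD ((DCoh.RSheafHom K).obj L) := by
  apply Groth.Agent.Lib.Helper16.DualSch.isQCohD_of_cover
  intro x
  obtain ⟨V, hxV, D, hD, hLD, hLK, ⟨adjK⟩⟩ := exists_local_dual K hK x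
  refine ⟨V, V.ι, inferInstance, by simpa using hxV, ?_⟩
  haveI : DCoh.HasRSheafHom ((RCx V.ι).obj K) := ⟨_, ⟨adjK⟩⟩
  have e1 := (Groth.Agent.Lib.Helper16.JS.restrictRSheafHomIso V.ι K).app L
  have e2 : DCoh.RSheafHom ((RCx V.ι).obj K) ≅ DCoh.LTensorCx D :=
    Adjunction.rightAdjointUniq (DCoh.RSheafHomAdj _) adjK
  have hDq : DCoh.IsQCohD (DCoh.toD V D) :=
    isQCohD_of_isStrictlyPerfect' D (isStrictlyPerfect_of_isBoundedFree D hD)
  have hLV : DCoh.IsQCohD ((RD V.ι).obj L) :=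
    Groth.Agent.Lib.Helper16.AffRed.isQCohD_RD V.ι L hL
  have h3 := LC22.main D hDq ((RD V.ι).obj L) hLV
  exact LC11.isQCohD_of_iso ((e2.app _).symm ≪≫ e1) h3

end Groth.Agent.Lib.Helper16.Dua
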