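import Mathlib
import Groth.Agent.Lib.Helper26.LC2
import Groth.Agent.Lib.Helper16.PC1

/-!
# Helper16 — Dua6: detecting isomorphisms on cohomology sheaves in a range of degrees by maps
out of the generators `j_! O_U`.
-/

set_option autoImplicit false
set_option linter.style.haveILetI false
universe u
open CategoryTheory CategoryTheory.Limits AlgebraicGeometry Pretriangulated

attribute [local instance] HasDerivedCategory.standard

namespace Groth.Agent.Lib.Helper16.Dua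

open Groth.Agent.Lib.Helper26 Groth.Agent.Lib.Helper26.LC1 Groth.Agent.Lib.Helper26.LC2
  DerivedCategory

variable {X : Scheme.{u}}

lemma eq_zero_of_units_smul {C : Type*} [Category C] [Preadditive C] {A B : C} (ε : ℤˣ)
    (f : A ⟶ B) (h : ε • f = 0) : f = 0 := by
  rcases Int.units_eq_one_or ε with rfl | rfl
  · simpa using h
  · simpa [Units.neg_smul] using h

/-- an object all of whose classes in degree `m` vanish has no cohomology in degree `m`. -/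
theorem isZero_HD_of_hom_eq_zero (C : DCoh.D X) (m : ℤ)
    (h : ∀ (U : X.Opens), IsAffineOpen U → ∀ α : GD U ⟶ C⟦m⟧, α = 0) :
    IsZero ((DerivedCategory.homologyFunctor X.Modules m).obj C) := by
  obtain ⟨J, hJ, -, ⟨e⟩⟩ := MVMod4.exists_kinj (C⟦m⟧)
  have hJ0 : J.ExactAt 0 := by
    apply exactAt_zero_of_locally_zero
    intro U hU α x hx
    refine ⟨U, le_refl U, hx, ?_⟩
    have h0 := h U hU (α ≫ e.hom)
    have : ρD (le_refl U) ≫ α = (ρD (le_refl U) ≫ α ≫ e.hom) ≫ e.inv := by simp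
    rw [this, h0, comp_zero, zero_comp]
  have h0 : IsZero ((DerivedCategory.homologyFunctor X.Modules 0).obj (C⟦m⟧)) :=
    (hJ0.isZero_homology).of_iso
      ((DerivedCategory.homologyFunctor X.Modules 0).mapIso e.symm ≪≫
        (DerivedCategory.homologyFunctorFactors X.Modules 0).app J)
  exact h0.of_iso
    (((DerivedCategory.homologyFunctor X.Modules 0).shiftIso m 0 m (add_zero m)).app C).symm

/-- a morphism in a distinguished triangle is an isomorphism on `H^i` when the cone has no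
cohomology in degrees `i - 1` and `i`. -/
lemma isIso_homologyMap_mor₁ (T : Triangle (DCoh.D X)) (hT : T ∈ distTriang (DCoh.D X)) (i : ℤ)
    (h1 : IsZero ((DerivedCategory.homologyFunctor X.Modules (i - 1)).obj T.obj₃))
    (h2 : IsZero ((DerivedCategory.homologyFunctor X.Modules i).obj T.obj₃)) :
    IsIso ((DerivedCategory.homologyFunctor X.Modules i).map T.mor₁) := by
  haveI : Epi ((DerivedCategory.homologyFunctor X.Modules i).map T.mor₁) := by
    rw [HomologySequence.epi_homologyMap_mor₁_iff T hT]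
    exact h2.eq_of_tgt _ _
  haveI : Mono ((DerivedCategory.homologyFunctor X.Modules i).map T.mor₁) := by
    rw [HomologySequence.mono_homologyMap_mor₁_iff T hT (i - 1) i (by omega)]
    exact h1.eq_of_src _ _
  exact isIso_of_mono_of_epi _

/-- **the cone of a morphism which is surjective on classes in degree `k` and injective on classes
in degree `k + 1` has no cohomology in degree `k`.** -/
theorem isZero_HD_cone (T : Triangle (DCoh.D X)) (hT : T ∈ distTriang (DCoh.D X)) (k : ℤ)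
    (h1 : ∀ (U : X.Opens), IsAffineOpen U → ∀ β : GD U ⟶ T.obj₂⟦k⟧,
      ∃ x : GD U ⟶ T.obj₁⟦k⟧, x ≫ T.mor₁⟦k⟧' = β)
    (h2 : ∀ (U : X.Opens), IsAffineOpen U → ∀ x : GD U ⟶ T.obj₁⟦k + 1⟧,
      x ≫ T.mor₁⟦k + 1⟧' = 0 → x = 0) :
    IsZero ((DerivedCategory.homologyFunctor X.Modules k).obj T.obj₃) := by
  apply isZero_HD_of_hom_eq_zero
  intro U hU α
  have hT'₀ := Triangle.shift_distinguished _ hT k
  let f₂ : T.obj₁⟦k⟧ ⟶ T.obj₂⟦k⟧ := (k.negOnePow : ℤˣ) • T.mor₁⟦k⟧'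
  let g₂ : T.obj₂⟦k⟧ ⟶ T.obj₃⟦k⟧ := (k.negOnePow : ℤˣ) • T.mor₂⟦k⟧'
  let h₂ : T.obj₃⟦k⟧ ⟶ (T.obj₁⟦k⟧)⟦(1 : ℤ)⟧ :=
    (k.negOnePow : ℤˣ) • T.mor₃⟦k⟧' ≫ (shiftFunctorComm (DCoh.D X) 1 k).hom.app T.obj₁
  have hT' : Triangle.mk f₂ g₂ h₂ ∈ distTriang (DCoh.D X) := hT'₀
  have hy : α ≫ h₂ = 0 := by
    have h00 : h₂ ≫ f₂⟦(1 : ℤ)⟧' = 0 := comp_distTriang_mor_zero₃₁ _ hT'
    have h0 : (α ≫ h₂) ≫ f₂⟦(1 : ℤ)⟧' = 0 := by
      rw [Category.assoc, h00, comp_zero]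
    have h5 : f₂⟦(1 : ℤ)⟧' = (k.negOnePow : ℤˣ) • ((T.mor₁⟦k⟧')⟦(1 : ℤ)⟧') :=
      Functor.map_units_smul _ _ _
    rw [h5, Linear.comp_units_smul] at h0
    have h6 : (α ≫ h₂) ≫ (T.mor₁⟦k⟧')⟦(1 : ℤ)⟧' = 0 := eq_zero_of_units_smul _ _ h0
    have nat := (shiftFunctorAdd' (DCoh.D X) k 1 (k + 1) rfl).inv.naturality T.mor₁
    have h7 : ((α ≫ h₂) ≫ (shiftFunctorAdd' (DCoh.D X) k 1 (k + 1) rfl).inv.app T.obj₁) ≫
        T.mor₁⟦k + 1⟧' = 0 := by
      rw [Category.assoc, ← nat]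
      change (α ≫ h₂) ≫ ((T.mor₁⟦k⟧')⟦(1 : ℤ)⟧') ≫ _ = 0
      rw [← Category.assoc, h6, zero_comp]
    have h8 := h2 U hU _ h7
    exact (cancel_mono ((shiftFunctorAdd' (DCoh.D X) k 1 (k + 1) rfl).inv.app T.obj₁)).1
      (by rw [h8, zero_comp])
  obtain ⟨β, hβ⟩ : ∃ β : GD U ⟶ T.obj₂⟦k⟧, α = β ≫ g₂ :=
    Triangle.coyoneda_exact₃ _ hT' α hy
  obtain ⟨x, hx⟩ := h1 U hU β
  have hz : T.mor₁⟦k⟧' ≫ g₂ = 0 := by
    have h0 : f₂ ≫ g₂ = 0 := comp_distTriang_mor_zero₁₂ _ hT'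
    have h0' : (k.negOnePow : ℤˣ) • (T.mor₁⟦k⟧' ≫ g₂) = 0 := by
      rw [← Linear.units_smul_comp]
      exact h0
    exact eq_zero_of_units_smul _ _ h0'
  rw [hβ, ← hx, Category.assoc, hz, comp_zero]

/-- **a morphism which is bijective on classes in degrees `≤ s` and injective on classes in degree
`s + 1` is an isomorphism on cohomology sheaves in degrees `≤ s`.** -/
theorem isIso_homologyMap_of_classes {A B : DCoh.D X} (φ : A ⟶ B) (s : ℤ)
    (hs : ∀ (k : ℤ), k ≤ s → ∀ (U : X.Opens), IsAffineOpen U → ∀ β : GD U ⟶ B⟦k⟧,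
      ∃ x : GD U ⟶ A⟦k⟧, x ≫ φ⟦k⟧' = β)
    (hi : ∀ (k : ℤ), k ≤ s + 1 → ∀ (U : X.Opens), IsAffineOpen U → ∀ x : GD U ⟶ A⟦k⟧,
      x ≫ φ⟦k⟧' = 0 → x = 0)
    (i : ℤ) (hi' : i ≤ s) : IsIso ((DerivedCategory.homologyFunctor X.Modules i).map φ) := by
  obtain ⟨C, ψ, δ, hT⟩ := distinguished_cocone_triangle φ
  exact isIso_homologyMap_mor₁ _ hT i
    (isZero_HD_cone _ hT (i - 1) (hs (i - 1) (by omega)) (hi (i - 1 + 1) (by omega)))
    (isZero_HD_cone _ hT i (hs i hi') (hi (i + 1) (by omega)))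

end Groth.Agent.Lib.Helper16.Dua
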