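import Mathlib
import Groth.Agent.Lib.Helper16.RM5
import Groth.Agent.Lib.Helper1.LocPC2

/-!
# Helper16 — Dua7: functors on complexes and maps which are isomorphisms on cohomology in high
degrees; tensoring with a bounded above K-flat complex.
-/

set_option autoImplicit false
set_option linter.style.haveILetI false
universe u
open CategoryTheory CategoryTheory.Limits AlgebraicGeometry

namespace Groth.Agent.Lib.Helper16.Dua

open Groth.Agent.Lib.Helper16.BiCx

section Functor

variable {A B : Type*} [Category A] [Abelian A] [Category B] [Abelian B]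

/-- a map of complexes which is an isomorphism on cohomology in degrees `> m` and an epimorphism
in degree `m`. -/
def GoodCx (m : ℤ) {L₁ L₂ : CochainComplex A ℤ} (f : L₁ ⟶ L₂) : Prop :=
  (∀ q : ℤ, m < q → IsIso (HomologicalComplex.homologyMap f q)) ∧
    Epi (HomologicalComplex.homologyMap f m)

lemma GoodCx.comp_quasiIso {m : ℤ} {L₁ L₂ L₃ : CochainComplex A ℤ} {f : L₁ ⟶ L₂}
    (hf : GoodCx m f) (g : L₂ ⟶ L₃) [QuasiIso g] : GoodCx m (f ≫ g) := by
  refine ⟨fun q hq => ?_, ?_⟩
  · rw [HomologicalComplex.homologyMap_comp]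
    haveI := hf.1 q hq
    infer_instance
  · rw [HomologicalComplex.homologyMap_comp]
    haveI := hf.2
    infer_instance

lemma GoodCx.of_comp_quasiIso {m : ℤ} {L₁ L₂ L₃ : CochainComplex A ℤ} (f : L₁ ⟶ L₂)
    (g : L₂ ⟶ L₃) [QuasiIso g] (h : GoodCx m (f ≫ g)) : GoodCx m f := by
  refine ⟨fun q hq => ?_, ?_⟩
  · have h1 := h.1 q hq
    rw [HomologicalComplex.homologyMap_comp] at h1
    exact IsIso.of_isIso_comp_right _ (HomologicalComplex.homologyMap g q)
  · have h1 := h.2
    rw [HomologicalComplex.homologyMap_comp] at h1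
    have h2 : HomologicalComplex.homologyMap f m =
        (HomologicalComplex.homologyMap f m ≫ HomologicalComplex.homologyMap g m) ≫
          inv (HomologicalComplex.homologyMap g m) := by simp
    rw [h2]
    infer_instance

variable {S : ShortComplex (CochainComplex A ℤ)}

/-- the cokernel of a good monomorphism has no cohomology in high degrees. -/
lemma isZero_homology_X₃_of_goodCx (hS : S.ShortExact) (m : ℤ) (hf : GoodCx m S.f) (q : ℤ)
    (hq : m ≤ q) : IsZero (S.X₃.homology q) := by
  have hepi : Epi (HomologicalComplex.homologyMap S.f q) := by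
    rcases hq.lt_or_eq with h | h
    · haveI := hf.1 q h
      infer_instance
    · subst h
      exact hf.2
  haveI := hf.1 (q + 1) (by omega)
  refine (hS.homology_exact₃ q (q + 1) rfl).isZero_X₂ ?_ ?_
  · have h2 : HomologicalComplex.homologyMap S.f q ≫ HomologicalComplex.homologyMap S.g q = 0 := by
      rw [← HomologicalComplex.homologyMap_comp, S.zero, HomologicalComplex.homologyMap_zero]
    exact (cancel_epi (HomologicalComplex.homologyMap S.f q)).1 (by rw [h2, comp_zero])
  · have h1 := hS.δ_comp q (q + 1) rfl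
    exact (cancel_mono (HomologicalComplex.homologyMap S.f (q + 1))).1 (by rw [h1, zero_comp])

/-- a monomorphism whose cokernel has no cohomology in high degrees is good. -/
lemma goodCx_f_of_isZero_homology_X₃ (hS : S.ShortExact) (n : ℤ)
    (h3 : ∀ q : ℤ, n ≤ q → IsZero (S.X₃.homology q)) : GoodCx n S.f := by
  have hepi : ∀ q : ℤ, n ≤ q → Epi (HomologicalComplex.homologyMap S.f q) := fun q hq =>
    (hS.homology_exact₂ q).epi_f ((h3 q hq).eq_of_tgt _ _)
  refine ⟨fun q hq => ?_, hepi n le_rfl⟩
  haveI := hepi q hq.le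
  haveI : Mono (HomologicalComplex.homologyMap S.f q) :=
    (hS.homology_exact₁ (q - 1) q (by simp)).mono_g ((h3 (q - 1) (by omega)).eq_of_src _ _)
  exact isIso_of_mono_of_epi _

variable (G : CochainComplex A ℤ ⥤ CochainComplex B ℤ) [G.Additive]

/-- **An additive functor on complexes which sends homotopy equivalences to quasi-isomorphisms,
degreewise split short exact sequences to short exact sequences, and complexes without cohomology
in degrees `≥ m` to complexes without cohomology in degrees `≥ n`, sends `m`-good maps to `n`-good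
maps.** -/
theorem goodCx_map_of_bound
    (hh : ∀ {K L : CochainComplex A ℤ} (e : HomotopyEquiv K L), QuasiIso (G.map e.hom))
    (hs : ∀ S : ShortComplex (CochainComplex A ℤ), DSplit S → (S.map G).ShortExact)
    (m n : ℤ)
    (hb : ∀ Z : CochainComplex A ℤ, (∀ q : ℤ, m ≤ q → IsZero (Z.homology q)) →
      ∀ q : ℤ, n ≤ q → IsZero ((G.obj Z).homology q))
    {L₁ L₂ : CochainComplex A ℤ} (f : L₁ ⟶ L₂) (hf : GoodCx m f) : GoodCx n (G.map f) := by
  haveI : QuasiIso (cylP (L₁ := L₁) (L₂ := L₂)) :=
    (cylHomotopyEquiv (L₁ := L₁) (L₂ := L₂)).quasiIso_hom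
  have hI : GoodCx m (cylI f) := by
    apply GoodCx.of_comp_quasiIso (cylI f) (cylP (L₁ := L₁) (L₂ := L₂))
    rw [cylI_cylP]
    exact hf
  let S := ShortComplex.mk (cylI f) (cokernel.π (cylI f)) (cokernel.condition _)
  have hS : DSplit S := dSplit_of_retractions (cylI f) _ (cylI_f_comp f)
  have h3 : ∀ q : ℤ, m ≤ q → IsZero (S.X₃.homology q) := fun q hq =>
    isZero_homology_X₃_of_goodCx hS.shortExact m hI q hq
  have h3' := hb S.X₃ h3
  have hS' := hs S hS
  have h4 : GoodCx n (G.map (cylI f)) := goodCx_f_of_isZero_homology_X₃ hS' n h3'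
  haveI : QuasiIso (G.map (cylP (L₁ := L₁) (L₂ := L₂))) :=
    hh (cylHomotopyEquiv (L₁ := L₁) (L₂ := L₂))
  have : G.map f = G.map (cylI f) ≫ G.map (cylP (L₁ := L₁) (L₂ := L₂)) := by
    rw [← G.map_comp, cylI_cylP]
  rw [this]
  exact h4.comp_quasiIso _

end Functor

section Scheme

open Groth.Agent.Lib.Helper16.RM

variable {X : Scheme.{u}}

/-- the tensor product of a K-flat complex with terms in degrees `≤ k` and of a complex with
cohomology in degrees `< m` has cohomology in degrees `< k + m`. -/
theorem isZero_homology_T_of_bounds (F Z : CochainComplex X.Modules ℤ) (hF : DCoh.IsKFlat F)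
    (k m : ℤ) [F.IsStrictlyLE k] (hZ : ∀ q : ℤ, m ≤ q → IsZero (Z.homology q)) (q : ℤ)
    (hq : k + m ≤ q) : IsZero ((T (DCoh.tensorBi (X := X)) F Z).homology q) := by
  haveI : Z.IsLE (m - 1) := by
    rw [CochainComplex.isLE_iff]
    intro i hi
    rw [HomologicalComplex.exactAt_iff_isZero_homology]
    exact hZ i (by omega)
  haveI : QuasiIso (mapR (DCoh.tensorBi (X := X)) F (Z.ιTruncLE (m - 1))) :=
    quasiIso_mapR_of_isKFlatL _ (isKFlatL_of_isKFlat F hF) _
  have hz : IsZero ((T (DCoh.tensorBi (X := X)) F (Z.truncLE (m - 1))).X q) := by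
    rw [IsZero.iff_id_eq_zero]
    apply T_hom_ext
    intro p r hpr
    have h0 : IsZero ((DCoh.tensorBi.obj (F.X p)).obj ((Z.truncLE (m - 1)).X r)) := by
      by_cases hp : k < p
      · exact isZero_tensorBi_left (F.isZero_of_isStrictlyLE k p hp) _
      · exact isZero_tensorBi_right _
          ((Z.truncLE (m - 1)).isZero_of_isStrictlyLE (m - 1) r (by omega))
    exact h0.eq_of_src _ _
  have h1 : IsZero ((T (DCoh.tensorBi (X := X)) F (Z.truncLE (m - 1))).homology q) :=
    (HomologicalComplex.ExactAt.of_isZero hz).isZero_homology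
  exact IsZero.of_iso h1 (asIso (HomologicalComplex.homologyMap
    (mapR (DCoh.tensorBi (X := X)) F (Z.ιTruncLE (m - 1))) q)).symm

/-- **tensoring with a K-flat complex with terms in degrees `≤ k` sends `m`-good maps to
`(k + m)`-good maps.** -/
theorem goodCx_mapR (F : CochainComplex X.Modules ℤ) (hF : DCoh.IsKFlat F) (k m : ℤ)
    [F.IsStrictlyLE k] {P K : CochainComplex X.Modules ℤ} (g : P ⟶ K) (hg : GoodCx m g) :
    GoodCx (k + m) (mapR (DCoh.tensorBi (X := X)) F g) :=
  goodCx_map_of_bound (funR (DCoh.tensorBi (X := X)) F)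
    (fun e => (funRHomotopyEquiv (DCoh.tensorBi (X := X)) F e).quasiIso_hom)
    (fun _ hS => shortExact_funR_of_dSplit (DCoh.tensorBi (X := X)) F hS) m (k + m)
    (fun Z hZ q hq => isZero_homology_T_of_bounds F Z hF k m hZ q hq) g hg

end Scheme

end Groth.Agent.Lib.Helper16.Dua
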