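import Mathlib
import Groth.Agent.Lib.Helper16.Dua7
import Groth.Agent.Lib.Helper16.KD12
import Groth.Agent.Lib.Helper16.RS8

/-!
# Helper16 — Dua8: the natural transformation `- ⊗^L P ⟶ - ⊗^L K` induced by a chain map
`P ⟶ K`, and the maps it induces on `Hom(-, L)` for `L` bounded below.
-/

set_option autoImplicit false
set_option linter.style.haveILetI false
universe u
open CategoryTheory CategoryTheory.Limits AlgebraicGeometry Pretriangulated

attribute [local instance] HasDerivedCategory.standard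

namespace Groth.Agent.Lib.Helper16.Dua

open Groth.Agent.Lib.Helper16.BiCx Groth.Agent.Lib.Helper16.KD Groth.Agent.Lib.Helper16.PC
  Groth.Agent.Lib.Helper16.RS DerivedCategory

variable {X : Scheme.{u}}

section Hom

variable {A B L : DCoh.D X} (h : A ⟶ B)

/-- precomposition with a map whose cone is in `D^{≤ c}` is injective on maps to `D^{≥ a}`,
`c < a`. -/
lemma injective_precomp_of_good (c a : ℤ) (hg : Good (c + 1) h) [L.IsGE a] (hca : c < a) :
    Function.Injective (fun y : B ⟶ L => h ≫ y) := by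
  obtain ⟨C, ψ, δ, hT⟩ := distinguished_cocone_triangle h
  haveI : C.IsLE c := (good_iff_isLE _ hT (c + 1) c rfl).1 hg
  intro y₁ y₂ hy
  have hd : h ≫ (y₁ - y₂) = 0 := by
    rw [Preadditive.comp_sub]
    exact sub_eq_zero.2 hy
  obtain ⟨z, hz⟩ := Triangle.yoneda_exact₂ _ hT (y₁ - y₂) hd
  have hz0 : z = 0 :=
    (TStructure.t).zero_of_isLE_of_isGE z c a hca ‹C.IsLE c› ‹L.IsGE a›
  rw [hz0, comp_zero] at hz
  exact sub_eq_zero.1 hz

/-- precomposition with a map whose cone is in `D^{≤ c}` is surjective on maps to `D^{≥ a}`,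
`c + 1 < a`. -/
lemma surjective_precomp_of_good (c a : ℤ) (hg : Good (c + 1) h) [L.IsGE a] (hca : c + 1 < a) :
    Function.Surjective (fun y : B ⟶ L => h ≫ y) := by
  obtain ⟨C, ψ, δ, hT⟩ := distinguished_cocone_triangle h
  haveI : C.IsLE c := (good_iff_isLE _ hT (c + 1) c rfl).1 hg
  intro w
  have hT' := inv_rot_of_distTriang _ hT
  haveI : (C⟦(-1 : ℤ)⟧).IsLE (c + 1) := (TStructure.t).isLE_shift C c (-1) (c + 1) (by omega)
  have h0 : (Triangle.mk h ψ δ).invRotate.mor₁ ≫ w = 0 :=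
    (TStructure.t).zero_of_isLE_of_isGE (X := C⟦(-1 : ℤ)⟧) _ (c + 1) a hca
      ‹(C⟦(-1 : ℤ)⟧).IsLE (c + 1)› ‹L.IsGE a›
  obtain ⟨y, hy⟩ := Triangle.yoneda_exact₂ _ hT' w h0
  exact ⟨y, hy.symm⟩

omit h in
lemma injective_precomp_of_sq {A' B' : DCoh.D X} (e₁ : A' ≅ A) (e₂ : B' ≅ B) (n : A' ⟶ B')
    (h : A ⟶ B) (sq : n ≫ e₂.hom = e₁.hom ≫ h)
    (hh : Function.Injective (fun y : B ⟶ L => h ≫ y)) :
    Function.Injective (fun y : B' ⟶ L => n ≫ y) := by
  intro y₁ y₂ hy
  have hy' : n ≫ y₁ = n ≫ y₂ := hy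
  have hn : n = e₁.hom ≫ h ≫ e₂.inv := by
    rw [← Category.assoc, ← sq, Category.assoc, e₂.hom_inv_id, Category.comp_id]
  rw [hn, Category.assoc, Category.assoc, Category.assoc, Category.assoc,
    cancel_epi e₁.hom] at hy'
  have := hh hy'
  exact (cancel_epi e₂.inv).1 this

omit h in
lemma surjective_precomp_of_sq {A' B' : DCoh.D X} (e₁ : A' ≅ A) (e₂ : B' ≅ B) (n : A' ⟶ B')
    (h : A ⟶ B) (sq : n ≫ e₂.hom = e₁.hom ≫ h)
    (hh : Function.Surjective (fun y : B ⟶ L => h ≫ y)) :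
    Function.Surjective (fun y : B' ⟶ L => n ≫ y) := by
  intro w
  obtain ⟨y, hy⟩ := hh (e₁.inv ≫ w)
  have hy' : h ≫ y = e₁.inv ≫ w := hy
  refine ⟨e₂.hom ≫ y, ?_⟩
  change n ≫ e₂.hom ≫ y = w
  rw [← Category.assoc, sq, Category.assoc, hy', e₁.hom_inv_id_assoc]

end Hom

section Map

variable {P K : CochainComplex X.Modules ℤ} (g : P ⟶ K) [DCoh.HasLTensorCx P]
  [DCoh.HasLTensorCx K]

/-- the natural transformation `- ⊗^L P ⟶ - ⊗^L K` induced by a chain map `P ⟶ K`. -/
noncomputable def LTensorCxMap : DCoh.LTensorCx P ⟶ DCoh.LTensorCx K :=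
  Functor.leftDerivedNatTrans (DCoh.LTensorCx P) (DCoh.LTensorCx K) (LTensorCxCounit P)
    (LTensorCxCounit K) (qis X)
    (Functor.whiskerRight ((DCoh.tensorCx (X := X)).flip.map g) DerivedCategory.Q)

lemma LTensorCxMap_app (F : CochainComplex X.Modules ℤ) :
    (LTensorCxMap g).app (DerivedCategory.Q.obj F) ≫ (LTensorCxCounit K).app F =
      (LTensorCxCounit P).app F ≫ DerivedCategory.Q.map (mapR (DCoh.tensorBi (X := X)) F g) :=
  Functor.leftDerivedNatTrans_app _ _ _ _ _ _ F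

variable (F : CochainComplex X.Modules ℤ) (hF : DCoh.IsKFlat F) (k m : ℤ) [F.IsStrictlyLE k]
  (hg : GoodCx m g) (L : DCoh.D X) (a : ℤ) [L.IsGE a]

include hF hg in
lemma good_Q_mapR : Good (k + m) (DerivedCategory.Q.map (mapR (DCoh.tensorBi (X := X)) F g)) :=
  (HW_Q_map_iff (k + m) _).2 (goodCx_mapR F hF k m g hg)

/-- the map `Q(F ⊗ P) ⟶ Q(F ⊗ K)` with types in `tensorCx` form. -/
noncomputable def qMapR : DerivedCategory.Q.obj ((DCoh.tensorCx.obj F).obj P) ⟶
    DerivedCategory.Q.obj ((DCoh.tensorCx.obj F).obj K) :=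
  DerivedCategory.Q.map (mapR (DCoh.tensorBi (X := X)) F g)

include hF hg in
lemma good_qMapR : Good (k + m) (qMapR g F) := good_Q_mapR g F hF k m hg

lemma LTensorCxMap_app' :
    (LTensorCxMap g).app (DerivedCategory.Q.obj F) ≫ (LTensorCxIso K F hF).hom =
      (LTensorCxIso P F hF).hom ≫ qMapR g F :=
  LTensorCxMap_app g F

include hF hg in
/-- precomposition with `(- ⊗^L g)(F)` is injective on maps to `D^{≥ a}` when
`k + m - 1 < a`. -/
theorem injective_precomp_LTensorCxMap (hkm : k + m - 1 < a) :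
    Function.Injective (fun y : (DCoh.LTensorCx K).obj (DerivedCategory.Q.obj F) ⟶ L =>
      (LTensorCxMap g).app (DerivedCategory.Q.obj F) ≫ y) := by
  have hgood : Good (k + m - 1 + 1) (qMapR g F) := by
    rw [show k + m - 1 + 1 = k + m by omega]
    exact good_qMapR g F hF k m hg
  exact injective_precomp_of_sq _ _ _ _ (LTensorCxMap_app' g F hF)
    (injective_precomp_of_good (L := L) (qMapR g F) (k + m - 1) a hgood hkm)

include hF hg in
/-- precomposition with `(- ⊗^L g)(F)` is surjective on maps to `D^{≥ a}` when `k + m < a`. -/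
theorem surjective_precomp_LTensorCxMap (hkm : k + m < a) :
    Function.Surjective (fun y : (DCoh.LTensorCx K).obj (DerivedCategory.Q.obj F) ⟶ L =>
      (LTensorCxMap g).app (DerivedCategory.Q.obj F) ≫ y) := by
  have hgood : Good (k + m - 1 + 1) (qMapR g F) := by
    rw [show k + m - 1 + 1 = k + m by omega]
    exact good_qMapR g F hF k m hg
  exact surjective_precomp_of_sq _ _ _ _ (LTensorCxMap_app' g F hF)
    (surjective_precomp_of_good (L := L) (qMapR g F) (k + m - 1) a hgood (by omega))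

end Map

end Groth.Agent.Lib.Helper16.Dua
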