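import Mathlib
import Groth.Agent.Lib.Helper16.Dua8
import Groth.Agent.Lib.Helper16.Dua6
import Groth.Agent.Lib.Helper16.JS6
import Groth.Agent.Lib.Helper16.LocFree5
import Groth.Agent.S6242

/-!
# Helper16 — Dua9: generators `j_! O_W [-k]`, a Yoneda-type construction of comparison maps, and
the bijection `Hom(T, RHom(K, L)|_U) ≃ Hom(T ⊗^L K|_U, L|_U)`.
-/

set_option autoImplicit false
set_option linter.style.haveILetI false
universe u
open CategoryTheory CategoryTheory.Limits AlgebraicGeometry Pretriangulated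

attribute [local instance] HasDerivedCategory.standard

namespace Groth.Agent.Lib.Helper16.Dua

open Groth.Agent.Lib.Helper16.BiCx Groth.Agent.Lib.Helper16.KD Groth.Agent.Lib.Helper16.PC
  Groth.Agent.Lib.Helper16.RS Groth.Agent.Lib.Helper16.JS Groth.Agent.Lib.Helper26.LC1
  DerivedCategory

section Gen

variable {X : Scheme.{u}}

/-- the generator complex: `j_! O_W` placed in degree `k`. -/
noncomputable abbrev genCx (W : X.Opens) (k : ℤ) : CochainComplex X.Modules ℤ :=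
  Groth.Agent.Lib.Helper16.LocFree.sglAt k (G W)

lemma isKFlat_genCx (W : X.Opens) (k : ℤ) : DCoh.IsKFlat (genCx W k) := by
  have e : (jSCx W.ι).obj (Groth.Agent.Lib.Helper16.LocFree.sglAt k (Coh.structureModule W)) ≅
      genCx W k :=
    (HomologicalComplex.singleMapHomologicalComplex (JS.jS W.ι) (ComplexShape.up ℤ) k).app _
  exact Groth.Agent.Lib.Helper16.Stk.isKFlat_of_iso e (isKFlat_jSCx W.ι _
    (Groth.Agent.Lib.Helper16.LocFree.isKFlat_sglAt k _ (Groth.Agent.S6242.isFlat_structureModule W)))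

instance isStrictlyLE_genCx (W : X.Opens) (k : ℤ) : (genCx W k).IsStrictlyLE k :=
  (CochainComplex.isStrictlyLE_iff _ _).2 (fun i hi =>
    HomologicalComplex.isZero_single_obj_X _ _ _ _ (by omega))

/-- `j_! O_W = (j_! O_W [-k])[k]` in the derived category. -/
noncomputable def genIso (W : X.Opens) (k : ℤ) :
    GD W ≅ (DerivedCategory.Q.obj (genCx W k))⟦k⟧ :=
  (DerivedCategory.Q.mapIso
    (((CochainComplex.singleFunctors X.Modules).shiftIso k 0 k (add_zero k)).app (G W)).symm :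
      DerivedCategory.Q.obj (Gc W) ≅ DerivedCategory.Q.obj ((genCx W k)⟦k⟧)) ≪≫
    ((DerivedCategory.Q.commShiftIso k).app (genCx W k) :
      DerivedCategory.Q.obj ((genCx W k)⟦k⟧) ≅ (DerivedCategory.Q.obj (genCx W k))⟦k⟧)

variable {A B : DCoh.D X} (φ : A ⟶ B) (W : X.Opens) (k : ℤ)

lemma classes_surj_of_gen
    (h : Function.Surjective (fun x : DerivedCategory.Q.obj (genCx W k) ⟶ A => x ≫ φ))
    (β : GD W ⟶ B⟦k⟧) : ∃ x : GD W ⟶ A⟦k⟧, x ≫ φ⟦k⟧' = β := by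
  obtain ⟨y, hy⟩ := (shiftFunctor (DCoh.D X) k).map_surjective ((genIso W k).inv ≫ β)
  obtain ⟨x', hx'⟩ := h y
  have hx'' : x' ≫ φ = y := hx'
  refine ⟨(genIso W k).hom ≫ x'⟦k⟧', ?_⟩
  rw [Category.assoc, ← Functor.map_comp, hx'', hy, Iso.hom_inv_id_assoc]

lemma classes_inj_of_gen
    (h : Function.Injective (fun x : DerivedCategory.Q.obj (genCx W k) ⟶ A => x ≫ φ))
    (x : GD W ⟶ A⟦k⟧) (hx : x ≫ φ⟦k⟧' = 0) : x = 0 := by
  obtain ⟨y, hy⟩ := (shiftFunctor (DCoh.D X) k).map_surjective ((genIso W k).inv ≫ x)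
  have h1 : (y ≫ φ)⟦k⟧' = 0 := by
    rw [Functor.map_comp, hy, Category.assoc, hx, comp_zero]
  have h2 : y ≫ φ = 0 := (shiftFunctor (DCoh.D X) k).map_injective (by rw [h1, Functor.map_zero])
  have h3 : y = 0 := h (by change y ≫ φ = 0 ≫ φ; rw [h2, zero_comp])
  have h4 : (genIso W k).inv ≫ x = 0 := by rw [← hy, h3, Functor.map_zero]
  exact (cancel_epi (genIso W k).inv).1 (by rw [h4, comp_zero])

end Gen

section Yoneda

variable {C C' : Type*} [Category C] [Category C'] {Φ Φ' : C ⥤ C'} {Ψ : C' ⥤ C}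
  (adj' : Φ' ⊣ Ψ) (τ : Φ' ⟶ Φ) {A : C} {L : C'}
  (β : ∀ T : C, (T ⟶ A) ≃ (Φ.obj T ⟶ L))
  (hβ : ∀ {T T' : C} (f : T' ⟶ T) (x : T ⟶ A), β T' (f ≫ x) = Φ.map f ≫ β T x)

/-- the comparison map `A ⟶ Ψ L` obtained by Yoneda from `Φ' ⟶ Φ`, `Φ' ⊣ Ψ`, and
`Hom(-, A) ≃ Hom(Φ -, L)`. -/
def yφ : A ⟶ Ψ.obj L := adj'.homEquiv A L (τ.app A ≫ β A (𝟙 A))

include hβ in
lemma comp_yφ (T : C) (x : T ⟶ A) :
    x ≫ yφ adj' τ β = adj'.homEquiv T L (τ.app T ≫ β T x) := by
  rw [yφ, ← adj'.homEquiv_naturality_left, ← Category.assoc, τ.naturality, Category.assoc, ← hβ,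
    Category.comp_id]

include hβ in
lemma injective_comp_yφ (T : C)
    (h : Function.Injective (fun y : Φ.obj T ⟶ L => τ.app T ≫ y)) :
    Function.Injective (fun x : T ⟶ A => x ≫ yφ adj' τ β) := by
  intro x₁ x₂ hx
  have hx' : x₁ ≫ yφ adj' τ β = x₂ ≫ yφ adj' τ β := hx
  rw [comp_yφ adj' τ β hβ, comp_yφ adj' τ β hβ] at hx'
  exact (β T).injective (h ((adj'.homEquiv T L).injective hx'))

include hβ in
lemma surjective_comp_yφ (T : C)
    (h : Function.Surjective (fun y : Φ.obj T ⟶ L => τ.app T ≫ y)) :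
    Function.Surjective (fun x : T ⟶ A => x ≫ yφ adj' τ β) := by
  intro w
  obtain ⟨y, hy⟩ := h ((adj'.homEquiv T L).symm w)
  have hy' : τ.app T ≫ y = (adj'.homEquiv T L).symm w := hy
  refine ⟨(β T).symm y, ?_⟩
  change (β T).symm y ≫ yφ adj' τ β = w
  rw [comp_yφ adj' τ β hβ, Equiv.apply_symm_apply, hy', Equiv.apply_symm_apply]

end Yoneda

section Beta

variable {U X : Scheme.{u}} (j : U ⟶ X) [IsOpenImmersion j] (K : CochainComplex X.Modules ℤ)
  [DCoh.HasLTensorCx K] [DCoh.HasRSheafHom K] [DCoh.HasLTensorCx ((RCx j).obj K)] (L : DCoh.D X)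

/-- the adjunction `(- ⊗^L K|_U) ⋙ j_! ⊣ RHom(K, -) ⋙ j^*`. -/
noncomputable def adjBeta :
    DCoh.LTensorCx ((RCx j).obj K) ⋙ jSD j ⊣ DCoh.RSheafHom K ⋙ RD j :=
  ((jSDAdj j).comp (DCoh.RSheafHomAdj K)).ofNatIsoLeft (derivedProjIso j K).symm

/-- `Hom(T, RHom(K, L)|_U) ≃ Hom(T ⊗^L K|_U, L|_U)`. -/
noncomputable def betaEquiv (T : DCoh.D U) :
    (T ⟶ (RD j).obj ((DCoh.RSheafHom K).obj L)) ≃
      ((DCoh.LTensorCx ((RCx j).obj K)).obj T ⟶ (RD j).obj L) :=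
  ((adjBeta j K).homEquiv T L).symm.trans
    ((jSDAdj j).homEquiv ((DCoh.LTensorCx ((RCx j).obj K)).obj T) L)

lemma betaEquiv_naturality {T T' : DCoh.D U} (f : T' ⟶ T)
    (x : T ⟶ (RD j).obj ((DCoh.RSheafHom K).obj L)) :
    betaEquiv j K L T' (f ≫ x) =
      (DCoh.LTensorCx ((RCx j).obj K)).map f ≫ betaEquiv j K L T x := by
  unfold betaEquiv
  simp only [Equiv.trans_apply]
  rw [Adjunction.homEquiv_naturality_left_symm, Functor.comp_map,
    Adjunction.homEquiv_naturality_left]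

end Beta

end Groth.Agent.Lib.Helper16.Dua
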