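import Mathlib
import Groth.Agent.Lib.Helper16.Dua9
import Groth.Agent.Lib.Helper16.Dua5
import Groth.Agent.Lib.Helper16.PerfPt
import Groth.Agent.Lib.Helper1.LocPC2

/-!
# Helper16 — Dua10: `H^i(RHom(K, L))` is quasi-coherent for `K` `m`-pseudo-coherent,
`L ∈ D_QCoh^{≥ a}` and `i + m < a`.
-/

set_option autoImplicit false
set_option linter.style.haveILetI false
universe u
open CategoryTheory CategoryTheory.Limits AlgebraicGeometry Pretriangulated

attribute [local instance] HasDerivedCategory.standard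

namespace Groth.Agent.Lib.Helper16.Dua

open Groth.Agent.Lib.Helper16.BiCx Groth.Agent.Lib.Helper16.KD Groth.Agent.Lib.Helper16.PC
  Groth.Agent.Lib.Helper16.RS Groth.Agent.Lib.Helper16.JS Groth.Agent.Lib.Helper26.LC1
  Groth.Agent.Lib.Helper1.LocPC Groth.Agent.Lib.Helper26 DerivedCategory

variable {X : Scheme.{u}}

/-- local approximation data for an `m`-pseudo-coherent complex: on a neighbourhood `U` of `x`
there is a roof `P ←(qis) P' → K|_U` with `P` bounded free and `P' → K|_U` an isomorphism on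
cohomology in degrees `> m` and an epimorphism in degree `m`. -/
theorem exists_local_approx (K : CochainComplex X.Modules ℤ) (m : ℤ)
    (hK : DCoh.IsPseudoCoherentD m (DCoh.toD X K)) (x : X) :
    ∃ (U : Scheme.{u}) (j : U ⟶ X) (_ : IsOpenImmersion j) (_ : x ∈ Set.range j)
      (P P' : CochainComplex U.Modules ℤ) (_ : IsBoundedFree P) (s : P' ⟶ P) (_ : QuasiIso s)
      (g : P' ⟶ (RCx j).obj K), GoodCx m g := by
  obtain ⟨V₀, hx, hV⟩ := hK x
  obtain ⟨E₀, α₀, hE₀, h1, h2⟩ := hV K ⟨Iso.refl _⟩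
  obtain ⟨W, hxW, hW⟩ := exists_isBoundedFree_restrict E₀ hE₀ ⟨x, hx⟩
  have hα₀ : Good m α₀ := ⟨h1, h2⟩
  let α₁ : DerivedCategory.Q.obj ((RCx W.ι).obj E₀) ⟶
      DerivedCategory.Q.obj ((RCx (W.ι ≫ V₀.ι)).obj K) :=
    (RDQIso W.ι E₀).inv ≫ (RD W.ι).map α₀ ≫
      (RDQIso W.ι ((RCx V₀.ι).obj K) ≪≫ QRCxCompIso V₀.ι W.ι K).hom
  have hα₁ : Good m α₁ :=
    good_iso_comp (RDQIso W.ι E₀).symm
      (good_comp_iso (RDQIso W.ι ((RCx V₀.ι).obj K) ≪≫ QRCxCompIso V₀.ι W.ι K)
        (good_RD W.ι α₀ hα₀))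
  obtain ⟨P', s, hs, g, hg⟩ := DerivedCategory.right_fac α₁
  haveI := hs
  haveI : QuasiIso s := by rwa [DerivedCategory.isIso_Q_map_iff_quasiIso] at hs
  have hQg : DerivedCategory.Q.map g = DerivedCategory.Q.map s ≫ α₁ := by
    rw [hg, IsIso.hom_inv_id_assoc]
  have hgood : Good m (DerivedCategory.Q.map g) := by
    rw [hQg]
    exact (good_of_isIso m (DerivedCategory.Q.map s)).comp hα₁
  refine ⟨W, W.ι ≫ V₀.ι, inferInstance, ?_, (RCx W.ι).obj E₀, P', hW, s, inferInstance, g,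
    (good_Q_map_iff m g).1 hgood⟩
  exact ⟨⟨⟨x, hx⟩, hxW⟩, rfl⟩

/-- **`H^i(RHom(K, L))` is quasi-coherent for `K` `m`-pseudo-coherent, `L ∈ D_QCoh^{≥ a}` and
`i + m < a`.** -/
theorem isQCoh_HD_RSheafHom_of_isPseudoCoherentD (K : CochainComplex X.Modules ℤ) (m : ℤ)
    (hK : DCoh.IsPseudoCoherentD m (DCoh.toD X K)) [DCoh.HasLTensorCx K] [DCoh.HasRSheafHom K]
    (L : DCoh.D X) (hL : DCoh.IsQCohD L) (a : ℤ) [L.IsGE a] (i : ℤ) (hi : i + m < a) :
    Coh.IsQCoh (DCoh.HD ((DCoh.RSheafHom K).obj L) i) := by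
  apply Groth.Agent.Lib.Helper16.DualSch.isQuasicoherent_of_cover
  intro x
  obtain ⟨U, j, hj, hxj, P, P', hP, s, hs, g, hg⟩ := exists_local_approx K m hK x
  refine ⟨U, j, hj, hxj, ?_⟩
  obtain ⟨a', b', hab, hfree⟩ := hP
  choose n e using hfree
  let e' : ∀ i, P.X i ≅ FlatMod.freeMod U (n i) := fun i => (e i).some
  haveI := hasLTensorCx P
  haveI := hasLTensorCx P'
  haveI := hasLTensorCx (dualFree P n e')
  haveI := hasLTensorCx ((RCx j).obj K)
  obtain ⟨adjP⟩ := nonempty_LTensorCx_adj P a' b' hab n e'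
  obtain ⟨eT⟩ := nonempty_LTensorCx_iso_of_quasiIso s
  let adj' : DCoh.LTensorCx P' ⊣ DCoh.LTensorCx (dualFree P n e') := adjP.ofNatIsoLeft eT.symm
  let τ : DCoh.LTensorCx P' ⟶ DCoh.LTensorCx ((RCx j).obj K) := LTensorCxMap g
  let LU : DCoh.D U := (RD j).obj L
  haveI : LU.IsGE a := PerfPt.map_isGE (Scheme.Modules.restrictFunctor j) L a inferInstance
  let R : DCoh.D X := (DCoh.RSheafHom K).obj L
  let φ : (RD j).obj R ⟶ (DCoh.LTensorCx (dualFree P n e')).obj LU :=
    yφ adj' τ (betaEquiv j K L)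
  have hφ : IsIso ((DerivedCategory.homologyFunctor U.Modules i).map φ) := by
    refine isIso_homologyMap_of_classes φ (a - m - 1) ?_ ?_ i (by omega)
    · intro k hk W _ β
      exact classes_surj_of_gen φ W k
        (surjective_comp_yφ adj' τ (betaEquiv j K L) (betaEquiv_naturality j K L) _
          (surjective_precomp_LTensorCxMap g (genCx W k) (isKFlat_genCx W k) k m hg LU a
            (by omega))) β
    · intro k hk W _ y hy
      exact classes_inj_of_gen φ W k
        (injective_comp_yφ adj' τ (betaEquiv j K L) (betaEquiv_naturality j K L) _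
          (injective_precomp_LTensorCxMap g (genCx W k) (isKFlat_genCx W k) k m hg LU a
            (by omega))) y hy
  have hDq : DCoh.IsQCohD (DCoh.toD U (dualFree P n e')) :=
    isQCohD_of_isStrictlyPerfect' _ (isStrictlyPerfect_of_isBoundedFree _
      (isBoundedFree_dualFree P a' b' hab n e'))
  have hLU : DCoh.IsQCohD LU := Groth.Agent.Lib.Helper16.AffRed.isQCohD_RD j L hL
  have hB := LC22.main (dualFree P n e') hDq LU hLU i
  have hA : Coh.IsQCoh (DCoh.HD ((RD j).obj R) i) :=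
    (SheafOfModules.isQuasicoherent U.ringCatSheaf).prop_of_iso (@asIso _ _ _ _ _ hφ).symm hB
  exact (SheafOfModules.isQuasicoherent U.ringCatSheaf).prop_of_iso
    (SuppD2.homologyIso (Scheme.Modules.restrictFunctor j) R i) hA

end Groth.Agent.Lib.Helper16.Dua
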