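import Mathlib
import Groth.Agent.Lib.Helper16.Dua10
import Groth.Agent.Lib.Helper16.DerTrunc2

/-!
# Helper16 — Dua11: right adjoints of `- ⊗^L K` and the t-structure; the local comparison
`RHom(K, L)|_U ⟶ L|_U ⊗^L D`.
-/

set_option autoImplicit false
set_option linter.style.haveILetI false
universe u
open CategoryTheory CategoryTheory.Limits AlgebraicGeometry Pretriangulated

attribute [local instance] HasDerivedCategory.standard

namespace Groth.Agent.Lib.Helper16.Dua

open Groth.Agent.Lib.Helper16.BiCx Groth.Agent.Lib.Helper16.KD Groth.Agent.Lib.Helper16.PC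
  Groth.Agent.Lib.Helper16.RS Groth.Agent.Lib.Helper16.JS Groth.Agent.Lib.Helper26.LC1
  Groth.Agent.Lib.Helper1.LocPC Groth.Agent.Lib.Helper26 DerivedCategory

variable {X : Scheme.{u}}

section TS

/-- `Hom(Y, τ_{<N} L) ≃ Hom(Y, L)` for `Y ∈ D^{≤ N - 1}`. -/
lemma bijective_postcomp_truncLTι (Y L : DCoh.D X) (N : ℤ) (hY : Y.IsLE (N - 1)) :
    Function.Bijective (fun y : Y ⟶ ((TStructure.t (C := X.Modules)).truncLT N).obj L =>
      y ≫ ((TStructure.t (C := X.Modules)).truncLTι N).app L) := by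
  have hT := (TStructure.t (C := X.Modules)).triangleLTGE_distinguished N L
  constructor
  · intro y₁ y₂ hy
    have hy' : y₁ ≫ ((TStructure.t (C := X.Modules)).truncLTι N).app L =
      y₂ ≫ ((TStructure.t (C := X.Modules)).truncLTι N).app L := hy
    have hd : (y₁ - y₂) ≫ ((TStructure.t (C := X.Modules)).truncLTι N).app L = 0 := by
      rw [Preadditive.sub_comp]
      exact sub_eq_zero.2 hy'
    have hT' := inv_rot_of_distTriang _ hT
    obtain ⟨g, hg⟩ := Triangle.coyoneda_exact₂ _ hT' (y₁ - y₂) hd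
    haveI : ((((TStructure.t (C := X.Modules)).truncGE N).obj L)⟦(-1 : ℤ)⟧).IsGE (N + 1) :=
      (TStructure.t).isGE_shift _ N (-1) (N + 1) (by omega)
    have hg0 : g = 0 :=
      (TStructure.t).zero_of_isLE_of_isGE g (N - 1) (N + 1) (by omega) hY
        ‹((((TStructure.t (C := X.Modules)).truncGE N).obj L)⟦(-1 : ℤ)⟧).IsGE (N + 1)›
    rw [hg0, zero_comp] at hg
    exact sub_eq_zero.1 hg
  · intro w
    have h0 : w ≫ ((TStructure.t (C := X.Modules)).truncGEπ N).app L = 0 :=
      (TStructure.t).zero_of_isLE_of_isGE _ (N - 1) N (by omega) hY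
        (inferInstanceAs ((((TStructure.t (C := X.Modules)).truncGE N).obj L).IsGE N))
    obtain ⟨g, hg⟩ := Triangle.coyoneda_exact₂ _ hT w h0
    exact ⟨g, hg.symm⟩

end TS

section Adj

variable (K : CochainComplex X.Modules ℤ) [DCoh.HasLTensorCx K] (b : ℤ)

/-- `j_! O_W [-k] ⊗^L K ∈ D^{≤ k + b}` for `K ∈ D^{≤ b}`. -/
lemma isLE_LTensorCx_gen (hK : (DCoh.toD X K).IsLE b) (W : X.Opens) (k : ℤ) :
    ((DCoh.LTensorCx K).obj (DerivedCategory.Q.obj (genCx W k))).IsLE (k + b) := by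
  have hKb : K.IsLE b := (DerivedCategory.isLE_Q_obj_iff K b).1 hK
  have hZ : ∀ q : ℤ, b + 1 ≤ q → IsZero (K.homology q) := fun q hq => by
    rw [← HomologicalComplex.exactAt_iff_isZero_homology]
    exact K.exactAt_of_isLE b q (by omega)
  have h1 : (T (DCoh.tensorBi (X := X)) (genCx W k) K).IsLE (k + b) := by
    rw [CochainComplex.isLE_iff]
    intro q hq
    rw [HomologicalComplex.exactAt_iff_isZero_homology]
    exact isZero_homology_T_of_bounds (genCx W k) K (isKFlat_genCx W k) k (b + 1) hZ q (by omega)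
  have h2 : (DerivedCategory.Q.obj (T (DCoh.tensorBi (X := X)) (genCx W k) K)).IsLE (k + b) :=
    (DerivedCategory.isLE_Q_obj_iff _ _).2 h1
  haveI : (TStructure.t).IsLE
      (DerivedCategory.Q.obj ((DCoh.tensorCx.obj (genCx W k)).obj K)) (k + b) := h2
  exact (TStructure.t).isLE_of_iso (LTensorCxIso K (genCx W k) (isKFlat_genCx W k)).symm (k + b)

variable {K} {Ψ : DCoh.D X ⥤ DCoh.D X} (adj : DCoh.LTensorCx K ⊣ Ψ)

include adj in
/-- a right adjoint of `- ⊗^L K`, `K ∈ D^{≤ b}`, maps `D^{≥ a}` to `D^{≥ a - b}`. -/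
theorem isGE_rightAdjoint (hK : (DCoh.toD X K).IsLE b) (L : DCoh.D X) (a : ℤ) [L.IsGE a] :
    (Ψ.obj L).IsGE (a - b) := by
  rw [DerivedCategory.isGE_iff]
  intro i hi
  apply isZero_HD_of_hom_eq_zero
  intro W _ α
  obtain ⟨y, hy⟩ := (shiftFunctor (DCoh.D X) i).map_surjective ((genIso W i).inv ≫ α)
  haveI := isLE_LTensorCx_gen K b hK W i
  have hz : ∀ f : (DCoh.LTensorCx K).obj (DerivedCategory.Q.obj (genCx W i)) ⟶ L, f = 0 :=
    fun f => (TStructure.t).zero_of_isLE_of_isGE f (i + b) a (by omega)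
      ‹((DCoh.LTensorCx K).obj (DerivedCategory.Q.obj (genCx W i))).IsLE (i + b)› ‹L.IsGE a›
  have hy0 : y = 0 := (adj.homEquiv _ _).symm.injective ((hz _).trans (hz _).symm)
  have h4 : (genIso W i).inv ≫ α = 0 := by rw [← hy, hy0, Functor.map_zero]
  exact (cancel_epi (genIso W i).inv).1 (by rw [h4, comp_zero])

include adj in
/-- a right adjoint of `- ⊗^L K`, `K ∈ D^{≤ b}`: `H^i(Ψ f)` is an isomorphism as soon as
`Hom(Y, f)` is bijective for all `Y ∈ D^{≤ N - 1}` and `i + b + 1 ≤ N - 1`. -/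
theorem isIso_homologyMap_rightAdjoint (hK : (DCoh.toD X K).IsLE b) {L' L : DCoh.D X}
    (f : L' ⟶ L) (N : ℤ)
    (hf : ∀ Y : DCoh.D X, Y.IsLE (N - 1) → Function.Bijective (fun y : Y ⟶ L' => y ≫ f))
    (i : ℤ) (hi : i + b + 1 ≤ N - 1) :
    IsIso ((DerivedCategory.homologyFunctor X.Modules i).map (Ψ.map f)) := by
  have key : ∀ (W : X.Opens) (k : ℤ), k + b ≤ N - 1 →
      Function.Bijective
        (fun x : DerivedCategory.Q.obj (genCx W k) ⟶ Ψ.obj L' => x ≫ Ψ.map f) := by
    intro W k hk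
    haveI := isLE_LTensorCx_gen K b hK W k
    have hY : ((DCoh.LTensorCx K).obj (DerivedCategory.Q.obj (genCx W k))).IsLE (N - 1) :=
      (TStructure.t).isLE_of_le _ (k + b) (N - 1) hk
    have hb := hf _ hY
    have e : (fun x : DerivedCategory.Q.obj (genCx W k) ⟶ Ψ.obj L' => x ≫ Ψ.map f) =
        (adj.homEquiv _ L) ∘ (fun y => y ≫ f) ∘ (adj.homEquiv _ L').symm := by
      funext x
      simp only [Function.comp_apply]
      rw [Adjunction.homEquiv_naturality_right, Equiv.apply_symm_apply]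
    rw [e]
    exact (adj.homEquiv _ L).bijective.comp (hb.comp (adj.homEquiv _ L').symm.bijective)
  refine isIso_homologyMap_of_classes (Ψ.map f) (N - b - 2) ?_ ?_ i (by omega)
  · intro k hk W _ β
    exact classes_surj_of_gen (Ψ.map f) W k (key W k (by omega)).2 β
  · intro k hk W _ y hy
    exact classes_inj_of_gen (Ψ.map f) W k (key W k (by omega)).1 y hy

end Adj

section Local

/-- **the local comparison**: for `K` `m`-pseudo-coherent and `L ∈ D^{≥ a}`, locally
`RHom(K, L)|_U ⟶ L|_U ⊗^L D` (`D` the dual of a bounded free local approximation `P` of `K`)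
is an isomorphism on `H^i` for `i + m < a`. -/
theorem exists_local_comparison (K : CochainComplex X.Modules ℤ) (m : ℤ)
    (hK : DCoh.IsPseudoCoherentD m (DCoh.toD X K)) [DCoh.HasLTensorCx K] [DCoh.HasRSheafHom K]
    (L : DCoh.D X) (a : ℤ) [L.IsGE a] (x : X) :
    ∃ (U : Scheme.{u}) (j : U ⟶ X) (_ : IsOpenImmersion j) (_ : x ∈ Set.range j)
      (P D : CochainComplex U.Modules ℤ) (a' b' : ℤ) (_ : DCoh.VanishesOutside P a' b')
      (_ : IsBoundedFree P) (_ : IsBoundedFree D) (_ : DCoh.VanishesOutside D (-b') (-a'))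
      (_ : DCoh.HasLTensorCx P) (_ : DCoh.HasLTensorCx D)
      (_ : Nonempty (DCoh.LTensorCx P ⊣ DCoh.LTensorCx D))
      (φ : (RD j).obj ((DCoh.RSheafHom K).obj L) ⟶ (DCoh.LTensorCx D).obj ((RD j).obj L)),
      ∀ i : ℤ, i + m < a → IsIso ((DerivedCategory.homologyFunctor U.Modules i).map φ) := by
  obtain ⟨U, j, hj, hxj, P, P', hP, s, hs, g, hg⟩ := exists_local_approx K m hK x
  obtain ⟨a', b', hab, hfree⟩ := hP
  choose n e using hfree
  let e' : ∀ i, P.X i ≅ FlatMod.freeMod U (n i) := fun i => (e i).some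
  haveI := hasLTensorCx P
  haveI := hasLTensorCx P'
  haveI := hasLTensorCx (dualFree P n e')
  haveI := hasLTensorCx ((RCx j).obj K)
  obtain ⟨adjP⟩ := nonempty_LTensorCx_adj P a' b' hab n e'
  obtain ⟨eT⟩ := nonempty_LTensorCx_iso_of_quasiIso s
  let adj' : DCoh.LTensorCx P' ⊣ DCoh.LTensorCx (dualFree P n e') := adjP.ofNatIsoLeft eT.symm
  let τ : DCoh.LTensorCx P' ⟶ DCoh.LTensorCx ((RCx j).obj K) := LTensorCxMap g
  let LU : DCoh.D U := (RD j).obj L
  haveI : LU.IsGE a := PerfPt.map_isGE (Scheme.Modules.restrictFunctor j) L a inferInstance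
  let R : DCoh.D X := (DCoh.RSheafHom K).obj L
  let φ : (RD j).obj R ⟶ (DCoh.LTensorCx (dualFree P n e')).obj LU :=
    yφ adj' τ (betaEquiv j K L)
  have hD := isBoundedFree_dualFree P a' b' hab n e'
  refine ⟨U, j, hj, hxj, P, dualFree P n e', a', b', hab, ⟨a', b', hab, fun i => ⟨n i, ⟨e' i⟩⟩⟩,
    hD, fun i hi => hab (-i) (by omega), inferInstance, inferInstance, ⟨adjP⟩, φ, ?_⟩
  intro i hi
  refine isIso_homologyMap_of_classes φ (a - m - 1) ?_ ?_ i (by omega)
  · intro k hk W _ β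
    exact classes_surj_of_gen φ W k
      (surjective_comp_yφ adj' τ (betaEquiv j K L) (betaEquiv_naturality j K L) _
        (surjective_precomp_LTensorCxMap g (genCx W k) (isKFlat_genCx W k) k m hg LU a
          (by omega))) β
  · intro k hk W _ y hy
    exact classes_inj_of_gen φ W k
      (injective_comp_yφ adj' τ (betaEquiv j K L) (betaEquiv_naturality j K L) _
        (injective_precomp_LTensorCxMap g (genCx W k) (isKFlat_genCx W k) k m hg LU a
          (by omega))) y hy

end Local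

end Groth.Agent.Lib.Helper16.Dua
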