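import Mathlib
import Groth.Agent.Lib.Helper16.Dua11
import Groth.Agent.Lib.Helper16.Coh2

/-!
# Helper16 — Dua12: `RHom(K, L) ∈ D^+_Coh` for `K ∈ D^-_Coh`, `L ∈ D^+_Coh` on a locally
Noetherian scheme.
-/

set_option autoImplicit false
set_option linter.style.haveILetI false
universe u
open CategoryTheory CategoryTheory.Limits AlgebraicGeometry Pretriangulated

attribute [local instance] HasDerivedCategory.standard

namespace Groth.Agent.Lib.Helper16.Dua

open Groth.Agent.Lib.Helper16.BiCx Groth.Agent.Lib.Helper16.KD Groth.Agent.Lib.Helper16.PC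
  Groth.Agent.Lib.Helper16.RS Groth.Agent.Lib.Helper16.JS Groth.Agent.Lib.Helper26.LC1
  Groth.Agent.Lib.Helper1.LocPC Groth.Agent.Lib.Helper26 DerivedCategory
  Groth.Agent.Lib.Helper16.CohT

variable {X : Scheme.{u}}

/-- coherence may be checked on a cover by open immersions. -/
theorem isCoh_of_cover (M : X.Modules)
    (h : ∀ x : X, ∃ (U : Scheme.{u}) (j : U ⟶ X) (_ : IsOpenImmersion j),
      x ∈ Set.range j ∧ Coh.IsCoh ((Scheme.Modules.restrictFunctor j).obj M)) :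
    Coh.IsCoh M := by
  apply Groth.Agent.Lib.Helper6.CohLocal.isCoh_of_locally
  intro x
  obtain ⟨U, j, hj, hx, hM⟩ := h x
  refine ⟨j.opensRange, hx, ?_⟩
  have hc : j.isoOpensRange.inv ≫ j = j.opensRange.ι := by simp
  have h1 : Coh.IsCoh ((Scheme.Modules.restrictFunctor j.isoOpensRange.inv).obj
      ((Scheme.Modules.restrictFunctor j).obj M)) :=
    Groth.Agent.Lib.Helper6.K0LocC.isCoh_restrict _ _ hM
  have h2 : Coh.IsCoh ((Scheme.Modules.restrictFunctor (j.isoOpensRange.inv ≫ j)).obj M) :=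
    CohFive.isCoh_of_iso ((Scheme.Modules.restrictFunctorComp j.isoOpensRange.inv j).app M).symm h1
  exact restrict_congr_prop (fun M => Coh.IsCoh M) _ _ hc M h2

lemma isCohD_RD {U : Scheme.{u}} (j : U ⟶ X) [IsOpenImmersion j] (L : DCoh.D X)
    (hL : DCoh.IsCohD L) : DCoh.IsCohD ((RD j).obj L) := fun i =>
  CohFive.isCoh_of_iso (SuppD2.homologyIso (Scheme.Modules.restrictFunctor j) L i).symm
    (Groth.Agent.Lib.Helper6.K0LocC.isCoh_restrict j _ (hL i))

lemma isCohD_truncLT (L : DCoh.D X) (hL : DCoh.IsCohD L) (N : ℤ) :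
    DCoh.IsCohD (((TStructure.t (C := X.Modules)).truncLT N).obj L) := fun i => by
  by_cases hi : i < N
  · haveI := Groth.Agent.Lib.Helper16.DerT.isIso_homologyMap_truncLTι L N i hi
    exact CohFive.isCoh_of_iso (asIso ((DerivedCategory.homologyFunctor X.Modules i).map
      (((TStructure.t (C := X.Modules)).truncLTι N).app L))).symm (hL i)
  · exact CohFive.isCoh_of_isZero _ (DerivedCategory.isZero_of_isLE _ (N - 1) i (by omega))

lemma isCohD_of_isBoundedFree [IsLocallyNoetherian X] (D : CochainComplex X.Modules ℤ)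
    (hD : IsBoundedFree D) : DCoh.IsCohD (DCoh.toD X D) := by
  obtain ⟨a, b, hab, hfree⟩ := hD
  intro i
  exact CohFive.isCoh_of_iso ((DerivedCategory.homologyFunctorFactors _ i).app D).symm
    (isCoh_homology_of_isBddAboveFree D b ⟨fun i hi => hab i (Or.inr hi), hfree⟩ i).1

lemma isLE_toD_of_vanishesOutside (D : CochainComplex X.Modules ℤ) (a b : ℤ)
    (h : DCoh.VanishesOutside D a b) : (DCoh.toD X D).IsLE b := by
  haveI : D.IsStrictlyLE b :=
    (CochainComplex.isStrictlyLE_iff _ _).2 (fun i hi => h i (Or.inr hi))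
  exact (DerivedCategory.isLE_Q_obj_iff D b).2 inferInstance

/-- **`H^i(RHom(K, L))` is coherent for `K ∈ D^-_Coh`, `L ∈ D^+_Coh`.** -/
theorem isCoh_HD_RSheafHom [IsLocallyNoetherian X] (K : CochainComplex X.Modules ℤ) (b : ℤ)
    (hKb : (DCoh.toD X K).IsLE b) (hK : DCoh.IsCohD (DCoh.toD X K)) [DCoh.HasLTensorCx K]
    [DCoh.HasRSheafHom K] (L : DCoh.D X) (a : ℤ) [L.IsGE a] (hL : DCoh.IsCohD L) (i : ℤ) :
    Coh.IsCoh (DCoh.HD ((DCoh.RSheafHom K).obj L) i) := by
  apply isCoh_of_cover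
  intro x
  haveI := hKb
  have hpc := pc_of_bddAbove_coh (DCoh.toD X K) b hK (a - i - 1)
  obtain ⟨U, j, hj, hxj, P, D, a', b', hab, hP, hD, habD, hLP, hLD, ⟨adjP⟩, φ, hφ⟩ :=
    exists_local_comparison K (a - i - 1) hpc L a x
  refine ⟨U, j, hj, hxj, ?_⟩
  haveI : IsLocallyNoetherian U := isLocallyNoetherian_of_isOpenImmersion j
  haveI := hφ i (by omega)
  let LU : DCoh.D U := (RD j).obj L
  have hLU : DCoh.IsCohD LU := isCohD_RD j L hL
  have hPb : (DCoh.toD U P).IsLE b' := isLE_toD_of_vanishesOutside P a' b' hab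
  have hiso := isIso_homologyMap_rightAdjoint b' adjP hPb
    (((TStructure.t (C := U.Modules)).truncLTι (i + b' + 2)).app LU) (i + b' + 2)
    (fun Y hY => bijective_postcomp_truncLTι Y LU (i + b' + 2) hY) i (by omega)
  have hc := (isCohD_LTensorCx D (((TStructure.t (C := U.Modules)).truncLT (i + b' + 2)).obj LU)
    (isCohD_truncLT LU hLU (i + b' + 2)) (i + b' + 2 - 1) inferInstance
    (isCohD_of_isBoundedFree D hD) (-a') (isLE_toD_of_vanishesOutside D _ _ habD) i).1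
  have hB : Coh.IsCoh (DCoh.HD ((DCoh.LTensorCx D).obj LU) i) :=
    CohFive.isCoh_of_iso (@asIso _ _ _ _ _ hiso) hc
  have hA : Coh.IsCoh (DCoh.HD ((RD j).obj ((DCoh.RSheafHom K).obj L)) i) :=
    CohFive.isCoh_of_iso (asIso ((DerivedCategory.homologyFunctor U.Modules i).map φ)).symm hB
  exact CohFive.isCoh_of_iso
    (SuppD2.homologyIso (Scheme.Modules.restrictFunctor j) ((DCoh.RSheafHom K).obj L) i) hA

/-- **`RHom(K, L) ∈ D^+_Coh` for `K ∈ D^-_Coh`, `L ∈ D^+_Coh` on a locally Noetherian scheme.** -/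
theorem RSheafHom_coherent_boundedBelow [IsLocallyNoetherian X] (K : CochainComplex X.Modules ℤ)
    (b : ℤ) (hKb : (DCoh.toD X K).IsLE b) (hK : DCoh.IsCohD (DCoh.toD X K)) [DCoh.HasLTensorCx K]
    [DCoh.HasRSheafHom K] (L : DCoh.D X) (a : ℤ) [L.IsGE a] (hL : DCoh.IsCohD L) :
    DCoh.IsCohD ((DCoh.RSheafHom K).obj L) ∧ ∃ a' : ℤ, ((DCoh.RSheafHom K).obj L).IsGE a' :=
  ⟨fun i => isCoh_HD_RSheafHom K b hKb hK L a hL i,
    ⟨a - b, isGE_rightAdjoint b (DCoh.RSheafHomAdj K) hKb L a⟩⟩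

end Groth.Agent.Lib.Helper16.Dua
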