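import Mathlib
import Groth.Agent.Lib.Helper8.EFB19
import Groth.Agent.Lib.Helper12.HenselizationFlat
import Groth.Agent.Lib.Helper12.StrictStruct5
import Groth.Agent.Lib.Helper12.StrictTensorF
import Groth.Agent.S0507

/-!
# Helper16 — DualHens: base change of a dualizing complex along a flat local map of Noetherian local
rings with `𝔪_A B = 𝔪_B` (henselization, strict henselization) is dualizing.
-/

set_option autoImplicit false
universe u
open CategoryTheory

attribute [local instance] HasDerivedCategory.standard

namespace Groth.Agent.Lib.Helper16.DualHens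

theorem isDualizing_LBaseChange_of_map_maximalIdeal (A B : Type u) [CommRing A] [IsLocalRing A]
    [IsNoetherianRing A] [CommRing B] [IsLocalRing B] [IsNoetherianRing B] [Algebra A B]
    [Module.Flat A B]
    (h : (IsLocalRing.maximalIdeal A).map (algebraMap A B) = IsLocalRing.maximalIdeal B)
    [DRing.HasLBaseChange (algebraMap A B)] (ω : Dual.D A) (hω : Dual.IsDualizing A ω) :
    Dual.IsDualizing B ((DRing.LBaseChange (algebraMap A B)).obj ω) := by
  refine Groth.Agent.Lib.Helper8.EFB.isDualizing_of_iso
    ((Groth.Agent.Lib.Helper8.RGam.lBaseChangeIsoε (algebraMap A B)).app ω).symm ?_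
  refine Groth.Agent.Lib.Helper8.EFB.isDualizing_ε_of_maximal_extended ?_ ω hω
  intro n hn
  exact ⟨IsLocalRing.maximalIdeal A, by rw [h]; exact (IsLocalRing.eq_maximalIdeal hn).symm⟩

theorem henselization (A B : Type u) [CommRing A] [IsLocalRing A] [IsNoetherianRing A] [CommRing B]
    [IsLocalRing B] [IsNoetherianRing B] [Algebra A B] [IsLocalHom (algebraMap A B)]
    [Hensel.IsHenselization A B] [DRing.HasLBaseChange (algebraMap A B)] (ω : Dual.D A)
    (hω : Dual.IsDualizing A ω) :
    Dual.IsDualizing B ((DRing.LBaseChange (algebraMap A B)).obj ω) := by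
  haveI : Module.Flat A B := by
    obtain ⟨e⟩ := Groth.Agent.Lib.Helper12.Henselization.nonempty_algEquiv (A := A) B
    exact Module.Flat.of_linearEquiv e.toLinearEquiv
  exact isDualizing_LBaseChange_of_map_maximalIdeal A B (Groth.Agent.S0507.result A B) ω hω

theorem strictHenselization (A B : Type u) [CommRing A] [IsLocalRing A] [IsNoetherianRing A]
    [CommRing B] [IsLocalRing B] [IsNoetherianRing B] [Algebra A B] [IsLocalHom (algebraMap A B)]
    [Hensel.IsStrictHenselization A B] [DRing.HasLBaseChange (algebraMap A B)] (ω : Dual.D A)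
    (hω : Dual.IsDualizing A ω) :
    Dual.IsDualizing B ((DRing.LBaseChange (algebraMap A B)).obj ω) := by
  haveI : Module.Flat A B := Groth.Agent.Lib.Helper12.StrictStruct.flat_of_isStrictHenselization A B
  exact isDualizing_LBaseChange_of_map_maximalIdeal A B
    (Groth.Agent.Lib.Helper12.StrictTensor.map_maximalIdeal_eq A B) ω hω

end Groth.Agent.Lib.Helper16.DualHens
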