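import Mathlib
import Groth.Prelude
import Groth.Agent.Lib.Helper16.DualSch2
import Groth.Agent.S0997
import Groth.Agent.S1787

/-!
# Helper16 — DualSch3: being a dualizing complex on a scheme is local (glueing theorem)
-/

set_option autoImplicit false
set_option linter.style.haveILetI false
universe u
open CategoryTheory CategoryTheory.Limits AlgebraicGeometry TensorProduct

attribute [local instance] HasDerivedCategory.standard

namespace Groth.Agent.Lib.Helper16.DualSch

open Scheme.Modules Groth.Agent.Lib.Helper16.RS Groth.Agent.Lib.Helper1.LocPC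
  Groth.Agent.Lib.Helper16.KD Groth.Agent.Lib.Helper16.FlatBC Groth.Agent.Lib.Helper16.AffRed

section Glue

/-- a ring is noetherian if its spectrum is an open subscheme of a locally noetherian scheme -/
theorem isNoetherianRing_of_chart {X : Scheme.{u}} [IsLocallyNoetherian X] {B : Type u} [CommRing B]
    (jB : Spec (CommRingCat.of B) ⟶ X) [IsOpenImmersion jB] : IsNoetherianRing B := by
  haveI : IsLocallyNoetherian (Spec (CommRingCat.of B)) := isLocallyNoetherian_of_isOpenImmersion jB
  haveI : IsNoetherian (Spec (CommRingCat.of B)) := { }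
  exact (isNoetherian_Spec (R := CommRingCat.of B)).1 inferInstance

variable [inst2 : ∀ (R : CommRingCat.{u}), PreservesFiniteLimits (tilde.functor R)]

/-- `tildeD` reflects isomorphy of objects -/
theorem nonempty_iso_of_tildeD_iso {B : Type u} [CommRing B] (M N : Dual.D B)
    (e : (DCoh.tildeD (CommRingCat.of B)).obj M ≅ (DCoh.tildeD (CommRingCat.of B)).obj N) :
    Nonempty (M ≅ N) := by
  haveI := (Groth.Agent.S0997.result (CommRingCat.of B)).1
  haveI := (Groth.Agent.S0997.result (CommRingCat.of B)).2.1
  exact ⟨(DCoh.tildeD (CommRingCat.of B)).preimageIso e⟩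

/-- Step A: the localization of `ω'` at `g` is dualizing when `D(g)` lies in a chart on which `K`
is given by a dualizing complex. -/
theorem isDualizing_ε_away_of_chart {X : Scheme.{u}} (K : DCoh.D X)
    {A B : Type u} [CommRing A] [CommRing B] [IsNoetherianRing A] [IsNoetherianRing B]
    (jA : Spec (CommRingCat.of A) ⟶ X) [IsOpenImmersion jA]
    (jB : Spec (CommRingCat.of B) ⟶ X) [IsOpenImmersion jB]
    (ω : Dual.D A) (hω : Dual.IsDualizing A ω)
    (e : (RD jA).obj K ≅ (DCoh.tildeD (CommRingCat.of A)).obj ω)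
    (ω' : Dual.D B) (e' : (RD jB).obj K ≅ (DCoh.tildeD (CommRingCat.of B)).obj ω')
    (g : B)
    (hg : Set.range (Spec.map (CommRingCat.ofHom (algebraMap B (Localization.Away g))) ≫ jB) ⊆
      Set.range jA) :
    Dual.IsDualizing (Localization.Away g) ((ε (algebraMap B (Localization.Away g))).obj ω') := by
  set l := Spec.map (CommRingCat.ofHom (algebraMap B (Localization.Away g))) with hl
  let k : Spec (CommRingCat.of (Localization.Away g)) ⟶ Spec (CommRingCat.of A) :=
    IsOpenImmersion.lift jA (l ≫ jB) hg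
  have hk : k ≫ jA = l ≫ jB := IsOpenImmersion.lift_fac _ _ _
  haveI : IsOpenImmersion k := by
    haveI : IsOpenImmersion (k ≫ jA) := by rw [hk]; infer_instance
    exact IsOpenImmersion.of_comp k jA
  let ψ : CommRingCat.of A ⟶ CommRingCat.of (Localization.Away g) := Spec.preimage k
  have hψ : Spec.map ψ = k := Spec.map_preimage k
  letI : Algebra A (Localization.Away g) := ψ.hom.toAlgebra
  have hψ' : Spec.map (CommRingCat.ofHom (algebraMap A (Localization.Away g))) = k := hψ
  haveI : IsOpenImmersion (Spec.map (CommRingCat.ofHom (algebraMap A (Localization.Away g)))) := by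
    rw [hψ']; infer_instance
  haveI : Module.Flat A (Localization.Away g) := by
    have h1 : Flat (Spec.map (CommRingCat.ofHom (algebraMap A (Localization.Away g)))) :=
      inferInstance
    exact (HasRingHomProperty.Spec_iff (P := @Flat)).1 h1
  haveI : Algebra.FiniteType A (Localization.Away g) := by
    have h1 : LocallyOfFiniteType
        (Spec.map (CommRingCat.ofHom (algebraMap A (Localization.Away g)))) := inferInstance
    exact (HasRingHomProperty.Spec_iff (P := @LocallyOfFiniteType)).1 h1
  haveI : IsNoetherianRing (Localization.Away g) :=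
    IsLocalization.isNoetherianRing (Submonoid.powers g) _ inferInstance
  have hgor : Dual3.IsGorensteinMor
      (Spec.map (CommRingCat.ofHom (algebraMap A (Localization.Away g)))) :=
    fun x => isGorensteinAt_of_isOpenImmersion _ x
  have h1 := isDualizing_ε_of_gorMor hgor ω hω
  obtain ⟨e1⟩ := nonempty_RD_chart_iso (B := Localization.Away g) K jA ω e
  obtain ⟨e2⟩ := nonempty_RD_chart_iso (B := Localization.Away g) K jB ω' e'
  have key : ∀ (m : Spec (CommRingCat.of (Localization.Away g)) ⟶ X) [IsOpenImmersion m],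
      m = l ≫ jB → Nonempty ((RD m).obj K ≅
        (DCoh.tildeD (CommRingCat.of (Localization.Away g))).obj
          ((ε (algebraMap B (Localization.Away g))).obj ω')) := by
    intro m _ hm
    subst hm
    exact ⟨e2⟩
  obtain ⟨e3⟩ := key (Spec.map (CommRingCat.ofHom (algebraMap A (Localization.Away g))) ≫ jA)
    (by rw [hψ', hk])
  obtain ⟨e4⟩ := nonempty_iso_of_tildeD_iso _ _ (e1.symm ≪≫ e3)
  exact Groth.Agent.Lib.Helper8.EFB.isDualizing_of_iso e4 h1

/-- **Glueing**: a complex which, locally on `X`, is given by dualizing complexes of affine charts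
is a dualizing complex on `X`. -/
theorem isDualizingSch_of_local {X : Scheme.{u}} [IsLocallyNoetherian X]
    [inst1 : ∀ (U V : Scheme.{u}) (j : U ⟶ V) [IsOpenImmersion j],
      PreservesFiniteLimits (Scheme.Modules.restrictFunctor j)]
    (K : DCoh.D X)
    (h : ∀ x : X, ∃ (A : Type u) (_ : CommRing A) (j : Spec (CommRingCat.of A) ⟶ X)
      (_ : IsOpenImmersion j) (ω : Dual.D A), x ∈ Set.range j ∧ Dual.IsDualizing A ω ∧
        Nonempty ((RD j).obj K ≅ (DCoh.tildeD (CommRingCat.of A)).obj ω)) :
    Dual2.IsDualizingSch X K := by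
  intro B _ jB _
  haveI := isNoetherianRing_of_chart jB
  have hq : DCoh.IsQCohD K := by
    apply isQCohD_of_cover
    intro x
    obtain ⟨A, _, j, _, ω, hx, -, ⟨e⟩⟩ := h x
    have h1 : DCoh.IsQCohD ((DCoh.tildeD (CommRingCat.of A)).obj ω) :=
      Groth.Agent.Lib.Helper26.LC13.isQCohD_tildeD (CommRingCat.of A) ω
    have h2 : DCoh.IsQCohD ((RD j).obj K) :=
      Groth.Agent.Lib.Helper26.LC11.isQCohD_of_iso e.symm h1
    exact ⟨Spec (CommRingCat.of A), j, inferInstance, hx, h2⟩
  have hqB := isQCohD_RD jB K hq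
  obtain ⟨ω', ⟨e'⟩⟩ := ((Groth.Agent.S0997.result (CommRingCat.of B)).2.2 _).1 hqB
  refine ⟨ω', ?_, ⟨e'.symm⟩⟩
  let s : Set B := {g | Dual.IsDualizing (Localization.Away g)
    ((ε (algebraMap B (Localization.Away g))).obj ω')}
  have hs : Ideal.span s = ⊤ := by
    by_contra hne
    obtain ⟨m, hm, hle⟩ := Ideal.exists_le_maximal _ hne
    let y : PrimeSpectrum B := ⟨m, hm.isPrime⟩
    obtain ⟨A, _, j, _, ω, hx, hω, ⟨e⟩⟩ := h (jB y)
    haveI := hω.isNoetherianRing
    have hopen : IsOpen (jB ⁻¹' Set.range j) :=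
      j.isOpenEmbedding.isOpen_range.preimage jB.continuous
    obtain ⟨_, ⟨g, rfl⟩, hyg, hgsub⟩ :=
      PrimeSpectrum.isTopologicalBasis_basic_opens.exists_subset_of_mem_open
        (show y ∈ jB ⁻¹' Set.range j from hx) hopen
    have hgs : g ∈ s := by
      apply isDualizing_ε_away_of_chart K j jB ω hω e ω' e'.symm g
      rintro _ ⟨z, rfl⟩
      have hz : (Spec.map (CommRingCat.ofHom (algebraMap B (Localization.Away g))) z :
          PrimeSpectrum B) ∈ (PrimeSpectrum.basicOpen g : Set (PrimeSpectrum B)) := by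
        rw [← PrimeSpectrum.localization_away_comap_range (Localization.Away g) g]
        exact ⟨z, rfl⟩
      exact hgsub hz
    exact (PrimeSpectrum.mem_basicOpen g y).1 hyg (hle (Ideal.subset_span hgs))
  obtain ⟨s', hs's, hs'⟩ := (Ideal.span_eq_top_iff_finite s).1 hs
  let f : Fin s'.card → B := fun k => (s'.equivFin.symm k).1
  have hrange : Set.range f = ↑s' := by
    ext x
    constructor
    · rintro ⟨k, rfl⟩
      exact (s'.equivFin.symm k).2
    · intro hx
      exact ⟨s'.equivFin ⟨x, hx⟩, by simp [f]⟩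
  apply Groth.Agent.S1787.result B s'.card f (by rw [hrange]; exact hs') ω'
  intro k
  have hk : f k ∈ s := hs's (s'.equivFin.symm k).2
  haveI hLB := Groth.Agent.Lib.Helper16.DRE.hasLBaseChange
    (algebraMap B (Localization.Away (f k)))
  refine ⟨hLB, ?_⟩
  obtain ⟨e8⟩ := nonempty_LBaseChange_iso_ε (algebraMap B (Localization.Away (f k))) ω'
  exact Groth.Agent.Lib.Helper8.EFB.isDualizing_of_iso e8.symm hk

end Glue

end Groth.Agent.Lib.Helper16.DualSch
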