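import Mathlib
import Groth.Prelude
import Groth.Agent.Lib.Helper16.DualSch3

/-!
# Helper16 — DualSch4: flat Gorenstein pullback of dualizing complexes on schemes
-/

set_option autoImplicit false
set_option linter.style.haveILetI false
universe u
open CategoryTheory CategoryTheory.Limits AlgebraicGeometry TensorProduct IsLocalRing

attribute [local instance] HasDerivedCategory.standard

namespace Groth.Agent.Lib.Helper16.DualSch

open Scheme.Modules Groth.Agent.Lib.Helper16.RS Groth.Agent.Lib.Helper1.LocPC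
  Groth.Agent.Lib.Helper16.KD Groth.Agent.Lib.Helper16.FlatBC Groth.Agent.Lib.Helper16.AffRed
  Groth.Agent.Lib.Helper5.FibreStalk Groth.Agent.Lib.Helper5.FibreComp Groth.Agent.Lib.Helper5

/-- charts of a Gorenstein morphism are Gorenstein morphisms. -/
theorem isGorensteinMor_chart {X Y : Scheme.{u}} [IsLocallyNoetherian X] [IsLocallyNoetherian Y]
    (f : X ⟶ Y) (hf : Dual3.IsGorensteinMor f) {U V : Scheme.{u}}
    (g : U ⟶ X) [IsOpenImmersion g] (jA : V ⟶ Y) [IsOpenImmersion jA] (φ : U ⟶ V)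
    (hg : g ≫ f = φ ≫ jA) : Dual3.IsGorensteinMor φ := by
  intro z
  have hP := flatLocalProp_gorenstein.{u}
  have h1 := (fibP_iff hP g z).2 (isGorensteinAt_of_isOpenImmersion g z)
  have h2 := (fibP_iff hP f (g z)).2 (hf (g z))
  haveI : IsLocallyNoetherian U := isLocallyNoetherian_of_isOpenImmersion g
  haveI : IsLocallyNoetherian V := isLocallyNoetherian_of_isOpenImmersion jA
  have h3 := fibP_comp hP g f z inferInstance h1 h2
  rw [hg] at h3
  have hfl : (φ.stalkMap z).hom.Flat := by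
    have h5 := h3.1
    rw [Scheme.Hom.stalkMap_comp] at h5
    have h6 : (inv (jA.stalkMap (φ z))).hom.Flat :=
      RingHom.Flat.of_bijective (ConcreteCategory.bijective_of_isIso _)
    have h7 := h6.comp h5
    have h8 : (jA.stalkMap (φ z) ≫ φ.stalkMap z).hom.comp (inv (jA.stalkMap (φ z))).hom =
        (φ.stalkMap z).hom := by
      rw [← CommRingCat.hom_comp, IsIso.inv_hom_id_assoc]
    exact h8 ▸ h7
  exact (fibP_iff hP φ z).1 (fibP_of_comp hP φ jA z inferInstance h3 hfl).1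

section Pull

variable [inst2 : ∀ (R : CommRingCat.{u}), PreservesFiniteLimits (tilde.functor R)]
  [inst1 : ∀ (U V : Scheme.{u}) (j : U ⟶ V) [IsOpenImmersion j],
      PreservesFiniteLimits (Scheme.Modules.restrictFunctor j)]

omit inst1 in
/-- the chart of `Lf^* K` over an affine pair `U ≤ f⁻¹ V`. -/
theorem nonempty_RD_Lpull_affine_pair {X Y : Scheme.{u}} (f : X ⟶ Y) [Flat f] [DCoh.HasLpull f]
    (K : DCoh.D Y) {U : X.Opens} {V : Y.Opens} (hU : IsAffineOpen U) (hV : IsAffineOpen V)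
    (hUV : U ≤ f ⁻¹ᵁ V) (ω : Dual.D Γ(Y, V))
    (e : (RD hV.fromSpec).obj K ≅ (DCoh.tildeD (CommRingCat.of Γ(Y, V))).obj ω) :
    letI : Algebra Γ(Y, V) Γ(X, U) := (f.appLE V U hUV).hom.toAlgebra
    haveI : Module.Flat Γ(Y, V) Γ(X, U) :=
      HasRingHomProperty.appLE (P := @Flat) f inferInstance ⟨V, hV⟩ ⟨U, hU⟩ hUV
    Nonempty ((RD hU.fromSpec).obj ((DCoh.Lpull f).obj K) ≅
      (DCoh.tildeD (CommRingCat.of Γ(X, U))).obj ((ε (algebraMap Γ(Y, V) Γ(X, U))).obj ω)) := by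
  letI : Algebra Γ(Y, V) Γ(X, U) := (f.appLE V U hUV).hom.toAlgebra
  have hg : hU.fromSpec ≫ f =
      Spec.map (CommRingCat.ofHom (algebraMap Γ(Y, V) Γ(X, U))) ≫ hV.fromSpec :=
    (IsAffineOpen.SpecMap_appLE_fromSpec f hV hU hUV).symm
  haveI : Module.Flat Γ(Y, V) Γ(X, U) :=
    HasRingHomProperty.appLE (P := @Flat) f inferInstance ⟨V, hV⟩ ⟨U, hU⟩ hUV
  exact nonempty_RD_Lpull_chart_iso (A := Γ(Y, V)) (B := Γ(X, U)) f K hU.fromSpec hV.fromSpec hg ω e

/-- **flat Gorenstein pullback preserves dualizing complexes**. -/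
theorem isDualizingSch_Lpull {X Y : Scheme.{u}} [IsLocallyNoetherian X] [IsLocallyNoetherian Y]
    (f : X ⟶ Y) [Flat f] [LocallyOfFiniteType f] (hf : Dual3.IsGorensteinMor f)
    [DCoh.HasLpull f] (K : DCoh.D Y) (hK : Dual2.IsDualizingSch Y K) :
    Dual2.IsDualizingSch X ((DCoh.Lpull f).obj K) := by
  apply isDualizingSch_of_local
  intro x
  obtain ⟨V, hV, hxV, -⟩ := exists_isAffineOpen_mem_and_subset (x := f x) (U := ⊤) trivial
  obtain ⟨U, hU, hxU, hUV⟩ :=
    exists_isAffineOpen_mem_and_subset (x := x) (U := f ⁻¹ᵁ V) hxV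
  letI : Algebra Γ(Y, V) Γ(X, U) := (f.appLE V U hUV).hom.toAlgebra
  have hg : hU.fromSpec ≫ f =
      Spec.map (CommRingCat.ofHom (algebraMap Γ(Y, V) Γ(X, U))) ≫ hV.fromSpec :=
    (IsAffineOpen.SpecMap_appLE_fromSpec f hV hU hUV).symm
  obtain ⟨ω, hω, ⟨e⟩⟩ := hK Γ(Y, V) hV.fromSpec
  haveI : IsNoetherianRing Γ(Y, V) := hω.isNoetherianRing
  haveI : IsNoetherianRing Γ(X, U) := isNoetherianRing_of_chart (B := Γ(X, U)) hU.fromSpec
  haveI : Module.Flat Γ(Y, V) Γ(X, U) :=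
    HasRingHomProperty.appLE (P := @Flat) f inferInstance ⟨V, hV⟩ ⟨U, hU⟩ hUV
  haveI : Algebra.FiniteType Γ(Y, V) Γ(X, U) :=
    HasRingHomProperty.appLE (P := @LocallyOfFiniteType) f inferInstance ⟨V, hV⟩ ⟨U, hU⟩ hUV
  have hgor : Dual3.IsGorensteinMor
      (Spec.map (CommRingCat.ofHom (algebraMap Γ(Y, V) Γ(X, U)))) :=
    isGorensteinMor_chart f hf hU.fromSpec hV.fromSpec _ hg
  obtain ⟨e2⟩ := nonempty_RD_Lpull_affine_pair f K hU hV hUV ω e
  refine ⟨Γ(X, U), inferInstance, hU.fromSpec, inferInstance,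
    (ε (algebraMap Γ(Y, V) Γ(X, U))).obj ω, ?_, isDualizing_ε_of_gorMor hgor ω hω, ⟨e2⟩⟩
  rw [hU.range_fromSpec]
  exact hxU

end Pull

end Groth.Agent.Lib.Helper16.DualSch
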