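import Mathlib
import Groth.Prelude
import Groth.Agent.Lib.Helper16.DualSch4
import Groth.Agent.S1780

/-!
# Helper16 — DualSch5: descent of dualizing complexes along flat surjective open morphisms
-/

set_option autoImplicit false
set_option linter.style.haveILetI false
universe u
open CategoryTheory CategoryTheory.Limits AlgebraicGeometry TensorProduct IsLocalRing

attribute [local instance] HasDerivedCategory.standard

namespace Groth.Agent.Lib.Helper16.DualSch

open Scheme.Modules Groth.Agent.Lib.Helper16.RS Groth.Agent.Lib.Helper1.LocPC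
  Groth.Agent.Lib.Helper16.KD Groth.Agent.Lib.Helper16.FlatBC Groth.Agent.Lib.Helper16.AffRed

/-- around every point of the target of a flat, open, surjective morphism there is a pair of
affine opens `U' ≤ f⁻¹ V'` with `Γ(V') → Γ(U')` faithfully flat. -/
theorem exists_ff_affine_pair {X Y : Scheme.{u}} (f : X ⟶ Y) [Flat f] [Surjective f]
    (hopen : IsOpenMap f) (y : Y) :
    ∃ (U : X.Opens) (V : Y.Opens) (_ : IsAffineOpen U) (_ : IsAffineOpen V) (hUV : U ≤ f ⁻¹ᵁ V),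
      y ∈ V ∧ (f.appLE V U hUV).hom.FaithfullyFlat := by
  obtain ⟨x, rfl⟩ := (inferInstance : Surjective f).surj y
  obtain ⟨V, hV, hxV, -⟩ := exists_isAffineOpen_mem_and_subset (x := f x) (U := ⊤) trivial
  obtain ⟨U, hU, hxU, hUV⟩ :=
    exists_isAffineOpen_mem_and_subset (x := x) (U := f ⁻¹ᵁ V) hxV
  let T : Y.Opens := ⟨f '' (U : Set X), hopen _ U.isOpen⟩
  have hxT : f x ∈ T := ⟨x, hxU, rfl⟩
  obtain ⟨a, haT, hxa⟩ := hV.exists_basicOpen_le (V := T) ⟨f x, hxT⟩ hxV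
  have hV' : IsAffineOpen (Y.basicOpen a) := hV.basicOpen a
  have hU' : IsAffineOpen (X.basicOpen (f.appLE V U hUV a)) := hU.basicOpen _
  have hUeq : X.basicOpen (f.appLE V U hUV a) = U ⊓ f ⁻¹ᵁ (Y.basicOpen a) :=
    Scheme.basicOpen_appLE f U V hUV a
  have hU'V' : X.basicOpen (f.appLE V U hUV a) ≤ f ⁻¹ᵁ (Y.basicOpen a) := by
    rw [hUeq]; exact inf_le_right
  refine ⟨_, _, hU', hV', hU'V', hxa, ?_⟩
  rw [← flat_and_surjective_SpecMap_iff]
  constructor
  · exact (HasRingHomProperty.Spec_iff (P := @Flat)).2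
      (HasRingHomProperty.appLE (P := @Flat) f inferInstance ⟨_, hV'⟩ ⟨_, hU'⟩ hU'V')
  · constructor
    intro p
    have hp : hV'.fromSpec p ∈ Y.basicOpen a := by
      have := Set.mem_range_self (f := hV'.fromSpec) p
      rwa [hV'.range_fromSpec] at this
    obtain ⟨x', hx'U, hx'⟩ := haT hp
    have hx'U' : x' ∈ X.basicOpen (f.appLE V U hUV a) := by
      rw [hUeq]
      refine ⟨hx'U, ?_⟩
      change f x' ∈ Y.basicOpen a
      rw [hx']; exact hp
    have hxr : x' ∈ Set.range hU'.fromSpec := by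
      rw [hU'.range_fromSpec]; exact hx'U'
    obtain ⟨q, hq⟩ := hxr
    refine ⟨q, ?_⟩
    apply hV'.fromSpec.isOpenEmbedding.injective
    rw [← hx', ← hq]
    change (Spec.map _ ≫ hV'.fromSpec) q = (hU'.fromSpec ≫ f) q
    rw [IsAffineOpen.SpecMap_appLE_fromSpec f hV' hU' hU'V']

section Descent

variable [inst2 : ∀ (R : CommRingCat.{u}), PreservesFiniteLimits (tilde.functor R)]
  [inst1 : ∀ (U V : Scheme.{u}) (j : U ⟶ V) [IsOpenImmersion j],
      PreservesFiniteLimits (Scheme.Modules.restrictFunctor j)]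

/-- **descent of dualizing complexes** along a flat, surjective, open morphism. -/
theorem isDualizingSch_of_Lpull {X Y : Scheme.{u}} [IsLocallyNoetherian X]
    [IsLocallyNoetherian Y] (f : X ⟶ Y) [Flat f] [Surjective f] (hopen : IsOpenMap f)
    [DCoh.HasLpull f] (K : DCoh.D Y) (hq : DCoh.IsQCohD K)
    (h : Dual2.IsDualizingSch X ((DCoh.Lpull f).obj K)) :
    Dual2.IsDualizingSch Y K := by
  apply isDualizingSch_of_local
  intro y
  obtain ⟨U, V, hU, hV, hUV, hyV, hff⟩ := exists_ff_affine_pair f hopen y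
  letI : Algebra Γ(Y, V) Γ(X, U) := (f.appLE V U hUV).hom.toAlgebra
  haveI : Module.FaithfullyFlat Γ(Y, V) Γ(X, U) := hff
  haveI : IsNoetherianRing Γ(Y, V) := isNoetherianRing_of_chart (B := Γ(Y, V)) hV.fromSpec
  haveI : IsNoetherianRing Γ(X, U) := isNoetherianRing_of_chart (B := Γ(X, U)) hU.fromSpec
  obtain ⟨ω', ⟨e'⟩⟩ := ((Groth.Agent.S0997.result (CommRingCat.of Γ(Y, V))).2.2 _).1
    (isQCohD_RD hV.fromSpec K hq)
  obtain ⟨e2⟩ := nonempty_RD_Lpull_affine_pair f K hU hV hUV ω' e'.symm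
  obtain ⟨ω'', hω'', ⟨e3⟩⟩ := h Γ(X, U) hU.fromSpec
  obtain ⟨e4⟩ := nonempty_iso_of_tildeD_iso _ _ (e3.symm ≪≫ e2)
  have h5 : Dual.IsDualizing Γ(X, U) ((ε (algebraMap Γ(Y, V) Γ(X, U))).obj ω') :=
    Groth.Agent.Lib.Helper8.EFB.isDualizing_of_iso e4 hω''
  haveI := Groth.Agent.Lib.Helper16.DRE.hasLBaseChange (algebraMap Γ(Y, V) Γ(X, U))
  obtain ⟨e8⟩ := nonempty_LBaseChange_iso_ε (algebraMap Γ(Y, V) Γ(X, U)) ω'
  have h6 := Groth.Agent.S1780.result Γ(Y, V) Γ(X, U) ω'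
    (Groth.Agent.Lib.Helper8.EFB.isDualizing_of_iso e8.symm h5)
  refine ⟨Γ(Y, V), inferInstance, hV.fromSpec, inferInstance, ω', ?_, h6, ⟨e'.symm⟩⟩
  rw [hV.range_fromSpec]
  exact hyV

end Descent

end Groth.Agent.Lib.Helper16.DualSch
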