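import Mathlib
import Groth.Prelude
import Groth.Agent.Lib.Helper16.DualSch5
import Groth.Agent.Lib.Helper16.FLJ6

/-!
# Helper16 — DualSch6: flat lci pullback of dualizing complexes on schemes
-/

set_option autoImplicit false
set_option linter.style.haveILetI false
universe u
open CategoryTheory CategoryTheory.Limits AlgebraicGeometry TensorProduct IsLocalRing

attribute [local instance] HasDerivedCategory.standard

namespace Groth.Agent.Lib.Helper16.DualSch

open Scheme.Modules Groth.Agent.Lib.Helper16.RS Groth.Agent.Lib.Helper1.LocPC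
  Groth.Agent.Lib.Helper16.KD Groth.Agent.Lib.Helper16.FlatBC Groth.Agent.Lib.Helper16.AffRed

/-- an lci morphism (affine-local form) is locally of finite type. -/
theorem locallyOfFiniteType_of_isLCIMor {X Y : Scheme.{u}} (f : X ⟶ Y) (hf : Dual3.IsLCIMor f) :
    LocallyOfFiniteType f := by
  have hQ : RingHom.StableUnderCompositionWithLocalizationAwaySource @RingHom.FiniteType :=
    (RingHom.finiteType_stableUnderComposition.stableUnderCompositionWithLocalizationAway
      RingHom.finiteType_holdsForLocalizationAway).left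
  rw [HasRingHomProperty.iff_exists_appLE (P := @LocallyOfFiniteType) hQ]
  intro x
  obtain ⟨U, V, e, hxU, hl⟩ := hf x
  exact ⟨V, U, hxU, e, hl.1⟩

section Pull

variable [inst2 : ∀ (R : CommRingCat.{u}), PreservesFiniteLimits (tilde.functor R)]
  [inst1 : ∀ (U V : Scheme.{u}) (j : U ⟶ V) [IsOpenImmersion j],
      PreservesFiniteLimits (Scheme.Modules.restrictFunctor j)]

/-- **flat lci pullback preserves dualizing complexes**. -/
theorem isDualizingSch_Lpull_lci {X Y : Scheme.{u}} [IsLocallyNoetherian X]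
    [IsLocallyNoetherian Y] (f : X ⟶ Y) [Flat f] (hf : Dual3.IsLCIMor f)
    [DCoh.HasLpull f] (K : DCoh.D Y) (hK : Dual2.IsDualizingSch Y K) :
    Dual2.IsDualizingSch X ((DCoh.Lpull f).obj K) := by
  apply isDualizingSch_of_local
  intro x
  obtain ⟨⟨U, hU'⟩, ⟨V, hV'⟩, hUV, hxU, hl⟩ := hf x
  have hU : IsAffineOpen U := hU'
  have hV : IsAffineOpen V := hV'
  letI : Algebra Γ(Y, V) Γ(X, U) := (f.appLE V U hUV).hom.toAlgebra
  obtain ⟨ω, hω, ⟨e⟩⟩ := hK Γ(Y, V) hV.fromSpec
  haveI : IsNoetherianRing Γ(Y, V) := hω.isNoetherianRing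
  haveI : IsNoetherianRing Γ(X, U) := isNoetherianRing_of_chart (B := Γ(X, U)) hU.fromSpec
  haveI : Module.Flat Γ(Y, V) Γ(X, U) :=
    HasRingHomProperty.appLE (P := @Flat) f inferInstance ⟨V, hV⟩ ⟨U, hU⟩ hUV
  obtain ⟨e2⟩ := nonempty_RD_Lpull_affine_pair f K hU hV hUV ω e
  refine ⟨Γ(X, U), inferInstance, hU.fromSpec, inferInstance,
    (ε (algebraMap Γ(Y, V) Γ(X, U))).obj ω, ?_,
    Groth.Agent.Lib.Helper16.FLJ.isDualizing_ε_of_flat_lci hl ω hω, ⟨e2⟩⟩
  rw [hU.range_fromSpec]
  exact hxU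

end Pull

end Groth.Agent.Lib.Helper16.DualSch
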