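import Groth.Agent.Lib.Helper16.EC2
import Groth.Agent.Lib.Helper16.RS11
import Groth.Agent.Lib.Helper16.RS7

/-!
# The derived pullback of a locally bounded free object along a morphism landing in the open
-/

set_option autoImplicit false
universe u
open CategoryTheory CategoryTheory.Limits AlgebraicGeometry TopologicalSpace Opposite

attribute [local instance] HasDerivedCategory.standard

namespace Groth.Agent.Lib.Helper16.EC

open Groth.Agent.Lib.Helper16.Stk Groth.Agent.Lib.Helper16.KD Groth.Agent.Lib.Helper16.RS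

variable {T X : Scheme.{u}}

/-- if `E|_V` is represented by the K-flat complex `P` and `f : T ⟶ X` factors as `g ≫ V.ι`,
then `Lf^* E` is represented by the termwise pullback `g^* P`. -/
theorem exists_iso_Lpull_of_restrict (V : X.Opens) (g : T ⟶ V) (f : T ⟶ X) (hgf : g ≫ V.ι = f)
    [DCoh.HasLpull f] (E : DCoh.D X) (F : CochainComplex X.Modules ℤ) (hF : DCoh.IsKFlat F)
    (eF : DerivedCategory.Q.obj F ≅ E)
    (P : CochainComplex (V : Scheme.{u}).Modules ℤ) (hP : DCoh.IsKFlat P)
    (e : DerivedCategory.Q.obj ((RCx V.ι).obj F) ≅ DerivedCategory.Q.obj P) :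
    Nonempty ((DCoh.Lpull f).obj E ≅ DerivedCategory.Q.obj ((pullCx g).obj P)) := by
  subst hgf
  haveI : DCoh.HasLpull g := hasLpull g
  have hR : DCoh.IsKFlat ((RCx V.ι).obj F) := isKFlat_RCx V.ι F hF
  exact ⟨(DCoh.Lpull (g ≫ V.ι)).mapIso eF.symm ≪≫ LpullIso (g ≫ V.ι) F hF ≪≫
    DerivedCategory.Q.mapIso (pullCompIso g V.ι F).symm ≪≫
    DerivedCategory.Q.mapIso ((pullCx g).mapIso ((RCxIsoPullCx V.ι).app F).symm) ≪≫
    (LpullIso g _ hR).symm ≪≫ (DCoh.Lpull g).mapIso e ≪≫ LpullIso g P hP⟩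

/-- pullback of a bounded complex of finite free modules. -/
theorem pullCx_boundedFree (g : T ⟶ X) (P : CochainComplex X.Modules ℤ) (a b : ℤ)
    (hab : DCoh.VanishesOutside P a b) (n : ℤ → ℕ)
    (hn : ∀ i, Nonempty (P.X i ≅ FlatMod.freeMod X (n i))) :
    DCoh.VanishesOutside ((pullCx g).obj P) a b ∧
      ∀ i, Nonempty (((pullCx g).obj P).X i ≅ FlatMod.freeMod T (n i)) :=
  ⟨fun i hi => (Scheme.Modules.pullback g).map_isZero (hab i hi),
    fun i => ⟨(Scheme.Modules.pullback g).mapIso (hn i).some ≪≫ pullbackFreeModIso g (n i)⟩⟩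

theorem isField_Γtop_Spec (K : Type u) [Field K] : IsField (Coh.Γtop (Spec (CommRingCat.of K))) :=
  MulEquiv.isField (Field.toIsField K)
    (Scheme.ΓSpecIso (CommRingCat.of K)).commRingCatIsoToRingEquiv.toMulEquiv

end Groth.Agent.Lib.Helper16.EC
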