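import Groth.Agent.Lib.Helper16.MR3

/-!
# Upper semicontinuity of the dimension of the kernel of the fibres of a morphism of free modules
-/

set_option autoImplicit false
universe u
open CategoryTheory CategoryTheory.Limits AlgebraicGeometry TopologicalSpace Opposite

namespace Groth.Agent.Lib.Helper16.MR

open Groth.Agent.Lib.Helper29.FreeIso Groth.Agent.Lib.Helper28.QCohLoc
  Groth.Agent.Lib.Helper28.TwistGen Groth.Agent.Lib.Helper16.EC Groth.Agent.Lib.Helper16.RS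

variable {Y : Scheme.{u}}

theorem Lmap_comp {M N K : Y.Modules} (f : M ⟶ N) (g : N ⟶ K) :
    Lmap (f ≫ g) = (Lmap g).comp (Lmap f) := rfl

theorem Lmap_id (M : Y.Modules) : Lmap (𝟙 M) = LinearMap.id := rfl

/-- an isomorphism of modules induces a linear equivalence on global sections. -/
noncomputable def LmapEquiv {M N : Y.Modules} (α : M ≅ N) : Γ(M, ⊤) ≃ₗ[Γ(Y, ⊤)] Γ(N, ⊤) :=
  LinearEquiv.ofLinear (Lmap α.hom) (Lmap α.inv)
    (by rw [← Lmap_comp, Iso.inv_hom_id, Lmap_id])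
    (by rw [← Lmap_comp, Iso.hom_inv_id, Lmap_id])

theorem finrank_ker_Lmap_conj {M N M' N' : Y.Modules} (α : M ≅ M') (β : N ≅ N') (ψ : M ⟶ N) :
    Module.finrank Γ(Y, ⊤) (LinearMap.ker (Lmap (α.inv ≫ ψ ≫ β.hom))) =
      Module.finrank Γ(Y, ⊤) (LinearMap.ker (Lmap ψ)) := by
  have h1 : LinearMap.ker (Lmap (α.inv ≫ ψ ≫ β.hom)) =
      (LinearMap.ker (Lmap ψ)).comap (LmapEquiv α).symm.toLinearMap := by
    ext z
    simp only [LinearMap.mem_ker, Submodule.mem_comap, LinearEquiv.coe_coe]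
    rw [Lmap_comp, Lmap_comp]
    exact (LinearEquiv.map_eq_zero_iff (LmapEquiv β))
  rw [h1, Submodule.comap_equiv_eq_map_symm]
  exact LinearEquiv.finrank_map_eq _ _

variable {T W : Scheme.{u}}

/-- the open locus where the fibre rank of the matrix is at least `r`. -/
noncomputable def rankOpen {a b : ℕ} (A : Matrix (Fin b) (Fin a) Γ(W, ⊤)) (r : ℕ) : W.Opens :=
  ⨆ (p : (Fin r → Fin a) × (Fin r → Fin b)), W.basicOpen (A.submatrix p.2 p.1).det

theorem mem_rankOpen_iff {a b : ℕ} (A : Matrix (Fin b) (Fin a) Γ(W, ⊤)) (r : ℕ)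
    (hF : IsField Γ(T, ⊤)) (t₀ : T) (g : T ⟶ W) :
    g t₀ ∈ rankOpen A r ↔ r ≤ (A.map g.appTop.hom).rank := by
  rw [le_rank_map_iff' hF]
  unfold rankOpen
  rw [Opens.mem_iSup]
  constructor
  · rintro ⟨⟨I, J⟩, h⟩
    exact ⟨I, J, (appTop_ne_zero_iff g hF t₀ _).2 h⟩
  · rintro ⟨I, J, h⟩
    exact ⟨⟨I, J⟩, (appTop_ne_zero_iff g hF t₀ _).1 h⟩

/-- **upper semicontinuity of the kernel dimension**: for a morphism `φ₀ : P ⟶ Q` of free
modules of finite rank on `W` there are opens `Z m` such that for every morphism `g : T ⟶ W`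
from a scheme whose global functions form a field, the kernel of `g^* φ₀` on global sections
has dimension `< m` iff `g` sends the given point into `Z m`. -/
theorem exists_opens_finrank_ker_lt {P Q : W.Modules} (φ₀ : P ⟶ Q) {a b : ℕ}
    (eP : P ≅ FlatMod.freeMod W a) (eQ : Q ≅ FlatMod.freeMod W b) :
    ∃ Z : ℕ → W.Opens, ∀ (T : Scheme.{u}) (hF : IsField Γ(T, ⊤)) (t₀ : T) (g : T ⟶ W) (m : ℕ),
      Module.finrank Γ(T, ⊤) (LinearMap.ker (Lmap ((Scheme.Modules.pullback g).map φ₀))) < m ↔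
        g t₀ ∈ Z m := by
  let eP' : P ≅ B W a := eP ≪≫ (biproduct.isoCoproduct _).symm
  let eQ' : Q ≅ B W b := eQ ≪≫ (biproduct.isoCoproduct _).symm
  let φ : B W a ⟶ B W b := eP'.inv ≫ φ₀ ≫ eQ'.hom
  refine ⟨fun m => rankOpen (mat φ) (a + 1 - m), fun T hF t₀ g m => ?_⟩
  rw [mem_rankOpen_iff (mat φ) _ hF t₀ g]
  let α : (Scheme.Modules.pullback g).obj P ≅ B T a :=
    (Scheme.Modules.pullback g).mapIso eP' ≪≫ θ g a
  let β : (Scheme.Modules.pullback g).obj Q ≅ B T b :=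
    (Scheme.Modules.pullback g).mapIso eQ' ≪≫ θ g b
  have h1 : pb g φ = α.inv ≫ (Scheme.Modules.pullback g).map φ₀ ≫ β.hom := by
    simp only [pb, φ, α, β, Iso.trans_inv, Iso.trans_hom, Functor.mapIso_inv, Functor.mapIso_hom,
      Functor.map_comp, Category.assoc]
  have h2 := finrank_ker_Lmap_conj α β ((Scheme.Modules.pullback g).map φ₀)
  rw [← h1] at h2
  have h3 := finrank_ker_Lmap hF (pb g φ)
  rw [mat_pb] at h3
  rw [← h2]
  have h4 : ((mat φ).map g.appTop.hom).rank = ((mat φ).map ⇑(ConcreteCategory.hom g.appTop)).rank := rfl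
  omega

end Groth.Agent.Lib.Helper16.MR
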