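import Groth.Agent.Lib.Helper16.EC3
import Groth.Agent.Lib.Helper16.RS9
import Groth.Agent.Lib.Helper16.MR4

/-!
# Fibres of pseudo-coherent objects: local free models
-/

set_option autoImplicit false
universe u
open CategoryTheory CategoryTheory.Limits AlgebraicGeometry TopologicalSpace Opposite

attribute [local instance] HasDerivedCategory.standard

namespace Groth.Agent.Lib.Helper16.EC

open Groth.Agent.Lib.Helper16.Stk Groth.Agent.Lib.Helper16.KD Groth.Agent.Lib.Helper16.RS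

variable {T X : Scheme.{u}}

/-- if `f : T ⟶ X` factors as `g ≫ V.ι`, then `Lf^* E ≅ Lg^* (E|_V)`. -/
noncomputable def LpullRestrictIso (V : X.Opens) (g : T ⟶ V) [DCoh.HasLpull (g ≫ V.ι)]
    [DCoh.HasLpull g] (E : DCoh.D X) (F : CochainComplex X.Modules ℤ) (hF : DCoh.IsKFlat F)
    (eF : DerivedCategory.Q.obj F ≅ E) :
    (DCoh.Lpull (g ≫ V.ι)).obj E ≅
      (DCoh.Lpull g).obj (DerivedCategory.Q.obj ((RCx V.ι).obj F)) :=
  (DCoh.Lpull (g ≫ V.ι)).mapIso eF.symm ≪≫ LpullIso (g ≫ V.ι) F hF ≪≫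
    DerivedCategory.Q.mapIso (pullCompIso g V.ι F).symm ≪≫
    DerivedCategory.Q.mapIso ((pullCx g).mapIso ((RCxIsoPullCx V.ι).app F).symm) ≪≫
    (LpullIso g _ (isKFlat_RCx V.ι F hF)).symm

/-- `(g ≫ W.ι)^* E' ≅ g^* (E'|_W)` on complexes. -/
noncomputable def pullCxRestrictIso {V : Scheme.{u}} (W : V.Opens) (g : T ⟶ W)
    (E' : CochainComplex V.Modules ℤ) :
    (pullCx (g ≫ W.ι)).obj E' ≅ (pullCx g).obj ((RCx W.ι).obj E') :=
  (pullCompIso g W.ι E').symm ≪≫ (pullCx g).mapIso ((RCxIsoPullCx W.ι).app E').symm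

/-- **local free models for the fibres of a pseudo-coherent object.** -/
theorem exists_local_free_model_pc (E : DCoh.D X) (p : ℤ)
    (hE : DCoh.IsPseudoCoherentD (p - 1) E) (x₀ : X) :
    ∃ (V : X.Opens) (W : (V : Scheme.{u}).Opens) (F : CochainComplex (W : Scheme.{u}).Modules ℤ)
      (w₀ : (W : Scheme.{u})), (W.ι ≫ V.ι) w₀ = x₀ ∧ IsBoundedFree F ∧
      ∀ (T : Scheme.{u}) (f : T ⟶ X) [DCoh.HasLpull f] (g : T ⟶ W), (g ≫ W.ι) ≫ V.ι = f →
        Nonempty (DCoh.HD ((DCoh.Lpull f).obj E) p ≅ ((pullCx g).obj F).homology p) := by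
  -- a K-flat representative of `E`
  obtain ⟨Pf, ψ, hPf⟩ := exists_functorial_kFlat_resolution X
  let F₀ := DerivedCategory.Q.objPreimage E
  let e₀ : DerivedCategory.Q.obj F₀ ≅ E := DerivedCategory.Q.objObjPreimageIso E
  let P₀ := Pf.obj F₀
  have hP₀ : DCoh.IsKFlat P₀ := (hPf F₀).1
  haveI : QuasiIso (ψ.app F₀) := (hPf F₀).2.2.1
  have hs : IsIso (DerivedCategory.Q.map (ψ.app F₀)) := by
    rw [DerivedCategory.isIso_Q_map_iff_quasiIso]; infer_instance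
  let e₁ : DerivedCategory.Q.obj P₀ ≅ E :=
    @asIso _ _ _ _ (DerivedCategory.Q.map (ψ.app F₀)) hs ≪≫ e₀
  obtain ⟨V, hx₀, hV⟩ := hE x₀
  obtain ⟨E', α, hE', hαi, hαe⟩ := hV P₀ ⟨e₁⟩
  obtain ⟨W, hw₀, hW⟩ := exists_isBoundedFree_restrict E' hE' ⟨x₀, hx₀⟩
  refine ⟨V, W, (RCx W.ι).obj E', ⟨⟨x₀, hx₀⟩, hw₀⟩, rfl, hW, ?_⟩
  intro T f _ g hgf
  subst hgf
  haveI : DCoh.HasLpull (g ≫ W.ι) := hasLpull (g ≫ W.ι)
  have hE'K : DCoh.IsKFlat E' := isKFlat_of_isStrictlyPerfect E' hE'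
  have hW : HW (p - 1) ((DCoh.Lpull (g ≫ W.ι)).map α) :=
    HW_Lpull_map (g ≫ W.ι) (p - 1) α ⟨hαi, hαe⟩
  haveI := hW.1 p (by omega)
  let i₁ : (DCoh.Lpull ((g ≫ W.ι) ≫ V.ι)).obj E ≅
      (DCoh.Lpull (g ≫ W.ι)).obj (DerivedCategory.Q.obj ((RCx V.ι).obj P₀)) :=
    LpullRestrictIso V (g ≫ W.ι) E P₀ hP₀ e₁
  let i₂ : DCoh.HD ((DCoh.Lpull (g ≫ W.ι)).obj (DerivedCategory.Q.obj E')) p ≅
      DCoh.HD ((DCoh.Lpull (g ≫ W.ι)).obj (DerivedCategory.Q.obj ((RCx V.ι).obj P₀))) p :=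
    asIso ((DerivedCategory.homologyFunctor _ p).map ((DCoh.Lpull (g ≫ W.ι)).map α))
  let i₃ : (DCoh.Lpull (g ≫ W.ι)).obj (DerivedCategory.Q.obj E') ≅
      DerivedCategory.Q.obj ((pullCx g).obj ((RCx W.ι).obj E')) :=
    LpullIso (g ≫ W.ι) E' hE'K ≪≫ DerivedCategory.Q.mapIso (pullCxRestrictIso W g E')
  exact ⟨(DerivedCategory.homologyFunctor _ p).mapIso i₁ ≪≫ i₂.symm ≪≫
    (DerivedCategory.homologyFunctor _ p).mapIso i₃ ≪≫
    (DerivedCategory.homologyFunctorFactors _ p).app _⟩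

open Groth.Agent.Lib.Helper16.MR in
/-- **the Betti number of a fibre in terms of kernel dimensions** of the differentials of a
free model. -/
theorem finrank_HD_add [Subsingleton T] (t₀ : T) (hF : IsField (Coh.Γtop T)) {W : Scheme.{u}}
    (F : CochainComplex W.Modules ℤ) (n : ℤ → ℕ)
    (hn : ∀ i, Nonempty (F.X i ≅ FlatMod.freeMod W (n i))) (g : T ⟶ W)
    (K : DCoh.D T) (p : ℤ) (e : DCoh.HD K p ≅ ((pullCx g).obj F).homology p) :
    Module.finrank (Coh.Γtop T) ((DCoh.HD K p).val.obj (op ⊤)) + n (p - 1) =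
      Module.finrank Γ(T, ⊤) (LinearMap.ker (Lmap ((Scheme.Modules.pullback g).map (F.d p (p + 1))))) +
      Module.finrank Γ(T, ⊤)
        (LinearMap.ker (Lmap ((Scheme.Modules.pullback g).map (F.d (p - 1) (p - 1 + 1))))) := by
  letI : Field (Coh.Γtop T) := hF.toField
  haveI : (Γf T).PreservesHomology := Γf_preservesHomology t₀
  let G := (pullCx g).obj F
  have hG : ∀ i, Nonempty (G.X i ≅ FlatMod.freeMod T (n i)) := fun i =>
    ⟨(Scheme.Modules.pullback g).mapIso (hn i).some ≪≫ pullbackFreeModIso g (n i)⟩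
  let C : CochainComplex (ModuleCat.{u} (Coh.Γtop T)) ℤ :=
    ((Γf T).mapHomologicalComplex _).obj G
  haveI : ∀ i, Module.Finite (Coh.Γtop T) (C.X i) := fun i =>
    finite_Γf_obj (G.X i) (n i) (hG i).some
  have h1 := finrank_homology_cx C p
  have h2 : Module.finrank (Coh.Γtop T) (C.X (p - 1)) = n (p - 1) :=
    finrank_Γf_obj (G.X (p - 1)) (n (p - 1)) (hG (p - 1)).some
  have h3 : Module.finrank (Coh.Γtop T) ((DCoh.HD K p).val.obj (op ⊤)) =
      Module.finrank (Coh.Γtop T) (C.homology p) := by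
    let i2 : (Γf T).obj (DCoh.HD K p) ≅ C.homology p :=
      (Γf T).mapIso e ≪≫ ((G.sc p).mapHomologyIso (Γf T)).symm
    exact i2.toLinearEquiv.finrank_eq
  have h4 : kdim C p = Module.finrank Γ(T, ⊤)
      (LinearMap.ker (Lmap ((Scheme.Modules.pullback g).map (F.d p (p + 1))))) := rfl
  have h5 : kdim C (p - 1) = Module.finrank Γ(T, ⊤)
      (LinearMap.ker (Lmap ((Scheme.Modules.pullback g).map (F.d (p - 1) (p - 1 + 1))))) := rfl
  rw [h3]
  rw [h2] at h1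
  rw [h4, h5] at h1
  exact_mod_cast h1

theorem isField_Γtop_Spec' (K : Type u) [Field K] : IsField Γ(Spec (CommRingCat.of K), ⊤) :=
  MulEquiv.isField (Field.toIsField K)
    (Scheme.ΓSpecIso (CommRingCat.of K)).commRingCatIsoToRingEquiv.toMulEquiv

open Groth.Agent.Lib.Helper16.MR in
/-- **upper semicontinuity of Betti numbers**: for a `(p-1)`-pseudo-coherent object `E`, the
locus where `β_p < n` is open. -/
theorem isOpen_betti_lt (X : Scheme.{u}) [∀ x : X, DCoh.HasLpull (X.fromSpecResidueField x)]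
    (E : DCoh.D X) (p : ℤ) (hE : DCoh.IsPseudoCoherentD (p - 1) E) (n : ℕ) :
    IsOpen {x : X | PerfD.betti E x p < n} := by
  rw [isOpen_iff_forall_mem_open]
  intro x₀ hx₀
  obtain ⟨V, W, F, w₀, hw₀, ⟨a, b, hab, hfree⟩, hmodel⟩ := exists_local_free_model_pc E p hE x₀
  choose r hr using hfree
  obtain ⟨Z₁, hZ₁⟩ := exists_opens_finrank_ker_lt (F.d p (p + 1)) (hr p).some (hr (p + 1)).some
  obtain ⟨Z₂, hZ₂⟩ := exists_opens_finrank_ker_lt (F.d (p - 1) (p - 1 + 1)) (hr (p - 1)).some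
    (hr (p - 1 + 1)).some
  -- the formula for the Betti number at a point of the image of `W`
  have key : ∀ (x : X) (w : (W : Scheme.{u})), (W.ι ≫ V.ι) w = x →
      ∃ g : Spec (X.residueField x) ⟶ W, g default = w ∧
        PerfD.betti E x p + r (p - 1) =
          Module.finrank Γ(Spec (X.residueField x), ⊤)
            (LinearMap.ker (Lmap ((Scheme.Modules.pullback g).map (F.d p (p + 1))))) +
          Module.finrank Γ(Spec (X.residueField x), ⊤)
            (LinearMap.ker (Lmap ((Scheme.Modules.pullback g).map (F.d (p - 1) (p - 1 + 1))))) := by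
    intro x w hwx
    have hr' : Set.range (X.fromSpecResidueField x).base ⊆ Set.range (W.ι ≫ V.ι).base := by
      rw [Scheme.range_fromSpecResidueField]
      rintro _ rfl
      exact ⟨w, hwx⟩
    let g : Spec (X.residueField x) ⟶ W :=
      IsOpenImmersion.lift (W.ι ≫ V.ι) (X.fromSpecResidueField x) hr'
    have hg : g ≫ W.ι ≫ V.ι = X.fromSpecResidueField x := IsOpenImmersion.lift_fac _ _ _
    have hgw : g default = w := by
      apply (W.ι ≫ V.ι).isOpenEmbedding.injective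
      rw [hwx]
      have h1 : (W.ι ≫ V.ι) (g default) = (g ≫ W.ι ≫ V.ι) default := rfl
      rw [h1, hg, Scheme.fromSpecResidueField_apply]
    obtain ⟨i₁⟩ := hmodel _ (X.fromSpecResidueField x) g (by rw [Category.assoc]; exact hg)
    exact ⟨g, hgw, finrank_HD_add (default : Spec (X.residueField x))
      (isField_Γtop_Spec (X.residueField x)) F r hr g _ p i₁⟩
  obtain ⟨g₀, hg₀, hβ₀⟩ := key x₀ w₀ hw₀
  set k₁ := Module.finrank Γ(Spec (X.residueField x₀), ⊤)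
    (LinearMap.ker (Lmap ((Scheme.Modules.pullback g₀).map (F.d p (p + 1))))) with hk₁
  set k₂ := Module.finrank Γ(Spec (X.residueField x₀), ⊤)
    (LinearMap.ker (Lmap ((Scheme.Modules.pullback g₀).map (F.d (p - 1) (p - 1 + 1))))) with hk₂
  have hF₀ := isField_Γtop_Spec' (X.residueField x₀)
  have hw₁ : w₀ ∈ Z₁ (k₁ + 1) := by
    rw [← hg₀, ← hZ₁ (Spec (X.residueField x₀)) hF₀ default g₀ (k₁ + 1)]
    omega
  have hw₂ : w₀ ∈ Z₂ (k₂ + 1) := by
    rw [← hg₀, ← hZ₂ (Spec (X.residueField x₀)) hF₀ default g₀ (k₂ + 1)]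
    omega
  refine ⟨((W.ι ≫ V.ι) ''ᵁ (Z₁ (k₁ + 1) ⊓ Z₂ (k₂ + 1)) : X.Opens), ?_,
    ((W.ι ≫ V.ι) ''ᵁ (Z₁ (k₁ + 1) ⊓ Z₂ (k₂ + 1))).2, ⟨w₀, ⟨hw₁, hw₂⟩, hw₀⟩⟩
  rintro x ⟨w, ⟨hwZ₁, hwZ₂⟩, hwx⟩
  obtain ⟨g, hg, hβ⟩ := key x w hwx
  have hF := isField_Γtop_Spec' (X.residueField x)
  have h1 := (hZ₁ (Spec (X.residueField x)) hF default g (k₁ + 1)).2 (by rw [hg]; exact hwZ₁)
  have h2 := (hZ₂ (Spec (X.residueField x)) hF default g (k₂ + 1)).2 (by rw [hg]; exact hwZ₂)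
  have hx₀' : PerfD.betti E x₀ p < n := hx₀
  show PerfD.betti E x p < n
  omega

end Groth.Agent.Lib.Helper16.EC
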