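import Mathlib
import Groth.Agent.Lib.Helper16.PC7b

/-!
# Cochain-level description of `Hom_{D}(Q E, X[i])` for a K-projective complex `E`

`cls φ` is the class in `Hom(Q E, (single₀ X)⟦i⟧)` of a cocycle `φ : E^j ⟶ X` (`j + i = 0`).
-/

open CategoryTheory CategoryTheory.Limits DerivedCategory CochainComplex CochainComplex.HomComplex

namespace Groth.Agent.Lib.Helper16.ExtRep

universe w v u

variable {C : Type u} [Category.{v} C] [Abelian C] [HasDerivedCategory.{w} C]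

/-- the single complex. -/
noncomputable abbrev sg (X : C) : CochainComplex C ℤ := (CochainComplex.singleFunctor C 0).obj X

/-- the cocycle-level chain map `E ⟶ (single₀ X)⟦i⟧` attached to `φ : E^j ⟶ X`. -/
noncomputable def chainMap (E : CochainComplex C ℤ) (X : C) (i j : ℤ) (h : j + i = 0)
    (j' : ℤ) (hj' : j' + 1 = j) (φ : E.X j ⟶ X) (hφ : E.d j' j ≫ φ = 0) :
    E ⟶ (sg X)⟦i⟧ :=
  Cocycle.equivHomShift.symm (Cocycle.toSingleMk φ h j' hj' hφ)

/-- the class of a cocycle. -/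
noncomputable def cls' (E : CochainComplex C ℤ) (X : C) (i j : ℤ) (h : j + i = 0)
    (j' : ℤ) (hj' : j' + 1 = j) (φ : E.X j ⟶ X) (hφ : E.d j' j ≫ φ = 0) :
    Q.obj E ⟶ (Q.obj (sg X))⟦i⟧ :=
  Q.map (chainMap E X i j h j' hj' φ hφ) ≫ (Q.commShiftIso i).hom.app (sg X)

lemma cls'_surjective (E : CochainComplex C ℤ) [E.IsKProjective] (X : C) (i j : ℤ) (h : j + i = 0)
    (j' : ℤ) (hj' : j' + 1 = j) (e : Q.obj E ⟶ (Q.obj (sg X))⟦i⟧) :
    ∃ (φ : E.X j ⟶ X) (hφ : E.d j' j ≫ φ = 0), cls' E X i j h j' hj' φ hφ = e := by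
  obtain ⟨f, hf⟩ := Groth.Agent.Lib.Helper8.PAmp.exists_Q_map_of_isKProjective E
    ((sg X)⟦i⟧) (e ≫ (Q.commShiftIso i).inv.app (sg X))
  obtain ⟨φ, hφ, hx⟩ := Cocycle.toSingleMk_surjective (Cocycle.equivHomShift f) j h j' hj'
  refine ⟨φ, hφ, ?_⟩
  dsimp only [cls', chainMap]
  rw [hx, AddEquiv.symm_apply_apply, ← hf, Category.assoc, Iso.inv_hom_id_app]
  exact Category.comp_id _

lemma cls'_eq_zero_iff (E : CochainComplex C ℤ) [E.IsKProjective] (X : C) (i j : ℤ)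
    (h : j + i = 0) (j' : ℤ) (hj' : j' + 1 = j) (φ : E.X j ⟶ X) (hφ : E.d j' j ≫ φ = 0)
    (j'' : ℤ) (hj'' : j + 1 = j'') :
    cls' E X i j h j' hj' φ hφ = 0 ↔ ∃ g : E.X j'' ⟶ X, E.d j j'' ≫ g = φ := by
  rw [← Cocycle.toSingleMk_mem_coboundaries_iff φ h j' hj' hφ j'' hj'',
    ← CohomologyClass.toHom_mk_eq_zero_iff, CohomologyClass.toHom_mk]
  change _ ↔ (HomotopyCategory.quotient C (.up ℤ)).map (chainMap E X i j h j' hj' φ hφ) = 0
  dsimp only [cls']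
  constructor
  · intro h0
    have h1 : Q.map (chainMap E X i j h j' hj' φ hφ) = Q.map 0 := by
      rw [Functor.map_zero, ← cancel_mono ((Q.commShiftIso i).hom.app (sg X)), zero_comp]
      exact h0
    obtain ⟨ht⟩ := Groth.Agent.Lib.Helper16.PC.exists_homotopy_of_Q_map_eq _ _ _ _ h1
    rw [HomotopyCategory.eq_of_homotopy _ _ ht, Functor.map_zero]
  · intro h0
    have : Q.map (chainMap E X i j h j' hj' φ hφ) = 0 := by
      have h2 := (quotientCompQhIso C).hom.naturality (chainMap E X i j h j' hj' φ hφ)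
      simp only [Functor.comp_map] at h2
      rw [h0, Functor.map_zero, zero_comp] at h2
      rw [← cancel_epi ((quotientCompQhIso C).hom.app E), ← h2, comp_zero]
    rw [this, zero_comp]

lemma cls'_comp (E : CochainComplex C ℤ) (X Y : C) (g : X ⟶ Y) (i j : ℤ) (h : j + i = 0)
    (j' : ℤ) (hj' : j' + 1 = j) (φ : E.X j ⟶ X) (hφ : E.d j' j ≫ φ = 0) :
    cls' E X i j h j' hj' φ hφ ≫ (Q.map ((CochainComplex.singleFunctor C 0).map g))⟦i⟧' =
      cls' E Y i j h j' hj' (φ ≫ g) (by rw [reassoc_of% hφ, zero_comp]) := by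
  dsimp only [cls', chainMap]
  rw [Cocycle.toSingleMk_postcomp φ h j' hj' hφ g, Cocycle.equivHomShift_symm_postcomp,
    Functor.map_comp, Category.assoc, Category.assoc]
  congr 1
  exact ((Q.commShiftIso i).hom.naturality ((CochainComplex.singleFunctor C 0).map g)).symm

/-- the class of a cocycle, with target expressed through `DerivedCategory.singleFunctor`. -/
noncomputable def cls (E : CochainComplex C ℤ) (X : C) (i j : ℤ) (h : j + i = 0)
    (j' : ℤ) (hj' : j' + 1 = j) (φ : E.X j ⟶ X) (hφ : E.d j' j ≫ φ = 0) :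
    Q.obj E ⟶ ((DerivedCategory.singleFunctor C 0).obj X)⟦i⟧ :=
  cls' E X i j h j' hj' φ hφ

lemma cls_congr (E : CochainComplex C ℤ) (X : C) (i j : ℤ) (h : j + i = 0)
    (j' : ℤ) (hj' : j' + 1 = j) {φ φ' : E.X j ⟶ X} (hφ : E.d j' j ≫ φ = 0) (hφφ' : φ = φ') :
    cls E X i j h j' hj' φ hφ = cls E X i j h j' hj' φ' (hφφ' ▸ hφ) := by
  subst hφφ'
  rfl

lemma cls_surjective (E : CochainComplex C ℤ) [E.IsKProjective] (X : C) (i j : ℤ) (h : j + i = 0)
    (j' : ℤ) (hj' : j' + 1 = j)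
    (e : Q.obj E ⟶ ((DerivedCategory.singleFunctor C 0).obj X)⟦i⟧) :
    ∃ (φ : E.X j ⟶ X) (hφ : E.d j' j ≫ φ = 0), cls E X i j h j' hj' φ hφ = e :=
  cls'_surjective E X i j h j' hj' e

lemma cls_eq_zero_iff (E : CochainComplex C ℤ) [E.IsKProjective] (X : C) (i j : ℤ)
    (h : j + i = 0) (j' : ℤ) (hj' : j' + 1 = j) (φ : E.X j ⟶ X) (hφ : E.d j' j ≫ φ = 0)
    (j'' : ℤ) (hj'' : j + 1 = j'') :
    cls E X i j h j' hj' φ hφ = 0 ↔ ∃ g : E.X j'' ⟶ X, E.d j j'' ≫ g = φ :=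
  cls'_eq_zero_iff E X i j h j' hj' φ hφ j'' hj''

lemma cls_comp (E : CochainComplex C ℤ) (X Y : C) (g : X ⟶ Y) (i j : ℤ) (h : j + i = 0)
    (j' : ℤ) (hj' : j' + 1 = j) (φ : E.X j ⟶ X) (hφ : E.d j' j ≫ φ = 0) :
    cls E X i j h j' hj' φ hφ ≫ ((DerivedCategory.singleFunctor C 0).map g)⟦i⟧' =
      cls E Y i j h j' hj' (φ ≫ g) (by rw [reassoc_of% hφ, zero_comp]) :=
  cls'_comp E X Y g i j h j' hj' φ hφ

lemma cls_add (E : CochainComplex C ℤ) (X : C) (i j : ℤ) (h : j + i = 0)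
    (j' : ℤ) (hj' : j' + 1 = j) (φ ψ : E.X j ⟶ X) (hφ : E.d j' j ≫ φ = 0)
    (hψ : E.d j' j ≫ ψ = 0) :
    cls E X i j h j' hj' (φ + ψ) (by rw [Preadditive.comp_add, hφ, hψ, add_zero]) =
      cls E X i j h j' hj' φ hφ + cls E X i j h j' hj' ψ hψ := by
  dsimp only [cls, cls', chainMap]
  rw [Cocycle.toSingleMk_add φ ψ h j' hj' hφ hψ, map_add, Functor.map_add, Preadditive.add_comp]
  rfl

end Groth.Agent.Lib.Helper16.ExtRep
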