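import Mathlib
import Groth.Prelude.Def_DRing2
import Groth.Agent.Lib.Helper16.ExtRep
import Groth.Agent.Lib.Helper16.LDer3

/-!
# Artin–Rees for cocycles `E^j → M` (towards S7164)
-/

open CategoryTheory CategoryTheory.Limits DerivedCategory

attribute [local instance] HasDerivedCategory.standard

namespace Groth.Agent.Lib.Helper16.ExtAR

open Groth.Agent.Lib.Helper16.ExtRep

universe u

variable {A : Type u} [CommRing A]

section Alg

variable {P P' : Type*} [AddCommGroup P] [Module A P] [AddCommGroup P'] [Module A P']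

lemma map_mem_smul_top (J : Ideal A) (L : P →ₗ[A] P') {p : P}
    (hp : p ∈ J • (⊤ : Submodule A P)) : L p ∈ J • (⊤ : Submodule A P') := by
  have h1 : L p ∈ (J • (⊤ : Submodule A P)).map L := Submodule.mem_map_of_mem hp
  rw [Submodule.map_smul''] at h1
  exact Submodule.smul_mono le_rfl le_top h1

variable {F M : Type*} [AddCommGroup F] [Module A F] [AddCommGroup M] [Module A M]

lemma apply_mem_of_mem_smul_top (J : Ideal A) (ψ : F →ₗ[A] M)
    (hψ : ψ ∈ J • (⊤ : Submodule A (F →ₗ[A] M))) (y : F) : ψ y ∈ J • (⊤ : Submodule A M) :=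
  map_mem_smul_top J (LinearMap.applyₗ y) hψ

lemma mem_smul_top_of_apply_mem [Module.Free A F] [Module.Finite A F] (J : Ideal A)
    (φ : F →ₗ[A] M) (hφ : ∀ y, φ y ∈ J • (⊤ : Submodule A M)) :
    φ ∈ J • (⊤ : Submodule A (F →ₗ[A] M)) := by
  classical
  let b := Module.Free.chooseBasis A F
  have hsum : φ = ∑ k, (LinearMap.smulRightₗ (b.coord k)) (φ (b k)) := by
    apply b.ext
    intro l
    rw [LinearMap.sum_apply]
    simp only [LinearMap.smulRightₗ_apply]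
    rw [Finset.sum_eq_single l]
    · simp
    · intro k _ hk
      simp [Finsupp.single_eq_of_ne hk]
    · intro h
      exact absurd (Finset.mem_univ l) h
  rw [hsum]
  exact Submodule.sum_mem _ fun k _ => map_mem_smul_top J _ (hφ (b k))

/-- Artin–Rees for cocycles. -/
theorem key_alg [IsNoetherianRing A] (I : Ideal A) {F'' F' : Type*} [AddCommGroup F'']
    [Module A F''] [AddCommGroup F'] [Module A F'] [Module.Free A F] [Module.Finite A F]
    [Module.Finite A M] (d' : F'' →ₗ[A] F) (d : F →ₗ[A] F')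
    (htors : ∀ z : F →ₗ[A] M, z ∘ₗ d' = 0 →
      ∃ n : ℕ, ∀ x ∈ I ^ n, ∃ g : F' →ₗ[A] M, g ∘ₗ d = x • z) :
    ∃ c : ℕ, ∀ (n : ℕ) (φ : F →ₗ[A] M), φ ∘ₗ d' = 0 →
      (∀ y, φ y ∈ I ^ (n + c) • (⊤ : Submodule A M)) →
      ∃ ψ : F' →ₗ[A] M, (∀ y, ψ y ∈ I ^ n • (⊤ : Submodule A M)) ∧ ψ ∘ₗ d = φ := by
  classical
  let Z : Submodule A (F →ₗ[A] M) := LinearMap.ker (LinearMap.lcomp A M d')
  let L : (F' →ₗ[A] M) →ₗ[A] (F →ₗ[A] M) := LinearMap.lcomp A M d
  let B : Submodule A (F →ₗ[A] M) := LinearMap.range L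
  have hZmem : ∀ z : F →ₗ[A] M, z ∈ Z ↔ z ∘ₗ d' = 0 := fun z => by
    simp only [Z, LinearMap.mem_ker, LinearMap.lcomp_apply']
  haveI : IsNoetherian A (F →ₗ[A] M) := isNoetherian_of_isNoetherianRing_of_finite A _
  obtain ⟨S, hS⟩ := IsNoetherian.noetherian Z
  have h' : ∀ z : F →ₗ[A] M, ∃ n : ℕ, z ∈ Z → ∀ x ∈ I ^ n, x • z ∈ B := by
    intro z
    by_cases hz : z ∈ Z
    · obtain ⟨n, hn⟩ := htors z ((hZmem z).1 hz)
      refine ⟨n, fun _ x hx => ?_⟩
      obtain ⟨g, hg⟩ := hn x hx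
      exact ⟨g, hg⟩
    · exact ⟨0, fun h => absurd h hz⟩
  choose nn hnn using h'
  let t : ℕ := S.sup nn
  have hIt : I ^ t • Z ≤ B := by
    rw [← hS, Submodule.smul_le]
    intro r hr z hz
    induction hz using Submodule.span_induction with
    | mem z hz =>
      have hzZ : z ∈ Z := by
        rw [← hS]
        exact Submodule.subset_span hz
      exact hnn z hzZ r (Ideal.pow_le_pow_right (Finset.le_sup (f := nn) hz) hr)
    | zero => rw [smul_zero]; exact B.zero_mem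
    | add x y _ _ hx hy => rw [smul_add]; exact B.add_mem hx hy
    | smul a x _ hx => rw [smul_comm]; exact B.smul_mem a hx
  obtain ⟨k, hk⟩ := Ideal.exists_pow_inf_eq_pow_smul I Z
  refine ⟨k + t, fun n φ hφZ hφI => ?_⟩
  have h1 : φ ∈ I ^ (n + (k + t)) • (⊤ : Submodule A (F →ₗ[A] M)) ⊓ Z :=
    ⟨mem_smul_top_of_apply_mem _ φ hφI, (hZmem φ).2 hφZ⟩
  rw [hk (n + (k + t)) (by omega)] at h1
  have h2 : I ^ (n + (k + t) - k) • (I ^ k • (⊤ : Submodule A (F →ₗ[A] M)) ⊓ Z) ≤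
      (I ^ n • (⊤ : Submodule A (F' →ₗ[A] M))).map L := by
    rw [Submodule.map_smul'', Submodule.map_top]
    have e1 : n + (k + t) - k = n + t := by omega
    rw [e1, pow_add, mul_smul]
    exact Submodule.smul_mono le_rfl
      ((Submodule.smul_mono le_rfl inf_le_right).trans hIt)
  obtain ⟨ψ, hψ, hψφ⟩ := h2 h1
  exact ⟨ψ, apply_mem_of_mem_smul_top _ ψ hψ, hψφ⟩

end Alg

lemma smul_eq_comp {K : Dual.D A} (M : ModuleCat.{u} A) (i : ℤ) (x : A)
    (e : K ⟶ ((DerivedCategory.singleFunctor (ModuleCat.{u} A) 0).obj M)⟦i⟧) :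
    x • e = e ≫ ((DerivedCategory.singleFunctor (ModuleCat.{u} A) 0).map (x • 𝟙 M))⟦i⟧' := by
  rw [Functor.map_smul, Functor.map_smul, CategoryTheory.Functor.map_id,
    CategoryTheory.Functor.map_id, Linear.comp_smul, Category.comp_id]

theorem key [IsNoetherianRing A] (I : Ideal A) (E : DRing.Cx A) [E.IsKProjective]
    (hE : DRing.TermwiseFiniteFree E)
    (M : Type u) [AddCommGroup M] [Module A M] [Module.Finite A M] (i j : ℤ) (h : j + i = 0)
    (j' : ℤ) (hj' : j' + 1 = j) (j'' : ℤ) (hj'' : j + 1 = j'')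
    (htors : ∀ e : Q.obj E ⟶ (Dual.inD A M)⟦i⟧, ∃ n : ℕ, ∀ x ∈ I ^ n, x • e = 0) :
    ∃ c : ℕ, ∀ (n : ℕ) (φ : E.X j ⟶ ModuleCat.of A M), E.d j' j ≫ φ = 0 →
      (∀ y, φ.hom y ∈ I ^ (n + c) • (⊤ : Submodule A M)) →
      ∃ ψ : E.X j'' ⟶ ModuleCat.of A M, (∀ y, ψ.hom y ∈ I ^ n • (⊤ : Submodule A M)) ∧
        E.d j j'' ≫ ψ = φ := by
  haveI := (hE j).1
  haveI := (hE j).2
  obtain ⟨c, hc⟩ := key_alg (M := M) I (E.d j' j).hom (E.d j j'').hom (by
    intro z hz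
    have hφz : E.d j' j ≫ ModuleCat.ofHom z = 0 := by
      apply ModuleCat.hom_ext
      exact hz
    obtain ⟨n, hn⟩ := htors (cls E (ModuleCat.of A M) i j h j' hj' (ModuleCat.ofHom z) hφz)
    refine ⟨n, fun x hx => ?_⟩
    have h1 := hn x hx
    rw [smul_eq_comp, cls_comp, cls_eq_zero_iff _ _ _ _ _ _ _ _ _ j'' hj''] at h1
    obtain ⟨g, hg⟩ := h1
    refine ⟨g.hom, ?_⟩
    have := congrArg ModuleCat.Hom.hom hg
    rw [ModuleCat.hom_comp] at this
    rw [this]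
    ext y
    simp)
  refine ⟨c, fun n φ hφ hφI => ?_⟩
  obtain ⟨ψ, hψ, hψφ⟩ := hc n φ.hom (congrArg ModuleCat.Hom.hom hφ) hφI
  exact ⟨ModuleCat.ofHom ψ, hψ, ModuleCat.hom_ext hψφ⟩

/-- the cocycles `E^j → M`. -/
abbrev Zc (E : DRing.Cx A) (M : ModuleCat.{u} A) (j j' : ℤ) :
    Submodule A (E.X j →ₗ[A] M) := LinearMap.ker (LinearMap.lcomp A M (E.d j' j).hom)

lemma Zc_comp (E : DRing.Cx A) (M : ModuleCat.{u} A) (j j' : ℤ) (z : Zc E M j j') :
    E.d j' j ≫ ModuleCat.ofHom z.1 = 0 := by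
  apply ModuleCat.hom_ext
  exact z.2

/-- the class map as a linear map on cocycles. -/
noncomputable def clsL (E : DRing.Cx A) (M : ModuleCat.{u} A) (i j : ℤ) (h : j + i = 0)
    (j' : ℤ) (hj' : j' + 1 = j) :
    Zc E M j j' →ₗ[A] (Q.obj E ⟶ ((DerivedCategory.singleFunctor (ModuleCat.{u} A) 0).obj M)⟦i⟧) where
  toFun z := cls E M i j h j' hj' (ModuleCat.ofHom z.1) (Zc_comp E M j j' z)
  map_add' z w := by
    rw [← cls_add]
    apply cls_congr
    rfl
  map_smul' x z := by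
    rw [RingHom.id_apply, smul_eq_comp, cls_comp]
    apply cls_congr
    ext y
    simp

lemma mem_smul_top_subtype {P : Type*} [AddCommGroup P] [Module A P] (J : Ideal A)
    (Z : Submodule A P) (z : Z) (hz : z.1 ∈ J • Z) : z ∈ J • (⊤ : Submodule A Z) := by
  have h1 : (J • (⊤ : Submodule A Z)).map Z.subtype = J • Z := by
    rw [Submodule.map_smul'', Submodule.map_top, Submodule.range_subtype]
  rw [← h1] at hz
  obtain ⟨z', hz', hzz'⟩ := hz
  have : z' = z := Subtype.ext hzz'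
  rwa [← this]

/-- S7149 for `K = Q E`. -/
theorem image_mem_smul_top [IsNoetherianRing A] (I : Ideal A) (E : DRing.Cx A) [E.IsKProjective]
    (hE : DRing.TermwiseFiniteFree E)
    (M : Type u) [AddCommGroup M] [Module A M] [Module.Finite A M] (i j : ℤ) (h : j + i = 0)
    (j' : ℤ) (hj' : j' + 1 = j) :
    ∃ c : ℕ, ∀ n : ℕ, c ≤ n →
      ∀ e : Q.obj E ⟶ (Dual.inD A ↥(I ^ n • ⊤ : Submodule A M))⟦i⟧,
        e ≫ ((DerivedCategory.singleFunctor (ModuleCat.{u} A) 0).map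
              (ModuleCat.ofHom (I ^ n • ⊤ : Submodule A M).subtype))⟦i⟧' ∈
          (I ^ (n - c) • ⊤ : Submodule A (Q.obj E ⟶ (Dual.inD A M)⟦i⟧)) := by
  haveI := (hE j).1
  haveI := (hE j).2
  obtain ⟨k, hk⟩ := Ideal.exists_pow_inf_eq_pow_smul I (Zc E (ModuleCat.of A M) j j')
  refine ⟨k, fun n hn e => ?_⟩
  obtain ⟨φ, hφ, rfl⟩ := cls_surjective E (ModuleCat.of A ↥(I ^ n • ⊤ : Submodule A M)) i j h j' hj' e
  rw [cls_comp]
  have hz : (φ ≫ ModuleCat.ofHom (I ^ n • ⊤ : Submodule A M).subtype).hom ∈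
      Zc E (ModuleCat.of A M) j j' := by
    have h0 : E.d j' j ≫ φ ≫ ModuleCat.ofHom (I ^ n • ⊤ : Submodule A M).subtype = 0 := by
      rw [reassoc_of% hφ, zero_comp]
    exact congrArg ModuleCat.Hom.hom h0
  have hI : (φ ≫ ModuleCat.ofHom (I ^ n • ⊤ : Submodule A M).subtype).hom ∈
      I ^ n • (⊤ : Submodule A (E.X j →ₗ[A] M)) := by
    apply mem_smul_top_of_apply_mem
    intro y
    exact (φ.hom y).2
  have h1 : (φ ≫ ModuleCat.ofHom (I ^ n • ⊤ : Submodule A M).subtype).hom ∈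
      I ^ (n - k) • Zc E (ModuleCat.of A M) j j' := by
    have : _ ∈ I ^ n • (⊤ : Submodule A (E.X j →ₗ[A] M)) ⊓ Zc E (ModuleCat.of A M) j j' :=
      ⟨hI, hz⟩
    rw [hk n hn] at this
    exact Submodule.smul_mono le_rfl inf_le_right this
  have h2 := mem_smul_top_subtype _ _ ⟨_, hz⟩ h1
  have h3 := map_mem_smul_top (I ^ (n - k)) (clsL E (ModuleCat.of A M) i j h j' hj') h2
  have h4 : clsL E (ModuleCat.of A M) i j h j' hj' ⟨_, hz⟩ =
      cls E (ModuleCat.of A M) i j h j' hj'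
        (φ ≫ ModuleCat.ofHom (I ^ n • ⊤ : Submodule A M).subtype)
        (by rw [reassoc_of% hφ, zero_comp]) := by
    apply cls_congr
    rfl
  rw [h4] at h3
  exact h3

end Groth.Agent.Lib.Helper16.ExtAR
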