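import Mathlib
import Groth.Agent.Lib.Helper16.ExtAR

/-!
# `Ext^p(M, N) → Ext^p(IⁿM, N)` factors through `Ext^p(IⁿM, I^(n-c)N)` (towards S7148)
-/

open CategoryTheory CategoryTheory.Limits CategoryTheory.Abelian

namespace Groth.Agent.Lib.Helper16.ExtAR2

open Groth.Agent.Lib.Helper16.ExtAR

universe u

variable {A : Type u} [CommRing A]

/-- the module `IⁿM`. -/
abbrev pw (I : Ideal A) (n : ℕ) (M : Type u) [AddCommGroup M] [Module A M] : Submodule A M :=
  I ^ n • ⊤

/-- the inclusion `IⁿM ⟶ M` in `ModuleCat`. -/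
abbrev inc (I : Ideal A) (n : ℕ) (M : Type u) [AddCommGroup M] [Module A M] :
    ModuleCat.of A ↥(pw I n M) ⟶ ModuleCat.of A M :=
  ModuleCat.ofHom (pw I n M).subtype

section SES

variable (I : Ideal A) {F M : Type u} [AddCommGroup F] [Module A F] [AddCommGroup M] [Module A M]
  (π : F →ₗ[A] M)

/-- `IⁿF → IⁿM`. -/
def piN (n : ℕ) : ↥(pw I n F) →ₗ[A] ↥(pw I n M) :=
  π.restrict (p := pw I n F) (q := pw I n M) (fun _ hx => map_mem_smul_top _ π hx)

lemma piN_surjective (hπ : Function.Surjective π) (n : ℕ) : Function.Surjective (piN I π n) := by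
  rintro ⟨y, hy⟩
  have h1 : (pw I n F).map π = pw I n M := by
    rw [Submodule.map_smul'', Submodule.map_top, LinearMap.range_eq_top.2 hπ]
  rw [← h1] at hy
  obtain ⟨x, hx, hxy⟩ := hy
  exact ⟨⟨x, hx⟩, Subtype.ext hxy⟩

/-- the short complex `0 → ker → IⁿF → IⁿM → 0`. -/
noncomputable abbrev sesN (n : ℕ) : ShortComplex (ModuleCat.{u} A) :=
  ShortComplex.mk (ModuleCat.ofHom (LinearMap.ker (piN I π n)).subtype)
    (ModuleCat.ofHom (piN I π n)) (by
      ext x
      exact congrArg Subtype.val (LinearMap.mem_ker.1 x.2))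

lemma sesN_shortExact (hπ : Function.Surjective π) (n : ℕ) : (sesN I π n).ShortExact := by
  have h1 : Mono (sesN I π n).f := (ModuleCat.mono_iff_injective _).2 (Submodule.injective_subtype _)
  have h2 : Epi (sesN I π n).g := (ModuleCat.epi_iff_surjective _).2 (piN_surjective I π hπ n)
  refine ShortComplex.ShortExact.mk' ?_ h1 h2
  rw [ShortComplex.moduleCat_exact_iff_range_eq_ker]
  exact Submodule.range_subtype _

/-- the short complex `0 → ker π → F → M → 0`. -/
noncomputable abbrev ses : ShortComplex (ModuleCat.{u} A) :=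
  ShortComplex.mk (ModuleCat.ofHom (LinearMap.ker π).subtype) (ModuleCat.ofHom π) (by
      ext x
      exact x.2)

lemma ses_shortExact (hπ : Function.Surjective π) : (ses π).ShortExact := by
  have h1 : Mono (ses π).f := (ModuleCat.mono_iff_injective _).2 (Submodule.injective_subtype _)
  have h2 : Epi (ses π).g := (ModuleCat.epi_iff_surjective _).2 hπ
  refine ShortComplex.ShortExact.mk' ?_ h1 h2
  rw [ShortComplex.moduleCat_exact_iff_range_eq_ker]
  exact Submodule.range_subtype _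

/-- `ker (IⁿF → IⁿM) → ker π`. -/
def tau1 (n : ℕ) : ↥(LinearMap.ker (piN I π n)) →ₗ[A] ↥(LinearMap.ker π) :=
  LinearMap.codRestrict _ ((pw I n F).subtype ∘ₗ (LinearMap.ker (piN I π n)).subtype) (fun x => by
    have := x.2
    rw [LinearMap.mem_ker] at this ⊢
    exact congrArg Subtype.val this)

/-- the morphism of short complexes. -/
noncomputable def sesMap (n : ℕ) : sesN I π n ⟶ ses π where
  τ₁ := ModuleCat.ofHom (tau1 I π n)
  τ₂ := inc I n F
  τ₃ := inc I n M
  comm₁₂ := by ext x; rfl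
  comm₂₃ := by ext x; rfl

/-- `ker (IⁿF → IⁿM) → I^m (ker π)` when `IⁿF ∩ ker π ⊆ I^m ker π`. -/
def rho (n m : ℕ) (h : pw I n F ⊓ LinearMap.ker π ≤ I ^ m • LinearMap.ker π) :
    ↥(LinearMap.ker (piN I π n)) →ₗ[A] ↥(pw I m ↥(LinearMap.ker π)) :=
  LinearMap.codRestrict _ (tau1 I π n)
    (fun x => mem_smul_top_subtype _ _ _ (h ⟨x.1.2, (tau1 I π n x).2⟩))

lemma rho_comp (n m : ℕ) (h : pw I n F ⊓ LinearMap.ker π ≤ I ^ m • LinearMap.ker π) :
    ModuleCat.ofHom (rho I π n m h) ≫ inc I m ↥(LinearMap.ker π) =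
      ModuleCat.ofHom (tau1 I π n) := by
  ext x
  rfl

end SES

section Main

variable [IsNoetherianRing A] (I : Ideal A) (N : Type u) [AddCommGroup N] [Module A N]

theorem main (p : ℕ) : ∀ (M : Type u) [AddCommGroup M] [Module A M] [Module.Finite A M],
    ∃ c : ℕ, ∀ n m : ℕ, m + c = n → ∀ e : Ext (ModuleCat.of A M) (ModuleCat.of A N) p,
      ∃ e' : Ext (ModuleCat.of A ↥(pw I n M)) (ModuleCat.of A ↥(pw I m N)) p,
        e'.comp (Ext.mk₀ (inc I m N)) (add_zero p) =
          (Ext.mk₀ (inc I n M)).comp e (zero_add p) := by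
  induction p with
  | zero =>
    intro M _ _ _
    refine ⟨0, fun n m hnm e => ?_⟩
    obtain rfl : m = n := by omega
    obtain ⟨f, rfl⟩ := (Ext.mk₀_bijective _ _).2 e
    refine ⟨Ext.mk₀ (ModuleCat.ofHom (f.hom.restrict (p := pw I m M) (q := pw I m N)
      (fun _ hx => map_mem_smul_top _ f.hom hx))), ?_⟩
    rw [Ext.mk₀_comp_mk₀, Ext.mk₀_comp_mk₀]
    congr 1
  | succ p ih =>
    intro M _ _ _
    obtain ⟨r, π, hπ⟩ := Module.Finite.exists_fin' A M
    obtain ⟨c₀, hc₀⟩ := Ideal.exists_pow_inf_eq_pow_smul I (LinearMap.ker π)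
    obtain ⟨c', hc'⟩ := ih ↥(LinearMap.ker π)
    refine ⟨c' + c₀, fun n m hnm e => ?_⟩
    have hAR : pw I n (Fin r → A) ⊓ LinearMap.ker π ≤ I ^ (m + c') • LinearMap.ker π := by
      rw [hc₀ n (by omega)]
      have : n - c₀ = m + c' := by omega
      rw [this]
      exact Submodule.smul_mono le_rfl inf_le_right
    have hS := ses_shortExact π hπ
    have hSn := sesN_shortExact I π hπ n
    haveI : Projective (ses π).X₂ :=
      (IsProjective.iff_projective (R := A) (P := (Fin r → A))).1 inferInstance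
    obtain ⟨e₁, he₁⟩ := Ext.contravariant_sequence_exact₃ hS (ModuleCat.of A N) e
      (Ext.eq_zero_of_projective _) (add_comm 1 p)
    obtain ⟨e₁', he₁'⟩ := hc' (m + c') m rfl e₁
    refine ⟨hSn.extClass.comp ((Ext.mk₀ (ModuleCat.ofHom (rho I π n (m + c') hAR))).comp e₁'
      (zero_add p)) (add_comm 1 p), ?_⟩
    rw [Ext.comp_assoc_of_third_deg_zero, Ext.comp_assoc_of_third_deg_zero, he₁',
      Ext.mk₀_comp_mk₀_assoc, rho_comp, ← he₁]
    have hnat := ShortComplex.ShortExact.extClass_naturality hSn hS (sesMap I π n)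
    rw [← Ext.comp_assoc_of_second_deg_zero]
    change (hSn.extClass.comp (Ext.mk₀ (sesMap I π n).τ₁) _).comp e₁ _ = _
    rw [hnat, Ext.comp_assoc]
    · rfl
    · omega

end Main

end Groth.Agent.Lib.Helper16.ExtAR2
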