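import Mathlib
import Groth.Agent.Lib.Helper16.TorLoc9

/-!
# Helper16 — TorLoc11: base change of flat modules and of quasi-isomorphisms along
`B → B'` when `B ⊗_A A' → B'` is flat
-/

set_option autoImplicit false

open CategoryTheory CategoryTheory.Limits MonoidalCategory TensorProduct

namespace Groth.Agent.Lib.Helper16.TorLoc

universe u

open DerivedCategory Groth.Agent.Lib.Helper16.KF Groth.Agent.Lib.Helper16.BiCx
  Groth.Agent.Lib.Helper16.BC Groth.Agent.Lib.Helper16 Groth.Agent.Lib.Helper16.PO

attribute [local instance] HasDerivedCategory.standard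

/-- `B' ⊗_T N` is flat over `A'` when `N` is flat over `A'` and `B'` is flat over `T`. -/
theorem flat_tensor_of_flat_of_flat {A' T B' N : Type u} [CommRing A'] [CommRing T] [CommRing B']
    [Algebra A' T] [Algebra T B'] [Algebra A' B'] [IsScalarTower A' T B'] [Module.Flat T B']
    [AddCommGroup N] [Module T N] [Module A' N] [IsScalarTower A' T N] [Module.Flat A' N] :
    Module.Flat A' (B' ⊗[T] N) := by
  rw [Module.Flat.iff_lTensor_preserves_injective_linearMap]
  intro L₁ L₂ _ _ _ _ f hf
  have h1 : Function.Injective (AlgebraTensorModule.lTensor T N f) :=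
    Module.Flat.lTensor_preserves_injective_linearMap f hf
  have h2 : Function.Injective ((AlgebraTensorModule.lTensor T N f).lTensor B') :=
    Module.Flat.lTensor_preserves_injective_linearMap _ h1
  let e₁ := AlgebraTensorModule.assoc A' T T B' N L₁
  let e₂ := AlgebraTensorModule.assoc A' T T B' N L₂
  have hsq : ∀ z, e₂ (f.lTensor (B' ⊗[T] N) z) =
      ((AlgebraTensorModule.lTensor T N f).lTensor B') (e₁ z) := by
    intro z
    induction z using TensorProduct.induction_on with
    | zero => simp
    | tmul x l =>
      induction x using TensorProduct.induction_on with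
      | zero => simp
      | tmul b n => simp [e₁, e₂]
      | add x y hx hy =>
        simp only [add_tmul, map_add] at hx hy ⊢
        rw [hx, hy]
    | add x y hx hy => simp only [map_add, hx, hy]
  intro z₁ z₂ hz
  apply e₁.injective
  apply h2
  rw [← hsq, ← hsq, hz]

section Mod

variable {A' T B' : Type u} [CommRing A'] [CommRing T] [CommRing B']

/-- `ModuleCat` form: flatness over `A'` passes from `N` to `N ⊗_T B'` for `T → B'` flat. -/
theorem flat_res_ext_of_flat (ι : A' →+* T) (γ : T →+* B') (hγ : γ.Flat) (N : ModuleCat.{u} T)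
    (hN : Module.Flat A' ((ModuleCat.restrictScalars.{u} ι).obj N)) :
    Module.Flat A' ((ModuleCat.restrictScalars.{u} (γ.comp ι)).obj
      ((ModuleCat.extendScalars.{u, u, u} γ).obj N)) := by
  letI : Algebra A' T := ι.toAlgebra
  letI : Algebra T B' := γ.toAlgebra
  letI : Algebra A' B' := (γ.comp ι).toAlgebra
  haveI : IsScalarTower A' T B' := IsScalarTower.of_algebraMap_eq (fun _ => rfl)
  haveI : Module.Flat T B' := hγ
  letI : Module A' N := Module.compHom N ι
  haveI : IsScalarTower A' T N := ⟨fun a t n => by
    change (ι a * t) • n = ι a • (t • n)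
    rw [mul_smul]⟩
  haveI : Module.Flat A' N := hN
  have key : Module.Flat A' (B' ⊗[T] N) := flat_tensor_of_flat_of_flat
  exact key

end Mod

section Push

variable {A B A' B' : Type u} [CommRing A] [CommRing B] [CommRing A'] [CommRing B']
  [Algebra A B] [Algebra A A']

/-- base change of a module flat over `A` along `B → B'` is flat over `A'`, when
`B ⊗_A A' → B'` is flat. -/
theorem flat_of_pushout_flat (β : B →+* B') (φ' : A' →+* B') (γ : B ⊗[A] A' →+* B')
    (hγ : γ.Flat) (hβ : γ.comp (ιB A B A') = β) (hφ' : γ.comp (ιA' A B A') = φ')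
    (M : ModuleCat.{u} B)
    (hM : Module.Flat A ((ModuleCat.restrictScalars.{u} (algebraMap A B)).obj M)) :
    Module.Flat A' ((ModuleCat.restrictScalars.{u} φ').obj
      ((ModuleCat.extendScalars.{u, u, u} β).obj M)) := by
  subst hβ hφ'
  have h1 : Module.Flat A' ((ModuleCat.extendScalars.{u, u, u} (algebraMap A A')).obj
      ((ModuleCat.restrictScalars.{u} (algebraMap A B)).obj M)) := LDer.ext_flat _ _
  have h2 : Module.Flat A' ((ModuleCat.restrictScalars.{u} (ιA' A B A')).obj
      ((ModuleCat.extendScalars.{u, u, u} (ιB A B A')).obj M)) := by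
    haveI : Module.Flat A' ((ModuleCat.restrictScalars.{u} (algebraMap A B) ⋙
      ModuleCat.extendScalars.{u, u, u} (algebraMap A A')).obj M) := h1
    exact Module.Flat.of_linearEquiv ((poIso A B A').app M).symm.toLinearEquiv
  have h3 := flat_res_ext_of_flat (ιA' A B A') γ hγ _ h2
  haveI : Module.Flat A' ((ModuleCat.restrictScalars.{u} (γ.comp (ιA' A B A'))).obj
      ((ModuleCat.extendScalars.{u, u, u} (ιB A B A') ⋙
        ModuleCat.extendScalars.{u, u, u} γ).obj M)) := h3
  exact Module.Flat.of_linearEquiv ((ModuleCat.restrictScalars.{u} (γ.comp (ιA' A B A'))).mapIso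
    ((ModuleCat.extendScalarsComp (ιB A B A') γ).app M)).toLinearEquiv

/-- base change along `B → B'` preserves quasi-isomorphisms between complexes which are K-flat
over `A`, when `B ⊗_A A' → B'` is flat. -/
theorem quasiIso_extCx_map_of_pushout_flat (β : B →+* B') (γ : B ⊗[A] A' →+* B')
    (hγ : γ.Flat) (hβ : γ.comp (ιB A B A') = β) {K L : DRing.Cx B} (p : K ⟶ L) [QuasiIso p]
    (hK : DRing.IsKFlat A ((resCx (algebraMap A B)).obj K))
    (hL : DRing.IsKFlat A ((resCx (algebraMap A B)).obj L)) :
    QuasiIso ((extCx β).map p) := by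
  rw [← hβ, quasiIso_map_iff_of_natIso (extCxCompIso (ιB A B A') γ)]
  haveI := preservesHomology_ext_of_flat γ hγ
  suffices h : QuasiIso ((extCx (ιB A B A')).map p) from
    HomologicalComplex.quasiIso_map_of_preservesHomology _ _
  suffices h : QuasiIso ((resCx (ιA' A B A')).map ((extCx (ιB A B A')).map p)) from
    (HomologicalComplex.quasiIso_map_iff_of_preservesHomology _
      (ModuleCat.restrictScalars.{u} (ιA' A B A'))).1 h
  change QuasiIso ((extCx (ιB A B A') ⋙ resCx (ιA' A B A')).map p)
  rw [← quasiIso_map_iff_of_natIso (poCxNatIso (A := A) (B := B) (A' := A'))]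
  haveI := quasiIso_resCx_map (algebraMap A B) p
  exact DRE.quasiIso_extendScalars_map_of_isKFlat (algebraMap A A')
    ((resCx (algebraMap A B)).map p) hK hL

end Push

end Groth.Agent.Lib.Helper16.TorLoc
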