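import Mathlib
import Groth.Agent.Lib.Helper16.FibProd1
import Groth.Agent.Lib.Helper16.TorLoc11
import Groth.Agent.Lib.Helper16.TA1
import Groth.Agent.Lib.Helper16.Sky5

/-!
# Helper16 — FibProd3: base change of modules flat over the base, and of resolutions of bounded
above complexes of such modules, along pullback squares
-/

set_option autoImplicit false

open CategoryTheory CategoryTheory.Limits MonoidalCategory AlgebraicGeometry TensorProduct

namespace Groth.Agent.Lib.Helper16.FibProd

universe u

open DerivedCategory Groth.Agent.Lib.Helper16 Groth.Agent.Lib.Helper16.TorLoc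
  Groth.Agent.Lib.Helper16.Stk Groth.Agent.Lib.Helper16.StalkPB Groth.Agent.Lib.Helper16.PO

attribute [local instance] HasDerivedCategory.standard

section Stalk

variable {X : Scheme.{u}}

/-- quasi-isomorphisms of complexes of `O_X`-modules are detected on stalks. -/
lemma quasiIso_of_forall_stalk {K L : CochainComplex X.Modules ℤ} (φ : K ⟶ L)
    (h : ∀ x : X, QuasiIso (((stk x).mapHomologicalComplex (ComplexShape.up ℤ)).map φ)) :
    QuasiIso φ := by
  rw [quasiIso_iff]
  intro i
  rw [quasiIsoAt_iff_isIso_homologyMap]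
  apply TA.isIso_of_forall_stalk
  intro x
  have h1 : QuasiIsoAt (((stk x).mapHomologicalComplex (ComplexShape.up ℤ)).map φ) i :=
    (h x).quasiIsoAt i
  rw [quasiIsoAt_iff_isIso_homologyMap] at h1
  have nat := ShortComplex.mapHomologyIso_hom_naturality
    ((HomologicalComplex.shortComplexFunctor X.Modules (ComplexShape.up ℤ) i).map φ) (stk x)
  have h3 : IsIso ((((HomologicalComplex.shortComplexFunctor X.Modules (ComplexShape.up ℤ) i).obj
      K).mapHomologyIso (stk x)).hom ≫ (stk x).map (ShortComplex.homologyMap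
        ((HomologicalComplex.shortComplexFunctor X.Modules (ComplexShape.up ℤ) i).map φ))) := by
    rw [← nat]
    exact @IsIso.comp_isIso _ _ _ _ _ _ _ h1 inferInstance
  exact @IsIso.of_isIso_comp_left _ _ _ _ _
    (((HomologicalComplex.shortComplexFunctor X.Modules (ComplexShape.up ℤ) i).obj
      K).mapHomologyIso (stk x)).hom _ inferInstance h3

end Stalk

section Flat

variable {W X Y Y' : Scheme.{u}} {p : W ⟶ X} {p' : W ⟶ Y'} {f : X ⟶ Y} {h : Y' ⟶ Y}

/-- **base change of modules flat over the base.** -/
theorem isFlatOver_pullback (sq : IsPullback p p' f h) (M : X.Modules)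
    (hM : FlatMod.IsFlatOver f M) :
    FlatMod.IsFlatOver p' ((Scheme.Modules.pullback p).obj M) := by
  intro w
  letI : Algebra (Y.presheaf.stalk (f.base (p.base w))) (X.presheaf.stalk (p.base w)) :=
    (f.stalkMap (p.base w)).hom.toAlgebra
  letI : Algebra (Y.presheaf.stalk (f.base (p.base w))) (Y'.presheaf.stalk (p'.base w)) :=
    (sqα f p' p h sq.w w).hom.toAlgebra
  obtain ⟨γ, hγ, h1, h2⟩ := exists_flat_tensor_map_of_isPullback sq w rfl rfl
  have hM' : Module.Flat (Y.presheaf.stalk (f.base (p.base w)))
      ((ModuleCat.restrictScalars.{u} (algebraMap (Y.presheaf.stalk (f.base (p.base w)))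
        (X.presheaf.stalk (p.base w)))).obj ((stk (p.base w)).obj M)) := hM (p.base w)
  have key := flat_of_pushout_flat (p.stalkMap w).hom (p'.stalkMap w).hom γ hγ h1 h2 _ hM'
  have e : (ModuleCat.restrictScalars.{u} (p'.stalkMap w).hom).obj
      ((stk w).obj ((Scheme.Modules.pullback p).obj M)) ≅
      (ModuleCat.restrictScalars.{u} (p'.stalkMap w).hom).obj
        ((ModuleCat.extendScalars.{u, u, u} (p.stalkMap w).hom).obj ((stk (p.base w)).obj M)) :=
    (ModuleCat.restrictScalars.{u} (p'.stalkMap w).hom).mapIso ((pullbackStkIso p w).app M)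
  change Module.Flat _ ((ModuleCat.restrictScalars.{u} (p'.stalkMap w).hom).obj
      ((stk w).obj ((Scheme.Modules.pullback p).obj M)))
  exact Module.Flat.of_linearEquiv e.toLinearEquiv

/-- **base change of a K-flat resolution of a bounded above complex of modules flat over the base
stays a resolution**, when `f` is flat. -/
theorem quasiIso_pullCx_map_of_flatOver (sq : IsPullback p p' f h) [Flat f]
    {G E : CochainComplex X.Modules ℤ} (q : G ⟶ E) [QuasiIso q] (hG : DCoh.IsKFlat G)
    (b : ℤ) (hb : ∀ i : ℤ, b < i → IsZero (E.X i))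
    (hfl : ∀ i : ℤ, FlatMod.IsFlatOver f (E.X i)) :
    QuasiIso ((KD.pullCx p).map q) := by
  apply quasiIso_of_forall_stalk
  intro w
  letI : Algebra (Y.presheaf.stalk (f.base (p.base w))) (X.presheaf.stalk (p.base w)) :=
    (f.stalkMap (p.base w)).hom.toAlgebra
  letI : Algebra (Y.presheaf.stalk (f.base (p.base w))) (Y'.presheaf.stalk (p'.base w)) :=
    (sqα f p' p h sq.w w).hom.toAlgebra
  obtain ⟨γ, hγ, h1, -⟩ := exists_flat_tensor_map_of_isPullback sq w rfl rfl
  haveI := Groth.Agent.S6188.quasiIso_stkCx_map (p.base w) q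
  have hK : DRing.IsKFlat (Y.presheaf.stalk (f.base (p.base w)))
      ((resCx (algebraMap (Y.presheaf.stalk (f.base (p.base w)))
        (X.presheaf.stalk (p.base w)))).obj (stkCx (p.base w) G)) :=
    isKFlat_resCx_of_flat _ (Flat.stalkMap f (p.base w)) _
      (stalk_isKFlat_of_isKFlat (p.base w) G hG)
  have hL : DRing.IsKFlat (Y.presheaf.stalk (f.base (p.base w)))
      ((resCx (algebraMap (Y.presheaf.stalk (f.base (p.base w)))
        (X.presheaf.stalk (p.base w)))).obj (stkCx (p.base w) E)) :=
    KF.isKFlat_of_boundedAbove _ b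
      (fun j hj => Functor.map_isZero (ModuleCat.restrictScalars.{u} _)
        (Functor.map_isZero (stk (p.base w)) (hb j hj)))
      (fun i => hfl i (p.base w))
  have key := quasiIso_extCx_map_of_pushout_flat (p.stalkMap w).hom γ hγ h1
    (((stk (p.base w)).mapHomologicalComplex (ComplexShape.up ℤ)).map q) hK hL
  exact (quasiIso_iff_of_arrow_mk_iso _ _ (Arrow.isoOfNatIso
    (NatIso.mapHomologicalComplex (pullbackStkIso p w) (ComplexShape.up ℤ)) (Arrow.mk q))).2 key

end Flat

end Groth.Agent.Lib.Helper16.FibProd
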