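import Mathlib
import Groth.Agent.Lib.Helper16.FibProd3
import Groth.Agent.Lib.Helper16.Fl2
import Groth.Agent.Lib.Helper16.RS9

/-!
# Helper16 — FibProd4: base change of relative flat amplitude along arbitrary pullback squares,
and its local version
-/

set_option autoImplicit false

open CategoryTheory CategoryTheory.Limits AlgebraicGeometry

namespace Groth.Agent.Lib.Helper16.FibProd

universe u

open DerivedCategory Groth.Agent.Lib.Helper16 Groth.Agent.Lib.Helper16.Stk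
  Groth.Agent.Lib.Helper16.RS Groth.Agent.Lib.Helper16.KD

attribute [local instance] HasDerivedCategory.standard

variable {W X Y Y' : Scheme.{u}} {p : W ⟶ X} {p' : W ⟶ Y'} {f : X ⟶ Y} {h : Y' ⟶ Y}

lemma hasRelFlatAmplitudeIn_of_iso {X S : Scheme.{u}} (f : X ⟶ S) {K K' : DCoh.D X} (e : K ≅ K')
    (a b : ℤ) (hK : DCoh.HasRelFlatAmplitudeIn f a b K) : DCoh.HasRelFlatAmplitudeIn f a b K' := by
  obtain ⟨E, h1, h2, ⟨e'⟩⟩ := hK
  exact ⟨E, h1, h2, ⟨e' ≪≫ e⟩⟩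

/-- **base change of relative flat amplitude** (any pullback square, `f` flat). -/
theorem hasRelFlatAmplitudeIn_Lpull_of_isPullback (sq : IsPullback p p' f h) [Flat f]
    [DCoh.HasLpull p] (E : DCoh.D X) (a b : ℤ) (hE : DCoh.HasRelFlatAmplitudeIn f a b E) :
    DCoh.HasRelFlatAmplitudeIn p' a b ((DCoh.Lpull p).obj E) := by
  obtain ⟨E₀, hE₀, hfl, ⟨e⟩⟩ := hE
  obtain ⟨G, q, hGK, -, hq, -⟩ := exists_kFlat_resolution E₀
  haveI := hq
  haveI : QuasiIso ((KD.pullCx p).map q) :=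
    quasiIso_pullCx_map_of_flatOver sq q hGK b (fun i hi => hE₀ i (Or.inr hi)) hfl
  haveI : IsIso (Q.map q) := by rw [isIso_Q_map_iff_quasiIso]; infer_instance
  haveI : IsIso (Q.map ((KD.pullCx p).map q)) := by
    rw [isIso_Q_map_iff_quasiIso]; infer_instance
  refine ⟨(KD.pullCx p).obj E₀,
    fun i hi => Functor.map_isZero (Scheme.Modules.pullback p) (hE₀ i hi),
    fun i => isFlatOver_pullback sq (E₀.X i) (hfl i), ⟨?_⟩⟩
  exact (asIso (Q.map ((KD.pullCx p).map q))).symm ≪≫ (KD.LpullIso p G hGK).symm ≪≫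
    (DCoh.Lpull p).mapIso (asIso (Q.map q) ≪≫ e)

/-- **base change of local finiteness of relative tor dimension** (`f` flat). -/
theorem locHasFiniteRelTorDim_Lpull_of_isPullback (sq : IsPullback p p' f h) [Flat f]
    [DCoh.HasLpull p] (K : DCoh.D X) (hK : DCoh.LocHasFiniteRelTorDim f K) :
    DCoh.LocHasFiniteRelTorDim p' ((DCoh.Lpull p).obj K) := by
  intro w
  obtain ⟨V, a, b, hx, hV⟩ := hK (p.base w)
  refine ⟨p ⁻¹ᵁ V, a, b, hx, ?_⟩
  rintro F' ⟨eF'⟩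
  -- a K-flat representative of `K`
  obtain ⟨P, ψ, hP⟩ := exists_functorial_kFlat_resolution X
  let F₀ := DerivedCategory.Q.objPreimage K
  let e₀ : DerivedCategory.Q.obj F₀ ≅ K := DerivedCategory.Q.objObjPreimageIso K
  let P₀ := P.obj F₀
  have hP₀ : DCoh.IsKFlat P₀ := (hP F₀).1
  haveI : QuasiIso (ψ.app F₀) := (hP F₀).2.2.1
  have hs : IsIso (DerivedCategory.Q.map (ψ.app F₀)) := by
    rw [DerivedCategory.isIso_Q_map_iff_quasiIso]; infer_instance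
  let e₁ : DerivedCategory.Q.obj P₀ ≅ K :=
    @asIso _ _ _ _ (DerivedCategory.Q.map (ψ.app F₀)) hs ≪≫ e₀
  have hV' := hV P₀ ⟨e₁⟩
  -- the morphism `p⁻¹ V ⟶ V` and its pullback square
  let g := p ∣_ V
  haveI : DCoh.HasLpull g := hasLpull g
  have sqV : IsPullback g ((p ⁻¹ᵁ V).ι ≫ p') (V.ι ≫ f) h :=
    (isPullback_morphismRestrict p V).paste_vert sq
  have key := hasRelFlatAmplitudeIn_Lpull_of_isPullback sqV _ a b hV'
  -- `Q (F'|) ≅ Lg^* (Q (P₀|_V))`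
  let i₁ : DerivedCategory.Q.obj F' ≅ DerivedCategory.Q.obj ((pullCx p).obj P₀) :=
    eF' ≪≫ (DCoh.Lpull p).mapIso e₁.symm ≪≫ LpullIso p P₀ hP₀
  obtain ⟨i₂⟩ := nonempty_iso_Q_RCx (p ⁻¹ᵁ V).ι i₁
  let i₃ : (RCx (p ⁻¹ᵁ V).ι).obj ((pullCx p).obj P₀) ≅ (pullCx g).obj ((RCx V.ι).obj P₀) :=
    (pullCxRCxIso p (p ⁻¹ᵁ V).ι V.ι g (morphismRestrict_ι p V).symm).app P₀
  have hPV : DCoh.IsKFlat ((RCx V.ι).obj P₀) := isKFlat_RCx V.ι P₀ hP₀
  exact hasRelFlatAmplitudeIn_of_iso _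
    (i₂ ≪≫ DerivedCategory.Q.mapIso i₃ ≪≫ (LpullIso g _ hPV).symm).symm a b key

end Groth.Agent.Lib.Helper16.FibProd
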