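import Mathlib.CategoryTheory.Triangulated.Pretriangulated
import Mathlib.CategoryTheory.Triangulated.TriangleShift
import Mathlib.CategoryTheory.Filtered.Basic
import Mathlib.CategoryTheory.Limits.Shapes.BinaryBiproducts

/-!
# Helper16 — FilHom: objects `X` of a pretriangulated category for which
`colim_j Hom(X[k], G j) → Hom(X[k], T)` is bijective (for a filtered diagram `G` with cocone `T`),
stated elementwise.  Closed under isomorphisms, shifts and extensions.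
-/

open CategoryTheory CategoryTheory.Limits CategoryTheory.Pretriangulated

namespace Groth.Agent.Lib.Helper16.FilHom

universe v u v' u'

variable {D : Type u} [Category.{v} D] {J : Type u'} [Category.{v'} J] (G : J ⥤ D) (c : Cocone G)

/-- the cocone leg with the expected type. -/
abbrev cι (j : J) : G.obj j ⟶ c.pt := c.ι.app j

variable {G} in
lemma cι_w {j j' : J} (f : j ⟶ j') : G.map f ≫ cι G c j' = cι G c j := c.w f

variable {G} in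
lemma cι_w_assoc {j j' : J} (f : j ⟶ j') {Z : D} (h : c.pt ⟶ Z) :
    G.map f ≫ cι G c j' ≫ h = cι G c j ≫ h := by
  rw [← Category.assoc, cι_w]

/-- every map `X ⟶ c.pt` factors through some `G.obj j`. -/
def Surj (X : D) : Prop := ∀ x : X ⟶ c.pt, ∃ (j : J) (y : X ⟶ G.obj j), y ≫ cι G c j = x

/-- a map `X ⟶ G.obj j` dying in `c.pt` dies in some `G.obj j'`. -/
def Inj [Preadditive D] (X : D) : Prop :=
  ∀ (j : J) (y : X ⟶ G.obj j), y ≫ cι G c j = 0 → ∃ (j' : J) (f : j ⟶ j'), y ≫ G.map f = 0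

variable {G c}

lemma Surj.of_iso {X X' : D} (h : Surj G c X) (e : X ≅ X') : Surj G c X' := by
  intro x
  obtain ⟨j, y, hy⟩ := h (e.hom ≫ x)
  exact ⟨j, e.inv ≫ y, by rw [Category.assoc, hy, Iso.inv_hom_id_assoc]⟩

lemma Inj.of_iso [Preadditive D] {X X' : D} (h : Inj G c X) (e : X ≅ X') : Inj G c X' := by
  intro j y hy
  obtain ⟨j', f, hf⟩ := h j (e.hom ≫ y) (by rw [Category.assoc, hy, comp_zero])
  refine ⟨j', f, ?_⟩
  rw [← cancel_epi e.hom, ← Category.assoc, hf, comp_zero]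

lemma Surj.of_natIso {G' : J ⥤ D} {c' : Cocone G'} {X : D} (h : Surj G c X) (e : G ≅ G')
    (ept : c.pt ≅ c'.pt) (hc : ∀ j, cι G c j ≫ ept.hom = e.hom.app j ≫ cι G' c' j) :
    Surj G' c' X := by
  intro x
  obtain ⟨j, y, hy⟩ := h (x ≫ ept.inv)
  refine ⟨j, y ≫ e.hom.app j, ?_⟩
  rw [Category.assoc, ← hc, reassoc_of% hy, Iso.inv_hom_id, Category.comp_id]

lemma Inj.of_natIso [Preadditive D] {G' : J ⥤ D} {c' : Cocone G'} {X : D} (h : Inj G c X)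
    (e : G ≅ G') (ept : c.pt ≅ c'.pt)
    (hc : ∀ j, cι G c j ≫ ept.hom = e.hom.app j ≫ cι G' c' j) :
    Inj G' c' X := by
  intro j y hy
  have h0 : (y ≫ e.inv.app j) ≫ cι G c j = 0 := by
    rw [← cancel_mono ept.hom, Category.assoc, Category.assoc, hc, Iso.inv_hom_id_app_assoc, hy,
      zero_comp]
  obtain ⟨j', f, hf⟩ := h j (y ≫ e.inv.app j) h0
  refine ⟨j', f, ?_⟩
  have : y ≫ G'.map f = (y ≫ e.inv.app j) ≫ G.map f ≫ e.hom.app j' := by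
    rw [e.hom.naturality f, Category.assoc, Iso.inv_hom_id_app_assoc]
  rw [this, ← Category.assoc, hf, zero_comp]

lemma surj_of_hom_eq_zero [Preadditive D] [Nonempty J] (X : D) (h : ∀ x : X ⟶ c.pt, x = 0) :
    Surj G c X := by
  intro x
  obtain ⟨j⟩ := ‹Nonempty J›
  exact ⟨j, 0, by rw [zero_comp, h x]⟩

lemma inj_of_hom_eq_zero [Preadditive D] (X : D) (h : ∀ (j : J) (y : X ⟶ G.obj j), y = 0) :
    Inj G c X := by
  intro j y _
  exact ⟨j, 𝟙 j, by rw [h j y, zero_comp]⟩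

lemma Surj.biprod [Preadditive D] [HasBinaryBiproducts D] [IsFiltered J] {X Y : D}
    (hX : Surj G c X) (hY : Surj G c Y) : Surj G c (X ⊞ Y) := by
  intro x
  obtain ⟨j₁, y₁, h₁⟩ := hX (biprod.inl ≫ x)
  obtain ⟨j₂, y₂, h₂⟩ := hY (biprod.inr ≫ x)
  refine ⟨IsFiltered.max j₁ j₂, biprod.desc (y₁ ≫ G.map (IsFiltered.leftToMax j₁ j₂))
    (y₂ ≫ G.map (IsFiltered.rightToMax j₁ j₂)), ?_⟩
  ext
  · rw [biprod.inl_desc_assoc, Category.assoc, cι_w, h₁]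
  · rw [biprod.inr_desc_assoc, Category.assoc, cι_w, h₂]

lemma Inj.biprod [Preadditive D] [HasBinaryBiproducts D] [IsFiltered J] {X Y : D}
    (hX : Inj G c X) (hY : Inj G c Y) : Inj G c (X ⊞ Y) := by
  intro j y hy
  obtain ⟨j₁, f₁, h₁⟩ := hX j (biprod.inl ≫ y) (by rw [Category.assoc, hy, comp_zero])
  obtain ⟨j₂, f₂, h₂⟩ := hY j (biprod.inr ≫ y) (by rw [Category.assoc, hy, comp_zero])
  obtain ⟨k, g₁, g₂, hg⟩ := IsFiltered.span f₁ f₂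
  refine ⟨k, f₁ ≫ g₁, ?_⟩
  ext
  · rw [G.map_comp, ← Category.assoc, ← Category.assoc, h₁, zero_comp, comp_zero]
  · rw [hg, G.map_comp, ← Category.assoc, ← Category.assoc, h₂, zero_comp, comp_zero]

lemma Surj.map {C : Type*} [Category C] {F : J ⥤ C} {c₀ : Cocone F} {N : C} (h : Surj F c₀ N)
    (Φ : C ⥤ D) [Φ.Full] : Surj (F ⋙ Φ) (Φ.mapCocone c₀) (Φ.obj N) := by
  intro x
  obtain ⟨x₀, rfl⟩ := Φ.map_surjective x
  obtain ⟨j, y, hy⟩ := h x₀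
  exact ⟨j, Φ.map y, by rw [← hy, Φ.map_comp]; rfl⟩

lemma Inj.map {C : Type*} [Category C] [Preadditive C] [Preadditive D] {F : J ⥤ C}
    {c₀ : Cocone F} {N : C} (h : Inj F c₀ N)
    (Φ : C ⥤ D) [Φ.Full] [Φ.Faithful] [Φ.PreservesZeroMorphisms] :
    Inj (F ⋙ Φ) (Φ.mapCocone c₀) (Φ.obj N) := by
  intro j y hy
  obtain ⟨y₀, rfl⟩ := Φ.map_surjective y
  have h0 : y₀ ≫ cι F c₀ j = 0 := by
    apply Φ.map_injective
    rw [Φ.map_comp, Φ.map_zero]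
    exact hy
  obtain ⟨j', f, hf⟩ := h j y₀ h0
  refine ⟨j', f, ?_⟩
  change Φ.map y₀ ≫ Φ.map (F.map f) = 0
  rw [← Φ.map_comp, hf, Φ.map_zero]

variable [Preadditive D] [HasZeroObject D] [HasShift D ℤ] [∀ n : ℤ, (shiftFunctor D n).Additive]
  [Pretriangulated D] [IsFiltered J]

lemma surj_obj₂ (T : Triangle D) (hT : T ∈ distTriang D) (hS1 : Surj G c T.obj₁)
    (hS3 : Surj G c T.obj₃) (hI3 : Inj G c (T.obj₃⟦(-1 : ℤ)⟧)) : Surj G c T.obj₂ := by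
  intro y
  obtain ⟨j, a, ha⟩ := hS1 (T.mor₁ ≫ y)
  have hT' := inv_rot_of_distTriang _ hT
  obtain ⟨ω, hω, hω2⟩ : ∃ ω : T.obj₃⟦(-1 : ℤ)⟧ ⟶ T.obj₁, ω ≫ T.mor₁ = 0 ∧
      ∀ {W : D} (a : T.obj₁ ⟶ W), ω ≫ a = 0 → ∃ b : T.obj₂ ⟶ W, a = T.mor₁ ≫ b :=
    ⟨T.invRotate.mor₁, comp_distTriang_mor_zero₁₂ _ hT',
      fun a ha => Triangle.yoneda_exact₂ _ hT' a ha⟩
  obtain ⟨j', f, hf⟩ := hI3 j (ω ≫ a) (by
    rw [Category.assoc, ha, reassoc_of% hω, zero_comp])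
  obtain ⟨b, hb⟩ : ∃ b : T.obj₂ ⟶ G.obj j', a ≫ G.map f = T.mor₁ ≫ b :=
    hω2 (a ≫ G.map f) (by rw [← Category.assoc]; exact hf)
  have h0 : T.mor₁ ≫ (b ≫ cι G c j' - y) = 0 := by
    rw [Preadditive.comp_sub, ← reassoc_of% hb, cι_w, ha, sub_self]
  obtain ⟨z, hz⟩ := Triangle.yoneda_exact₂ _ hT _ h0
  obtain ⟨j'', z', hz'⟩ := hS3 z
  let k := IsFiltered.max j' j''
  refine ⟨k, b ≫ G.map (IsFiltered.leftToMax j' j'') - T.mor₂ ≫ z' ≫ G.map (IsFiltered.rightToMax j' j''), ?_⟩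
  rw [Preadditive.sub_comp, Category.assoc, Category.assoc, Category.assoc, cι_w, cι_w, hz', ← hz]
  abel

lemma inj_obj₂ (T : Triangle D) (hT : T ∈ distTriang D) (hI1 : Inj G c T.obj₁)
    (hI3 : Inj G c T.obj₃) (hS1 : Surj G c (T.obj₁⟦(1 : ℤ)⟧)) : Inj G c T.obj₂ := by
  intro j y hy
  obtain ⟨j', f, hf⟩ := hI1 j (T.mor₁ ≫ y) (by rw [Category.assoc, hy, comp_zero])
  obtain ⟨z, hz⟩ : ∃ z : T.obj₃ ⟶ G.obj j', y ≫ G.map f = T.mor₂ ≫ z :=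
    Triangle.yoneda_exact₂ _ hT (y ≫ G.map f) (by rw [← Category.assoc]; exact hf)
  have h0 : T.mor₂ ≫ (z ≫ cι G c j') = 0 := by
    rw [← reassoc_of% hz, cι_w, hy]
  obtain ⟨t, ht⟩ := Triangle.yoneda_exact₃ _ hT _ h0
  obtain ⟨j'', t', ht'⟩ := hS1 t
  let k := IsFiltered.max j' j''
  obtain ⟨k', g, hg⟩ := hI3 k (z ≫ G.map (IsFiltered.leftToMax j' j'') -
      T.mor₃ ≫ t' ≫ G.map (IsFiltered.rightToMax j' j'')) (by
    rw [Preadditive.sub_comp, Category.assoc, Category.assoc, Category.assoc, cι_w, cι_w, ht', ← ht,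
      sub_self])
  refine ⟨k', f ≫ IsFiltered.leftToMax j' j'' ≫ g, ?_⟩
  rw [Preadditive.sub_comp, sub_eq_zero] at hg
  rw [G.map_comp, G.map_comp, reassoc_of% hz, Category.assoc] at *
  rw [hg, Category.assoc, Category.assoc, comp_distTriang_mor_zero₂₃_assoc _ hT, zero_comp]



/-- `X` is "compact relative to `(G, c)` in all degrees". -/
def Bij (G : J ⥤ D) (c : Cocone G) (X : D) : Prop :=
  ∀ k : ℤ, Surj G c (X⟦k⟧) ∧ Inj G c (X⟦k⟧)

lemma Bij.of_iso {X X' : D} (h : Bij G c X) (e : X ≅ X') : Bij G c X' := fun k =>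
  ⟨(h k).1.of_iso ((shiftFunctor D k).mapIso e), (h k).2.of_iso ((shiftFunctor D k).mapIso e)⟩

lemma exists_shift_triangle (T : Triangle D) (hT : T ∈ distTriang D) (k : ℤ) :
    ∃ T' : Triangle D, T' ∈ distTriang D ∧ Nonempty (T'.obj₁ ≅ T.obj₁⟦k⟧) ∧
      Nonempty (T'.obj₂ ≅ T.obj₂⟦k⟧) ∧ Nonempty (T'.obj₃ ≅ T.obj₃⟦k⟧) :=
  ⟨(CategoryTheory.shiftFunctor (Triangle D) k).obj T, Triangle.shift_distinguished T hT k,
    ⟨Iso.refl _⟩, ⟨Iso.refl _⟩, ⟨Iso.refl _⟩⟩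

lemma Bij.obj₂ (T : Triangle D) (hT : T ∈ distTriang D) (h1 : Bij G c T.obj₁)
    (h3 : Bij G c T.obj₃) : Bij G c T.obj₂ := by
  intro k
  obtain ⟨T', hT', ⟨e₁⟩, ⟨e₂⟩, ⟨e₃⟩⟩ := exists_shift_triangle T hT k
  constructor
  · refine (surj_obj₂ T' hT' ((h1 k).1.of_iso e₁.symm) ((h3 k).1.of_iso e₃.symm) ?_).of_iso e₂
    refine (h3 (k - 1)).2.of_iso ?_
    exact (shiftFunctorAdd' D k (-1) (k - 1) (by omega)).app T.obj₃ ≪≫
      (shiftFunctor D (-1 : ℤ)).mapIso e₃.symm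
  · refine (inj_obj₂ T' hT' ((h1 k).2.of_iso e₁.symm) ((h3 k).2.of_iso e₃.symm) ?_).of_iso e₂
    refine (h1 (k + 1)).1.of_iso ?_
    exact (shiftFunctorAdd' D k 1 (k + 1) (by omega)).app T.obj₁ ≪≫
      (shiftFunctor D (1 : ℤ)).mapIso e₁.symm

end Groth.Agent.Lib.Helper16.FilHom
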