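import Mathlib
import Groth.Agent.Lib.Helper16.FilHom
import Groth.Agent.Lib.Helper16.PC2

/-!
# Helper16 — FilHomMod: maps out of bounded complexes of finite free modules (in `D(R)`)
into shifted filtered colimits of modules.
-/

open CategoryTheory CategoryTheory.Limits CategoryTheory.Pretriangulated

namespace Groth.Agent.Lib.Helper16.FilHomMod

open Groth.Agent.Lib.Helper16.FilHom Groth.Agent.Lib.Helper16.PC Groth.Agent.Lib.Helper8

universe u

variable {R : Type u} [CommRing R] {J : Type u} [SmallCategory J] [IsFiltered J]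
  (F : J ⥤ ModuleCat.{u} R) (c : Cocone F) (hc : IsColimit c)

include hc in
lemma surj_R : Surj F c (ModuleCat.of R R) := by
  intro x
  obtain ⟨j, y₀, hy⟩ := Concrete.isColimit_exists_rep F hc (x.hom (1 : R))
  refine ⟨j, ModuleCat.ofHom (LinearMap.toSpanSingleton R _ y₀), ?_⟩
  ext
  simpa using hy

include hc in
lemma inj_R : Inj F c (ModuleCat.of R R) := by
  intro j y hy
  have h1 : c.ι.app j (y.hom (1 : R)) = c.ι.app j (0 : F.obj j) := by
    rw [map_zero]
    have := congr($(hy).hom (1 : R))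
    simpa using this
  obtain ⟨k, f, g, hfg⟩ := Concrete.isColimit_exists_of_rep_eq F hc _ _ h1
  refine ⟨k, f, ?_⟩
  ext
  simpa using hfg

include hc in
lemma bij_pi (n : ℕ) :
    Surj F c (ModuleCat.of R (Fin n → R)) ∧ Inj F c (ModuleCat.of R (Fin n → R)) := by
  induction n with
  | zero =>
    have : Nonempty J := IsFiltered.nonempty
    have hz : IsZero (ModuleCat.of R (Fin 0 → R)) := ModuleCat.isZero_of_subsingleton _
    exact ⟨surj_of_hom_eq_zero _ (fun x => hz.eq_of_src _ _),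
      inj_of_hom_eq_zero _ (fun j y => hz.eq_of_src _ _)⟩
  | succ n ih =>
    have e : ModuleCat.of R R ⊞ ModuleCat.of R (Fin n → R) ≅ ModuleCat.of R (Fin (n + 1) → R) :=
      ModuleCat.biprodIsoProd _ _ ≪≫
        (Fin.consLinearEquiv R (fun _ : Fin (n + 1) => R)).toModuleIso
    exact ⟨((surj_R F c hc).biprod ih.1).of_iso e, ((inj_R F c hc).biprod ih.2).of_iso e⟩

include hc in
lemma bij_finFree (N : ModuleCat.{u} R) (hN : FinFree N) : Surj F c N ∧ Inj F c N := by
  obtain ⟨h1, h2⟩ := hN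
  let ι := Module.Free.ChooseBasisIndex R N
  let e₁ : N ≃ₗ[R] (ι → R) := (Module.Free.chooseBasis R N).equivFun
  let e₂ : (ι → R) ≃ₗ[R] (Fin (Fintype.card ι) → R) :=
    LinearEquiv.funCongrLeft R R (Fintype.equivFin ι).symm
  have e : ModuleCat.of R (Fin (Fintype.card ι) → R) ≅ N := (e₁.trans e₂).symm.toModuleIso
  have h := bij_pi F c hc (Fintype.card ι)
  exact ⟨h.1.of_iso e, h.2.of_iso e⟩

section Derived

open DerivedCategory

attribute [local instance] HasDerivedCategory.standard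

include hc in
lemma single_case (p q : ℤ) (N : ModuleCat.{u} R) (hN : FinFree N) :
    Surj (F ⋙ singleFunctor (ModuleCat.{u} R) q) ((singleFunctor (ModuleCat.{u} R) q).mapCocone c)
        ((singleFunctor (ModuleCat.{u} R) p).obj N) ∧
      Inj (F ⋙ singleFunctor (ModuleCat.{u} R) q) ((singleFunctor (ModuleCat.{u} R) q).mapCocone c)
        ((singleFunctor (ModuleCat.{u} R) p).obj N) := by
  have : Nonempty J := IsFiltered.nonempty
  rcases lt_trichotomy p q with h | h | h
  · have hz : ∀ (M : ModuleCat.{u} R)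
        (x : (singleFunctor (ModuleCat.{u} R) p).obj N ⟶ (singleFunctor (ModuleCat.{u} R) q).obj M),
        x = 0 := fun M x => TStructure.t.zero x p q h
    exact ⟨surj_of_hom_eq_zero _ (fun x => hz _ x), inj_of_hom_eq_zero _ (fun j y => hz _ y)⟩
  · subst h
    have hb := bij_finFree F c hc N hN
    exact ⟨hb.1.map _, hb.2.map _⟩
  · have := finFree_proj N hN
    have hz : ∀ (M : ModuleCat.{u} R)
        (x : (singleFunctor (ModuleCat.{u} R) p).obj N ⟶ (singleFunctor (ModuleCat.{u} R) q).obj M),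
        x = 0 := fun M x => PAmp.hom_single_projective_eq_zero p N _ q h x
    exact ⟨surj_of_hom_eq_zero _ (fun x => hz _ x), inj_of_hom_eq_zero _ (fun j y => hz _ y)⟩

/-- the diagram `j ↦ M_j[n]`. -/
noncomputable abbrev Gn (n : ℤ) : J ⥤ DerivedCategory (ModuleCat.{u} R) :=
  F ⋙ (singleFunctor (ModuleCat.{u} R) 0 ⋙ shiftFunctor (DerivedCategory (ModuleCat.{u} R)) n)

/-- its cocone `M[n]`. -/
noncomputable abbrev cn (n : ℤ) : Cocone (Gn F n) :=
  (singleFunctor (ModuleCat.{u} R) 0 ⋙ shiftFunctor (DerivedCategory (ModuleCat.{u} R)) n).mapCocone c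

include hc in
lemma bij_single (n p : ℤ) (N : ModuleCat.{u} R) (hN : FinFree N) :
    Bij (Gn F n) (cn F c n) ((singleFunctor (ModuleCat.{u} R) p).obj N) := by
  intro k
  have h := single_case F c hc (p - k) (-n) N hN
  let eX : (singleFunctor (ModuleCat.{u} R) (p - k)).obj N ≅
      ((singleFunctor (ModuleCat.{u} R) p).obj N)⟦k⟧ :=
    (((singleFunctors (ModuleCat.{u} R)).shiftIso k (p - k) p (by omega)).app N).symm
  let eG : singleFunctor (ModuleCat.{u} R) (-n) ≅
      singleFunctor (ModuleCat.{u} R) 0 ⋙ shiftFunctor (DerivedCategory (ModuleCat.{u} R)) n :=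
    ((singleFunctors (ModuleCat.{u} R)).shiftIso n (-n) 0 (by omega)).symm
  have hcomp : ∀ j, cι (F ⋙ singleFunctor (ModuleCat.{u} R) (-n))
      ((singleFunctor (ModuleCat.{u} R) (-n)).mapCocone c) j ≫ (eG.app c.pt).hom =
      (Functor.isoWhiskerLeft F eG).hom.app j ≫ cι (Gn F n) (cn F c n) j := by
    intro j
    exact eG.hom.naturality (c.ι.app j)
  let ept : ((singleFunctor (ModuleCat.{u} R) (-n)).mapCocone c).pt ≅ (cn F c n).pt := eG.app c.pt
  have hcomp' : ∀ j, cι (F ⋙ singleFunctor (ModuleCat.{u} R) (-n))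
      ((singleFunctor (ModuleCat.{u} R) (-n)).mapCocone c) j ≫ ept.hom =
      (Functor.isoWhiskerLeft F eG).hom.app j ≫ cι (Gn F n) (cn F c n) j := hcomp
  exact ⟨(h.1.of_natIso (G' := Gn F n) (c' := cn F c n) (Functor.isoWhiskerLeft F eG) ept
    hcomp').of_iso eX,
    (h.2.of_natIso (G' := Gn F n) (c' := cn F c n) (Functor.isoWhiskerLeft F eG) ept
    hcomp').of_iso eX⟩

include hc in
lemma bij_perfect (n : ℤ) (E : CochainComplex (ModuleCat.{u} R) ℤ) (a b : ℤ)
    (hE : ∀ i : ℤ, i < a ∨ b < i → IsZero (E.X i)) (hfree : ∀ i, FinFree (E.X i)) :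
    Bij (Gn F n) (cn F c n) (Q.obj E) := by
  have : Nonempty J := IsFiltered.nonempty
  let P : ObjectProperty (DerivedCategory (ModuleCat.{u} R)) := fun X => Bij (Gn F n) (cn F c n) X
  have : P.IsClosedUnderIsomorphisms := ⟨fun e h => Bij.of_iso h e⟩
  refine Stupid.induction_bounded P (fun T hT h1 h3 => Bij.obj₂ T hT h1 h3) ?_ (b + 1 - a).toNat E a
    ?_ (fun i => bij_single F c hc n i _ (hfree i))
  · intro Z hZ k
    have hz : IsZero (Z⟦k⟧) := Functor.map_isZero _ hZ
    exact ⟨surj_of_hom_eq_zero _ (fun x => hz.eq_of_src _ _),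
      inj_of_hom_eq_zero _ (fun j y => hz.eq_of_src _ _)⟩
  · intro i hi
    refine hE i ?_
    rcases hi with hi | hi
    · exact Or.inl hi
    · right
      have := Int.self_le_toNat (b + 1 - a)
      omega

include hc in
/-- S6999 in `IsPC` form. -/
theorem filtered_comparison (m : ℤ) (K : DerivedCategory (ModuleCat.{u} R))
    (hK : IsPC (FinFree (R := R)) m K) (n : ℤ) :
    (n < -m → Surj (Gn F n) (cn F c n) K) ∧ (n ≤ -m → Inj (Gn F n) (cn F c n) K) := by
  have : Nonempty J := IsFiltered.nonempty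
  obtain ⟨E, a, b, α, h1, h2, h3, h4⟩ := hK
  obtain ⟨Z, g, h, hT⟩ := distinguished_cocone_triangle α
  have hZ : TStructure.t.IsLE (Triangle.mk α g h).obj₃ (m - 1) :=
    (good_iff_isLE _ hT m (m - 1) (by omega)).1 ⟨h3, h4⟩
  have hZ' : TStructure.t.IsLE ((Triangle.mk α g h).obj₃⟦(-1 : ℤ)⟧) m :=
    TStructure.t.isLE_shift _ (m - 1) (-1) m (by omega)
  have hP := bij_perfect F c hc n E a b h1 h2
  have hP0 : Surj (Gn F n) (cn F c n) (Q.obj E) ∧ Inj (Gn F n) (cn F c n) (Q.obj E) :=
    ⟨(hP 0).1.of_iso ((shiftFunctorZero _ ℤ).app _), (hP 0).2.of_iso ((shiftFunctorZero _ ℤ).app _)⟩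
  have hGE : ∀ M : ModuleCat.{u} R, (((singleFunctor (ModuleCat.{u} R) 0).obj M)⟦n⟧).IsGE (-n) :=
    fun M => TStructure.t.isGE_shift _ 0 n (-n) (by omega)
  constructor
  · intro hn
    refine surj_obj₂ _ hT hP0.1 ?_ ?_
    · refine surj_of_hom_eq_zero _ (fun x => ?_)
      have : TStructure.t.IsGE (cn F c n).pt (-n) := hGE c.pt
      exact TStructure.t.zero x (m - 1) (-n) (by omega)
    · refine inj_of_hom_eq_zero _ (fun j y => ?_)
      have : TStructure.t.IsGE ((Gn F n).obj j) (-n) := hGE (F.obj j)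
      exact TStructure.t.zero y m (-n) (by omega)
  · intro hn
    refine inj_obj₂ _ hT hP0.2 ?_ (hP 1).1
    refine inj_of_hom_eq_zero _ (fun j y => ?_)
    have : TStructure.t.IsGE ((Gn F n).obj j) (-n) := hGE (F.obj j)
    exact TStructure.t.zero y (m - 1) (-n) (by omega)

end Derived

end Groth.Agent.Lib.Helper16.FilHomMod
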