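import Mathlib
import Groth.Prelude.Def_Wider
import Groth.Agent.Lib.helper11.FinLenArt
import Groth.Agent.Lib.Helper8.Dim2

/-!
# Self-equivalences of the category of finite length modules (helper16) — part 1: basic API
-/

set_option autoImplicit false

namespace Groth.Agent.Lib.Helper16.FinLenEq

open CategoryTheory IsLocalRing

universe u

variable {A : Type u} [CommRing A]

/-- underlying linear map of a morphism of finite length modules -/
def lin {X Y : Dual.FinLen A} (f : X ⟶ Y) : X.obj →ₗ[A] Y.obj := f.hom.hom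

/-- morphism from a linear map -/
def mkHom {X Y : Dual.FinLen A} (f : X.obj →ₗ[A] Y.obj) : X ⟶ Y :=
  ObjectProperty.homMk (ModuleCat.ofHom f)

@[simp] lemma lin_mkHom {X Y : Dual.FinLen A} (f : X.obj →ₗ[A] Y.obj) : lin (mkHom f) = f := rfl

@[simp] lemma mkHom_lin {X Y : Dual.FinLen A} (f : X ⟶ Y) : mkHom (lin f) = f := rfl

lemma lin_injective {X Y : Dual.FinLen A} : Function.Injective (lin : (X ⟶ Y) → _) := by
  intro f g h
  have : mkHom (lin f) = mkHom (lin g) := by rw [h]
  simpa using this

@[simp] lemma lin_comp {X Y Z : Dual.FinLen A} (f : X ⟶ Y) (g : Y ⟶ Z) :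
    lin (f ≫ g) = (lin g).comp (lin f) := rfl

@[simp] lemma lin_id (X : Dual.FinLen A) : lin (𝟙 X) = LinearMap.id := rfl

@[simp] lemma lin_zero (X Y : Dual.FinLen A) : lin (0 : X ⟶ Y) = 0 := rfl

@[simp] lemma lin_add {X Y : Dual.FinLen A} (f g : X ⟶ Y) : lin (f + g) = lin f + lin g := rfl

@[simp] lemma lin_smul {X Y : Dual.FinLen A} (a : A) (f : X ⟶ Y) : lin (a • f) = a • lin f := rfl

lemma lin_comp_apply {X Y Z : Dual.FinLen A} (f : X ⟶ Y) (g : Y ⟶ Z) (x : X.obj) :
    lin (f ≫ g) x = lin g (lin f x) := rfl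

/-- object from a finite length module -/
def mkObj (M : Type u) [AddCommGroup M] [Module A M] (h : IsFiniteLength A M) : Dual.FinLen A :=
  ⟨ModuleCat.of A M, h⟩

/-- epimorphisms of finite length modules are the surjective maps -/
lemma epi_iff_surjective {X Y : Dual.FinLen A} (f : X ⟶ Y) :
    Epi f ↔ Function.Surjective (lin f) := by
  constructor
  · intro hf
    have hY : IsFiniteLength A Y.obj := Y.property
    have hQ : IsFiniteLength A (Y.obj ⧸ LinearMap.range (lin f)) := by
      rw [isFiniteLength_iff_isNoetherian_isArtinian] at hY ⊢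
      obtain ⟨h1, h2⟩ := hY
      exact ⟨inferInstance, inferInstance⟩
    let Z : Dual.FinLen A := mkObj (Y.obj ⧸ LinearMap.range (lin f)) hQ
    let q : Y ⟶ Z := mkHom (LinearMap.range (lin f)).mkQ
    have h0 : f ≫ q = f ≫ 0 := by
      apply lin_injective
      ext x
      change (LinearMap.range (lin f)).mkQ (lin f x) = 0
      rw [Submodule.mkQ_apply, Submodule.Quotient.mk_eq_zero]
      exact LinearMap.mem_range_self _ _
    have h1 : q = 0 := (cancel_epi f).1 h0
    rw [← LinearMap.range_eq_top]
    rw [← Submodule.ker_mkQ (LinearMap.range (lin f))]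
    have h2 : (LinearMap.range (lin f)).mkQ = 0 := congrArg lin h1
    rw [h2, LinearMap.ker_zero]
  · intro hf
    constructor
    intro Z g h hgh
    apply lin_injective
    have h1 : (lin g).comp (lin f) = (lin h).comp (lin f) := congrArg lin hgh
    exact LinearMap.cancel_right hf |>.1 h1

end Groth.Agent.Lib.Helper16.FinLenEq
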