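import Mathlib

/-!
# Self-equivalences of the category of finite length modules (helper16) — part 2: module lemmas
-/

set_option autoImplicit false

namespace Groth.Agent.Lib.Helper16.FinLenEq

open IsLocalRing

universe u

variable {A : Type u} [CommRing A]

lemma mk_mul_eq_smul (I : Ideal A) (b c : A) :
    Ideal.Quotient.mk I (b * c) = b • Ideal.Quotient.mk I c := rfl

lemma mk_eq_smul_one (I : Ideal A) (b : A) :
    Ideal.Quotient.mk I b = b • Ideal.Quotient.mk I 1 := by
  rw [← mk_mul_eq_smul, mul_one]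

/-- every `A`-linear endomorphism of a cyclic module `A ⧸ I` is a scalar -/
lemma end_quotient_scalar (I : Ideal A) (ψ : (A ⧸ I) →ₗ[A] (A ⧸ I)) :
    ∃ a : A, ∀ x, ψ x = a • x := by
  obtain ⟨a, ha⟩ := Ideal.Quotient.mk_surjective (ψ (Ideal.Quotient.mk I 1))
  refine ⟨a, fun x => ?_⟩
  obtain ⟨b, rfl⟩ := Ideal.Quotient.mk_surjective x
  rw [mk_eq_smul_one I b, map_smul, ← ha, smul_comm, mk_eq_smul_one I a]

/-- maps out of `A ⧸ I` agreeing at `1` agree -/
lemma quotient_hom_ext {M : Type*} [AddCommGroup M] [Module A M] (I : Ideal A)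
    (f g : (A ⧸ I) →ₗ[A] M) (h : f (Ideal.Quotient.mk I 1) = g (Ideal.Quotient.mk I 1)) :
    f = g := by
  apply LinearMap.ext
  intro x
  obtain ⟨b, rfl⟩ := Ideal.Quotient.mk_surjective x
  rw [mk_eq_smul_one I b, map_smul, map_smul, h]

variable [IsLocalRing A]

/-- a nonzero module killed by the maximal ideal all of whose endomorphisms are scalars
is generated by any nonzero element -/
lemma cyclic_of_end_scalar (V : Type*) [AddCommGroup V] [Module A V]
    (hm : ∀ a ∈ maximalIdeal A, ∀ v : V, a • v = 0)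
    (hend : ∀ T : V →ₗ[A] V, ∃ a : A, ∀ v, T v = a • v)
    (y : V) (hy : y ≠ 0) (x : V) : ∃ a : A, x = a • y := by
  have htors : Module.IsTorsionBySet A V (maximalIdeal A : Set A) := by
    intro v a
    exact hm a.1 a.2 v
  letI : Module (ResidueField A) V := Module.IsTorsionBySet.module htors
  haveI : IsScalarTower A (ResidueField A) V := Module.IsTorsionBySet.isScalarTower htors
  let f : ResidueField A →ₗ[ResidueField A] V := LinearMap.toSpanSingleton (ResidueField A) V y
  have hf : LinearMap.ker f = ⊥ := by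
    rw [LinearMap.ker_eq_bot']
    intro c hc
    by_contra hc0
    apply hy
    have : c⁻¹ • (c • y) = 0 := by
      have : c • y = 0 := hc
      rw [this, smul_zero]
    rwa [smul_smul, inv_mul_cancel₀ hc0, one_smul] at this
  obtain ⟨g, hg⟩ := LinearMap.exists_leftInverse_of_injective f hf
  have hgy : g y = 1 := by
    have := LinearMap.congr_fun hg 1
    simp [f] at this
    exact this
  let T : V →ₗ[A] V :=
    ((LinearMap.toSpanSingleton (ResidueField A) V x).comp g).restrictScalars A
  obtain ⟨a, ha⟩ := hend T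
  refine ⟨a, ?_⟩
  rw [← ha y]
  change x = (LinearMap.toSpanSingleton (ResidueField A) V x) (g y)
  rw [hgy]
  simp

/-- a submodule of `A ⧸ m^(n+1)` containing an element mapping to `1` in `A ⧸ m` is everything -/
lemma eq_top_of_mem_one (I : Ideal A) (hI : I ≤ maximalIdeal A) (N : Submodule A (A ⧸ I))
    (h : ∃ b : A, Ideal.Quotient.mk I b ∈ N ∧ b - 1 ∈ maximalIdeal A) : N = ⊤ := by
  obtain ⟨b, hbN, hb⟩ := h
  have hu : IsUnit b := by
    by_contra hnu
    have h1 : b ∈ maximalIdeal A := (mem_maximalIdeal b).2 hnu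
    have h2 : (1 : A) ∈ maximalIdeal A := by
      have := (maximalIdeal A).sub_mem h1 hb
      simpa using this
    exact (maximalIdeal.isMaximal A).ne_top ((Ideal.eq_top_iff_one _).2 h2)
  obtain ⟨c, hc⟩ := hu.exists_left_inv
  rw [eq_top_iff]
  intro x _
  obtain ⟨d, rfl⟩ := Ideal.Quotient.mk_surjective x
  have h1 : Ideal.Quotient.mk I d = (d * c) • Ideal.Quotient.mk I b := by
    rw [← mk_mul_eq_smul, mul_assoc, hc, mul_one]
  rw [h1]
  exact N.smul_mem _ hbN

end Groth.Agent.Lib.Helper16.FinLenEq
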