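import Mathlib
import Groth.Agent.Lib.Helper16.FinLenEq1
import Groth.Agent.Lib.Helper16.FinLenEq2

/-!
# Self-equivalences of the category of finite length modules (helper16) — part 3
-/

set_option autoImplicit false

namespace Groth.Agent.Lib.Helper16.FinLenEq

open CategoryTheory IsLocalRing

universe u

variable {A : Type u} [CommRing A] [IsLocalRing A] [IsNoetherianRing A]

/-- `M` is killed by `m^(n+1)` -/
def Kil (n : ℕ) (M : Dual.FinLen A) : Prop :=
  ∀ a ∈ maximalIdeal A ^ (n + 1), ∀ x : M.obj, a • x = 0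

lemma Kil.of_le {n k : ℕ} (h : n ≤ k) {M : Dual.FinLen A} (hM : Kil n M) : Kil k M :=
  fun a ha x => hM a (Ideal.pow_le_pow_right (Nat.succ_le_succ h) ha) x

variable (A) in
/-- `Q n = A ⧸ m^(n+1)` -/
noncomputable def Q (n : ℕ) : Dual.FinLen A :=
  mkObj (A ⧸ maximalIdeal A ^ (n + 1))
    (Groth.Agent.Lib.Helper8.Bidual.isFiniteLength_of_killed_pow _ (n + 1) (by
      intro a ha x
      obtain ⟨b, rfl⟩ := Ideal.Quotient.mk_surjective x
      rw [← mk_mul_eq_smul]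
      exact Ideal.Quotient.eq_zero_iff_mem.2 (Ideal.mul_mem_right _ _ ha)))

/-- the element `1` of `Q n` -/
noncomputable def one (n : ℕ) : (Q A n).obj := Ideal.Quotient.mk (maximalIdeal A ^ (n + 1)) 1

lemma kil_Q (n : ℕ) : Kil n (Q A n) := by
  intro a ha x
  obtain ⟨b, rfl⟩ := Ideal.Quotient.mk_surjective x
  change a • Ideal.Quotient.mk (maximalIdeal A ^ (n + 1)) b = 0
  rw [← mk_mul_eq_smul]
  exact Ideal.Quotient.eq_zero_iff_mem.2 (Ideal.mul_mem_right _ _ ha)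

lemma exists_smul_one (n : ℕ) (x : (Q A n).obj) : ∃ b : A, x = b • one n := by
  obtain ⟨b, rfl⟩ := Ideal.Quotient.mk_surjective x
  exact ⟨b, mk_eq_smul_one _ b⟩

lemma smul_one_eq_zero_iff (n : ℕ) (a : A) :
    a • (one n : (Q A n).obj) = 0 ↔ a ∈ maximalIdeal A ^ (n + 1) := by
  change a • Ideal.Quotient.mk (maximalIdeal A ^ (n + 1)) 1 = 0 ↔ _
  rw [← mk_eq_smul_one, Ideal.Quotient.eq_zero_iff_mem]

/-- the map `Q n ⟶ M`, `1 ↦ x` -/
noncomputable def fx (n : ℕ) (M : Dual.FinLen A) (hM : Kil n M) (x : M.obj) : Q A n ⟶ M :=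
  mkHom (Submodule.liftQ (maximalIdeal A ^ (n + 1)) (LinearMap.toSpanSingleton A M.obj x) (by
    intro a ha
    rw [LinearMap.mem_ker, LinearMap.toSpanSingleton_apply]
    exact hM a ha x))

@[simp] lemma fx_one (n : ℕ) (M : Dual.FinLen A) (hM : Kil n M) (x : M.obj) :
    lin (fx n M hM x) (one n) = x := by
  change (Submodule.liftQ _ _ _) (Submodule.Quotient.mk 1) = x
  rw [Submodule.liftQ_apply, LinearMap.toSpanSingleton_apply, one_smul]

lemma hom_ext_one {n : ℕ} {M : Dual.FinLen A} (f g : Q A n ⟶ M)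
    (h : lin f (one n) = lin g (one n)) : f = g :=
  lin_injective (quotient_hom_ext _ _ _ h)

lemma fx_unique (n : ℕ) (M : Dual.FinLen A) (hM : Kil n M) (f : Q A n ⟶ M) :
    f = fx n M hM (lin f (one n)) :=
  hom_ext_one _ _ (by rw [fx_one])

lemma fx_comp (n : ℕ) {M N : Dual.FinLen A} (hM : Kil n M) (hN : Kil n N) (x : M.obj)
    (f : M ⟶ N) : fx n M hM x ≫ f = fx n N hN (lin f x) :=
  hom_ext_one _ _ (by rw [lin_comp_apply, fx_one, fx_one])

lemma fx_add (n : ℕ) (M : Dual.FinLen A) (hM : Kil n M) (x y : M.obj) :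
    fx n M hM (x + y) = fx n M hM x + fx n M hM y :=
  hom_ext_one _ _ (by rw [lin_add, LinearMap.add_apply, fx_one, fx_one, fx_one])

lemma fx_smul (n : ℕ) (M : Dual.FinLen A) (hM : Kil n M) (a : A) (x : M.obj) :
    fx n M hM (a • x) = a • fx n M hM x :=
  hom_ext_one _ _ (by rw [lin_smul, LinearMap.smul_apply, fx_one, fx_one])

/-- the projection `Q n ⟶ Q 0` -/
noncomputable def π (n : ℕ) : Q A n ⟶ Q A 0 := fx n (Q A 0) ((kil_Q 0).of_le (Nat.zero_le n)) (one 0)

/-- the transition map `Q (n+1) ⟶ Q n` -/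
noncomputable def tr (n : ℕ) : Q A (n + 1) ⟶ Q A n :=
  fx (n + 1) (Q A n) ((kil_Q n).of_le (Nat.le_succ n)) (one n)

lemma tr_π (n : ℕ) : tr n ≫ π n = (π (n + 1) : Q A (n + 1) ⟶ Q A 0) :=
  hom_ext_one _ _ (by simp only [lin_comp_apply, tr, π, fx_one])

lemma π_zero : (π 0 : Q A 0 ⟶ Q A 0) = 𝟙 _ :=
  hom_ext_one _ _ (by simp only [π, fx_one, lin_id, LinearMap.id_apply])

lemma tr_surjective (n : ℕ) : Function.Surjective (lin (tr n : Q A (n + 1) ⟶ Q A n)) := by
  intro x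
  obtain ⟨b, rfl⟩ := exists_smul_one n x
  exact ⟨b • one (n + 1), by rw [map_smul, tr, fx_one]⟩

lemma tr_fx (n : ℕ) (M : Dual.FinLen A) (hM : Kil n M) (x : M.obj) :
    tr n ≫ fx n M hM x = fx (n + 1) M (hM.of_le (Nat.le_succ n)) x :=
  hom_ext_one _ _ (by simp only [lin_comp_apply, tr, fx_one])

section G

variable (G : Dual.FinLen A ⥤ Dual.FinLen A) [G.Additive] [G.Linear A]

lemma smul_id_map (M : Dual.FinLen A) (a : A) : G.map (a • 𝟙 M) = a • 𝟙 (G.obj M) := by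
  rw [Functor.map_smul, G.map_id]

lemma smul_id_eq_zero_iff (M : Dual.FinLen A) (a : A) :
    a • 𝟙 M = 0 ↔ ∀ x : M.obj, a • x = 0 := by
  constructor
  · intro h x
    have := congrArg (fun f => lin f x) h
    simpa using this
  · intro h
    apply lin_injective
    apply LinearMap.ext
    intro x
    simpa using h x

lemma smul_obj_eq_zero (M : Dual.FinLen A) (a : A) (h : ∀ x : M.obj, a • x = 0)
    (y : (G.obj M).obj) : a • y = 0 := by
  have h1 : a • 𝟙 M = 0 := (smul_id_eq_zero_iff M a).2 h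
  have h2 : a • 𝟙 (G.obj M) = 0 := by rw [← smul_id_map, h1, G.map_zero]
  exact (smul_id_eq_zero_iff _ a).1 h2 y

lemma Kil.map {n : ℕ} {M : Dual.FinLen A} (hM : Kil n M) : Kil n (G.obj M) :=
  fun a ha y => smul_obj_eq_zero G M a (hM a ha) y

lemma smul_eq_zero_of_obj [G.Faithful] (M : Dual.FinLen A) (a : A)
    (h : ∀ y : (G.obj M).obj, a • y = 0) (x : M.obj) : a • x = 0 := by
  have h2 : a • 𝟙 (G.obj M) = 0 := (smul_id_eq_zero_iff _ a).2 h
  have h1 : a • 𝟙 M = 0 := by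
    apply G.map_injective
    rw [smul_id_map, h2, G.map_zero]
  exact (smul_id_eq_zero_iff M a).1 h1 x

end G

end Groth.Agent.Lib.Helper16.FinLenEq
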