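import Mathlib
import Groth.Agent.Lib.Helper16.FinLenEq3

/-!
# Self-equivalences of the category of finite length modules (helper16) — part 4
-/

set_option autoImplicit false

namespace Groth.Agent.Lib.Helper16.FinLenEq

open CategoryTheory IsLocalRing

universe u

variable {A : Type u} [CommRing A] [IsLocalRing A] [IsNoetherianRing A]

variable (G : Dual.FinLen A ⥤ Dual.FinLen A) [G.Additive] [G.Linear A] [G.IsEquivalence]

/-- every endomorphism of `G (A/m)` is a scalar -/
lemma end_P0_scalar (T : (G.obj (Q A 0)).obj →ₗ[A] (G.obj (Q A 0)).obj) :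
    ∃ a : A, ∀ v, T v = a • v := by
  obtain ⟨ψ, hψ⟩ := G.map_surjective (mkHom T)
  obtain ⟨a, ha⟩ := end_quotient_scalar (maximalIdeal A ^ (0 + 1)) (lin ψ)
  have h1 : ψ = a • 𝟙 (Q A 0) := by
    apply lin_injective
    apply LinearMap.ext
    intro x
    rw [lin_smul, LinearMap.smul_apply, lin_id, LinearMap.id_apply]
    exact ha x
  refine ⟨a, fun v => ?_⟩
  have h2 : mkHom T = a • 𝟙 (G.obj (Q A 0)) := by rw [← hψ, h1, smul_id_map]
  have := congrArg (fun f => lin f v) h2
  simpa using this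

lemma exists_ne_zero_P0 : ∃ g : (G.obj (Q A 0)).obj, g ≠ 0 := by
  by_contra hcon
  push Not at hcon
  have h1 : ∀ y : (G.obj (Q A 0)).obj, (1 : A) • y = 0 := fun y => by rw [hcon y, smul_zero]
  have h2 := smul_eq_zero_of_obj G (Q A 0) 1 h1 (one 0)
  rw [smul_one_eq_zero_iff] at h2
  have h3 : (1 : A) ∈ maximalIdeal A := by simpa using h2
  exact (maximalIdeal.isMaximal A).ne_top ((Ideal.eq_top_iff_one _).2 h3)

lemma P0_cyclic (g : (G.obj (Q A 0)).obj) (hg : g ≠ 0) (x : (G.obj (Q A 0)).obj) :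
    ∃ a : A, x = a • g :=
  cyclic_of_end_scalar _ (fun a ha v => (kil_Q 0).map G a (by simpa using ha) v)
    (end_P0_scalar G) g hg x

lemma eq_top_of_mem_one' (n : ℕ) (N : Submodule A (Q A n).obj)
    (h : ∃ b : A, b • one n ∈ N ∧ b - 1 ∈ maximalIdeal A) : N = ⊤ := by
  obtain ⟨b, h1, h2⟩ := h
  exact eq_top_of_mem_one (maximalIdeal A ^ (n + 1)) (Ideal.pow_le_self (Nat.succ_ne_zero n)) N
    ⟨b, by rw [mk_eq_smul_one]; exact h1, h2⟩

/-- an element of `G (Q n)` mapping to a generator of `G (Q 0)` is a generator -/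
lemma surjective_fx_of_map_gen (n : ℕ) (e : (G.obj (Q A n)).obj) (g : (G.obj (Q A 0)).obj)
    (hg : ∀ x, ∃ a : A, x = a • g) (he : lin (G.map (π n)) e = g) :
    Function.Surjective (lin (fx n (G.obj (Q A n)) ((kil_Q n).map G) e)) := by
  set f := fx n (G.obj (Q A n)) ((kil_Q n).map G) e with hf
  let ε := G.objObjPreimageIso (Q A n)
  let f' : G.objPreimage (Q A n) ⟶ Q A n := G.preimage (ε.hom ≫ f)
  have hf' : G.map f' = ε.hom ≫ f := G.map_preimage _
  have h1 : Epi (f ≫ G.map (π n)) := by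
    rw [epi_iff_surjective]
    intro x
    obtain ⟨a, rfl⟩ := hg x
    refine ⟨a • one n, ?_⟩
    rw [map_smul, lin_comp_apply, hf, fx_one, he]
  have h2 : Epi (G.map (f' ≫ π n)) := by
    rw [G.map_comp, hf', Category.assoc]
    exact epi_comp _ _
  have h3 : Epi (f' ≫ π n) := G.epi_of_epi_map h2
  have h4 : Function.Surjective (lin f') := by
    rw [← LinearMap.range_eq_top]
    obtain ⟨z, hz⟩ := (epi_iff_surjective _).1 h3 (one 0)
    obtain ⟨b, hb⟩ := exists_smul_one n (lin f' z)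
    have hb1 : b • one n ∈ LinearMap.range (lin f') :=
      LinearMap.mem_range.2 ⟨z, hb⟩
    have hb2 : b - 1 ∈ maximalIdeal A := by
      rw [lin_comp_apply] at hz
      rw [hb, map_smul, π, fx_one] at hz
      have h6 : (b - 1) • (one 0 : (Q A 0).obj) = 0 := by rw [sub_smul, hz, one_smul, sub_self]
      rw [smul_one_eq_zero_iff] at h6
      simpa using h6
    exact eq_top_of_mem_one' n (LinearMap.range (lin f')) ⟨b, hb1, hb2⟩
  have h5 : Epi f' := (epi_iff_surjective _).2 h4
  have h6 : Epi (ε.hom ≫ f) := by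
    rw [← hf']
    infer_instance
  have h7 : Epi f := epi_of_epi ε.hom f
  exact (epi_iff_surjective _).1 h7

/-- a generator of `G (Q n)` has annihilator `m^(n+1)` -/
lemma injective_fx_of_surjective (n : ℕ) (e : (G.obj (Q A n)).obj)
    (hs : Function.Surjective (lin (fx n (G.obj (Q A n)) ((kil_Q n).map G) e))) :
    Function.Injective (lin (fx n (G.obj (Q A n)) ((kil_Q n).map G) e)) := by
  rw [← LinearMap.ker_eq_bot, LinearMap.ker_eq_bot']
  intro z hz
  obtain ⟨a, rfl⟩ := exists_smul_one n z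
  rw [map_smul, fx_one] at hz
  have h1 : ∀ y : (G.obj (Q A n)).obj, a • y = 0 := by
    intro y
    obtain ⟨w, rfl⟩ := hs y
    obtain ⟨b, rfl⟩ := exists_smul_one n w
    rw [map_smul, fx_one, smul_comm, hz, smul_zero]
  exact smul_eq_zero_of_obj G (Q A n) a h1 (one n)

end Groth.Agent.Lib.Helper16.FinLenEq
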