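import Mathlib
import Groth.Agent.Lib.Helper16.FinLenEq4

/-!
# Self-equivalences of the category of finite length modules (helper16) — part 5
-/

set_option autoImplicit false

namespace Groth.Agent.Lib.Helper16.FinLenEq

open CategoryTheory IsLocalRing

universe u

variable {A : Type u} [CommRing A] [IsLocalRing A] [IsNoetherianRing A]

variable (G : Dual.FinLen A ⥤ Dual.FinLen A) [G.Additive] [G.Linear A] [G.IsEquivalence]

/-- a compatible system of generators of the `G (Q n)` -/
structure Sys where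
  e : ∀ n, (G.obj (Q A n)).obj
  hes : ∀ n, lin (G.map (tr n)) (e (n + 1)) = e n
  hgen : ∀ n, Function.Bijective (lin (fx n (G.obj (Q A n)) ((kil_Q n).map G) (e n)))

lemma map_tr_surjective (n : ℕ) : Function.Surjective (lin (G.map (tr n : Q A (n + 1) ⟶ Q A n))) := by
  rw [← epi_iff_surjective]
  haveI : Epi (tr n : Q A (n + 1) ⟶ Q A n) := (epi_iff_surjective _).2 (tr_surjective n)
  infer_instance

lemma nonempty_sys : Nonempty (Sys G) := by
  obtain ⟨g, hg⟩ := exists_ne_zero_P0 G
  let e : ∀ n, (G.obj (Q A n)).obj := fun n =>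
    Nat.rec (motive := fun n => (G.obj (Q A n)).obj) g
      (fun n en => (map_tr_surjective G n en).choose) n
  have hes : ∀ n, lin (G.map (tr n)) (e (n + 1)) = e n := fun n =>
    (map_tr_surjective G n (e n)).choose_spec
  have he0 : ∀ n, lin (G.map (π n)) (e n) = g := by
    intro n
    induction n with
    | zero => rw [π_zero, G.map_id, lin_id, LinearMap.id_apply]; rfl
    | succ n ih => rw [← tr_π, G.map_comp, lin_comp_apply, hes, ih]
  have hsurj : ∀ n, Function.Surjective (lin (fx n (G.obj (Q A n)) ((kil_Q n).map G) (e n))) :=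
    fun n => surjective_fx_of_map_gen G n (e n) g (P0_cyclic G g hg) (he0 n)
  exact ⟨⟨e, hes, fun n => ⟨injective_fx_of_surjective G n (e n) (hsurj n), hsurj n⟩⟩⟩

variable {G}

/-- the comparison map `M → G M` -/
noncomputable def θ (S : Sys G) (n : ℕ) (M : Dual.FinLen A) (hM : Kil n M) :
    M.obj →ₗ[A] (G.obj M).obj where
  toFun x := lin (G.map (fx n M hM x)) (S.e n)
  map_add' x y := by rw [fx_add, G.map_add, lin_add, LinearMap.add_apply]
  map_smul' a x := by rw [fx_smul, G.map_smul, lin_smul, LinearMap.smul_apply, RingHom.id_apply]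

lemma θ_apply (S : Sys G) (n : ℕ) (M : Dual.FinLen A) (hM : Kil n M) (x : M.obj) :
    θ S n M hM x = lin (G.map (fx n M hM x)) (S.e n) := rfl

lemma θ_succ (S : Sys G) (n : ℕ) (M : Dual.FinLen A) (hM : Kil n M) :
    θ S (n + 1) M (hM.of_le (Nat.le_succ n)) = θ S n M hM := by
  apply LinearMap.ext
  intro x
  rw [θ_apply, θ_apply, ← tr_fx n M hM x, G.map_comp, lin_comp_apply, S.hes]

lemma θ_add (S : Sys G) (n k : ℕ) (M : Dual.FinLen A) (hM : Kil n M) :
    θ S (n + k) M (hM.of_le (Nat.le_add_right n k)) = θ S n M hM := by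
  induction k with
  | zero => rfl
  | succ k ih => rw [← ih]; exact θ_succ S (n + k) M _

lemma θ_of_le (S : Sys G) {n k : ℕ} (h : n ≤ k) (M : Dual.FinLen A) (hM : Kil n M) :
    θ S k M (hM.of_le h) = θ S n M hM := by
  obtain ⟨j, rfl⟩ := Nat.exists_eq_add_of_le h
  exact θ_add S n j M hM

lemma θ_natural (S : Sys G) (n : ℕ) {M N : Dual.FinLen A} (hM : Kil n M) (hN : Kil n N)
    (f : M ⟶ N) (x : M.obj) : lin (G.map f) (θ S n M hM x) = θ S n N hN (lin f x) := by
  rw [θ_apply, θ_apply, ← fx_comp n hM hN x f, G.map_comp, lin_comp_apply]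

lemma θ_injective (S : Sys G) (n : ℕ) (M : Dual.FinLen A) (hM : Kil n M) :
    Function.Injective (θ S n M hM) := by
  rw [← LinearMap.ker_eq_bot, LinearMap.ker_eq_bot']
  intro x hx
  rw [θ_apply] at hx
  have h1 : G.map (fx n M hM x) = 0 := by
    apply lin_injective
    apply LinearMap.ext
    intro y
    obtain ⟨w, rfl⟩ := (S.hgen n).2 y
    obtain ⟨b, rfl⟩ := exists_smul_one n w
    rw [map_smul, fx_one, map_smul, hx, smul_zero, lin_zero, LinearMap.zero_apply]
  have h2 : fx n M hM x = 0 := by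
    apply G.map_injective
    rw [h1, G.map_zero]
  have h3 := congrArg (fun f => lin f (one n)) h2
  simpa using h3

lemma θ_surjective (S : Sys G) (n : ℕ) (M : Dual.FinLen A) (hM : Kil n M) :
    Function.Surjective (θ S n M hM) := by
  intro y
  let Φ : (Q A n).obj ≃ₗ[A] (G.obj (Q A n)).obj := LinearEquiv.ofBijective _ (S.hgen n)
  have hΦ : Φ (one n) = S.e n := by
    change lin (fx n (G.obj (Q A n)) ((kil_Q n).map G) (S.e n)) (one n) = _
    rw [fx_one]
  let g' : G.obj (Q A n) ⟶ G.obj M :=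
    mkHom ((lin (fx n (G.obj M) (hM.map G) y)).comp Φ.symm.toLinearMap)
  have hg' : lin g' (S.e n) = y := by
    change lin (fx n (G.obj M) (hM.map G) y) (Φ.symm (S.e n)) = y
    rw [← hΦ, LinearEquiv.symm_apply_apply, fx_one]
  obtain ⟨h, hh⟩ := G.map_surjective g'
  refine ⟨lin h (one n), ?_⟩
  rw [θ_apply, ← fx_unique n M hM h, hh, hg']

variable (G)

/-- main theorem: an `A`-linear self-equivalence of finite length modules is isomorphic to the
identity. -/
theorem nonempty_iso_id : Nonempty (G ≅ 𝟭 (Dual.FinLen A)) := by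
  obtain ⟨S⟩ := nonempty_sys G
  have hex : ∀ M : Dual.FinLen A, ∃ n : ℕ, Kil n M := by
    intro M
    obtain ⟨n, hn⟩ :=
      Groth.Agent.Lib.helper11.FinLenArt.exists_pow_le_annihilator_of_isFiniteLength M.obj M.property
    refine ⟨n, fun a ha x => ?_⟩
    exact Module.mem_annihilator.1 (hn (Ideal.pow_le_pow_right (Nat.le_succ n) ha)) x
  let nn : Dual.FinLen A → ℕ := fun M => (hex M).choose
  have hnn : ∀ M, Kil (nn M) M := fun M => (hex M).choose_spec
  let η : ∀ M : Dual.FinLen A, M ≅ G.obj M := fun M =>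
    ObjectProperty.isoMk _ (LinearEquiv.ofBijective (θ S (nn M) M (hnn M))
      ⟨θ_injective S _ M _, θ_surjective S _ M _⟩).toModuleIso
  have hη : ∀ (M : Dual.FinLen A) (x : M.obj), lin (η M).hom x = θ S (nn M) M (hnn M) x :=
    fun M x => rfl
  refine ⟨(NatIso.ofComponents η ?_).symm⟩
  intro M N f
  apply lin_injective
  apply LinearMap.ext
  intro x
  change lin (η N).hom (lin f x) = lin (G.map f) (lin (η M).hom x)
  rw [hη, hη]
  have h1 := θ_of_le S (le_max_left (nn M) (nn N)) M (hnn M)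
  have h2 := θ_of_le S (le_max_right (nn M) (nn N)) N (hnn N)
  rw [← h1, ← h2, θ_natural]

end Groth.Agent.Lib.Helper16.FinLenEq
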