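import Groth.Prelude.Def_FibCat2

/-!
# Projections of 2-fibre products of categories fibred in groupoids (helper16)
-/

set_option autoImplicit false
set_option backward.isDefEq.respectTransparency false
set_option backward.isDefEq.respectTransparency.types false

universe v₅ u₅ v₄ u₄ v₃ u₃ v₂ u₂ v u

open CategoryTheory CategoryTheory.Limits

namespace Groth.Agent.Lib.Helper16.FpFibGrpd

section General

variable {C : Type u} [Category.{v} C] {𝒳 : Type u₂} [Category.{v₂} 𝒳] (p : 𝒳 ⥤ C)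

lemma isHomLift_id_of_eq {R R' : C} (h : R = R') {a b : 𝒳} (φ : a ⟶ b)
    [p.IsHomLift (𝟙 R) φ] : p.IsHomLift (𝟙 R') φ := by
  subst h; infer_instance

lemma base_eq_of_isHomLift {R S : C} {a b : 𝒳} (f f' : R ⟶ S) (φ : a ⟶ b)
    [p.IsHomLift f φ] [p.IsHomLift f' φ] : f = f' := by
  rw [IsHomLift.fac p f φ, IsHomLift.fac p f' φ]

lemma isStronglyCartesian_of_map {R S : C} {a b : 𝒳} (f : R ⟶ S) (φ : a ⟶ b)
    [p.IsHomLift f φ] (h : p.IsStronglyCartesian (p.map φ) φ) : p.IsStronglyCartesian f φ := by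
  subst_hom_lift p f φ
  exact h

/-- In a category fibred in groupoids, every morphism is strongly cartesian over anything it
lifts. -/
lemma FibGrpd.isStronglyCartesian (hp : FibCat.IsFibGrpd p) {R S : C} {a b : 𝒳} (f : R ⟶ S)
    (φ : a ⟶ b) [p.IsHomLift f φ] : p.IsStronglyCartesian f φ :=
  isStronglyCartesian_of_map p f φ (hp.isStronglyCartesian φ)

/-- In a category fibred in groupoids, every morphism over an isomorphism is an isomorphism. -/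
lemma FibGrpd.isIso_of_base_isIso (hp : FibCat.IsFibGrpd p) {R S : C} {a b : 𝒳} (f : R ⟶ S)
    (φ : a ⟶ b) [p.IsHomLift f φ] [IsIso f] : IsIso φ := by
  have := FibGrpd.isStronglyCartesian p hp f φ
  exact Functor.IsStronglyCartesian.isIso_of_base_isIso p f φ

/-- Lifts with a prescribed (propositionally equal) base. -/
lemma FibGrpd.exists_lift' (hp : FibCat.IsFibGrpd p) {x : 𝒳} {V S : C} (hS : p.obj x = S)
    (f : V ⟶ S) : ∃ (y : 𝒳) (φ : y ⟶ x), p.IsHomLift f φ := by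
  subst hS
  exact hp.exists_lift f

end General

section Fp

variable {C : Type u} [Category.{v} C]
variable {𝒳 : BasedCategory.{v₂, u₂} C} {𝒴 : BasedCategory.{v₃, u₃} C}
  {𝒵 : BasedCategory.{v₄, u₄} C}

open FibCat

/-- The second projection `𝒳 ×_𝒴 𝒵 ⟶ 𝒵` is fibred in groupoids when `𝒳`, `𝒴` are. -/
theorem isFibGrpd_fpSnd (h𝒳 : IsFibGrpd 𝒳.p) (h𝒴 : IsFibGrpd 𝒴.p) (F : 𝒳 ⥤ᵇ 𝒴) (G : 𝒵 ⥤ᵇ 𝒴) :
    IsFibGrpd (fpSnd F G).toFunctor := by
  constructor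
  · intro t V g
    have ht : 𝒴.p.IsHomLift (𝟙 (𝒳.p.obj t.obj.fst)) t.obj.iso.hom := t.property
    have hz : 𝒵.p.obj t.obj.snd = 𝒳.p.obj t.obj.fst :=
      (G.w_obj t.obj.snd).symm.trans
        (IsHomLift.codomain_eq 𝒴.p (𝟙 (𝒳.p.obj t.obj.fst)) t.obj.iso.hom)
    let u : 𝒵.p.obj V ⟶ 𝒵.p.obj t.obj.snd := 𝒵.p.map g
    obtain ⟨x', a, ha⟩ := FibGrpd.exists_lift' 𝒳.p h𝒳 (x := t.obj.fst) hz.symm u
    have h2' : 𝒵.p.IsHomLift u g := IsHomLift.map 𝒵.p g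
    have h3 : 𝒴.p.IsHomLift (𝟙 (𝒵.p.obj t.obj.snd)) t.obj.iso.hom :=
      isHomLift_id_of_eq 𝒴.p hz.symm t.obj.iso.hom
    have h4 : 𝒴.p.IsHomLift u (F.map a ≫ t.obj.iso.hom) := inferInstance
    have hcart : 𝒴.p.IsStronglyCartesian u (G.map g) :=
      FibGrpd.isStronglyCartesian 𝒴.p h𝒴 u (G.map g)
    obtain ⟨f'hom, ⟨hf'1, hf'2⟩, -⟩ :=
      Functor.IsStronglyCartesian.universal_property 𝒴.p u (G.map g) (𝟙 (𝒵.p.obj V)) u (by simp)
        (F.map a ≫ t.obj.iso.hom)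
    have hiso : IsIso f'hom := FibGrpd.isIso_of_base_isIso 𝒴.p h𝒴 (𝟙 (𝒵.p.obj V)) f'hom
    have hx' : 𝒳.p.obj x' = 𝒵.p.obj V := IsHomLift.domain_eq 𝒳.p u a
    let t' : (fp F G).obj := ⟨⟨x', V, asIso f'hom⟩, isHomLift_id_of_eq 𝒴.p hx'.symm f'hom⟩
    let m : t' ⟶ t := ObjectProperty.homMk ⟨a, g, hf'2.symm⟩
    exact ⟨t', m, IsHomLift.map (fpSnd F G).toFunctor m⟩
  · intro t' t m
    refine { toIsHomLift := IsHomLift.map (fpSnd F G).toFunctor m, universal_property' := ?_ }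
    intro t'' h m'' hm''
    have hb'' : h ≫ m.hom.snd = m''.hom.snd :=
      IsHomLift.eq_of_isHomLift (fpSnd F G).toFunctor (h ≫ (fpSnd F G).toFunctor.map m) m''
    have ht' : 𝒴.p.IsHomLift (𝟙 (𝒳.p.obj t'.obj.fst)) t'.obj.iso.hom := t'.property
    have ht'' : 𝒴.p.IsHomLift (𝟙 (𝒳.p.obj t''.obj.fst)) t''.obj.iso.hom := t''.property
    have e' : 𝒳.p.obj t'.obj.fst = 𝒵.p.obj t'.obj.snd :=
      ((G.w_obj t'.obj.snd).symm.trans
        (IsHomLift.codomain_eq 𝒴.p (𝟙 (𝒳.p.obj t'.obj.fst)) t'.obj.iso.hom)).symm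
    have e'' : 𝒳.p.obj t''.obj.fst = 𝒵.p.obj t''.obj.snd :=
      ((G.w_obj t''.obj.snd).symm.trans
        (IsHomLift.codomain_eq 𝒴.p (𝟙 (𝒳.p.obj t''.obj.fst)) t''.obj.iso.hom)).symm
    let g₀ : 𝒳.p.obj t''.obj.fst ⟶ 𝒳.p.obj t'.obj.fst :=
      eqToHom e'' ≫ 𝒵.p.map h ≫ eqToHom e'.symm
    have hg₀ : 𝒵.p.IsHomLift g₀ h := IsHomLift.of_fac 𝒵.p g₀ h e''.symm e'.symm rfl
    have hb_lift : 𝒵.p.IsHomLift (𝒳.p.map m.hom.fst) m.hom.snd := fp_isHomLift_snd F G m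
    have hb''_lift : 𝒵.p.IsHomLift (𝒳.p.map m''.hom.fst) m''.hom.snd := fp_isHomLift_snd F G m''
    have hbase : g₀ ≫ 𝒳.p.map m.hom.fst = 𝒳.p.map m''.hom.fst := by
      have h1 : 𝒵.p.IsHomLift (g₀ ≫ 𝒳.p.map m.hom.fst) (h ≫ m.hom.snd) := inferInstance
      rw [hb''] at h1
      exact base_eq_of_isHomLift 𝒵.p _ _ m''.hom.snd
    have ha_cart : 𝒳.p.IsStronglyCartesian (𝒳.p.map m.hom.fst) m.hom.fst :=
      h𝒳.isStronglyCartesian m.hom.fst
    obtain ⟨c, ⟨hc1, hc2⟩, hcu⟩ :=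
      Functor.IsStronglyCartesian.universal_property 𝒳.p (𝒳.p.map m.hom.fst) m.hom.fst g₀
        (𝒳.p.map m''.hom.fst) hbase.symm m''.hom.fst
    have hw : F.map c ≫ t'.obj.iso.hom = t''.obj.iso.hom ≫ G.map h := by
      have hGb : 𝒴.p.IsStronglyCartesian (𝒳.p.map m.hom.fst) (G.map m.hom.snd) :=
        FibGrpd.isStronglyCartesian 𝒴.p h𝒴 _ _
      have l1 : 𝒴.p.IsHomLift g₀ (F.map c ≫ t'.obj.iso.hom) := inferInstance
      have l2 : 𝒴.p.IsHomLift g₀ (t''.obj.iso.hom ≫ G.map h) := inferInstance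
      apply Functor.IsStronglyCartesian.ext 𝒴.p (𝒳.p.map m.hom.fst) (G.map m.hom.snd) g₀
      rw [Category.assoc, Category.assoc, ← m.hom.w, ← G.map_comp, hb'', ← m''.hom.w,
        ← Category.assoc, ← F.map_comp, hc2]
    let n : t'' ⟶ t' := ObjectProperty.homMk ⟨c, h, hw⟩
    refine ⟨n, ⟨IsHomLift.map (fpSnd F G).toFunctor n, ?_⟩, ?_⟩
    · apply ObjectProperty.hom_ext
      apply CategoricalPullback.hom_ext
      · exact hc2
      · exact hb''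
    · rintro n₂ ⟨hn1, hn2⟩
      have hd : h = n₂.hom.snd := IsHomLift.eq_of_isHomLift (fpSnd F G).toFunctor h n₂
      apply ObjectProperty.hom_ext
      apply CategoricalPullback.hom_ext
      · apply hcu
        refine ⟨?_, congrArg (fun k => k.hom.fst) hn2⟩
        have k1 : 𝒵.p.IsHomLift (𝒳.p.map n₂.hom.fst) n₂.hom.snd := fp_isHomLift_snd F G n₂
        rw [← hd] at k1
        have : 𝒳.p.map n₂.hom.fst = g₀ := base_eq_of_isHomLift 𝒵.p _ _ h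
        rw [← this]
        exact IsHomLift.map _ _
      · exact hd.symm

/-- The first projection `𝒵 ×_𝒴 𝒳 ⟶ 𝒵` is fibred in groupoids when `𝒳`, `𝒴` are. -/
theorem isFibGrpd_fpFst (h𝒳 : IsFibGrpd 𝒳.p) (h𝒴 : IsFibGrpd 𝒴.p) (G : 𝒵 ⥤ᵇ 𝒴) (F : 𝒳 ⥤ᵇ 𝒴) :
    IsFibGrpd (fpFst G F).toFunctor := by
  constructor
  · intro t V g
    have ht : 𝒴.p.IsHomLift (𝟙 (𝒵.p.obj t.obj.fst)) t.obj.iso.hom := t.property
    have hx : 𝒳.p.obj t.obj.snd = 𝒵.p.obj t.obj.fst :=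
      (F.w_obj t.obj.snd).symm.trans
        (IsHomLift.codomain_eq 𝒴.p (𝟙 (𝒵.p.obj t.obj.fst)) t.obj.iso.hom)
    let u : 𝒵.p.obj V ⟶ 𝒵.p.obj t.obj.fst := 𝒵.p.map g
    obtain ⟨x', a, ha⟩ := FibGrpd.exists_lift' 𝒳.p h𝒳 (x := t.obj.snd) hx u
    have h2' : 𝒵.p.IsHomLift u g := IsHomLift.map 𝒵.p g
    have h4 : 𝒴.p.IsHomLift u (G.map g ≫ t.obj.iso.hom) := inferInstance
    have hcart : 𝒴.p.IsStronglyCartesian u (F.map a) :=
      FibGrpd.isStronglyCartesian 𝒴.p h𝒴 u (F.map a)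
    obtain ⟨f'hom, ⟨hf'1, hf'2⟩, -⟩ :=
      Functor.IsStronglyCartesian.universal_property 𝒴.p u (F.map a) (𝟙 (𝒵.p.obj V)) u (by simp)
        (G.map g ≫ t.obj.iso.hom)
    have hiso : IsIso f'hom := FibGrpd.isIso_of_base_isIso 𝒴.p h𝒴 (𝟙 (𝒵.p.obj V)) f'hom
    let t' : (fp G F).obj := ⟨⟨V, x', asIso f'hom⟩, hf'1⟩
    let m : t' ⟶ t := ObjectProperty.homMk ⟨g, a, hf'2.symm⟩
    exact ⟨t', m, IsHomLift.map (fpFst G F).toFunctor m⟩
  · intro t' t m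
    refine { toIsHomLift := IsHomLift.map (fpFst G F).toFunctor m, universal_property' := ?_ }
    intro t'' h m'' hm''
    have hb'' : h ≫ m.hom.fst = m''.hom.fst :=
      IsHomLift.eq_of_isHomLift (fpFst G F).toFunctor (h ≫ (fpFst G F).toFunctor.map m) m''
    have ht' : 𝒴.p.IsHomLift (𝟙 (𝒵.p.obj t'.obj.fst)) t'.obj.iso.hom := t'.property
    have ht'' : 𝒴.p.IsHomLift (𝟙 (𝒵.p.obj t''.obj.fst)) t''.obj.iso.hom := t''.property
    let g₀ : 𝒵.p.obj t''.obj.fst ⟶ 𝒵.p.obj t'.obj.fst := 𝒵.p.map h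
    have hg₀ : 𝒵.p.IsHomLift g₀ h := IsHomLift.map 𝒵.p h
    have ha_lift : 𝒳.p.IsHomLift (𝒵.p.map m.hom.fst) m.hom.snd := fp_isHomLift_snd G F m
    have ha''_lift : 𝒳.p.IsHomLift (𝒵.p.map m''.hom.fst) m''.hom.snd := fp_isHomLift_snd G F m''
    have hbase : g₀ ≫ 𝒵.p.map m.hom.fst = 𝒵.p.map m''.hom.fst := by
      rw [← hb'', Functor.map_comp]
    have ha_cart : 𝒳.p.IsStronglyCartesian (𝒵.p.map m.hom.fst) m.hom.snd :=
      FibGrpd.isStronglyCartesian 𝒳.p h𝒳 _ _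
    obtain ⟨c, ⟨hc1, hc2⟩, hcu⟩ :=
      Functor.IsStronglyCartesian.universal_property 𝒳.p (𝒵.p.map m.hom.fst) m.hom.snd g₀
        (𝒵.p.map m''.hom.fst) hbase.symm m''.hom.snd
    have hw : G.map h ≫ t'.obj.iso.hom = t''.obj.iso.hom ≫ F.map c := by
      have hFa : 𝒴.p.IsStronglyCartesian (𝒵.p.map m.hom.fst) (F.map m.hom.snd) :=
        FibGrpd.isStronglyCartesian 𝒴.p h𝒴 _ _
      have l1 : 𝒴.p.IsHomLift g₀ (G.map h ≫ t'.obj.iso.hom) := inferInstance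
      have l2 : 𝒴.p.IsHomLift g₀ (t''.obj.iso.hom ≫ F.map c) := inferInstance
      apply Functor.IsStronglyCartesian.ext 𝒴.p (𝒵.p.map m.hom.fst) (F.map m.hom.snd) g₀
      rw [Category.assoc, Category.assoc, ← F.map_comp, hc2, ← m''.hom.w, ← m.hom.w,
        ← Category.assoc, ← G.map_comp, hb'']
    let n : t'' ⟶ t' := ObjectProperty.homMk ⟨h, c, hw⟩
    refine ⟨n, ⟨IsHomLift.map (fpFst G F).toFunctor n, ?_⟩, ?_⟩
    · apply ObjectProperty.hom_ext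
      apply CategoricalPullback.hom_ext
      · exact hb''
      · exact hc2
    · rintro n₂ ⟨hn1, hn2⟩
      have hd : h = n₂.hom.fst := IsHomLift.eq_of_isHomLift (fpFst G F).toFunctor h n₂
      apply ObjectProperty.hom_ext
      apply CategoricalPullback.hom_ext
      · exact hd.symm
      · apply hcu
        refine ⟨?_, congrArg (fun k => k.hom.snd) hn2⟩
        have k1 : 𝒳.p.IsHomLift (𝒵.p.map n₂.hom.fst) n₂.hom.snd := fp_isHomLift_snd G F n₂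
        rw [← hd] at k1
        exact k1

end Fp

end Groth.Agent.Lib.Helper16.FpFibGrpd
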