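import Mathlib
import Groth.Agent.Lib.Helper16.GF6
import Groth.Agent.Lib.Helper5.GorFibreF

/-!
# Helper16 — GF7: Gorenstein-fibre base change of dualizing complexes, with a dimension bound on the
target instead of finite type; application to base field extensions.
-/

set_option autoImplicit false

universe u

open CategoryTheory CategoryTheory.Limits CategoryTheory.Pretriangulated DerivedCategory
  TensorProduct

attribute [local instance] HasDerivedCategory.standard

namespace Groth.Agent.Lib.Helper16.GF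

open Groth.Agent.Lib.Helper8 Groth.Agent.Lib.Helper8.EFB Groth.Agent.Lib.Helper16.FLI
  Groth.Agent.Lib.Helper16.FlatBC Groth.Agent.Lib.Helper16.FLJ Groth.Agent.Lib.Helper8.Bidual
  Groth.Agent.Lib.Helper6

section Main

variable {A B : Type u} [CommRing A] [CommRing B] [Algebra A B] [IsNoetherianRing A]
  [IsNoetherianRing B] [Module.Flat A B]

/-- **Theorem**: the base change of a dualizing complex along a flat homomorphism of noetherian
rings with Gorenstein fibres and finite-dimensional target is dualizing. -/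
theorem isDualizing_ε_of_gorenstein_fibres_of_dim (D : ℕ) (hD : ringKrullDim B ≤ D)
    (hG : ∀ p : PrimeSpectrum A, LocCoh.IsGorensteinRing (B ⊗[A] p.asIdeal.ResidueField))
    (K : Dual.D A) (hK : Dual.IsDualizing A K) :
    Dual.IsDualizing B ((ε (algebraMap A B)).obj K) := by
  obtain ⟨a₀, b₀, hab⟩ := hK.finite_injective_dimension
  have hb₀ : UB A b₀ K := fun N _ _ i hi => hab N i (Or.inr hi)
  refine isDualizing_of_UB K hK (b₀ + D) ?_
  have hbdd := EFB.hbdd_of_hinj K a₀ b₀ hab
  have hGE : ((ε (algebraMap A B)).obj K).IsGE a₀ :=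
    EFB.isGE_ε K a₀ (fun i hi => hbdd i (Or.inl hi))
  have hfin : ∀ i : ℤ, Module.Finite B (Dual.HD B ((ε (algebraMap A B)).obj K) i) := fun i => by
    haveI := hK.finite_cohomology i
    exact EFB.finite_HD_ε K i
  have h2 := EFB.hinj_of_residue ((ε (algebraMap A B)).obj K) (b₀ + D) a₀ hGE hfin ?_
  · exact fun N _ _ i hi => h2 N i (Or.inr hi)
  · intro 𝔫 _ i hi
    obtain ⟨𝔭, h𝔭, q, hq, rfl⟩ := exists_fibre_prime (A := A) 𝔫
    haveI : Module.Flat A (Localization.AtPrime
        (q.comap (Algebra.TensorProduct.includeRight : B →ₐ[A] 𝔭.Fiber B))) :=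
      Module.Flat.trans A B _
    have hloc := subsingleton_hom_residue_atFibrePrime hG K hK b₀ hb₀ D hD 𝔭 q i hi
    set 𝔫 := q.comap (Algebra.TensorProduct.includeRight : B →ₐ[A] 𝔭.Fiber B) with h𝔫
    have hcomp : (algebraMap B (Localization.AtPrime 𝔫)).comp (algebraMap A B) =
        algebraMap A (Localization.AtPrime 𝔫) :=
      (IsScalarTower.algebraMap_eq A B (Localization.AtPrime 𝔫)).symm
    haveI : FlatHom ((algebraMap B (Localization.AtPrime 𝔫)).comp (algebraMap A B)) :=
      ⟨RingHom.Flat.comp FlatHom.flat FlatHom.flat⟩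
    -- transport along the identifications
    let eN : (Localization.AtPrime 𝔫 ⧸ 𝔫.map (algebraMap B (Localization.AtPrime 𝔫)))
        ≃ₗ[Localization.AtPrime 𝔫]
        (Localization.AtPrime 𝔫 ⧸ IsLocalRing.maximalIdeal (Localization.AtPrime 𝔫)) :=
      Submodule.quotEquivOfEq _ _ (Localization.AtPrime.map_eq_maximalIdeal)
    let eL : (ε (algebraMap A (Localization.AtPrime 𝔫))).obj K ≅
        (ε (algebraMap B (Localization.AtPrime 𝔫))).obj ((ε (algebraMap A B)).obj K) :=
      (εCongrObjIso hcomp K).symm ≪≫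
        εCompObjIso (algebraMap A B) (algebraMap B (Localization.AtPrime 𝔫)) K
    haveI : Subsingleton (Dual.inD (Localization.AtPrime 𝔫)
        (Localization.AtPrime 𝔫 ⧸ 𝔫.map (algebraMap B (Localization.AtPrime 𝔫))) ⟶
        ((ε (algebraMap B (Localization.AtPrime 𝔫))).obj ((ε (algebraMap A B)).obj K))⟦i⟧) :=
      (Iso.homCongr (inDIsoOfEquiv eN)
        ((shiftFunctor (Dual.D (Localization.AtPrime 𝔫)) i).mapIso eL.symm)).subsingleton
    obtain ⟨Θ⟩ := EFB.nonempty_bcEquiv_quot (B := Localization.AtPrime 𝔫) 𝔫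
      ((ε (algebraMap A B)).obj K) ⟨a₀, hGE⟩ i
    have hs : Subsingleton (Localization.AtPrime 𝔫 ⊗[B]
        (Dual.inD B (B ⧸ 𝔫) ⟶ ((ε (algebraMap A B)).obj K)⟦i⟧)) := Θ.subsingleton
    refine subsingleton_of_killed 𝔫 _ (fun r hr h => EFB.smul_hom_eq_zero r (fun x => ?_) _ h) hs
    obtain ⟨y, rfl⟩ := Ideal.Quotient.mk_surjective x
    change Ideal.Quotient.mk 𝔫 (r * y) = 0
    exact Ideal.Quotient.eq_zero_iff_mem.2 (Ideal.mul_mem_right y 𝔫 hr)

end Main

section Field

variable (k K : Type u) [Field k] [Field K] [Algebra k K] (A : Type u) [CommRing A] [Algebra k A]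

/-- the `A`-algebra structure on `K ⊗[k] A` through the right factor -/
@[reducible] noncomputable def rightAlg : Algebra A (K ⊗[k] A) :=
  (Algebra.TensorProduct.includeRight : A →ₐ[k] K ⊗[k] A).toRingHom.toAlgebra

/-- the swap `K ⊗[k] A ≃ A ⊗[k] K` as an isomorphism of `A`-algebras -/
noncomputable def swapAlgEquiv :
    letI := rightAlg k K A
    (K ⊗[k] A) ≃ₐ[A] (A ⊗[k] K) :=
  letI := rightAlg k K A
  AlgEquiv.ofRingEquiv (f := (Algebra.TensorProduct.comm k K A).toRingEquiv) (fun a => by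
    change (Algebra.TensorProduct.comm k K A) ((1 : K) ⊗ₜ[k] a) = a ⊗ₜ[k] (1 : K)
    rfl)

theorem flat_rightAlg : letI := rightAlg k K A; Module.Flat A (K ⊗[k] A) := by
  letI := rightAlg k K A
  exact Module.Flat.of_linearEquiv (swapAlgEquiv k K A).toLinearEquiv

theorem isNoetherianRing_tensor [Algebra.FiniteType k A] : IsNoetherianRing (K ⊗[k] A) :=
  Algebra.FiniteType.isNoetherianRing K (K ⊗[k] A)

theorem exists_ringKrullDim_tensor_le [Algebra.FiniteType k A] :
    ∃ D : ℕ, ringKrullDim (K ⊗[k] A) ≤ D :=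
  exists_ringKrullDim_le_of_finiteType (A := K) (B := K ⊗[k] A)
    (by rw [ringKrullDim_eq_zero_of_field]; exact WithBot.coe_lt_coe.2 (by simp))

/-- the fibres of `A → K ⊗[k] A` are Gorenstein -/
theorem gorenstein_fibres_tensor [Algebra.FiniteType k A] :
    letI := rightAlg k K A
    ∀ p : PrimeSpectrum A, LocCoh.IsGorensteinRing ((K ⊗[k] A) ⊗[A] p.asIdeal.ResidueField) := by
  letI := rightAlg k K A
  intro p
  have h1 := Groth.Agent.Lib.Helper5.GorFibre.isGorensteinRing_residueField_tensor_of_finiteType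
    k A p.asIdeal K
  let e1 : ((K ⊗[k] A) ⊗[A] p.asIdeal.ResidueField) ≃+* (p.asIdeal.ResidueField ⊗[A] (K ⊗[k] A)) :=
    (Algebra.TensorProduct.comm A (K ⊗[k] A) p.asIdeal.ResidueField).toRingEquiv
  let e2 : (p.asIdeal.ResidueField ⊗[A] (K ⊗[k] A)) ≃+* (p.asIdeal.ResidueField ⊗[A] (A ⊗[k] K)) :=
    (Algebra.TensorProduct.congr (AlgEquiv.refl : p.asIdeal.ResidueField ≃ₐ[A] p.asIdeal.ResidueField)
      (swapAlgEquiv k K A)).toRingEquiv
  let e3 : (p.asIdeal.ResidueField ⊗[A] (A ⊗[k] K)) ≃+* (p.asIdeal.ResidueField ⊗[k] K) :=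
    (Algebra.TensorProduct.cancelBaseChange k A p.asIdeal.ResidueField p.asIdeal.ResidueField
      K).toRingEquiv
  exact Groth.Agent.Lib.Helper5.GorFibre.isGorensteinRing_of_ringEquiv
    ((e1.trans (e2.trans e3)).symm) h1

/-- **Theorem**: base field extension preserves dualizing complexes of finite type algebras -/
theorem isDualizing_ε_fieldExtension [Algebra.FiniteType k A] (ω : Dual.D A)
    (hω : Dual.IsDualizing A ω) :
    letI := rightAlg k K A
    haveI := flat_rightAlg k K A
    Dual.IsDualizing (K ⊗[k] A) ((ε (algebraMap A (K ⊗[k] A))).obj ω) := by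
  letI := rightAlg k K A
  haveI := flat_rightAlg k K A
  haveI : IsNoetherianRing A := hω.isNoetherianRing
  haveI := isNoetherianRing_tensor k K A
  obtain ⟨D, hD⟩ := exists_ringKrullDim_tensor_le k K A
  exact isDualizing_ε_of_gorenstein_fibres_of_dim D hD (gorenstein_fibres_tensor k K A) ω hω

end Field

end Groth.Agent.Lib.Helper16.GF
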