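import Mathlib
import Groth.Agent.Lib.Helper16.GF5
import Groth.Agent.Lib.Helper5.GorFibreA

/-!
# Helper16 — GF8: the converse: if the flat base change of a dualizing complex is dualizing, the
fibres are Gorenstein.
-/

set_option autoImplicit false

universe u

open CategoryTheory CategoryTheory.Limits CategoryTheory.Pretriangulated DerivedCategory
  TensorProduct

attribute [local instance] HasDerivedCategory.standard

namespace Groth.Agent.Lib.Helper16.GF

open Groth.Agent.Lib.Helper8 Groth.Agent.Lib.Helper8.EFB Groth.Agent.Lib.Helper16.FLI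
  Groth.Agent.Lib.Helper16.FlatBC Groth.Agent.Lib.Helper16.FLJ Groth.Agent.Lib.Helper8.Bidual
  Groth.Agent.Lib.Helper6

section HD

variable {R S : Type u} [CommRing R] [CommRing S] [Algebra R S] {L : Dual.D R} {RL : Dual.D S}
  (Ψ : ∀ X : Dual.D S, (X ⟶ RL) ≃+ ((DRing.restrictD (algebraMap R S)).obj X ⟶ L))

include Ψ in
/-- vanishing of `Hom` over `R` gives vanishing of `Hom` into the object-level right adjoint -/
theorem subsingleton_hom_of_res (N : Type u) [AddCommGroup N] [Module S N] (i : ℤ)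
    (h : Subsingleton (Dual.inD R ((ModuleCat.restrictScalars.{u} (algebraMap R S)).obj
      (ModuleCat.of S N)) ⟶ L⟦i⟧)) :
    Subsingleton (Dual.inD S N ⟶ RL⟦i⟧) := by
  have h3 : Subsingleton (((Dual.inD R ((ModuleCat.restrictScalars.{u} (algebraMap R S)).obj
      (ModuleCat.of S N)) : Dual.D R)⟦-i⟧ : Dual.D R) ⟶ L) :=
    (shiftedHomEquiv _ L i).toEquiv.subsingleton
  have h2 : Subsingleton ((DRing.restrictD (algebraMap R S)).obj ((Dual.inD S N)⟦-i⟧) ⟶ L) :=
    (precompEquivLin (resInDIso (R := R) N (-i)) L).symm.toEquiv.subsingleton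
  have h1 : Subsingleton (((Dual.inD S N)⟦-i⟧ : Dual.D S) ⟶ RL) :=
    (Ψ ((Dual.inD S N)⟦-i⟧)).toEquiv.subsingleton
  exact (shiftedHomEquiv (Dual.inD S N) RL i).symm.toEquiv.subsingleton

end HD

section Alg

variable {A B : Type u} [CommRing A] [CommRing B] [Algebra A B] (𝔭 : Ideal A) [𝔭.IsPrime]
  (q : Ideal (𝔭.Fiber B)) [q.IsPrime]

/-- the local ring of the fibre at `q` is a quotient of the local ring of `B` at the prime under
`q`, by the ideal generated by the maximal ideal of `A_𝔭`. -/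
theorem exists_surjective_to_fibre_localization'
    [Algebra (Localization.AtPrime 𝔭)
      (Localization.AtPrime (q.comap (Algebra.TensorProduct.includeRight : B →ₐ[A] 𝔭.Fiber B)))]
    [Localization.AtPrime.IsLiesOverAlgebra 𝔭
      (q.comap (Algebra.TensorProduct.includeRight : B →ₐ[A] 𝔭.Fiber B))] :
    ∃ ψ : Localization.AtPrime
        (q.comap (Algebra.TensorProduct.includeRight : B →ₐ[A] 𝔭.Fiber B)) →+*
        Localization.AtPrime q,
      Function.Surjective ψ ∧ RingHom.ker ψ =
        (IsLocalRing.maximalIdeal (Localization.AtPrime 𝔭)).map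
          (algebraMap (Localization.AtPrime 𝔭) (Localization.AtPrime
            (q.comap (Algebra.TensorProduct.includeRight : B →ₐ[A] 𝔭.Fiber B)))) := by
  let e₁ := (Ideal.Fiber.localizationAlgEquivQuotient 𝔭 q).toRingEquiv
  let π := Ideal.Quotient.mk (𝔭.map (algebraMap A (Localization.AtPrime
    (q.comap (Algebra.TensorProduct.includeRight : B →ₐ[A] 𝔭.Fiber B)))))
  refine ⟨e₁.symm.toRingHom.comp π, ?_, ?_⟩
  · exact e₁.symm.surjective.comp Ideal.Quotient.mk_surjective
  · have h1 : Function.Injective e₁.symm.toRingHom := e₁.symm.injective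
    rw [RingHom.ker_comp_of_injective _ h1, Ideal.mk_ker,
      ← Localization.AtPrime.map_eq_maximalIdeal, Ideal.map_map,
      ← IsScalarTower.algebraMap_eq]

end Alg

section Conv

variable {B' G : Type u} [CommRing B'] [CommRing G] [IsLocalRing G] [IsNoetherianRing G]

/-- if `Ext_{B'}(G, L)` is `G` in a single degree and `L` has an upper Ext bound, then `G` has
finite injective dimension. -/
theorem isGorensteinLocalRing_of_quotient (ψ : B' →+* G)
    (hψ : Function.Surjective ψ) (L : Dual.D B') (a : ℤ) (hL : L.IsGE a) (b : ℤ)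
    (hb : UB B' b L) (J : Ideal B') (hker : RingHom.ker ψ = J) (d : ℤ)
    (h0 : ∀ j : ℤ, j ≠ d → Subsingleton (Dual.inD B' (B' ⧸ J) ⟶ L⟦j⟧))
    (e : Nonempty ((Dual.inD B' (B' ⧸ J) ⟶ L⟦d⟧) ≃ₗ[B'] (B' ⧸ J))) :
    LocCoh.IsGorensteinLocalRing G := by
  letI : Algebra B' G := ψ.toAlgebra
  have hsurj : Function.Surjective (algebraMap B' G) := hψ
  obtain ⟨e⟩ := e
  obtain ⟨RL, Ψ, hΨ⟩ := exists_coext_model (algebraMap B' G) L a
  have hkerL : LinearMap.ker (Algebra.linearMap B' G) = J := by
    ext x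
    rw [← hker]
    rfl
  let eM : (B' ⧸ J) ≃ₗ[B'] (ModuleCat.restrictScalars.{u} (algebraMap B' G)).obj
      (ModuleCat.of G G) :=
    ((Submodule.quotEquivOfEq J (LinearMap.ker (Algebra.linearMap B' G)) hkerL.symm).trans
      ((Algebra.linearMap B' G).quotKerEquivOfSurjective hsurj)).trans
      Groth.Agent.Lib.Helper16.RestrictD.restrictLinearEquiv
  obtain ⟨ι⟩ := nonempty_iso_shift Ψ hΨ hsurj (B' ⧸ J) eM d h0 e
  -- vanishing over `G`
  have key : ∀ (N : Type u) [AddCommGroup N] [Module G N] (j : ℤ), b - d < j →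
      Subsingleton (Dual.inD G N ⟶ (Dual.inD G G)⟦j⟧) := by
    intro N _ _ j hj
    have h1 : Subsingleton (Dual.inD B' ((ModuleCat.restrictScalars.{u} (algebraMap B' G)).obj
        (ModuleCat.of G N)) ⟶ L⟦j + d⟧) := hb _ (j + d) (by omega)
    have h2 : Subsingleton (Dual.inD G N ⟶ RL⟦j + d⟧) := subsingleton_hom_of_res Ψ N (j + d) h1
    have e2 : (Dual.inD G N ⟶ RL⟦j + d⟧) ≃ (Dual.inD G N ⟶ (Dual.inD G G)⟦j⟧) :=
      Iso.homCongr (Iso.refl (Dual.inD G N)) ((shiftFunctor (Dual.D G) (j + d)).mapIso ι ≪≫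
        ((shiftFunctorAdd' (Dual.D G) (-d) (j + d) j (by omega)).app (Dual.inD G G)).symm)
    exact e2.symm.subsingleton
  refine { exists_hasInjectiveDimensionLT := ⟨(b - d + 1).toNat, ⟨fun i hi Y => ?_⟩⟩ }
  letI := HasExt.standard (ModuleCat.{u} G)
  haveI := key Y (i : ℤ) (by omega)
  exact (Abelian.Ext.homEquiv.{u + 1} (X := Y) (Y := ModuleCat.of G G) (n := i)).subsingleton

end Conv

section Local

variable {A B : Type u} [CommRing A] [CommRing B] [Algebra A B] [IsNoetherianRing A]
  [IsNoetherianRing B] [Module.Flat A B]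

/-- **Theorem (converse)**: if `K` and its flat base change to `B` are dualizing, then the local
rings of the fibres of `A → B` are Gorenstein. -/
theorem isGorensteinLocalRing_fibre_of_isDualizing_ε (K : Dual.D A) (hK : Dual.IsDualizing A K)
    (hKB : Dual.IsDualizing B ((ε (algebraMap A B)).obj K)) (𝔭 : Ideal A) [𝔭.IsPrime]
    (q : Ideal (𝔭.Fiber B)) [q.IsPrime] :
    LocCoh.IsGorensteinLocalRing (Localization.AtPrime q) := by
  haveI : IsNoetherianRing (𝔭.Fiber B) :=
    Groth.Agent.Lib.Helper5.GorFibre.isNoetherianRing_fiber A B 𝔭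
  haveI : IsNoetherianRing (Localization.AtPrime q) :=
    IsLocalization.isNoetherianRing q.primeCompl _ inferInstance
  set 𝔫 := q.comap (Algebra.TensorProduct.includeRight : B →ₐ[A] 𝔭.Fiber B) with h𝔫
  haveI : Module.Flat A (Localization.AtPrime 𝔫) := Module.Flat.trans A B _
  letI := Localization.AtPrime.algebraOfLiesOver 𝔭 𝔫
  obtain ⟨a, b₀, hab⟩ := hK.finite_injective_dimension
  have hb₀ : UB A b₀ K := fun N _ _ i hi => hab N i (Or.inr hi)
  obtain ⟨d, -, h0, e⟩ := ext_fibre 𝔭 (T := Localization.AtPrime 𝔫) K hK b₀ hb₀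
  obtain ⟨ψ, hψ, hker⟩ := exists_surjective_to_fibre_localization' 𝔭 q
  have hbdd := hbdd_of_hinj K a b₀ hab
  have hGE := isGE_ε (B := Localization.AtPrime 𝔫) K a (fun i hi => hbdd i (Or.inl hi))
  -- the base change to `B_𝔫` is dualizing
  have hcomp : (algebraMap B (Localization.AtPrime 𝔫)).comp (algebraMap A B) =
      algebraMap A (Localization.AtPrime 𝔫) :=
    (IsScalarTower.algebraMap_eq A B (Localization.AtPrime 𝔫)).symm
  haveI : FlatHom ((algebraMap B (Localization.AtPrime 𝔫)).comp (algebraMap A B)) :=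
    ⟨RingHom.Flat.comp FlatHom.flat FlatHom.flat⟩
  let eL : (ε (algebraMap B (Localization.AtPrime 𝔫))).obj ((ε (algebraMap A B)).obj K) ≅
      (ε (algebraMap A (Localization.AtPrime 𝔫))).obj K :=
    (εCompObjIso (algebraMap A B) (algebraMap B (Localization.AtPrime 𝔫)) K).symm ≪≫
      εCongrObjIso hcomp K
  have hdual : Dual.IsDualizing (Localization.AtPrime 𝔫)
      ((ε (algebraMap A (Localization.AtPrime 𝔫))).obj K) :=
    isDualizing_of_iso eL (isDualizing_ε_atPrime 𝔫 _ hKB)
  obtain ⟨a', b', hab'⟩ := hdual.finite_injective_dimension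
  have hb' : UB (Localization.AtPrime 𝔫) b' ((ε (algebraMap A (Localization.AtPrime 𝔫))).obj K) :=
    fun N _ _ i hi => hab' N i (Or.inr hi)
  exact isGorensteinLocalRing_of_quotient ψ hψ _ a hGE b' hb' _ hker d h0 e

/-- **Theorem (converse, global form)**: if `K` and its flat base change to `B` are dualizing, then
the fibre rings of `A → B` are Gorenstein. -/
theorem isGorensteinRing_fibre_of_isDualizing_ε (K : Dual.D A) (hK : Dual.IsDualizing A K)
    (hKB : Dual.IsDualizing B ((ε (algebraMap A B)).obj K)) (𝔭 : Ideal A) [𝔭.IsPrime] :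
    LocCoh.IsGorensteinRing (𝔭.Fiber B) := by
  haveI : IsNoetherianRing (𝔭.Fiber B) :=
    Groth.Agent.Lib.Helper5.GorFibre.isNoetherianRing_fiber A B 𝔭
  exact { isGorensteinLocalRing_localization := fun q _ =>
    isGorensteinLocalRing_fibre_of_isDualizing_ε K hK hKB 𝔭 q }

end Local

end Groth.Agent.Lib.Helper16.GF
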