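import Groth.Prelude.Def_KRR
import Groth.Agent.Lib.Helper20.LambdaRing
import Mathlib.Tactic

/-!
# The functional `f : K_e → K`, `f(ℓ^i) = σ^i(e)`, on an elementary extension (helper16)

`cc e i = (-1)^i λ^i(e)`; `sigma_rel`: `Σ_{i ≤ n} c_i σ^{n-i} = 0` for `n ≥ 1`;
`root_rel`/`f_root_rel`: the relation `p_e(ℓ) = 0` multiplied by any `y`;
`part1`: `f(ℓ^i) = σ^i(e)` for all `i`; `part2`: `f(ℓ^{-n}) = 0` for `1 ≤ n ≤ r`.
-/

set_option autoImplicit false
universe u v
open LambdaRing PowerSeries Finset Groth.Agent.Lib.Helper20.LR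

namespace Groth.Agent.Lib.Helper16.KRRFunctional

section
variable {K : Type v} [CommRing K] [LambdaOps K]

/-- the coefficients `c_i = (-1)^i λ^i(e)` of `λ_{-t}(e)` -/
def cc (e : K) (i : ℕ) : K := (-1 : K) ^ i * LambdaOps.lam i e

theorem coeff_negSeries (e : K) (i : ℕ) : coeff i (negSeries e) = cc e i := by
  rw [negSeries, coeff_rescale, coeff_lamSeries, cc]

theorem sigmaSeries_eq (e : K) : KRR.sigmaSeries e = (negSeries e).invOfUnit 1 := rfl

/-- `Σ_{i ≤ n} c_i σ^{n-i} = 0` for `n ≥ 1`. -/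
theorem sigma_rel (e : K) (n : ℕ) (hn : 1 ≤ n) :
    ∑ i ∈ range (n + 1), cc e i * KRR.sigma (n - i) e = 0 := by
  have h := congrArg (coeff n) (negSeries_mul_inv e)
  rw [coeff_mul, Finset.Nat.sum_antidiagonal_eq_sum_range_succ_mk, coeff_one, if_neg (by omega)] at h
  rw [← h]
  apply Finset.sum_congr rfl
  intro i _
  rw [coeff_negSeries]
  rfl

/-- truncated relation: if `c_i = 0` for `i > m` and `n ≥ m`, `n ≥ 1`. -/
theorem sigma_rel_trunc (e : K) (m : ℕ) (hm : ∀ i, m < i → cc e i = 0) (n : ℕ) (hn : 1 ≤ n)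
    (hmn : m ≤ n) : ∑ i ∈ range (m + 1), cc e i * KRR.sigma (n - i) e = 0 := by
  rw [← sigma_rel e n hn]
  apply Finset.sum_subset
  · intro i hi
    rw [Finset.mem_range] at hi ⊢
    omega
  · intro i _ hi
    rw [Finset.mem_range] at hi
    rw [hm i (by omega), zero_mul]

end

section
variable {K : Type v} [CommRing K] [LambdaOps K] (P : PosStructure K) (e : K)

theorem extPoly_eq (m : ℕ) (hm : (P.aug e).toNat = m) :
    KRR.extPoly P e = ∑ i ∈ range (m + 1), Polynomial.C (cc e i) * Polynomial.X ^ (m - i) := by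
  subst hm
  rfl

theorem root_rel (m : ℕ) (hm : (P.aug e).toNat = m) (y : AdjoinRoot (KRR.extPoly P e)) :
    ∑ i ∈ range (m + 1), cc e i • (AdjoinRoot.root (KRR.extPoly P e) ^ (m - i) * y) = 0 := by
  have h := AdjoinRoot.eval₂_root (KRR.extPoly P e)
  conv at h => lhs; arg 3; rw [extPoly_eq P e m hm]
  rw [Polynomial.eval₂_finsetSum] at h
  have h2 : ∑ i ∈ range (m + 1), cc e i • (AdjoinRoot.root (KRR.extPoly P e) ^ (m - i) * y) =
      (∑ i ∈ range (m + 1), Polynomial.eval₂ (AdjoinRoot.of (KRR.extPoly P e))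
        (AdjoinRoot.root (KRR.extPoly P e)) (Polynomial.C (cc e i) * Polynomial.X ^ (m - i))) * y := by
    rw [Finset.sum_mul]
    apply Finset.sum_congr rfl
    intro i _
    rw [Polynomial.eval₂_mul, Polynomial.eval₂_C, Polynomial.eval₂_X_pow, Algebra.smul_def,
      AdjoinRoot.algebraMap_eq, mul_assoc]
  rw [h2, h, zero_mul]

theorem f_root_rel (f : AdjoinRoot (KRR.extPoly P e) →ₗ[K] K) (m : ℕ) (hm : (P.aug e).toNat = m)
    (y : AdjoinRoot (KRR.extPoly P e)) :
    ∑ i ∈ range (m + 1), cc e i * f (AdjoinRoot.root (KRR.extPoly P e) ^ (m - i) * y) = 0 := by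
  have h := congrArg f (root_rel P e m hm y)
  rw [map_sum, map_zero] at h
  rw [← h]
  apply Finset.sum_congr rfl
  intro i _
  rw [map_smul, smul_eq_mul]

end

section
variable {R : Type*} [CommRing R]
theorem pow_mul_inv_pow (l linv : R) (h : linv * l = 1) (a b : ℕ) : l ^ (a + b) * linv ^ b = l ^ a := by
  rw [pow_add, mul_assoc, ← mul_pow, mul_comm l linv, h, one_pow, mul_one]
theorem pow_mul_inv_pow' (l linv : R) (h : linv * l = 1) (a b : ℕ) : l ^ a * linv ^ (a + b) = linv ^ b := by
  rw [pow_add, ← mul_assoc, ← mul_pow, mul_comm l linv, h, one_pow, one_mul]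
end

theorem part1 (K : Type v) [CommRing K] [LambdaRing.LambdaOps K] (P : LambdaRing.PosStructure K)
    (e : K) (he : e ∈ P.pos) (r : ℕ) (hr : P.aug e = r + 1)
    (f : AdjoinRoot (KRR.extPoly P e) →ₗ[K] K)
    (hf : ∀ i : ℕ, i ≤ r → f (AdjoinRoot.root (KRR.extPoly P e) ^ i) = KRR.sigma i e) :
    ∀ i : ℕ, f (AdjoinRoot.root (KRR.extPoly P e) ^ i) = KRR.sigma i e := by
  have hm : (P.aug e).toNat = r + 1 := by rw [hr]; omega
  have hc : ∀ i, r + 1 < i → cc e i = 0 := by
    intro i hi
    rw [cc, P.lam_eq_zero e he i (by rw [hr]; exact_mod_cast hi), mul_zero]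
  intro n
  induction n using Nat.strong_induction_on with
  | _ n ih =>
    by_cases hn : n ≤ r
    · exact hf n hn
    · push Not at hn
      obtain ⟨k, rfl⟩ : ∃ k, n = (r + 1) + k := ⟨n - (r + 1), by omega⟩
      have h1 := f_root_rel P e f (r + 1) hm (AdjoinRoot.root (KRR.extPoly P e) ^ k)
      have h2 := sigma_rel_trunc e (r + 1) hc (r + 1 + k) (by omega) (by omega)
      rw [Finset.sum_range_succ'] at h1 h2
      have h3 : ∑ i ∈ range (r + 1), cc e (i + 1) *
          f (AdjoinRoot.root (KRR.extPoly P e) ^ (r + 1 - (i + 1)) * AdjoinRoot.root (KRR.extPoly P e) ^ k) =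
          ∑ i ∈ range (r + 1), cc e (i + 1) * KRR.sigma (r + 1 + k - (i + 1)) e := by
        apply Finset.sum_congr rfl
        intro i hi
        rw [Finset.mem_range] at hi
        rw [← pow_add, ih (r + 1 - (i + 1) + k) (by omega)]
        congr 2
        omega
      rw [h3] at h1
      have h4 : cc e 0 = 1 := by rw [cc, pow_zero, one_mul, LambdaOps.lam_zero]
      rw [h4, one_mul, Nat.sub_zero, ← pow_add] at h1
      rw [h4, one_mul, Nat.sub_zero] at h2
      have := h1.trans h2.symm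
      exact add_left_cancel this

theorem part2 (K : Type v) [CommRing K] [LambdaRing.LambdaOps K] (P : LambdaRing.PosStructure K)
    (e : K) (he : e ∈ P.pos) (r : ℕ) (hr : P.aug e = r + 1)
    (f : AdjoinRoot (KRR.extPoly P e) →ₗ[K] K)
    (hf : ∀ i : ℕ, f (AdjoinRoot.root (KRR.extPoly P e) ^ i) = KRR.sigma i e)
    (linv : AdjoinRoot (KRR.extPoly P e)) (hlinv : linv * AdjoinRoot.root (KRR.extPoly P e) = 1) :
    ∀ n : ℕ, 1 ≤ n → n ≤ r → f (linv ^ n) = 0 := by
  have hm : (P.aug e).toNat = r + 1 := by rw [hr]; omega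
  have hunit : IsUnit (cc e (r + 1)) := by
    have := P.isUnit_lam e he
    rw [hm] at this
    rw [cc]
    exact (IsUnit.pow _ isUnit_one.neg).mul this
  intro n
  induction n using Nat.strong_induction_on with
  | _ n ih =>
    intro hn1 hnr
    have h1 := f_root_rel P e f (r + 1) hm (linv ^ n)
    rw [Finset.sum_range_succ] at h1
    have h2 : ∑ i ∈ range (r + 1), cc e i *
        f (AdjoinRoot.root (KRR.extPoly P e) ^ (r + 1 - i) * linv ^ n) =
        ∑ i ∈ range (r + 1 - n + 1), cc e i * KRR.sigma (r + 1 - n - i) e := by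
      symm
      rw [← Finset.sum_subset (s₁ := range (r + 1 - n + 1)) (s₂ := range (r + 1))
        (f := fun i => cc e i * f (AdjoinRoot.root (KRR.extPoly P e) ^ (r + 1 - i) * linv ^ n))]
      · apply Finset.sum_congr rfl
        intro i hi
        rw [Finset.mem_range] at hi
        have : r + 1 - i = (r + 1 - n - i) + n := by omega
        rw [this, pow_mul_inv_pow _ _ hlinv, hf]
      · intro i hi
        rw [Finset.mem_range] at hi ⊢
        omega
      · intro i hi hi'
        rw [Finset.mem_range] at hi hi'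
        have : n = (r + 1 - i) + (n - (r + 1 - i)) := by omega
        rw [this, pow_mul_inv_pow' _ _ hlinv, ih (n - (r + 1 - i)) (by omega) (by omega) (by omega),
          mul_zero]
    rw [h2, sigma_rel e (r + 1 - n) (by omega), zero_add, Nat.sub_self, pow_zero, one_mul] at h1
    exact (hunit.mul_right_eq_zero).mp h1


end Groth.Agent.Lib.Helper16.KRRFunctional
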