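import Groth.Prelude.Def_KRR
import Groth.Agent.Lib.Helper20.LambdaRing
import Mathlib.Tactic

/-!
# λ-series identities used for elementary extensions (helper16)

`lamSeries_of_lam_eq_zero`: `λ_t(u) = 1 + ut` if `λ^i(u) = 0` for `i ≥ 2`;
`lamSeries_eq_mul_geom`: `λ_t(x) = λ_t(x + u) Σ (-u)^n t^n`;
`lamSeries_mul_rescale_sigma`: `λ_t(e) σ_{-t}(e) = 1`; `lam_sigma_rel`: its coefficients.
-/

set_option autoImplicit false
universe u v
open LambdaRing PowerSeries Finset Groth.Agent.Lib.Helper20.LR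

namespace Groth.Agent.Lib.Helper16.KRRLam

section
variable {K : Type v} [CommRing K] [LambdaOps K]

/-- `λ_t(u) = 1 + u t` when `λ^i(u) = 0` for `i ≥ 2`. -/
theorem lamSeries_of_lam_eq_zero (u : K) (hu : ∀ i : ℕ, 2 ≤ i → LambdaOps.lam i u = 0) :
    lamSeries u = 1 + PowerSeries.C u * X := by
  ext n
  rw [coeff_lamSeries, map_add, coeff_one, coeff_C_mul, coeff_X]
  rcases n with _ | _ | n
  · simp [LambdaOps.lam_zero]
  · simp [LambdaOps.lam_one]
  · rw [hu (n + 2) (by omega)]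
    simp

/-- `λ_t(x) = λ_t(x + u) · Σ (-u)^n t^n` when `λ_t(u) = 1 + ut`. -/
theorem lamSeries_eq_mul_geom (x u : K) (hu : ∀ i : ℕ, 2 ≤ i → LambdaOps.lam i u = 0) :
    lamSeries x = lamSeries (x + u) * PowerSeries.mk (fun n => (-u) ^ n) := by
  have h := geom_mul (-u)
  rw [map_neg, neg_mul, sub_neg_eq_add, ← lamSeries_of_lam_eq_zero u hu] at h
  rw [lamSeries_add, mul_assoc, h, mul_one]

/-- `λ_t(e) · σ_{-t}(e) = 1`. -/
theorem lamSeries_mul_rescale_sigma (e : K) :
    lamSeries e * rescale (-1 : K) (KRR.sigmaSeries e) = 1 := by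
  have h := congrArg (rescale (-1 : K)) (negSeries_mul_inv e)
  rw [map_mul, map_one, negSeries, rescale_rescale] at h
  simp only [mul_neg, mul_one, neg_neg, rescale_one, RingHom.id_apply] at h
  exact h

theorem lam_sigma_rel (e : K) (i : ℕ) :
    ∑ p ∈ antidiagonal i, LambdaOps.lam p.1 e * ((-1 : K) ^ p.2 * KRR.sigma p.2 e) =
      if i = 0 then 1 else 0 := by
  have h := congrArg (coeff i) (lamSeries_mul_rescale_sigma e)
  rw [coeff_mul, coeff_one] at h
  rw [← h]
  apply Finset.sum_congr rfl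
  intro p _
  rw [coeff_lamSeries, coeff_rescale]
  rfl

end


end Groth.Agent.Lib.Helper16.KRRLam
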