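import Groth.Prelude.Def_KRR
import Groth.Agent.Lib.Helper16.KRRFunctional
import Groth.Agent.Lib.Helper16.KRRLam
import Mathlib.Tactic

/-!
# Polynomial facts on `p_e = KRR.extPoly P e` (helper16)

`horner_factor'`: `(X - l) Σ_{i ≤ r} B_i X^{r-i} = Σ_{i ≤ r+1} A_i X^{r+1-i}` when `B_{r+1} = 0`
(`A = Aseq B l`); `extPoly_monic`, `extPoly_natDegree`, `map_extPoly`; `lam_succ_add_line`;
`sigma_zero`.
-/

set_option autoImplicit false
universe u v
open LambdaRing Finset Groth.Agent.Lib.Helper20.LR Groth.Agent.Lib.Helper16.KRRFunctional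
  Groth.Agent.Lib.Helper16.KRRLam

namespace Groth.Agent.Lib.Helper16.KRRPoly

section horner
open Polynomial
variable {A : Type*} [CommRing A]

/-- `A_0 = B_0`, `A_{i+1} = B_{i+1} - ℓ B_i`. -/
def Aseq (B : ℕ → A) (l : A) : ℕ → A
  | 0 => B 0
  | (i + 1) => B (i + 1) - l * B i

theorem horner_sum (B : ℕ → A) (r : ℕ) :
    ∑ i ∈ range (r + 2), C (B i) * X ^ (r + 1 - i) =
      X * (∑ i ∈ range (r + 1), C (B i) * X ^ (r - i)) + C (B (r + 1)) := by
  rw [Finset.sum_range_succ, Nat.sub_self, pow_zero, mul_one, Finset.mul_sum]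
  congr 1
  apply Finset.sum_congr rfl
  intro i hi
  rw [Finset.mem_range] at hi
  have : r + 1 - i = (r - i) + 1 := by omega
  rw [this, pow_succ]
  ring

theorem horner_factor (B : ℕ → A) (l : A) (r : ℕ) :
    (X - C l) * (∑ i ∈ range (r + 1), C (B i) * X ^ (r - i)) =
      ∑ i ∈ range (r + 1), C (Aseq B l i) * X ^ (r + 1 - i) - C (l * B r) := by
  induction r with
  | zero => simp [Aseq]; ring
  | succ r ih =>
    rw [horner_sum B r, mul_add, ← mul_assoc, mul_comm (X - C l) X, mul_assoc, ih]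
    have h2 : ∑ i ∈ range (r + 1 + 1), C (Aseq B l i) * X ^ (r + 1 + 1 - i) =
        X * (∑ i ∈ range (r + 1), C (Aseq B l i) * X ^ (r + 1 - i)) + C (Aseq B l (r + 1)) * X := by
      rw [Finset.sum_range_succ, Finset.mul_sum]
      congr 1
      · apply Finset.sum_congr rfl
        intro i hi
        rw [Finset.mem_range] at hi
        have : r + 1 + 1 - i = (r + 1 - i) + 1 := by omega
        rw [this, pow_succ]
        ring
      · have : r + 1 + 1 - (r + 1) = 1 := by omega
        rw [this, pow_one]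
    rw [h2]
    simp only [Aseq, map_sub, map_mul]
    ring

/-- If `B (r+1) = 0` then `(X - l) Σ_{i ≤ r} B_i X^{r-i} = Σ_{i ≤ r+1} A_i X^{r+1-i}`. -/
theorem horner_factor' (B : ℕ → A) (l : A) (r : ℕ) (hB : B (r + 1) = 0) :
    (X - C l) * (∑ i ∈ range (r + 1), C (B i) * X ^ (r - i)) =
      ∑ i ∈ range (r + 2), C (Aseq B l i) * X ^ (r + 1 - i) := by
  rw [horner_factor, Finset.sum_range_succ (n := r + 1), Nat.sub_self, pow_zero, mul_one]
  simp only [Aseq, hB, zero_sub, map_neg]
  ring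

end horner

section monic
open Polynomial
variable {K : Type v} [CommRing K] [LambdaOps K] (P : PosStructure K) (c : K)

theorem extPoly_eq_X_pow_add (m : ℕ) (hm : (P.aug c).toNat = m) :
    KRR.extPoly P c = X ^ m + ∑ i ∈ range m, C (cc c (i + 1)) * X ^ (m - (i + 1)) := by
  rw [extPoly_eq P c m hm, Finset.sum_range_succ', add_comm]
  congr 1
  rw [cc, pow_zero, one_mul, LambdaOps.lam_zero, map_one, one_mul, Nat.sub_zero]

theorem degree_rest_lt (m : ℕ) :
    (∑ i ∈ range m, C (cc c (i + 1)) * X ^ (m - (i + 1))).degree < (m : WithBot ℕ) := by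
  refine (Polynomial.degree_sum_le _ _).trans_lt ?_
  refine (Finset.sup_lt_iff (WithBot.bot_lt_coe m)).mpr ?_
  intro i hi
  rw [Finset.mem_range] at hi
  refine (Polynomial.degree_C_mul_X_pow_le _ _).trans_lt ?_
  exact WithBot.coe_lt_coe.mpr (by omega : m - (i + 1) < m)

theorem extPoly_monic (m : ℕ) (hm : (P.aug c).toNat = m) : (KRR.extPoly P c).Monic := by
  rw [extPoly_eq_X_pow_add P c m hm]
  exact Polynomial.monic_X_pow_add (degree_rest_lt c m)

theorem extPoly_natDegree (m : ℕ) (hm : (P.aug c).toNat = m) : (KRR.extPoly P c).natDegree = m := by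
  have hK : Nontrivial K := by
    obtain ⟨x, hx⟩ := P.aug_surjective 1
    refine ⟨⟨x, 0, ?_⟩⟩
    intro h
    rw [h, map_zero] at hx
    exact zero_ne_one hx
  rw [extPoly_eq_X_pow_add P c m hm]
  rw [Polynomial.natDegree_add_eq_left_of_degree_lt, Polynomial.natDegree_X_pow]
  rw [Polynomial.degree_X_pow]
  exact degree_rest_lt c m

theorem map_extPoly {A' : Type*} [CommRing A'] (g : K →+* A') (m : ℕ) (hm : (P.aug c).toNat = m) :
    (KRR.extPoly P c).map g = ∑ i ∈ range (m + 1), C (g (cc c i)) * X ^ (m - i) := by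
  rw [extPoly_eq P c m hm, Polynomial.map_sum]
  apply Finset.sum_congr rfl
  intro i _
  rw [Polynomial.map_mul, Polynomial.map_C, Polynomial.map_pow, Polynomial.map_X]

end monic

section lamA
open PowerSeries

variable {A : Type*} [CommRing A] [LambdaOps A]

/-- `λ^{i+1}(q + l) = λ^{i+1}(q) + l λ^i(q)` when `λ_t(l) = 1 + l t`. -/
theorem lam_succ_add_line (q l : A) (hl : ∀ i : ℕ, 2 ≤ i → LambdaOps.lam i l = 0) (i : ℕ) :
    LambdaOps.lam (i + 1) (q + l) = LambdaOps.lam (i + 1) q + l * LambdaOps.lam i q := by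
  have h := congrArg (coeff (i + 1)) (lamSeries_add q l)
  rw [lamSeries_of_lam_eq_zero l hl, mul_add, mul_one, ← mul_assoc, map_add, coeff_succ_mul_X,
    coeff_mul_C, coeff_lamSeries, coeff_lamSeries, coeff_lamSeries] at h
  rw [h]
  ring

end lamA

theorem sigma_zero {K : Type v} [CommRing K] [LambdaOps K] (e : K) : KRR.sigma 0 e = 1 := by
  unfold KRR.sigma KRR.sigmaSeries
  rw [PowerSeries.coeff_zero_eq_constantCoeff_apply, PowerSeries.constantCoeff_invOfUnit]
  simp


end Groth.Agent.Lib.Helper16.KRRPoly
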