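import Groth.Agent.Lib.Helper16.ARRLam3
import Groth.Agent.Lib.Helper16.KRRPoly
import Groth.Agent.Lib.Helper16.KRRFunctional
import Groth.Agent.S8651

set_option autoImplicit false
universe u v
open Polynomial

namespace Groth.Agent.Lib.Helper16.GE

open Groth.Agent.Lib.Helper20 LambdaRing Groth.Agent.Lib.Helper20.LR Groth.Agent.Lib.Helper16.KRRBott
  Groth.Agent.Lib.Helper16.ARRL

section Lines
variable {K : Type v} [CommRing K] [LambdaOps K] (P : PosStructure K)

lemma lam_line_eq_zero {a : K} (ha : P.IsLine a) (k : ℕ) (hk : 2 ≤ k) : LambdaOps.lam k a = 0 := by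
  apply P.lam_eq_zero a ha.1 k
  rw [ha.2]; exact_mod_cast hk

lemma gammaSeries_lines (s : Multiset K) (hs : ∀ a ∈ s, P.IsLine a) :
    gammaSeries (s.sum - (Multiset.card s : K)) = Sym.gpS (s.map fun a => a - 1) := by
  induction s using Multiset.induction_on with
  | empty => simp [gammaSeries_zero, Sym.gpS_zero]
  | cons a s ih =>
    have h1 : (a ::ₘ s).sum - ((Multiset.card (a ::ₘ s) : ℕ) : K) =
        (a - 1) + (s.sum - (Multiset.card s : K)) := by
      rw [Multiset.sum_cons, Multiset.card_cons]; push_cast; ring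
    rw [h1, gammaSeries_add, ih (fun b hb => hs b (Multiset.mem_cons_of_mem hb)), Multiset.map_cons,
      Sym.gpS_cons,
      Groth.Agent.S8651.gammaSeries_sub_one_of_line_like
        (fun k hk => lam_line_eq_zero P (isLine_one P) k hk) a
        (fun k hk => lam_line_eq_zero P (hs a (Multiset.mem_cons_self a s)) k hk)]

lemma gamma_lines (s : Multiset K) (hs : ∀ a ∈ s, P.IsLine a) (k : ℕ) :
    gamma k (s.sum - (Multiset.card s : K)) = (s.map fun a => a - 1).esymm k := by
  rw [← coeff_gammaSeries, gammaSeries_lines P s hs, Sym.coeff_gpS]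

omit [LambdaOps K] in
lemma prod_X_sub_C_shift (s : Multiset K) :
    (s.map fun a => (X - C a : K[X])).prod =
      ∑ j ∈ Finset.range (Multiset.card s + 1),
        (-1) ^ j * (C ((s.map fun a => a - 1).esymm j) * (X - C 1) ^ (Multiset.card s - j)) := by
  have h := congrArg (fun p : K[X] => p.comp (X - C 1))
    (Multiset.prod_X_sub_X_eq_sum_esymm (s.map fun a => a - 1))
  simp only [Multiset.card_map] at h
  rw [Multiset.map_map] at h
  have h2 : ((s.map ((fun t => (X - C t : K[X])) ∘ fun a => a - 1)).prod).comp (X - C 1) =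
      (s.map fun a => (X - C a : K[X])).prod := by
    rw [← coe_compRingHom_apply, map_multiset_prod, Multiset.map_map]
    congr 1
    apply Multiset.map_congr rfl
    intro a _
    simp only [Function.comp_apply, coe_compRingHom_apply, X_comp, C_comp, map_sub, map_one]
    ring
  rw [h2] at h
  rw [h, ← coe_compRingHom_apply, map_sum]
  apply Finset.sum_congr rfl
  intro j _
  simp only [coe_compRingHom_apply, mul_comp, pow_comp, neg_comp, one_comp, C_comp, X_comp]

end Lines

section ExtPoly
variable {K : Type v} [CommRing K] [LambdaOps K] (P : PosStructure K)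

theorem extPoly_eq_gamma (hK : HasSplitting K P) (e : K) (he : e ∈ P.pos) (m : ℕ)
    (hm : (P.aug e).toNat = m) :
    KRR.extPoly P e = ∑ j ∈ Finset.range (m + 1),
      (-1) ^ j * (C (gamma j (e - (m : K))) * (X - C 1) ^ (m - j)) := by
  obtain ⟨Cl, hKC, hC⟩ := hK
  obtain ⟨L', hL', g, hg, s, hs, hse⟩ := hC ⟨K, P⟩ hKC e he
  have hcard : Multiset.card s = m := by
    have h1 := aug_multiset_sum_lines L'.posStr s hs
    rw [hse, hg.aug_comp] at h1
    have : (P.aug e).toNat = Multiset.card s := by rw [h1]; simp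
    rw [← this, hm]
  apply Polynomial.map_injective (g : K →+* L'.carrier) hg.injective
  rw [KRRPoly.map_extPoly P e g m hm, Polynomial.map_sum]
  have h1 := Multiset.prod_X_sub_X_eq_sum_esymm s
  have h2 := prod_X_sub_C_shift s
  rw [hcard] at h1 h2
  have h3 : ∑ i ∈ Finset.range (m + 1), C (g (KRRFunctional.cc e i)) * X ^ (m - i) =
      (s.map fun a => (X - C a : L'.carrier[X])).prod := by
    rw [h1]
    apply Finset.sum_congr rfl
    intro i _
    rw [KRRFunctional.cc, map_mul, map_pow, map_neg, map_one, hg.isLambdaHom]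
    change C ((-1) ^ i * LambdaOps.lam i (g e)) * X ^ (m - i) = _
    rw [← hse, lam_lines_esymm L'.posStr s hs, C_mul, C_pow, C_neg, C_1, mul_assoc]
  rw [h3, h2]
  apply Finset.sum_congr rfl
  intro j _
  have h5 : g (gamma j (e - (m : K))) = (s.map fun a => a - 1).esymm j := by
    rw [GFP.map_gamma g hg.isLambdaHom, map_sub, map_natCast]
    change gamma j (g e - (m : L'.carrier)) = _
    rw [← hse, ← hcard, gamma_lines L'.posStr s hs]
  simp only [Polynomial.map_mul, Polynomial.map_pow, Polynomial.map_sub, Polynomial.map_neg,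
    Polynomial.map_one, map_X, map_C, h5, map_one]

end ExtPoly

end Groth.Agent.Lib.Helper16.GE
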