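import Groth.Agent.Lib.Helper16.GammaExt1

set_option autoImplicit false
set_option linter.unusedSectionVars false
universe u v
open Polynomial

namespace Groth.Agent.Lib.Helper16.GE

open Groth.Agent.Lib.Helper20 LambdaRing Groth.Agent.Lib.Helper20.LR Groth.Agent.Lib.Helper16.KRRBott
  Groth.Agent.Lib.Helper16.ARRL

section Gen
variable {K : Type v} [CommRing K] [LambdaOps K] (P : PosStructure K)
  {B : Type v} [CommRing B] [LambdaOps B] [Algebra K B] (Pe : PosStructure B)

/-- the setting: an extension generated by a line element satisfying the relation `p_e`. -/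
structure ESetting (e : K) (r : ℕ) (ℓ : B) : Prop where
  hK : HasSplitting K P
  he : e ∈ P.pos
  hr : P.aug e = r + 1
  hext : IsExtension P Pe (algebraMap K B)
  hline : Pe.IsLine ℓ
  hsplit : HasSplitting B Pe
  hgen : ∀ b : B, ∃ g : K[X], aeval ℓ g = b
  hrel : aeval ℓ (KRR.extPoly P e) = 0

/-- the candidate filtration `Σ_i F^{k-i} K (ℓ-1)^i`. -/
def G (r : ℕ) (ℓ : B) (k : ℕ) : AddSubgroup B :=
  AddSubgroup.closure {y | ∃ (i : ℕ) (x : K), i ≤ r ∧ x ∈ gammaFiltration P (k - i) ∧
    y = algebraMap K B x * (ℓ - 1) ^ i}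

variable {P Pe}

lemma mem_G {r : ℕ} {ℓ : B} {k i : ℕ} (hi : i ≤ r) {x : K} (hx : x ∈ gammaFiltration P (k - i)) :
    algebraMap K B x * (ℓ - 1) ^ i ∈ G P r ℓ k :=
  AddSubgroup.subset_closure ⟨i, x, hi, hx, rfl⟩

lemma G_anti {r : ℕ} {ℓ : B} {k k' : ℕ} (h : k ≤ k') : G P r ℓ k' ≤ G P r ℓ k := by
  apply AddSubgroup.closure_mono
  rintro y ⟨i, x, hi, hx, rfl⟩
  exact ⟨i, x, hi, GFP.filt_anti P (Nat.sub_le_sub_right h i) hx, rfl⟩

lemma smul_G {r : ℕ} {ℓ : B} {a b : ℕ} {x : K} (hx : x ∈ gammaFiltration P a) {y : B}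
    (hy : y ∈ G P r ℓ b) : algebraMap K B x * y ∈ G P r ℓ (a + b) := by
  induction hy using AddSubgroup.closure_induction with
  | mem y hy =>
    obtain ⟨i, x', hi, hx', rfl⟩ := hy
    rw [← mul_assoc, ← map_mul]
    apply mem_G hi
    exact GFP.filt_anti P (by omega) (GFP.mul_mem P hx hx')
  | zero => rw [mul_zero]; exact zero_mem _
  | add y z _ _ hy hz => rw [mul_add]; exact add_mem hy hz
  | neg y _ hy => rw [mul_neg]; exact neg_mem hy

lemma neg_one_pow_mul_mem {H : AddSubgroup B} (j : ℕ) {z : B} (hz : z ∈ H) : (-1) ^ j * z ∈ H := by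
  rcases neg_one_pow_eq_or B j with h | h
  · rw [h, one_mul]; exact hz
  · rw [h, neg_one_mul]; exact neg_mem hz

variable {e : K} {r : ℕ} {ℓ : B} (S : ESetting P Pe e r ℓ)
include S

lemma ESetting.hm : (P.aug e).toNat = r + 1 := by rw [S.hr]; omega

lemma ESetting.relation :
    ∑ j ∈ Finset.range (r + 2), (-1) ^ j *
      (algebraMap K B (gamma j (e - ((r + 1 : ℕ) : K))) * (ℓ - 1) ^ (r + 1 - j)) = 0 := by
  have h := S.hrel
  rw [extPoly_eq_gamma P S.hK e S.he (r + 1) S.hm, map_sum] at h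
  rw [← h]
  apply Finset.sum_congr rfl
  intro j _
  simp only [map_mul, map_pow, map_neg, map_one, map_sub, aeval_C, aeval_X]

lemma ESetting.gamma_e_mem (j : ℕ) : gamma j (e - ((r + 1 : ℕ) : K)) ∈ gammaFiltration P j := by
  apply GFP.gamma_mem P
  rw [map_sub, S.hr, map_natCast]; push_cast; ring

lemma ESetting.pow_mem (n : ℕ) : (ℓ - 1) ^ n ∈ G P r ℓ n := by
  induction n using Nat.strong_induction_on with
  | _ n ih =>
    by_cases hn : n ≤ r
    · have h1 : (1 : K) ∈ gammaFiltration P (n - n) := by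
        rw [Nat.sub_self, GFP.filt_zero]; trivial
      have := mem_G (ℓ := ℓ) hn h1
      rwa [map_one, one_mul] at this
    · have hrel := S.relation
      rw [Finset.sum_range_succ'] at hrel
      simp only [pow_zero, one_mul, Nat.sub_zero] at hrel
      have hg0 : gamma 0 (e - ((r + 1 : ℕ) : K)) = 1 := GF.gamma_zero_left _
      rw [hg0, map_one, one_mul] at hrel
      have h2 : (ℓ - 1) ^ n = -∑ j ∈ Finset.range (r + 1), (-1) ^ (j + 1) *
          (algebraMap K B (gamma (j + 1) (e - ((r + 1 : ℕ) : K))) *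
            ((ℓ - 1) ^ (r + 1 - (j + 1)) * (ℓ - 1) ^ (n - (r + 1)))) := by
        have h3 : (ℓ - 1) ^ n = (ℓ - 1) ^ (r + 1) * (ℓ - 1) ^ (n - (r + 1)) := by
          rw [← pow_add]; congr 1; omega
        rw [h3, eq_neg_of_add_eq_zero_right hrel, neg_mul, Finset.sum_mul]
        congr 1
        apply Finset.sum_congr rfl
        intro j _
        ring
      rw [h2]
      apply neg_mem
      apply sum_mem
      intro j hj
      have hj' : j < r + 1 := Finset.mem_range.mp hj
      apply neg_one_pow_mul_mem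
      rw [← pow_add]
      have h4 : r + 1 - (j + 1) + (n - (r + 1)) < n := by omega
      have h5 := smul_G (S.gamma_e_mem (j + 1)) (ih _ h4)
      exact G_anti (by omega) h5

lemma ESetting.mul_G {a b : ℕ} {y z : B} (hy : y ∈ G P r ℓ a) (hz : z ∈ G P r ℓ b) :
    y * z ∈ G P r ℓ (a + b) := by
  induction hy using AddSubgroup.closure_induction with
  | mem y hy =>
    obtain ⟨i, x, hi, hx, rfl⟩ := hy
    induction hz using AddSubgroup.closure_induction with
    | mem z hz =>
      obtain ⟨i', x', hi', hx', rfl⟩ := hz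
      have h1 : algebraMap K B x * (ℓ - 1) ^ i * (algebraMap K B x' * (ℓ - 1) ^ i') =
          algebraMap K B (x * x') * (ℓ - 1) ^ (i + i') := by
        rw [map_mul, pow_add]; ring
      rw [h1]
      exact G_anti (by omega) (smul_G (GFP.mul_mem P hx hx') (S.pow_mem (i + i')))
    | zero => rw [mul_zero]; exact zero_mem _
    | add y z _ _ hy hz => rw [mul_add]; exact add_mem hy hz
    | neg y _ hy => rw [mul_neg]; exact neg_mem hy
  | zero => rw [zero_mul]; exact zero_mem _
  | add y z _ _ hy hz => rw [add_mul]; exact add_mem hy hz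
  | neg y _ hy => rw [neg_mul]; exact neg_mem hy

lemma ESetting.one_mem : (1 : B) ∈ G P r ℓ 0 := by
  have := S.pow_mem 0
  rwa [pow_zero] at this

end Gen

end Groth.Agent.Lib.Helper16.GE
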