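import Groth.Agent.Lib.Helper16.GammaExt2
import Groth.Agent.Lib.Helper20.GammaFil

set_option autoImplicit false
set_option linter.unusedSectionVars false
universe u v
open Polynomial

namespace Groth.Agent.Lib.Helper16.GE

open Groth.Agent.Lib.Helper20 LambdaRing Groth.Agent.Lib.Helper20.LR Groth.Agent.Lib.Helper16.KRRBott
  Groth.Agent.Lib.Helper16.ARRL

section Vieta
variable {R : Type v} [CommRing R]

lemma esymm_map_mul_right (t : Multiset R) (c : R) (k : ℕ) :
    (t.map fun v => v * c).esymm k = t.esymm k * c ^ k := by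
  unfold Multiset.esymm
  rw [Multiset.powersetCard_map, Multiset.map_map, ← Multiset.sum_map_mul_right]
  congr 1
  apply Multiset.map_congr rfl
  intro t' ht'
  rw [Multiset.mem_powersetCard] at ht'
  simp only [Function.comp_apply]
  rw [Multiset.prod_map_mul, Multiset.map_const', Multiset.prod_replicate, ht'.2, Multiset.map_id']

lemma prod_add_mul (t : Multiset R) (Z W : R) :
    (t.map fun v => Z + v * W).prod =
      ∑ j ∈ Finset.range (Multiset.card t + 1), t.esymm j * W ^ j * Z ^ (Multiset.card t - j) := by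
  have h := congrArg (Polynomial.eval Z) (Multiset.prod_X_add_C_eq_sum_esymm (t.map fun v => v * W))
  rw [Multiset.card_map, eval_multiset_prod, Multiset.map_map, Multiset.map_map, eval_finsetSum] at h
  have h2 : ∀ v ∈ t, ((eval Z ∘ fun r => (X + C r : R[X])) ∘ fun v => v * W) v = Z + v * W := by
    intro v _
    simp
  rw [Multiset.map_congr rfl h2] at h
  rw [h]
  apply Finset.sum_congr rfl
  intro j _
  rw [eval_mul, eval_C, eval_pow, eval_X, esymm_map_mul_right]

end Vieta

section Adm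
variable {K : Type v} [CommRing K] [LambdaOps K] {P : PosStructure K}
  {B : Type v} [CommRing B] [LambdaOps B] [Algebra K B] {Pe : PosStructure B}

/-- admissible power series: the `n`-th coefficient lies in `G n`. -/
def Adm (P : PosStructure K) (r : ℕ) (ℓ : B) (Q : PowerSeries B) : Prop :=
  ∀ n, PowerSeries.coeff n Q ∈ G P r ℓ n

variable {e : K} {r : ℕ} {ℓ : B} (S : ESetting P Pe e r ℓ)
include S

lemma ESetting.adm_one : Adm P r ℓ (1 : PowerSeries B) := by
  intro n
  rw [PowerSeries.coeff_one]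
  split_ifs with h
  · rw [h]; exact S.one_mem
  · exact zero_mem _

lemma ESetting.adm_mul {Q Q' : PowerSeries B} (hQ : Adm P r ℓ Q) (hQ' : Adm P r ℓ Q') :
    Adm P r ℓ (Q * Q') := by
  intro n
  rw [PowerSeries.coeff_mul]
  apply sum_mem
  intro p hp
  rw [Finset.mem_antidiagonal] at hp
  rw [← hp]
  exact S.mul_G (hQ p.1) (hQ' p.2)

lemma ESetting.adm_pow {Q : PowerSeries B} (hQ : Adm P r ℓ Q) (n : ℕ) : Adm P r ℓ (Q ^ n) := by
  induction n with
  | zero => rw [pow_zero]; exact S.adm_one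
  | succ n ih => rw [pow_succ]; exact S.adm_mul ih hQ

lemma ESetting.adm_sum {ι : Type*} (s : Finset ι) (Q : ι → PowerSeries B)
    (hQ : ∀ i ∈ s, Adm P r ℓ (Q i)) : Adm P r ℓ (∑ i ∈ s, Q i) := by
  intro n
  rw [map_sum]
  exact sum_mem (fun i hi => hQ i hi n)

lemma ESetting.adm_monomial {a : ℕ} {z : B} (hz : z ∈ G P r ℓ a) :
    Adm P r ℓ (PowerSeries.C z * PowerSeries.X ^ a) := by
  intro n
  rw [PowerSeries.coeff_C_mul, PowerSeries.coeff_X_pow]
  split_ifs with h
  · rw [h, mul_one]; exact hz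
  · rw [mul_zero]; exact zero_mem _

lemma ESetting.adm_lin {z : B} (hz : z ∈ G P r ℓ 1) :
    Adm P r ℓ (1 + PowerSeries.C z * PowerSeries.X) := by
  intro n
  rw [map_add]
  apply add_mem (S.adm_one n)
  have := S.adm_monomial hz n
  rwa [pow_one] at this

lemma ESetting.ell_mem : ℓ ∈ G P r ℓ 0 := by
  have h2 : 1 + (ℓ - 1) ^ 1 ∈ G P r ℓ 0 :=
    add_mem S.one_mem (G_anti (Nat.zero_le 1) (S.pow_mem 1))
  have h1 : 1 + (ℓ - 1) ^ 1 = ℓ := by ring
  rwa [h1] at h2

lemma ESetting.ell_pow_mem (n : ℕ) : ℓ ^ n ∈ G P r ℓ 0 := by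
  induction n with
  | zero => rw [pow_zero]; exact S.one_mem
  | succ n ih =>
    rw [pow_succ]
    have := S.mul_G (a := 0) (b := 0) ih S.ell_mem
    rwa [Nat.add_zero] at this

lemma ESetting.ell_pow_sub_one_mem (n : ℕ) : ℓ ^ n - 1 ∈ G P r ℓ 1 := by
  rw [← mul_geom_sum]
  have h1 : (ℓ - 1) ∈ G P r ℓ 1 := by
    have := S.pow_mem 1
    rwa [pow_one] at this
  have h2 : ∑ i ∈ Finset.range n, ℓ ^ i ∈ G P r ℓ 0 := sum_mem (fun i _ => S.ell_pow_mem i)
  have := S.mul_G (a := 1) (b := 0) h1 h2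
  rwa [Nat.add_zero] at this

/-- `x` has all its `γ`-operations in the candidate filtration -/
def InΓ (P : PosStructure K) (r : ℕ) (ℓ : B) (x : B) : Prop := ∀ n, gamma n x ∈ G P r ℓ n

lemma ESetting.inΓ_of_adm {x : B} (h : Adm P r ℓ (gammaSeries x)) : InΓ P r ℓ x := by
  intro n
  have := h n
  rwa [coeff_gammaSeries] at this

lemma ESetting.inΓ_zero : InΓ P r ℓ (0 : B) := by
  apply S.inΓ_of_adm
  rw [gammaSeries_zero]
  exact S.adm_one

lemma ESetting.inΓ_add {x y : B} (hx : InΓ P r ℓ x) (hy : InΓ P r ℓ y) : InΓ P r ℓ (x + y) := by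
  apply S.inΓ_of_adm
  rw [gammaSeries_add]
  apply S.adm_mul
  · intro n; rw [coeff_gammaSeries]; exact hx n
  · intro n; rw [coeff_gammaSeries]; exact hy n

lemma ESetting.inΓ_neg {x : B} (hx : InΓ P r ℓ x) : InΓ P r ℓ (-x) := by
  intro n
  induction n using Nat.strong_induction_on with
  | _ n ih =>
    rcases Nat.eq_zero_or_pos n with h0 | hpos
    · rw [h0, GF.gamma_zero_left]; exact S.one_mem
    · rw [GF.gamma_neg_rec x hpos]
      apply neg_mem
      apply sum_mem
      intro j hj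
      have hj' : j < n := Finset.mem_range.mp hj
      have := S.mul_G (hx (n - j)) (ih j hj')
      rwa [Nat.sub_add_cancel hj'.le] at this

lemma ESetting.inΓ_sub {x y : B} (hx : InΓ P r ℓ x) (hy : InΓ P r ℓ y) : InΓ P r ℓ (x - y) := by
  rw [sub_eq_add_neg]
  exact S.inΓ_add hx (S.inΓ_neg hy)

lemma ESetting.inΓ_sum {ι : Type*} (s : Finset ι) (x : ι → B) (hx : ∀ i ∈ s, InΓ P r ℓ (x i)) :
    InΓ P r ℓ (∑ i ∈ s, x i) := by
  classical
  induction s using Finset.induction_on with
  | empty => rw [Finset.sum_empty]; exact S.inΓ_zero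
  | insert a s ha ih =>
    rw [Finset.sum_insert ha]
    exact S.inΓ_add (hx a (Finset.mem_insert_self a s))
      (ih (fun i hi => hx i (Finset.mem_insert_of_mem hi)))

end Adm

end Groth.Agent.Lib.Helper16.GE
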