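import Groth.Agent.Lib.Helper16.GammaExt3

set_option autoImplicit false
set_option linter.unusedSectionVars false
universe u v
open Polynomial

namespace Groth.Agent.Lib.Helper16.GE

open Groth.Agent.Lib.Helper20 LambdaRing Groth.Agent.Lib.Helper20.LR Groth.Agent.Lib.Helper16.KRRBott
  Groth.Agent.Lib.Helper16.ARRL

section Main
variable {K : Type v} [CommRing K] [LambdaOps K] {P : PosStructure K}
  {B : Type v} [CommRing B] [LambdaOps B] [Algebra K B] {Pe : PosStructure B}
variable {e : K} {r : ℕ} {ℓ : B} (S : ESetting P Pe e r ℓ)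
include S

/-- the explicit `γ`-series of `p ℓ^i - ε(p)` -/
noncomputable def Qser (p : K) (s i : ℕ) (ℓ : B) : PowerSeries B :=
  ∑ j ∈ Finset.range (s + 1),
    PowerSeries.C (algebraMap K B (gamma j (p - (s : K))) * (ℓ ^ i) ^ j) * PowerSeries.X ^ j *
      (1 + PowerSeries.C (ℓ ^ i - 1) * PowerSeries.X) ^ (s - j)

lemma ESetting.adm_Qser (p : K) (s i : ℕ) (hs : P.aug p = s) : Adm P r ℓ (Qser p s i ℓ) := by
  unfold Qser
  apply S.adm_sum
  intro j _
  apply S.adm_mul
  · apply S.adm_monomial
    have h1 : gamma j (p - (s : K)) ∈ gammaFiltration P j := by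
      apply GFP.gamma_mem P
      rw [map_sub, hs, map_natCast, sub_self]
    have h2 : (ℓ ^ i) ^ j ∈ G P r ℓ 0 := by rw [← pow_mul]; exact S.ell_pow_mem _
    have := smul_G h1 h2
    rwa [Nat.add_zero] at this
  · exact S.adm_pow (S.adm_lin (S.ell_pow_sub_one_mem i)) _

lemma ESetting.gammaSeries_gen (p : K) (hp : p ∈ P.pos) (s i : ℕ) (hs : P.aug p = s) :
    gammaSeries (algebraMap K B p * ℓ ^ i - (s : B)) = Qser p s i ℓ := by
  obtain ⟨Cl, hBC, hC⟩ := S.hsplit
  obtain ⟨L', hL', ι, hι, u, hu, hup⟩ := hC ⟨B, Pe⟩ hBC (algebraMap K B p) (S.hext.pos_subset p hp)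
  have hcard : Multiset.card u = s := by
    have h1 := aug_multiset_sum_lines L'.posStr u hu
    rw [hup, hι.aug_comp] at h1
    change Pe.aug (algebraMap K B p) = _ at h1
    rw [S.hext.aug_comp, hs] at h1
    exact_mod_cast h1.symm
  have hinj : Function.Injective (PowerSeries.map (ι : B →+* L'.carrier)) := by
    intro Q Q' h
    ext n
    apply hι.injective
    have := congrArg (PowerSeries.coeff n) h
    rwa [PowerSeries.coeff_map, PowerSeries.coeff_map] at this
  apply hinj
  -- left side
  have hL : PowerSeries.map (ι : B →+* L'.carrier) (gammaSeries (algebraMap K B p * ℓ ^ i - (s : B))) =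
      gammaSeries (ι (algebraMap K B p * ℓ ^ i - (s : B))) := by
    ext n
    rw [PowerSeries.coeff_map, coeff_gammaSeries, coeff_gammaSeries, GFP.map_gamma ι hι.isLambdaHom]
  rw [hL]
  set lam' : L'.carrier := ι ℓ ^ i with hlam
  have hline : ∀ a ∈ u.map (fun a => a * lam'), L'.posStr.IsLine a := by
    intro a ha
    rw [Multiset.mem_map] at ha
    obtain ⟨a', ha', rfl⟩ := ha
    exact isLine_mul L'.posStr (hu a' ha') (isLine_pow L'.posStr (isLine_map ι hι S.hline) i)
  have h1 : ι (algebraMap K B p * ℓ ^ i - (s : B)) =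
      (u.map (fun a => a * lam')).sum - (Multiset.card (u.map (fun a => a * lam')) : L'.carrier) := by
    rw [Multiset.sum_map_mul_right, Multiset.map_id', hup, Multiset.card_map, hcard, map_sub, map_mul,
      map_pow, map_natCast]
  rw [h1, gammaSeries_lines L'.posStr _ hline, Multiset.map_map]
  -- Vieta
  unfold Sym.gpS
  rw [Multiset.map_map]
  have h2 : ∀ a ∈ u, ((fun v => (1 + PowerSeries.C v * PowerSeries.X : PowerSeries L'.carrier)) ∘
      ((fun a => a - 1) ∘ fun a => a * lam')) a =
      (1 + PowerSeries.C (lam' - 1) * PowerSeries.X) +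
        PowerSeries.C (a - 1) * (PowerSeries.C lam' * PowerSeries.X) := by
    intro a _
    simp only [Function.comp_apply, map_sub, map_mul, map_one]
    ring
  rw [Multiset.map_congr rfl h2]
  have h3 := prod_add_mul ((u.map fun a => a - 1).map (PowerSeries.C (R := L'.carrier)))
    (1 + PowerSeries.C (lam' - 1) * PowerSeries.X) (PowerSeries.C lam' * PowerSeries.X)
  rw [Multiset.card_map, Multiset.card_map, hcard] at h3
  simp only [Multiset.map_map] at h3
  refine Eq.trans (by rfl) (h3.trans ?_)
  unfold Qser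
  rw [map_sum]
  apply Finset.sum_congr rfl
  intro j _
  have h4 : (u.map ((PowerSeries.C (R := L'.carrier)) ∘ fun a => a - 1)).esymm j =
      PowerSeries.C (ι (algebraMap K B (gamma j (p - (s : K))))) := by
    rw [← Multiset.map_map, ← Sym.map_esymm, ← gamma_lines L'.posStr u hu, hup, hcard,
      ← map_natCast ι, ← map_sub, ← GFP.map_gamma ι hι.isLambdaHom, ← map_natCast (algebraMap K B),
      ← map_sub, ← GFP.map_gamma (algebraMap K B) S.hext.isLambdaHom]
  rw [h4]
  simp only [map_mul, map_pow, map_add, map_one, map_sub, PowerSeries.map_C, PowerSeries.map_X, hlam]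
  ring

end Main

end Groth.Agent.Lib.Helper16.GE
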