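import Groth.Agent.Lib.Helper16.GammaExt4
import Groth.Agent.Lib.Helper20.AdamsFilt

set_option autoImplicit false
set_option linter.unusedSectionVars false
universe u v
open Polynomial

namespace Groth.Agent.Lib.Helper16.GE

open Groth.Agent.Lib.Helper20 LambdaRing Groth.Agent.Lib.Helper20.LR Groth.Agent.Lib.Helper16.KRRBott
  Groth.Agent.Lib.Helper16.ARRL

section MapFilt
variable {K K' : Type v} [CommRing K] [LambdaOps K] [CommRing K'] [LambdaOps K']
  {P : PosStructure K} {P' : PosStructure K'}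

lemma map_mem_gammaFiltration (f : K →+* K') (hf : IsExtension P P' f) (n : ℕ) {x : K}
    (hx : x ∈ gammaFiltration P n) : f x ∈ gammaFiltration P' n := by
  by_cases hn : n = 0
  · subst hn; rw [GFP.filt_zero]; trivial
  · rw [Groth.Agent.S3291.filt_succ P n hn] at hx
    induction hx using AddSubgroup.closure_induction with
    | mem y hy =>
      obtain ⟨l, h1, h2, rfl⟩ := hy
      rw [map_list_prod, List.map_map]
      have h3 : (l.map (f ∘ fun p => gamma p.1 p.2)) =
          (l.map fun p => (p.1, f p.2)).map fun p => gamma p.1 p.2 := by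
        rw [List.map_map]
        apply List.map_congr_left
        intro p _
        simp only [Function.comp_apply]
        exact GFP.map_gamma f hf.isLambdaHom _ _
      rw [h3]
      apply GFP.gen_mem P'
      · intro p hp
        rw [List.mem_map] at hp
        obtain ⟨q, hq, rfl⟩ := hp
        simp only
        rw [hf.aug_comp, h1 q hq]
      · rw [List.map_map]
        exact h2
    | zero => rw [map_zero]; exact zero_mem _
    | add y z _ _ hy hz => rw [map_add]; exact add_mem hy hz
    | neg y _ hy => rw [map_neg]; exact neg_mem hy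

end MapFilt

section Main
variable {K : Type v} [CommRing K] [LambdaOps K] {P : PosStructure K}
  {B : Type v} [CommRing B] [LambdaOps B] [Algebra K B] {Pe : PosStructure B}
variable {e : K} {r : ℕ} {ℓ : B} (S : ESetting P Pe e r ℓ)
include S

lemma ESetting.inΓ_gen (p : K) (hp : p ∈ P.pos) (i : ℕ) :
    InΓ P r ℓ (algebraMap K B p * ℓ ^ i - (((P.aug p).toNat : ℕ) : B)) := by
  have hs : P.aug p = ((P.aug p).toNat : ℕ) := by
    rw [Int.toNat_of_nonneg (P.aug_pos p hp).le]
  apply S.inΓ_of_adm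
  rw [S.gammaSeries_gen p hp _ i hs]
  exact S.adm_Qser p _ i hs

lemma ESetting.inΓ_of_aug_zero (x : B) (hx : Pe.aug x = 0) : InΓ P r ℓ x := by
  obtain ⟨g, rfl⟩ := S.hgen x
  have hdec : ∀ n : ℕ, ∃ p q : K, p ∈ P.pos ∧ q ∈ P.pos ∧ g.coeff n = p - q := fun n =>
    P.exists_sub (g.coeff n)
  choose p q hp hq hpq using hdec
  set N := g.natDegree + 1 with hN
  have h1 : aeval ℓ g = ∑ n ∈ Finset.range N, algebraMap K B (g.coeff n) * ℓ ^ n := by
    rw [aeval_eq_sum_range]
    apply Finset.sum_congr rfl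
    intro n _
    rw [Algebra.smul_def]
  set c : ℤ := ∑ n ∈ Finset.range N, (((P.aug (p n)).toNat : ℤ) - ((P.aug (q n)).toNat : ℤ)) with hc
  have h2 : aeval ℓ g = ∑ n ∈ Finset.range N,
      ((algebraMap K B (p n) * ℓ ^ n - (((P.aug (p n)).toNat : ℕ) : B)) -
        (algebraMap K B (q n) * ℓ ^ n - (((P.aug (q n)).toNat : ℕ) : B))) + (c : B) := by
    rw [h1, hc]
    push_cast
    rw [← Finset.sum_add_distrib]
    apply Finset.sum_congr rfl
    intro n _
    rw [hpq n, map_sub]
    ring
  have hY : ∀ n, Pe.aug (algebraMap K B (p n) * ℓ ^ n - (((P.aug (p n)).toNat : ℕ) : B)) = 0 := by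
    intro n
    rw [map_sub, map_mul, map_pow, S.hline.2, one_pow, mul_one, S.hext.aug_comp, map_natCast,
      Int.toNat_of_nonneg (P.aug_pos _ (hp n)).le, sub_self]
  have hZ : ∀ n, Pe.aug (algebraMap K B (q n) * ℓ ^ n - (((P.aug (q n)).toNat : ℕ) : B)) = 0 := by
    intro n
    rw [map_sub, map_mul, map_pow, S.hline.2, one_pow, mul_one, S.hext.aug_comp, map_natCast,
      Int.toNat_of_nonneg (P.aug_pos _ (hq n)).le, sub_self]
  have hc0 : c = 0 := by
    have h3 := congrArg Pe.aug h2
    rw [hx, map_add, map_sum, map_intCast] at h3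
    have h4 : ∑ n ∈ Finset.range N, Pe.aug
        ((algebraMap K B (p n) * ℓ ^ n - (((P.aug (p n)).toNat : ℕ) : B)) -
        (algebraMap K B (q n) * ℓ ^ n - (((P.aug (q n)).toNat : ℕ) : B))) = 0 := by
      apply Finset.sum_eq_zero
      intro n _
      rw [map_sub, hY, hZ, sub_zero]
    rw [h4, zero_add] at h3
    simpa using h3.symm
  rw [h2, hc0, Int.cast_zero, add_zero]
  apply S.inΓ_sum
  intro n _
  exact S.inΓ_sub (S.inΓ_gen (p n) (hp n) n) (S.inΓ_gen (q n) (hq n) n)

lemma ESetting.top_le_G_zero : ∀ b : B, b ∈ G P r ℓ 0 := by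
  intro b
  obtain ⟨g, rfl⟩ := S.hgen b
  rw [aeval_eq_sum_range]
  apply sum_mem
  intro n _
  rw [Algebra.smul_def]
  have h1 : g.coeff n ∈ gammaFiltration P 0 := by rw [GFP.filt_zero]; trivial
  have := smul_G h1 (S.ell_pow_mem n)
  rwa [Nat.add_zero] at this

lemma ESetting.list_prod_mem (l : List (ℕ × B)) (h1 : ∀ p ∈ l, Pe.aug p.2 = 0) :
    (l.map fun p => gamma p.1 p.2).prod ∈ G P r ℓ (l.map Prod.fst).sum := by
  induction l with
  | nil => simp only [List.map_nil, List.prod_nil, List.sum_nil]; exact S.one_mem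
  | cons a l ih =>
    simp only [List.map_cons, List.prod_cons, List.sum_cons]
    exact S.mul_G (S.inΓ_of_aug_zero a.2 (h1 a (List.mem_cons_self)) a.1)
      (ih (fun p hp => h1 p (List.mem_cons_of_mem a hp)))

theorem ESetting.filt_le_G (k : ℕ) : gammaFiltration Pe k ≤ G P r ℓ k := by
  by_cases hk : k = 0
  · subst hk
    intro b _
    exact S.top_le_G_zero b
  · rw [Groth.Agent.S3291.filt_succ Pe k hk, AddSubgroup.closure_le]
    rintro y ⟨l, h1, h2, rfl⟩
    exact G_anti h2 (S.list_prod_mem l h1)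

theorem ESetting.G_le_filt (k : ℕ) : G P r ℓ k ≤ gammaFiltration Pe k := by
  unfold G
  rw [AddSubgroup.closure_le]
  rintro y ⟨i, x, _, hx, rfl⟩
  have h1 := map_mem_gammaFiltration (algebraMap K B) S.hext _ hx
  have h2 : (ℓ - 1) ∈ gammaFiltration Pe 1 := by
    have := GFP.gamma_mem Pe (y := ℓ - 1) (by rw [map_sub, S.hline.2, map_one, sub_self]) 1
    rwa [GF.gamma_one_left] at this
  have h3 := AF.pow_mem Pe h2 i
  rw [Nat.mul_one] at h3
  exact GFP.filt_anti Pe (by omega) (GFP.mul_mem Pe h1 h3)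

theorem ESetting.filt_eq_G (k : ℕ) : gammaFiltration Pe k = G P r ℓ k :=
  le_antisymm (S.filt_le_G k) (S.G_le_filt k)

end Main

section Sup
variable {K : Type v} [CommRing K] [LambdaOps K] (P : PosStructure K)
  {B : Type v} [CommRing B] [LambdaOps B] [Algebra K B]

lemma G_eq_iSup (r : ℕ) (ℓ : B) (k : ℕ) :
    G P r ℓ k = ⨆ i ∈ Finset.range (r + 1), AddSubgroup.map
      ((AddMonoidHom.mulRight ((ℓ - 1) ^ i)).comp (algebraMap K B).toAddMonoidHom)
      (gammaFiltration P (k - i)) := by
  apply le_antisymm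
  · unfold G
    rw [AddSubgroup.closure_le]
    rintro y ⟨i, x, hi, hx, rfl⟩
    have hi' : i ∈ Finset.range (r + 1) := Finset.mem_range.mpr (Nat.lt_succ_of_le hi)
    refine (le_iSup₂ (f := fun i (_ : i ∈ Finset.range (r + 1)) => AddSubgroup.map
      ((AddMonoidHom.mulRight ((ℓ - 1) ^ i)).comp (algebraMap K B).toAddMonoidHom)
      (gammaFiltration P (k - i))) i hi') ?_
    exact ⟨x, hx, rfl⟩
  · apply iSup₂_le
    intro i hi
    rintro y ⟨x, hx, rfl⟩
    exact mem_G (Nat.lt_succ_iff.mp (Finset.mem_range.mp hi)) hx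

end Sup

end Groth.Agent.Lib.Helper16.GE
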