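import Groth.Agent.Lib.Helper20.LambdaGamma
import Groth.Agent.Lib.Helper20.GammaFiltPos
import Mathlib.RingTheory.PowerSeries.Derivative
import Mathlib.Tactic

/-!
# Helper library (helper16): Newton-type relation between the γ-operations and the Adams operations

`X * Γ' = Γ * B` where `Γ = γ_t(x)` and `B = Σ_m b_m t^m`, `b_m = Σ_{k=1}^m (-1)^(k+1) C(m,k) ψ^k(x)`.
-/

set_option autoImplicit false
universe u

open PowerSeries Finset

namespace Groth.Agent.Lib.Helper16.GN

open LambdaRing Groth.Agent.Lib.Helper20.LR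

variable {K : Type u} [CommRing K] [LambdaOps K] (P : PosStructure K)

/-- `A(t) = Σ_{k ≥ 1} (-1)^(k+1) ψ^k(x) t^k`. -/
noncomputable def Aser (x : K) : PowerSeries K :=
  PowerSeries.mk fun k => if k = 0 then 0 else (-1 : K) ^ (k + 1) * adams P k x

lemma coeff_Aser (x : K) (k : ℕ) :
    coeff k (Aser P x) = if k = 0 then 0 else (-1 : K) ^ (k + 1) * adams P k x := coeff_mk _ _

lemma Aser_add (x y : K) : Aser P (x + y) = Aser P x + Aser P y := by
  ext k
  rw [map_add, coeff_Aser, coeff_Aser, coeff_Aser]
  split_ifs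
  · simp
  · rw [adams_add]; ring

lemma adams_zero_eq (x : K) : adams P 0 x = (P.aug x : K) := by
  unfold adams
  rw [adamsSeries_eq]
  simp

/-- `(C ε - ψ_t) * λ_{-t} = t * (λ_{-t})'`. -/
lemma adams_key (x : K) :
    (PowerSeries.C (P.aug x : K) - adamsSeries P x) * negSeries x =
      X * PowerSeries.derivative K (negSeries x) := by
  rw [adamsSeries_eq, sub_sub_cancel]
  calc X * (PowerSeries.derivative K (negSeries x)) * (negSeries x).invOfUnit 1 * negSeries x
      = X * (PowerSeries.derivative K (negSeries x)) *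
          (negSeries x * (negSeries x).invOfUnit 1) := by ring
    _ = _ := by rw [negSeries_mul_inv, mul_one]

lemma coeff_negSeries' (x : K) (n : ℕ) :
    coeff n (negSeries x) = (-1 : K) ^ n * LambdaOps.lam n x := by
  rw [negSeries, coeff_rescale, coeff_lamSeries]

/-- `t λ_t' = λ_t * A`. -/
lemma X_mul_derivative_lamSeries (x : K) :
    X * PowerSeries.derivative K (lamSeries x) = lamSeries x * Aser P x := by
  ext n
  rcases n with _ | m
  · rw [coeff_zero_X_mul, coeff_mul]
    simp [coeff_Aser]
  · have key := congrArg (coeff (m + 1)) (adams_key P x)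
    rw [coeff_succ_X_mul, coeff_derivative, coeff_negSeries', coeff_mul] at key
    rw [coeff_succ_X_mul, coeff_derivative, coeff_lamSeries, mul_comm (lamSeries x), coeff_mul]
    have h2 : ∀ p ∈ antidiagonal (m + 1),
        coeff p.1 (Aser P x) * coeff p.2 (lamSeries x) =
          (-1 : K) ^ (m + 1) * (coeff p.1 (PowerSeries.C (P.aug x : K) - adamsSeries P x) *
            coeff p.2 (negSeries x)) := by
      intro p hp
      have hp' := mem_antidiagonal.mp hp
      rw [coeff_Aser, coeff_negSeries', coeff_lamSeries, map_sub, coeff_C]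
      by_cases h0 : p.1 = 0
      · rw [if_pos h0, if_pos h0, h0]
        change _ = (-1 : K) ^ (m + 1) * (((P.aug x : K) - adams P 0 x) * _)
        rw [adams_zero_eq]
        ring
      · rw [if_neg h0, if_neg h0, zero_sub]
        change _ = (-1 : K) ^ (m + 1) * ((- adams P p.1 x) * _)
        have e1 : (-1 : K) ^ (m + 1) = (-1) ^ p.1 * (-1) ^ p.2 := by rw [← pow_add, hp']
        rw [e1]
        have e2 : ((-1 : K) ^ p.2) * (-1) ^ p.2 = 1 := by rw [← mul_pow]; simp
        calc (-1 : K) ^ (p.1 + 1) * adams P p.1 x * LambdaOps.lam p.2 x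
            = (-1 : K) ^ (p.1 + 1) * adams P p.1 x * LambdaOps.lam p.2 x *
                ((-1 : K) ^ p.2 * (-1) ^ p.2) := by rw [e2, mul_one]
          _ = _ := by ring
    rw [Finset.sum_congr rfl h2, ← Finset.mul_sum, key]
    have e3 : ((-1 : K) ^ (m + 1)) * (-1) ^ (m + 1) = 1 := by rw [← mul_pow]; simp
    calc LambdaOps.lam (m + 1) x * ((m : K) + 1)
        = ((-1 : K) ^ (m + 1) * (-1) ^ (m + 1)) * (LambdaOps.lam (m + 1) x * ((m : K) + 1)) := by
          rw [e3, one_mul]
      _ = _ := by ring

/-- `B(t) = A(t/(1-t)) / (1-t)`. -/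
noncomputable def Bser (x : K) : PowerSeries K :=
  PowerSeries.mk 1 * (Aser P x).subst (sSer K)

lemma Bser_add (x y : K) : Bser P (x + y) = Bser P x + Bser P y := by
  unfold Bser
  rw [Aser_add, subst_add hasSubst_sSer, mul_add]

omit [LambdaOps K] in
lemma X_mul_derivative_sSer :
    X * PowerSeries.derivative K (sSer K) = sSer K * PowerSeries.mk 1 := by
  have h2 : (PowerSeries.mk 1 : PowerSeries K) ^ 2 = PowerSeries.mk fun n => ((1 + n).choose 1 : K) :=
    mk_one_pow_eq_mk_choose_add K 1
  ext n
  rcases n with _ | m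
  · rw [coeff_zero_X_mul, sSer, mul_assoc, coeff_zero_X_mul]
  · rw [coeff_succ_X_mul, coeff_derivative, sSer, mul_assoc, coeff_succ_X_mul, coeff_succ_X_mul,
      ← pow_two, h2, coeff_mk, coeff_mk]
    simp [add_comm]

/-- `t γ_t' = γ_t * B`. -/
lemma X_mul_derivative_gammaSeries (x : K) :
    X * PowerSeries.derivative K (gammaSeries x) = gammaSeries x * Bser P x := by
  have h1 := congrArg (fun f => PowerSeries.subst (sSer K) f) (X_mul_derivative_lamSeries P x)
  simp only [subst_mul hasSubst_sSer, subst_X hasSubst_sSer] at h1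
  rw [gammaSeries_eq_subst, derivative_subst hasSubst_sSer]
  unfold Bser
  calc X * ((PowerSeries.derivative K (lamSeries x)).subst (sSer K) *
        PowerSeries.derivative K (sSer K))
      = (X * PowerSeries.derivative K (sSer K)) *
          (PowerSeries.derivative K (lamSeries x)).subst (sSer K) := by ring
    _ = PowerSeries.mk 1 * (sSer K * (PowerSeries.derivative K (lamSeries x)).subst (sSer K)) := by
        rw [X_mul_derivative_sSer]; ring
    _ = _ := by rw [h1]; ring

/-- the coefficients of `B`. -/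
noncomputable def bco (m : ℕ) (x : K) : K := coeff m (Bser P x)

lemma bco_add (m : ℕ) (x y : K) : bco P m (x + y) = bco P m x + bco P m y := by
  unfold bco
  rw [Bser_add, map_add]

omit [LambdaOps K] in
lemma coeff_mk_one_mul_sSer_pow (m k : ℕ) :
    coeff m (PowerSeries.mk 1 * (sSer K) ^ k) = (m.choose k : K) := by
  have h : (PowerSeries.mk 1 : PowerSeries K) * (sSer K) ^ k = X ^ k * (PowerSeries.mk 1) ^ (k + 1) := by
    rw [sSer, mul_pow, pow_succ]; ring
  rw [h, mk_one_pow_eq_mk_choose_add, coeff_X_pow_mul']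
  split_ifs with hk
  · rw [coeff_mk]
    congr 2
    omega
  · rw [Nat.choose_eq_zero_of_lt (by omega), Nat.cast_zero]

lemma bco_eq (m : ℕ) (x : K) :
    bco P m x = ∑ k ∈ range (m + 1), (m.choose k : K) * coeff k (Aser P x) := by
  unfold bco Bser
  rw [mul_comm, coeff_mul, Finset.Nat.sum_antidiagonal_eq_sum_range_succ_mk]
  have h1 : ∀ j ∈ range (m + 1), coeff j ((Aser P x).subst (sSer K)) =
      ∑ k ∈ range (m + 1), coeff k (Aser P x) * coeff j ((sSer K) ^ k) := by
    intro j hj
    have hj' := Finset.mem_range.mp hj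
    rw [coeff_subst' hasSubst_sSer, finsum_eq_sum_of_support_subset (s := range (m + 1))]
    · simp only [smul_eq_mul]
    · intro d hd
      rw [Function.mem_support] at hd
      rw [Finset.coe_range, Set.mem_Iio]
      by_contra hcon
      apply hd
      obtain ⟨d', rfl⟩ : ∃ d', d = d' + 1 := ⟨d - 1, by omega⟩
      rw [coeff_sSer_pow_succ]
      split_ifs with h
      · rw [smul_zero]
      · rw [Nat.choose_eq_zero_of_lt (by omega), Nat.cast_zero, smul_zero]
  have h2 : ∀ k, (m.choose k : K) = ∑ j ∈ range (m + 1), coeff j ((sSer K) ^ k) := by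
    intro k
    rw [← coeff_mk_one_mul_sSer_pow, mul_comm, coeff_mul,
      Finset.Nat.sum_antidiagonal_eq_sum_range_succ_mk]
    apply Finset.sum_congr rfl
    intro j _
    rw [coeff_mk]
    simp
  calc ∑ j ∈ range (m + 1), coeff j ((Aser P x).subst (sSer K)) * coeff (m - j) (PowerSeries.mk 1)
      = ∑ j ∈ range (m + 1), coeff j ((Aser P x).subst (sSer K)) := by
        apply Finset.sum_congr rfl
        intro j hj
        rw [coeff_mk]
        simp
    _ = ∑ j ∈ range (m + 1), ∑ k ∈ range (m + 1), coeff k (Aser P x) * coeff j ((sSer K) ^ k) :=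
        Finset.sum_congr rfl h1
    _ = ∑ k ∈ range (m + 1), ∑ j ∈ range (m + 1), coeff k (Aser P x) * coeff j ((sSer K) ^ k) :=
        Finset.sum_comm
    _ = _ := by
        apply Finset.sum_congr rfl
        intro k _
        rw [← Finset.mul_sum, ← h2, mul_comm]

/-- Newton's recursion: `m γ^m = Σ_{i<m} γ^i b_{m-i}`. -/
lemma newton (m : ℕ) (x : K) :
    (m : K) * gamma m x = ∑ i ∈ range m, gamma i x * bco P (m - i) x := by
  have h := congrArg (coeff m) (X_mul_derivative_gammaSeries P x)
  rcases m with _ | m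
  · simp
  · rw [coeff_succ_X_mul, coeff_derivative, coeff_gammaSeries, coeff_mul,
      Finset.Nat.sum_antidiagonal_eq_sum_range_succ_mk, Finset.sum_range_succ] at h
    have h0 : coeff (m + 1 - (m + 1)) (Bser P x) = 0 := by
      rw [Nat.sub_self]
      unfold Bser
      rw [coeff_mul]
      simp only [Finset.Nat.antidiagonal_zero, sum_singleton]
      rw [coeff_subst' hasSubst_sSer, finsum_eq_sum_of_support_subset (s := range 1)]
      · simp [coeff_Aser]
      · intro d hd
        rw [Function.mem_support] at hd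
        rw [Finset.coe_range, Set.mem_Iio]
        by_contra hcon
        apply hd
        obtain ⟨d', rfl⟩ : ∃ d', d = d' + 1 := ⟨d - 1, by omega⟩
        rw [coeff_sSer_pow_succ]
        simp
    rw [h0, mul_zero, add_zero] at h
    simp only [coeff_gammaSeries] at h
    unfold bco
    rw [← h]
    push_cast
    ring

end Groth.Agent.Lib.Helper16.GN
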