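import Mathlib
import Groth.Agent.Lib.helper11.GlDimRegular
import Groth.Agent.Lib.Helper16.TorAmp9

/-!
# Helper16 — GlDim1: global dimension of Noetherian rings with regular local rings; consequences
in the derived category.
-/

open CategoryTheory CategoryTheory.Limits DerivedCategory CategoryTheory.Pretriangulated ZeroObject

namespace Groth.Agent.Lib.Helper16.GlDim

open Groth.Agent.Lib.Helper8.PAmp

universe u

attribute [local instance] HasDerivedCategory.standard

variable {R : Type u} [CommRing R]

/-- finite modules over a Noetherian ring with regular local rings of dimension `≤ d`. -/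
theorem hasProjectiveDimensionLT_finite [IsNoetherianRing R]
    (hreg : ∀ p : PrimeSpectrum R, IsRegularLocalRing (Localization.AtPrime p.asIdeal)) (d : ℕ)
    (hd : ringKrullDim R ≤ d) (L : ModuleCat.{u} R) [Module.Finite R L] :
    HasProjectiveDimensionLT L (d + 1) := by
  show HasProjectiveDimensionLE L d
  rw [ModuleCat.hasProjectiveDimensionLE_iff_forall_primeSpectrum]
  intro p
  haveI := hreg p
  have h1 : ringKrullDim (Localization.AtPrime p.asIdeal) =
      ((IsLocalRing.maximalIdeal (Localization.AtPrime p.asIdeal)).spanFinrank : ℕ) :=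
    (IsRegularLocalRing.spanFinrank_maximalIdeal (R := Localization.AtPrime p.asIdeal)).symm
  have h2 : ringKrullDim (Localization.AtPrime p.asIdeal) ≤ d := by
    rw [IsLocalization.AtPrime.ringKrullDim_eq_height p.asIdeal (Localization.AtPrime p.asIdeal)]
    exact le_trans Ideal.height_le_ringKrullDim_of_isPrime hd
  have h3 : (IsLocalRing.maximalIdeal (Localization.AtPrime p.asIdeal)).spanFinrank ≤ d := by
    rw [h1] at h2
    exact_mod_cast h2
  have h4 := Groth.Agent.Lib.helper11.GlDimRegular.hasProjectiveDimensionLT_of_isRegularLocalRing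
    _ h1 (L.localizedModule p.asIdeal.primeCompl)
  exact hasProjectiveDimensionLT_of_ge _
    ((IsLocalRing.maximalIdeal (Localization.AtPrime p.asIdeal)).spanFinrank + 1) (d + 1) (by omega)

/-- every module over a Noetherian ring with regular local rings of dimension `≤ d` has
projective dimension `≤ d`. -/
theorem hasProjectiveDimensionLT_of_regular [IsNoetherianRing R]
    (hreg : ∀ p : PrimeSpectrum R, IsRegularLocalRing (Localization.AtPrime p.asIdeal)) (d : ℕ)
    (hd : ringKrullDim R ≤ d) (M : ModuleCat.{u} R) : HasProjectiveDimensionLT M (d + 1) := by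
  have hinj : ∀ N : ModuleCat.{u} R, HasInjectiveDimensionLT N (d + 1) := by
    intro N
    refine Groth.Agent.Lib.helper11.InjDimKappa.hasInjectiveDimensionLT_of_ext_quotient d N
      fun I => ?_
    haveI := hasProjectiveDimensionLT_finite hreg d hd (ModuleCat.of R (R ⧸ I))
    exact HasProjectiveDimensionLT.subsingleton (ModuleCat.of R (R ⧸ I)) (d + 1) (d + 1) le_rfl N
  refine HasProjectiveDimensionLT.mk fun i hi Y e => ?_
  haveI := hinj Y
  exact e.eq_zero_of_hasInjectiveDimensionLT (d + 1) hi

lemma HasProjAmp.mono {A : Type*} [Category A] [Abelian A] [HasDerivedCategory A] {a b a' b' : ℤ}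
    {K : DerivedCategory A} (h : HasProjAmp a b K) (ha : a' ≤ a) (hb : b ≤ b') :
    HasProjAmp a' b' K := by
  obtain ⟨P, h1, h2, h3⟩ := h
  exact ⟨P, fun i hi => h1 i (by omega), h2, h3⟩

/-- a module of projective dimension `≤ d`, placed in degree `j`, has projective amplitude
`[j - d, j]`. -/
lemma hasProjAmp_single_of_projDim (M : ModuleCat.{u} R) (d : ℕ)
    [HasProjectiveDimensionLT M (d + 1)] (j : ℤ) :
    HasProjAmp (j - d) j ((singleFunctor (ModuleCat.{u} R) j).obj M) := by
  haveI : ((singleFunctor (ModuleCat.{u} R) 0).obj M).IsGE (-(d : ℤ) - 1) :=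
    (TStructure.t).isGE_of_ge _ (-(d : ℤ) - 1) 0 (by omega)
  have h := hasProjAmp_of_ext_vanishing (-(d : ℤ)) 0 ((singleFunctor (ModuleCat.{u} R) 0).obj M)
    (fun N ξ => Groth.Agent.Lib.Helper16.TorAmp.hom_eq_zero_of_projDim M N d _
      (by push_cast; ring) ξ)
  have h1 := h.shift (-j) (j - d) j (by omega) (by omega)
  exact h1.of_iso
    (((DerivedCategory.singleFunctors (ModuleCat.{u} R)).shiftIso (-j) j 0 (by omega)).app M)

/-- over a ring of global dimension `≤ d`, an object with cohomology in `[a, b]` has projective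
amplitude in `[a - d, b]`. -/
theorem hasProjAmp_of_globalDim (d : ℕ)
    (hgl : ∀ M : ModuleCat.{u} R, HasProjectiveDimensionLT M (d + 1))
    (K : Dual.D R) (a b : ℤ) [K.IsGE a] [K.IsLE b] : HasProjAmp (a - d) b K := by
  by_cases hab : a ≤ b + 1
  · refine Groth.Agent.Lib.Helper16.DerT.bounded_induction
      (fun X => HasProjAmp (a - d) b X)
      (fun X Y e h => h.of_iso e)
      (fun X hX => hasProjAmp_of_isZero hX)
      (fun T hT h1 h3 => HasProjAmp.of_triangle T hT h1 h3 ⟨le_rfl, le_rfl⟩ ⟨le_rfl, le_rfl⟩)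
      (b + 1 - a).toNat a b ?_ K
      (fun j hj1 hj2 => ?_)
    · have : 0 ≤ b + 1 - a := by omega
      omega
    · haveI := hgl ((homologyFunctor (ModuleCat.{u} R) j).obj K)
      exact HasProjAmp.mono (hasProjAmp_single_of_projDim _ d j) (by omega) hj2
  · exact hasProjAmp_of_isZero ((TStructure.t).isZero K b a (by omega))

/-- S6994 core: no maps `K ⟶ L` when `K ∈ D^{> k}` is bounded above and `L ∈ D^{≤ k - d}`. -/
theorem hom_eq_zero_of_globalDim (d : ℕ)
    (hgl : ∀ M : ModuleCat.{u} R, HasProjectiveDimensionLT M (d + 1))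
    (K L : Dual.D R) (k b : ℤ) [K.IsGE (k + 1)] [K.IsLE b] [L.IsLE (k - d)] (α : K ⟶ L) :
    α = 0 := by
  have h := hasProjAmp_of_globalDim d hgl K (k + 1) b
  exact h.hom_eq_zero L (k - d) (by omega) α

end Groth.Agent.Lib.Helper16.GlDim
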