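import Mathlib
import Groth.Agent.Lib.Helper16.GlDim1

/-!
# Helper16 — GlDim2: splitting of a complex with a cohomological gap of length `d - 1` over a ring
of global dimension `≤ d`.
-/

open CategoryTheory CategoryTheory.Limits DerivedCategory CategoryTheory.Pretriangulated ZeroObject

namespace Groth.Agent.Lib.Helper16.GlDim

open Groth.Agent.Lib.Helper8.PAmp

universe u

attribute [local instance] HasDerivedCategory.standard

variable {R : Type u} [CommRing R]

variable (R) in
/-- the canonical t-structure on `D(R)`. -/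
noncomputable abbrev tS : Triangulated.TStructure (Dual.D R) := DerivedCategory.TStructure.t

theorem split_of_gap (d : ℕ) (hgl : ∀ M : ModuleCat.{u} R, HasProjectiveDimensionLT M (d + 1))
    (K : Dual.D R) (b : ℤ) [K.IsLE b] (k c : ℤ) (hc : c = k - d + 2) (hck : c ≤ k + 1)
    (hgap : ∀ i : ℤ, c ≤ i → i ≤ k → IsZero ((homologyFunctor (ModuleCat.{u} R) i).obj K))
    [HasBinaryBiproduct (((tS R).truncLT c).obj K) (((tS R).truncGE (k + 1)).obj K)] :
    ∃ e : K ≅ ((tS R).truncLT c).obj K ⊞ ((tS R).truncGE (k + 1)).obj K,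
      ((tS R).truncLTι c).app K ≫ e.hom = biprod.inl ∧
        e.hom ≫ biprod.snd = ((tS R).truncGEπ (k + 1)).app K := by
  have hT := (tS R).triangleLTGE_distinguished (k + 1) K
  -- `A' = τ_{< k+1} K` lies in `D^{≤ c - 1}`
  haveI hA' : (((tS R).truncLT (k + 1)).obj K).IsLE (c - 1) := by
    rw [DerivedCategory.isLE_iff]
    intro i hi
    by_cases hik : i ≤ k
    · have := isIso_homologyMap_truncLTι K (k + 1) i (by omega)
      exact (hgap i (by omega) hik).of_iso
        (asIso ((homologyFunctor (ModuleCat.{u} R) i).map (((tS R).truncLTι (k + 1)).app K)))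
    · haveI : (((tS R).truncLT (k + 1)).obj K).IsLE k :=
        (inferInstance : (tS R).IsLE (((tS R).truncLT (k + 1)).obj K) k)
      exact isZero_of_isLE _ k i (by omega)
  haveI : ((((tS R).truncLT (k + 1)).obj K)⟦(1 : ℤ)⟧).IsLE (k - d) :=
    (tS R).isLE_shift _ (c - 1) 1 (k - d) (by omega)
  haveI : (((tS R).truncGE (k + 1)).obj K).IsGE (k + 1) :=
    (inferInstance : (tS R).IsGE (((tS R).truncGE (k + 1)).obj K) (k + 1))
  haveI : (((tS R).truncGE (k + 1)).obj K).IsLE b :=
    (inferInstance : (tS R).IsLE (((tS R).truncGE (k + 1)).obj K) b)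
  have hδ0 : ((tS R).truncGEδLT (k + 1)).app K = 0 :=
    hom_eq_zero_of_globalDim d hgl (((tS R).truncGE (k + 1)).obj K)
      ((((tS R).truncLT (k + 1)).obj K)⟦(1 : ℤ)⟧) k b _
  have hδ : (((tS R).triangleLTGE (k + 1)).obj K).mor₃ = 0 := hδ0
  obtain ⟨e, he1, he2⟩ : ∃ (e : K ≅ ((tS R).truncLT (k + 1)).obj K ⊞ ((tS R).truncGE (k + 1)).obj K),
      ((tS R).truncLTι (k + 1)).app K ≫ e.hom = biprod.inl ∧
        ((tS R).truncGEπ (k + 1)).app K = e.hom ≫ biprod.snd :=
    exists_iso_binaryBiproduct_of_distTriang _ hT hδ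
  -- comparison of the two truncations
  let φ : ((tS R).truncLT (k + 1)).obj K ⟶ ((tS R).truncLT c).obj K :=
    (tS R).liftTruncLT (((tS R).truncLTι (k + 1)).app K) (c - 1) c (by omega)
  let ψ : ((tS R).truncLT c).obj K ⟶ ((tS R).truncLT (k + 1)).obj K :=
    ((tS R).natTransTruncLTOfLE c (k + 1) hck).app K
  have hφ : φ ≫ ((tS R).truncLTι c).app K = ((tS R).truncLTι (k + 1)).app K := (tS R).liftTruncLT_ι _ _ _ _
  have hψ : ψ ≫ ((tS R).truncLTι (k + 1)).app K = ((tS R).truncLTι c).app K :=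
    (tS R).natTransTruncLTOfLE_ι_app c (k + 1) hck K
  have h1 : φ ≫ ψ = 𝟙 _ := by
    haveI : (tS R).IsLE (((tS R).truncLT (k + 1)).obj K) (k + 1 - 1) := by
      have : k + 1 - 1 = k := by omega
      rw [this]
      infer_instance
    exact (tS R).to_truncLT_obj_ext (by rw [Category.assoc, hψ, hφ, Category.id_comp])
  have h2 : ψ ≫ φ = 𝟙 _ :=
    (tS R).to_truncLT_obj_ext (by rw [Category.assoc, hφ, hψ, Category.id_comp])
  let φi : ((tS R).truncLT (k + 1)).obj K ≅ ((tS R).truncLT c).obj K := ⟨φ, ψ, h1, h2⟩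
  refine ⟨e ≪≫ biprod.mapIso φi (Iso.refl _), ?_, ?_⟩
  · rw [← hψ, Category.assoc, Iso.trans_hom, reassoc_of% he1]
    simp only [φi, biprod.mapIso_hom, biprod.inl_map, Iso.refl_hom]
    rw [reassoc_of% h2]
  · rw [he2]
    simp

end Groth.Agent.Lib.Helper16.GlDim
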