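import Groth.Agent.Lib.Helper16.GrQ

/-!
# Helper library (helper16): non-dependent API for `KGr.grK` on the γ-filtration.
-/

set_option autoImplicit false
universe v

open scoped TensorProduct
open LaurentPolynomial

namespace Groth.Agent.Lib.Helper16.GR

open LambdaRing KGr Groth.Agent.Lib.Helper20.GFP

variable {K : Type v} [CommRing K] [LambdaOps K] (P : PosStructure K)

lemma grK_add {n : ℕ} {x y : K} (hx : x ∈ gammaFiltration P n) (hy : y ∈ gammaFiltration P n) :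
    grK P (n : ℤ) (x + y) = grK P (n : ℤ) x + grK P (n : ℤ) y := by
  rw [grK_eq_clsQ P n x hx, grK_eq_clsQ P n y hy,
    grK_eq_clsQ P n (x + y) (AddSubgroup.add_mem _ hx hy), clsQ_add]

lemma grK_zero (n : ℕ) : grK P (n : ℤ) (0 : K) = 0 := by
  rw [grK_eq_clsQ P n 0 (AddSubgroup.zero_mem _), clsQ_zero]

lemma grK_neg {n : ℕ} {x : K} (hx : x ∈ gammaFiltration P n) :
    grK P (n : ℤ) (-x) = - grK P (n : ℤ) x := by
  rw [grK_eq_clsQ P n x hx, grK_eq_clsQ P n (-x) (AddSubgroup.neg_mem _ hx), clsQ_neg]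

lemma grK_sub {n : ℕ} {x y : K} (hx : x ∈ gammaFiltration P n) (hy : y ∈ gammaFiltration P n) :
    grK P (n : ℤ) (x - y) = grK P (n : ℤ) x - grK P (n : ℤ) y := by
  rw [grK_eq_clsQ P n x hx, grK_eq_clsQ P n y hy,
    grK_eq_clsQ P n (x - y) (AddSubgroup.sub_mem _ hx hy), clsQ_sub]

lemma grK_sum {ι : Type*} (s : Finset ι) {n : ℕ} (f : ι → K)
    (hf : ∀ i ∈ s, f i ∈ gammaFiltration P n) :
    grK P (n : ℤ) (∑ i ∈ s, f i) = ∑ i ∈ s, grK P (n : ℤ) (f i) := by
  classical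
  induction s using Finset.induction_on with
  | empty => simp [grK_zero]
  | insert a s ha ih =>
    rw [Finset.sum_insert ha, Finset.sum_insert ha,
      grK_add P (hf a (Finset.mem_insert_self a s))
        (AddSubgroup.sum_mem _ (fun i hi => hf i (Finset.mem_insert_of_mem hi))),
      ih (fun i hi => hf i (Finset.mem_insert_of_mem hi))]

lemma grK_mul {m n : ℕ} {x y : K} (hx : x ∈ gammaFiltration P m) (hy : y ∈ gammaFiltration P n) :
    grK P ((m + n : ℕ) : ℤ) (x * y) = grK P (m : ℤ) x * grK P (n : ℤ) y := by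
  rw [grK_eq_clsQ P m x hx, grK_eq_clsQ P n y hy,
    grK_eq_clsQ P (m + n) (x * y) (mul_mem P hx hy), clsQ_mul]

lemma grK_mul' {m n k : ℕ} (hk : m + n = k) {x y : K} (hx : x ∈ gammaFiltration P m)
    (hy : y ∈ gammaFiltration P n) :
    grK P (k : ℤ) (x * y) = grK P (m : ℤ) x * grK P (n : ℤ) y := by
  subst hk
  exact grK_mul P hx hy

lemma grK_intCast_mul {n : ℕ} {x : K} (hx : x ∈ gammaFiltration P n) (c : ℤ) :
    grK P (n : ℤ) ((c : K) * x) = (c : ℚ) • grK P (n : ℤ) x := by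
  rw [grK_eq_clsQ P n x hx, grK_eq_clsQ P n ((c : K) * x) (smul_mem P _ hx), clsQ_intCast_mul]

lemma grK_natCast_mul {n : ℕ} {x : K} (hx : x ∈ gammaFiltration P n) (c : ℕ) :
    grK P (n : ℤ) ((c : K) * x) = (c : ℚ) • grK P (n : ℤ) x := by
  have h := grK_intCast_mul P hx (c : ℤ)
  simpa using h

lemma grK_eq_zero_of_mem {n : ℕ} {x : K} (hx : x ∈ gammaFiltration P (n + 1)) :
    grK P (n : ℤ) x = 0 := by
  rw [grK_eq_clsQ P n x (filt_anti P (Nat.le_succ n) hx), clsQ_eq_zero_of_mem P n x hx]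

lemma grK_eq_zero_of_mem' {n m : ℕ} (h : n < m) {x : K} (hx : x ∈ gammaFiltration P m) :
    grK P (n : ℤ) x = 0 :=
  grK_eq_zero_of_mem P (filt_anti P h hx)

lemma grK_one : grK P ((0 : ℕ) : ℤ) (1 : K) = 1 := by
  rw [grK_eq_clsQ P 0 1 (by rw [filt_zero]; trivial), clsQ_one]

lemma grK_mem_GU {n m : ℕ} (h : n ≤ m) {x : K} (hx : x ∈ gammaFiltration P m) :
    grK P (m : ℤ) x ∈ GU P n := by
  rw [grK_eq_clsQ P m x hx]
  exact clsQ_mem_GU P h x hx

end Groth.Agent.Lib.Helper16.GR
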