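import Groth.Agent.Lib.Helper16.GrRees
import Mathlib.RingTheory.Localization.BaseChange
import Mathlib.RingTheory.Localization.FractionRing

/-!
# Helper library (helper16): `KGr.Gr P = ℚ ⊗ GrZ P`: classes, upper filtration, components.
-/

set_option autoImplicit false
universe v

open scoped TensorProduct
open LaurentPolynomial

namespace Groth.Agent.Lib.Helper16.GR

open LambdaRing KGr Groth.Agent.Lib.Helper20.GFP

section torsion
variable {A : Type v} [AddCommGroup A]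

lemma one_tmul_eq_zero (a : A) (h : (1 : ℚ) ⊗ₜ[ℤ] a = 0) : ∃ M : ℕ, 1 ≤ M ∧ M • a = 0 := by
  have inst : IsLocalizedModule (nonZeroDivisors ℤ) (TensorProduct.mk ℤ ℚ A 1) :=
    IsLocalization.tensorProduct_isLocalizedModule (nonZeroDivisors ℤ) ℚ
  have h' : TensorProduct.mk ℤ ℚ A 1 a = 0 := h
  rw [IsLocalizedModule.eq_zero_iff (nonZeroDivisors ℤ)] at h'
  obtain ⟨⟨s, hs⟩, hsa⟩ := h'
  have hs0 : s ≠ 0 := nonZeroDivisors.ne_zero hs
  refine ⟨s.natAbs, Int.natAbs_pos.mpr hs0, ?_⟩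
  have hsa' : s • a = 0 := hsa
  rcases Int.natAbs_eq s with h1 | h1
  · rw [h1] at hsa'
    rwa [natCast_zsmul] at hsa'
  · rw [h1, neg_smul, neg_eq_zero] at hsa'
    rwa [natCast_zsmul] at hsa'

lemma exists_nat_smul_eq (z : ℚ ⊗[ℤ] A) : ∃ (M : ℕ) (a : A), 1 ≤ M ∧ (M : ℚ) • z = (1 : ℚ) ⊗ₜ[ℤ] a := by
  induction z using TensorProduct.induction_on with
  | zero => exact ⟨1, 0, le_rfl, by simp⟩
  | tmul q a =>
    refine ⟨q.den, q.num • a, q.den_pos, ?_⟩
    rw [TensorProduct.smul_tmul', TensorProduct.tmul_smul, TensorProduct.smul_tmul', smul_eq_mul,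
      zsmul_eq_mul, mul_one]
    congr 1
    rw [mul_comm]
    exact Rat.mul_den_eq_num q
  | add x y hx hy =>
    obtain ⟨M, a, hM, h1⟩ := hx
    obtain ⟨N, b, hN, h2⟩ := hy
    refine ⟨M * N, N • a + M • b, Nat.mul_pos hM hN, ?_⟩
    rw [smul_add, TensorProduct.tmul_add]
    congr 1
    · rw [Nat.cast_mul, mul_comm, mul_smul, h1, TensorProduct.smul_tmul', TensorProduct.tmul_smul,
        TensorProduct.smul_tmul']
      simp
    · rw [Nat.cast_mul, mul_smul, h2, TensorProduct.smul_tmul', TensorProduct.tmul_smul,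
        TensorProduct.smul_tmul']
      simp

end torsion

variable {K : Type v} [CommRing K] [LambdaOps K] (P : PosStructure K)

/-- the class in `Gr P` of `x ∈ F^n` in degree `n`. -/
noncomputable def clsQ (n : ℕ) (x : K) (hx : x ∈ gammaFiltration P n) : Gr P :=
  (1 : ℚ) ⊗ₜ[ℤ] clsZ P n x hx

lemma clsQ_add (n : ℕ) (x y : K) (hx : x ∈ gammaFiltration P n) (hy : y ∈ gammaFiltration P n) :
    clsQ P n (x + y) (AddSubgroup.add_mem _ hx hy) = clsQ P n x hx + clsQ P n y hy := by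
  unfold clsQ
  rw [clsZ_add, TensorProduct.tmul_add]

lemma clsQ_congr (n : ℕ) {x y : K} (h : x = y) (hx : x ∈ gammaFiltration P n) :
    clsQ P n x hx = clsQ P n y (h ▸ hx) := by
  subst h; rfl

lemma clsQ_mul (m n : ℕ) (x y : K) (hx : x ∈ gammaFiltration P m) (hy : y ∈ gammaFiltration P n) :
    clsQ P m x hx * clsQ P n y hy = clsQ P (m + n) (x * y) (mul_mem P hx hy) := by
  unfold clsQ
  rw [Algebra.TensorProduct.tmul_mul_tmul, one_mul, clsZ_mul]

lemma clsQ_eq_zero_of_mem (n : ℕ) (x : K) (hx : x ∈ gammaFiltration P (n + 1)) :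
    clsQ P n x (filt_anti P (Nat.le_succ n) hx) = 0 := by
  unfold clsQ
  rw [clsZ_eq_zero_of_mem P n x hx, TensorProduct.tmul_zero]

lemma clsQ_one : clsQ P 0 1 (by rw [filt_zero]; trivial) = 1 := by
  unfold clsQ
  rw [clsZ_one]
  rfl

lemma clsQ_intCast_mul (n : ℕ) (x : K) (hx : x ∈ gammaFiltration P n) (c : ℤ) :
    clsQ P n ((c : K) * x) (smul_mem P _ hx) = (c : ℚ) • clsQ P n x hx := by
  unfold clsQ
  rw [clsZ_zsmul P n x hx c, TensorProduct.tmul_smul, TensorProduct.smul_tmul', TensorProduct.smul_tmul']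
  simp

lemma clsQ_zero (n : ℕ) : clsQ P n 0 (AddSubgroup.zero_mem _) = 0 :=
  clsQ_eq_zero_of_mem P n 0 (AddSubgroup.zero_mem _)

lemma clsQ_neg (n : ℕ) (x : K) (hx : x ∈ gammaFiltration P n) :
    clsQ P n (-x) (AddSubgroup.neg_mem _ hx) = - clsQ P n x hx := by
  have h := clsQ_add P n x (-x) hx (AddSubgroup.neg_mem _ hx)
  rw [clsQ_congr P n (add_neg_cancel x), clsQ_zero] at h
  exact (neg_eq_of_add_eq_zero_right h.symm).symm

lemma clsQ_sub (n : ℕ) (x y : K) (hx : x ∈ gammaFiltration P n) (hy : y ∈ gammaFiltration P n) :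
    clsQ P n (x - y) (AddSubgroup.sub_mem _ hx hy) = clsQ P n x hx - clsQ P n y hy := by
  rw [clsQ_congr P n (sub_eq_add_neg x y), clsQ_add P n x (-y) hx (AddSubgroup.neg_mem _ hy),
    clsQ_neg, sub_eq_add_neg]

lemma clsQ_sum {ι : Type*} (s : Finset ι) (n : ℕ) (f : ι → K)
    (hf : ∀ i, f i ∈ gammaFiltration P n) :
    clsQ P n (∑ i ∈ s, f i) (AddSubgroup.sum_mem _ (fun i _ => hf i)) =
      ∑ i ∈ s, clsQ P n (f i) (hf i) := by
  classical
  induction s using Finset.induction_on with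
  | empty => simp [clsQ_zero]
  | insert a s ha ih =>
    rw [clsQ_congr P n (Finset.sum_insert ha),
      clsQ_add P n (f a) (∑ i ∈ s, f i) (hf a) (AddSubgroup.sum_mem _ (fun i _ => hf i)), ih,
      Finset.sum_insert ha]

lemma grK_aux (n : ℕ) (x : K) (hx : x ∈ gammaFiltration P n) (N : ℕ) (hN : 1 ≤ N)
    (hmem : C ((N : K) * x) * T (-(n : ℤ)) ∈ rees P) :
    ((1 : ℚ) / (N : ℚ)) ⊗ₜ[ℤ] Ideal.Quotient.mk (Ideal.span {tGen P})
      (⟨C ((N : K) * x) * T (-(n : ℤ)), hmem⟩ : rees P) = clsQ P n x hx := by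
  have e1 : (⟨C ((N : K) * x) * T (-(n : ℤ)), hmem⟩ : rees P) =
      (N : ℤ) • (⟨C x * T (-(n : ℤ)), C_mul_T_mem_rees P hx⟩ : rees P) := by
    apply Subtype.ext
    change C ((N : K) * x) * T (-(n : ℤ)) = (N : ℤ) • (C x * T (-(n : ℤ)))
    rw [map_mul, zsmul_eq_mul, mul_assoc]
    congr 1
    simp
  rw [e1, map_zsmul, TensorProduct.tmul_smul, TensorProduct.smul_tmul']
  unfold clsQ clsZ
  congr 1
  rw [zsmul_eq_mul]
  have : (N : ℚ) ≠ 0 := by exact_mod_cast (by omega : N ≠ 0)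
  push_cast
  field_simp

/-- `grK` on elements of `F^n`. -/
lemma grK_eq_clsQ (n : ℕ) (x : K) (hx : x ∈ gammaFiltration P n) :
    grK P (n : ℤ) x = clsQ P n x hx := by
  have h : ∃ N : ℕ, 1 ≤ N ∧ C ((N : K) * x) * T (-(n : ℤ)) ∈ rees P :=
    ⟨1, le_rfl, by simpa using C_mul_T_mem_rees P hx⟩
  unfold grK
  rw [dif_pos h]
  exact grK_aux P n x hx h.choose h.choose_spec.1 h.choose_spec.2

/-- the upper filtration of `Gr P`. -/
noncomputable def GU (n : ℕ) : Submodule ℚ (Gr P) :=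
  Submodule.span ℚ {y | ∃ (m : ℕ) (x : K) (hx : x ∈ gammaFiltration P m), n ≤ m ∧ y = clsQ P m x hx}

lemma clsQ_mem_GU {n m : ℕ} (h : n ≤ m) (x : K) (hx : x ∈ gammaFiltration P m) :
    clsQ P m x hx ∈ GU P n :=
  Submodule.subset_span ⟨m, x, hx, h, rfl⟩

lemma GU_anti {m n : ℕ} (h : m ≤ n) : GU P n ≤ GU P m := by
  apply Submodule.span_mono
  rintro y ⟨k, x, hx, hk, rfl⟩
  exact ⟨k, x, hx, h.trans hk, rfl⟩

lemma mem_GU_zero (z : Gr P) : z ∈ GU P 0 := by
  induction z using TensorProduct.induction_on with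
  | zero => exact Submodule.zero_mem _
  | add x y hx hy => exact Submodule.add_mem _ hx hy
  | tmul q z =>
    have h1 : q ⊗ₜ[ℤ] z = q • ((1 : ℚ) ⊗ₜ[ℤ] z) := by
      rw [TensorProduct.smul_tmul', smul_eq_mul, mul_one]
    rw [h1]
    apply Submodule.smul_mem
    have h2 := span_clsZ P z
    refine AddSubgroup.closure_induction ?_ ?_ ?_ ?_ h2
    · rintro y ⟨n, x, hx, rfl⟩
      exact clsQ_mem_GU P (Nat.zero_le n) x hx
    · rw [TensorProduct.tmul_zero]; exact Submodule.zero_mem _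
    · intro a b _ _ ha hb
      rw [TensorProduct.tmul_add]; exact Submodule.add_mem _ ha hb
    · intro a _ ha
      rw [TensorProduct.tmul_neg]; exact Submodule.neg_mem _ ha

lemma GU_zero : GU P 0 = ⊤ := by
  rw [eq_top_iff]
  exact fun z _ => mem_GU_zero P z

lemma GU_eq_bot {d : ℕ} (hd : gammaFiltration P (d + 1) = ⊥) {n : ℕ} (hn : d + 1 ≤ n) :
    GU P n = ⊥ := by
  rw [eq_bot_iff]
  apply Submodule.span_le.mpr
  rintro y ⟨m, x, hx, hm, rfl⟩
  have hx' : x ∈ gammaFiltration P (d + 1) := filt_anti P (hn.trans hm) hx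
  rw [hd, AddSubgroup.mem_bot] at hx'
  subst hx'
  change clsQ P m 0 hx ∈ (⊥ : Submodule ℚ (Gr P))
  rw [clsQ_zero]
  exact Submodule.zero_mem _

/-- the `n`-th graded component on `Gr P`. -/
noncomputable def compQ (n : ℕ) : Gr P →ₗ[ℚ] ℚ ⊗[ℤ] (K ⧸ gammaFiltration P (n + 1)) :=
  LinearMap.baseChange ℚ (compZ P n).toIntLinearMap

lemma compQ_clsQ (n m : ℕ) (x : K) (hx : x ∈ gammaFiltration P m) :
    compQ P n (clsQ P m x hx) =
      if m = n then (1 : ℚ) ⊗ₜ[ℤ] (QuotientAddGroup.mk x : K ⧸ gammaFiltration P (n + 1)) else 0 := by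
  unfold compQ clsQ
  rw [LinearMap.baseChange_tmul]
  change (1 : ℚ) ⊗ₜ[ℤ] (compZ P n (clsZ P m x hx)) = _
  rw [compZ_clsZ]
  split_ifs
  · rfl
  · rw [TensorProduct.tmul_zero]

lemma compQ_eq_zero_of_mem (n : ℕ) {z : Gr P} (hz : z ∈ GU P (n + 1)) : compQ P n z = 0 := by
  have : GU P (n + 1) ≤ LinearMap.ker (compQ P n) := by
    apply Submodule.span_le.mpr
    rintro y ⟨m, x, hx, hm, rfl⟩
    change compQ P n (clsQ P m x hx) = 0
    rw [compQ_clsQ, if_neg (by omega)]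
  exact this hz

/-- detection: if the class of `y ∈ F^n` lies in the higher part then a multiple of `y` lies in
`F^{n+1}`. -/
lemma exists_mul_mem_of_clsQ_mem (n : ℕ) (y : K) (hy : y ∈ gammaFiltration P n)
    (h : clsQ P n y hy ∈ GU P (n + 1)) :
    ∃ M : ℕ, 1 ≤ M ∧ (M : K) * y ∈ gammaFiltration P (n + 1) := by
  have h1 := compQ_eq_zero_of_mem P n h
  rw [compQ_clsQ, if_pos rfl] at h1
  obtain ⟨M, hM, h2⟩ := one_tmul_eq_zero _ h1
  refine ⟨M, hM, ?_⟩
  have h3 : (QuotientAddGroup.mk (M • y) : K ⧸ gammaFiltration P (n + 1)) = 0 := h2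
  rw [QuotientAddGroup.eq_zero_iff] at h3
  rwa [nsmul_eq_mul] at h3

end Groth.Agent.Lib.Helper16.GR
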