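import Groth.Prelude.Def_KGr
import Groth.Agent.Lib.Helper20.GammaFiltPos
import Mathlib.Tactic

/-!
# Helper library (helper16): structure of the extended Rees ring of the γ-filtration and of its
quotient `KGr.GrZ P`.
-/

set_option autoImplicit false
universe v

open LaurentPolynomial

namespace Groth.Agent.Lib.Helper16.GR

open LambdaRing KGr Groth.Agent.Lib.Helper20.GFP

variable {K : Type v} [CommRing K] [LambdaOps K] (P : PosStructure K)

/-- the filtration indexed by integers -/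
def Fz (n : ℤ) : AddSubgroup K := gammaFiltration P n.toNat

lemma Fz_mul {a b : ℤ} {x y : K} (hx : x ∈ Fz P a) (hy : y ∈ Fz P b) : x * y ∈ Fz P (a + b) := by
  have h := mul_mem P hx hy
  exact filt_anti P (by omega) h

/-- Laurent polynomials whose coefficient of `T^a` lies in `F^{-a}`. -/
def S : AddSubgroup (LaurentPolynomial K) where
  carrier := {p | ∀ a : ℤ, p.coeff a ∈ Fz P (-a)}
  zero_mem' := by
    intro a
    simp
  add_mem' := by
    intro p q hp hq a
    rw [AddMonoidAlgebra.coeff_add, Finsupp.add_apply]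
    exact AddSubgroup.add_mem _ (hp a) (hq a)
  neg_mem' := by
    intro p hp a
    rw [AddMonoidAlgebra.coeff_neg, Finsupp.neg_apply]
    exact AddSubgroup.neg_mem _ (hp a)

lemma mem_S {p : LaurentPolynomial K} : p ∈ S P ↔ ∀ a : ℤ, p.coeff a ∈ Fz P (-a) := Iff.rfl

lemma single_mem_S {a : ℤ} {x : K} (hx : x ∈ Fz P (-a)) :
    (AddMonoidAlgebra.single a x : LaurentPolynomial K) ∈ S P := by
  classical
  intro b
  rw [AddMonoidAlgebra.coeff_single, Finsupp.single_apply]
  split_ifs with h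
  · subst h; exact hx
  · exact AddSubgroup.zero_mem _

lemma mul_mem_S {p q : LaurentPolynomial K} (hp : p ∈ S P) (hq : q ∈ S P) : p * q ∈ S P := by
  rw [← AddMonoidAlgebra.sum_coeff_single p, ← AddMonoidAlgebra.sum_coeff_single q]
  unfold Finsupp.sum
  rw [Finset.sum_mul_sum]
  apply AddSubgroup.sum_mem
  intro a _
  apply AddSubgroup.sum_mem
  intro b _
  rw [AddMonoidAlgebra.single_mul_single]
  apply single_mem_S
  have h := Fz_mul P (hp a) (hq b)
  have e : -a + -b = -(a + b) := by ring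
  rwa [e] at h

lemma rees_le_S {p : LaurentPolynomial K} (hp : p ∈ rees P) : p ∈ S P := by
  unfold rees at hp
  induction hp using Subring.closure_induction with
  | mem x hx =>
    rcases hx with rfl | ⟨n, y, hy, rfl⟩
    · change (AddMonoidAlgebra.single 1 1 : LaurentPolynomial K) ∈ S P
      apply single_mem_S
      unfold Fz
      have : (-(1 : ℤ)).toNat = 0 := by decide
      rw [this, filt_zero]; trivial
    · rw [← single_eq_C_mul_T]
      apply single_mem_S
      unfold Fz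
      simpa using hy
  | zero => exact AddSubgroup.zero_mem _
  | one =>
    change (AddMonoidAlgebra.single 0 1 : LaurentPolynomial K) ∈ S P
    apply single_mem_S
    unfold Fz
    simp only [neg_zero, Int.toNat_zero]
    rw [filt_zero]; trivial
  | add x y _ _ hx hy => exact AddSubgroup.add_mem _ hx hy
  | neg x _ hx => exact AddSubgroup.neg_mem _ hx
  | mul x y _ _ hx hy => exact mul_mem_S P hx hy

lemma coeff_mem_of_mem_rees {p : LaurentPolynomial K} (hp : p ∈ rees P) (n : ℕ) :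
    p.coeff (-(n : ℤ)) ∈ gammaFiltration P n := by
  have h := rees_le_S P hp (-(n : ℤ))
  unfold Fz at h
  simpa using h

lemma C_mul_T_mem_rees {n : ℕ} {x : K} (hx : x ∈ gammaFiltration P n) :
    C x * T (-(n : ℤ)) ∈ rees P :=
  Subring.subset_closure (Set.mem_insert_of_mem _ ⟨n, x, hx, rfl⟩)

lemma T_one_mem_rees : (T 1 : LaurentPolynomial K) ∈ rees P :=
  Subring.subset_closure (Set.mem_insert _ _)

lemma C_mem_rees (x : K) : (C x : LaurentPolynomial K) ∈ rees P := by
  have h := C_mul_T_mem_rees P (n := 0) (x := x) (by rw [filt_zero]; trivial)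
  simpa using h

lemma C_mul_T_nat_mem_rees (x : K) (n : ℕ) : C x * T (n : ℤ) ∈ rees P := by
  have h : (T (n : ℤ) : LaurentPolynomial K) = T 1 ^ n := by rw [T_pow]; simp
  rw [h]
  exact Subring.mul_mem _ (C_mem_rees P x) (Subring.pow_mem _ (T_one_mem_rees P) n)

/-- the class in `GrZ` of `x T^{-n}`, `x ∈ F^n`. -/
noncomputable def clsZ (n : ℕ) (x : K) (hx : x ∈ gammaFiltration P n) : GrZ P :=
  Ideal.Quotient.mk (Ideal.span {tGen P}) ⟨C x * T (-(n : ℤ)), C_mul_T_mem_rees P hx⟩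

lemma clsZ_add (n : ℕ) (x y : K) (hx : x ∈ gammaFiltration P n) (hy : y ∈ gammaFiltration P n) :
    clsZ P n (x + y) (AddSubgroup.add_mem _ hx hy) = clsZ P n x hx + clsZ P n y hy := by
  unfold clsZ
  rw [← map_add]
  congr 1
  apply Subtype.ext
  simp [add_mul]

lemma clsZ_congr (n : ℕ) {x y : K} (h : x = y) (hx : x ∈ gammaFiltration P n) :
    clsZ P n x hx = clsZ P n y (h ▸ hx) := by
  subst h; rfl

lemma clsZ_mul (m n : ℕ) (x y : K) (hx : x ∈ gammaFiltration P m) (hy : y ∈ gammaFiltration P n) :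
    clsZ P m x hx * clsZ P n y hy = clsZ P (m + n) (x * y) (mul_mem P hx hy) := by
  unfold clsZ
  rw [← map_mul]
  congr 1
  apply Subtype.ext
  change C x * T (-(m : ℤ)) * (C y * T (-(n : ℤ))) = C (x * y) * T (-((m + n : ℕ) : ℤ))
  have e : (-((m + n : ℕ) : ℤ)) = -(m : ℤ) + -(n : ℤ) := by push_cast; ring
  rw [e, T_add, map_mul]
  ring

lemma clsZ_eq_zero_of_mem (n : ℕ) (x : K) (hx : x ∈ gammaFiltration P (n + 1)) :
    clsZ P n x (filt_anti P (Nat.le_succ n) hx) = 0 := by
  unfold clsZ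
  rw [Ideal.Quotient.eq_zero_iff_mem, Ideal.mem_span_singleton']
  refine ⟨⟨C x * T (-((n + 1 : ℕ) : ℤ)), C_mul_T_mem_rees P hx⟩, ?_⟩
  apply Subtype.ext
  change C x * T (-((n + 1 : ℕ) : ℤ)) * T 1 = C x * T (-(n : ℤ))
  rw [mul_assoc, ← T_add]
  congr 2
  push_cast; ring

lemma clsZ_one : clsZ P 0 1 (by rw [filt_zero]; trivial) = 1 := by
  unfold clsZ
  rw [← map_one (Ideal.Quotient.mk (Ideal.span {tGen P}))]
  congr 1
  apply Subtype.ext
  change C (1 : K) * T (-((0 : ℕ) : ℤ)) = 1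
  simp

lemma clsZ_zsmul (n : ℕ) (x : K) (hx : x ∈ gammaFiltration P n) (c : ℤ) :
    clsZ P n ((c : K) * x) (smul_mem P _ hx) = c • clsZ P n x hx := by
  unfold clsZ
  rw [← map_zsmul]
  congr 1
  apply Subtype.ext
  change C ((c : K) * x) * T (-(n : ℤ)) = c • (C x * T (-(n : ℤ)))
  rw [map_mul, zsmul_eq_mul, mul_assoc]
  congr 1

/-- the `n`-th graded component, as a map to `K ⧸ F^{n+1}`. -/
noncomputable def compRees (n : ℕ) : rees P →+ K ⧸ gammaFiltration P (n + 1) :=
  (QuotientAddGroup.mk' (gammaFiltration P (n + 1))).comp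
    { toFun := fun p => p.1.coeff (-(n : ℤ))
      map_zero' := by simp
      map_add' := by
        intro p q
        change (p.1 + q.1).coeff (-(n : ℤ)) = _
        rw [AddMonoidAlgebra.coeff_add, Finsupp.add_apply] }

lemma compRees_apply (n : ℕ) (p : rees P) :
    compRees P n p = QuotientAddGroup.mk (p.1.coeff (-(n : ℤ))) := rfl

lemma compRees_eq_zero_of_mem (n : ℕ) (p : rees P) (hp : p ∈ Ideal.span {tGen P}) :
    compRees P n p = 0 := by
  rw [Ideal.mem_span_singleton'] at hp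
  obtain ⟨q, rfl⟩ := hp
  rw [compRees_apply, QuotientAddGroup.eq_zero_iff]
  change (q.1 * T 1).coeff (-(n : ℤ)) ∈ _
  have h1 : (q.1 * T 1 : LaurentPolynomial K) = AddMonoidAlgebra.single 1 1 * q.1 := by
    rw [mul_comm]; rfl
  rw [h1, AddMonoidAlgebra.coeff_single_mul_apply, one_mul]
  have h2 := coeff_mem_of_mem_rees P q.2 (n + 1)
  have e : (-1 + -(n : ℤ)) = -((n + 1 : ℕ) : ℤ) := by push_cast; ring
  rw [e]
  exact h2

/-- the `n`-th graded component on `GrZ`. -/
noncomputable def compZ (n : ℕ) : GrZ P →+ K ⧸ gammaFiltration P (n + 1) :=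
  QuotientAddGroup.lift (Submodule.toAddSubgroup (Ideal.span {tGen P})) (compRees P n)
    (fun p hp => compRees_eq_zero_of_mem P n p hp)

lemma compZ_mk (n : ℕ) (p : rees P) :
    compZ P n (Ideal.Quotient.mk (Ideal.span {tGen P}) p) = compRees P n p := rfl

lemma compZ_clsZ (n m : ℕ) (x : K) (hx : x ∈ gammaFiltration P m) :
    compZ P n (clsZ P m x hx) = if m = n then QuotientAddGroup.mk x else 0 := by
  classical
  unfold clsZ
  rw [compZ_mk, compRees_apply]
  change QuotientAddGroup.mk ((C x * T (-(m : ℤ)) : LaurentPolynomial K).coeff (-(n : ℤ))) = _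
  rw [← single_eq_C_mul_T, AddMonoidAlgebra.coeff_single, Finsupp.single_apply]
  by_cases h : m = n
  · subst h
    rw [if_pos rfl, if_pos rfl]
  · rw [if_neg h, if_neg (by omega)]
    rfl

/-- every element of `GrZ` is a sum of classes `clsZ`. -/
lemma span_clsZ (z : GrZ P) :
    z ∈ AddSubgroup.closure {y : GrZ P | ∃ (n : ℕ) (x : K) (hx : x ∈ gammaFiltration P n),
      y = clsZ P n x hx} := by
  obtain ⟨⟨p, hp⟩, rfl⟩ := Ideal.Quotient.mk_surjective z
  have hS := rees_le_S P hp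
  have hmem : ∀ a : ℤ, (AddMonoidAlgebra.single a (p.coeff a) : LaurentPolynomial K) ∈ rees P := by
    intro a
    rw [single_eq_C_mul_T]
    rcases le_or_gt a 0 with ha | ha
    · obtain ⟨n, rfl⟩ : ∃ n : ℕ, a = -(n : ℤ) := ⟨(-a).toNat, by omega⟩
      exact C_mul_T_mem_rees P (coeff_mem_of_mem_rees P hp n)
    · obtain ⟨n, rfl⟩ : ∃ n : ℕ, a = (n : ℤ) := ⟨a.toNat, by omega⟩
      exact C_mul_T_nat_mem_rees P _ n
  have hsum : (⟨p, hp⟩ : rees P) = ∑ a ∈ p.coeff.support,
      (⟨AddMonoidAlgebra.single a (p.coeff a), hmem a⟩ : rees P) := by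
    apply Subtype.ext
    rw [AddSubmonoidClass.coe_finsetSum]
    exact (AddMonoidAlgebra.sum_coeff_single p).symm
  rw [hsum, map_sum]
  apply AddSubgroup.sum_mem
  intro a _
  rcases le_or_gt a 0 with ha | ha
  · obtain ⟨n, rfl⟩ : ∃ n : ℕ, a = -(n : ℤ) := ⟨(-a).toNat, by omega⟩
    apply AddSubgroup.subset_closure
    refine ⟨n, p.coeff (-(n : ℤ)), coeff_mem_of_mem_rees P hp n, ?_⟩
    unfold clsZ
    congr 1
    apply Subtype.ext
    exact single_eq_C_mul_T _ _
  · obtain ⟨n, rfl⟩ : ∃ n : ℕ, a = ((n + 1 : ℕ) : ℤ) := ⟨a.toNat - 1, by omega⟩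
    have h0 : Ideal.Quotient.mk (Ideal.span {tGen P})
        (⟨AddMonoidAlgebra.single ((n + 1 : ℕ) : ℤ) (p.coeff ((n + 1 : ℕ) : ℤ)), hmem _⟩ : rees P) = 0 := by
      rw [Ideal.Quotient.eq_zero_iff_mem, Ideal.mem_span_singleton']
      refine ⟨⟨C (p.coeff ((n + 1 : ℕ) : ℤ)) * T (n : ℤ), C_mul_T_nat_mem_rees P _ n⟩, ?_⟩
      apply Subtype.ext
      change C (p.coeff ((n + 1 : ℕ) : ℤ)) * T (n : ℤ) * T 1 =
        AddMonoidAlgebra.single ((n + 1 : ℕ) : ℤ) (p.coeff ((n + 1 : ℕ) : ℤ))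
      rw [single_eq_C_mul_T, mul_assoc, ← T_add]
      have e : ((n + 1 : ℕ) : ℤ) = (n : ℤ) + 1 := by push_cast; ring
      rw [e]
    rw [h0]
    exact AddSubgroup.zero_mem _

end Groth.Agent.Lib.Helper16.GR
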