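import Mathlib.CategoryTheory.Triangulated.Yoneda
import Mathlib.CategoryTheory.Linear.LinearFunctor
import Mathlib.CategoryTheory.Triangulated.Pretriangulated
import Mathlib.RingTheory.Noetherian.Basic
import Mathlib.RingTheory.Finiteness.Basic

/-!
# Finiteness of Hom-modules in a linear pretriangulated category (helper16)
-/

open CategoryTheory CategoryTheory.Limits CategoryTheory.Pretriangulated

namespace Groth.Agent.Lib.Helper16.HomFin

universe v u w
variable {A : Type w} [CommRing A]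

/-- middle term of an "exact" pair of linear maps between modules over a Noetherian ring -/
lemma finite_mid [IsNoetherianRing A] {M₁ M₂ M₃ : Type*} [AddCommGroup M₁] [Module A M₁]
    [AddCommGroup M₂] [Module A M₂] [AddCommGroup M₃] [Module A M₃]
    (f : M₁ →ₗ[A] M₂) (g : M₂ →ₗ[A] M₃) (h : ∀ x, g x = 0 → ∃ y, f y = x)
    [Module.Finite A M₁] [Module.Finite A M₃] : Module.Finite A M₂ := by
  constructor
  refine Submodule.fg_of_fg_map_of_fg_inf_ker g ?_ ?_
  · have : IsNoetherian A M₃ := isNoetherian_of_isNoetherianRing_of_finite A M₃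
    exact IsNoetherian.noetherian _
  · have : (⊤ : Submodule A M₂) ⊓ LinearMap.ker g ≤ LinearMap.range f := by
      rintro x ⟨-, hx⟩
      exact h x hx
    have hle : (⊤ : Submodule A M₂) ⊓ LinearMap.ker g = LinearMap.range f ⊓ LinearMap.ker g :=
      le_antisymm (le_inf this inf_le_right) (inf_le_inf_right _ le_top)
    have hr : (LinearMap.range f).FG := by
      rw [LinearMap.range_eq_map]
      exact Submodule.FG.map f Module.Finite.fg_top
    have : IsNoetherian A (LinearMap.range f) := by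
      have : Module.Finite A (LinearMap.range f) := Module.Finite.iff_fg.2 hr
      exact isNoetherian_of_isNoetherianRing_of_finite A _
    rw [hle]
    have h2 : (LinearMap.range f ⊓ LinearMap.ker g) =
        Submodule.map (LinearMap.range f).subtype
          (Submodule.comap (LinearMap.range f).subtype (LinearMap.ker g)) := by
      rw [Submodule.map_comap_subtype]
    rw [h2]
    exact Submodule.FG.map _ (IsNoetherian.noetherian _)

variable {C : Type u} [Category.{v} C] [Preadditive C] [Linear A C]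

lemma finite_of_iso {X X' Y Y' : C} (e₁ : X ≅ X') (e₂ : Y ≅ Y') [Module.Finite A (X ⟶ Y)] :
    Module.Finite A (X' ⟶ Y') := by
  refine Module.Finite.of_surjective
    ((Linear.leftComp A Y' e₁.inv).comp (Linear.rightComp A X e₂.hom)) ?_
  intro φ
  refine ⟨e₁.hom ≫ φ ≫ e₂.inv, ?_⟩
  simp

lemma finite_of_isZero_left {X Y : C} (h : IsZero X) : Module.Finite A (X ⟶ Y) := by
  have : Subsingleton (X ⟶ Y) := ⟨fun a b => h.eq_of_src a b⟩
  infer_instance

lemma finite_map {D : Type*} [Category D] [Preadditive D] [Linear A D] (F : C ⥤ D) [F.Additive]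
    [F.Linear A] [F.Full] {X Y : C} [Module.Finite A (X ⟶ Y)] :
    Module.Finite A (F.obj X ⟶ F.obj Y) :=
  Module.Finite.of_surjective (F.mapLinearMap A) (fun φ => ⟨F.preimage φ, by simp⟩)

variable [HasZeroObject C] [HasShift C ℤ] [∀ n : ℤ, (shiftFunctor C n).Additive] [Pretriangulated C]

/-- Two-out-of-three (middle term). -/
lemma finite_obj₂ [IsNoetherianRing A] (T : Triangle C) (hT : T ∈ distTriang C) (Y : C)
    [Module.Finite A (T.obj₁ ⟶ Y)] [Module.Finite A (T.obj₃ ⟶ Y)] :
    Module.Finite A (T.obj₂ ⟶ Y) :=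
  finite_mid (Linear.leftComp A Y T.mor₂) (Linear.leftComp A Y T.mor₁)
    (fun x hx => by
      obtain ⟨g, hg⟩ := Triangle.yoneda_exact₂ T hT x hx
      exact ⟨g, hg.symm⟩)

/-- Two-out-of-three (third term). -/
lemma finite_obj₃ [IsNoetherianRing A] (T : Triangle C) (hT : T ∈ distTriang C) (Y : C)
    [Module.Finite A (T.obj₂ ⟶ Y)] [Module.Finite A (T.obj₁⟦(1 : ℤ)⟧ ⟶ Y)] :
    Module.Finite A (T.obj₃ ⟶ Y) :=
  finite_mid (Linear.leftComp A Y T.mor₃) (Linear.leftComp A Y T.mor₂)
    (fun x hx => by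
      obtain ⟨g, hg⟩ := Triangle.yoneda_exact₃ T hT x hx
      exact ⟨g, hg.symm⟩)

/-- `Hom(T.obj₃, Y) → Hom(T.obj₂, Y)` is onto when `Hom(T.obj₁, Y) = 0`. -/
lemma finite_obj₂_of_obj₃ (T : Triangle C) (hT : T ∈ distTriang C) (Y : C)
    (h : ∀ φ : T.obj₁ ⟶ Y, φ = 0) [Module.Finite A (T.obj₃ ⟶ Y)] :
    Module.Finite A (T.obj₂ ⟶ Y) :=
  Module.Finite.of_surjective (Linear.leftComp A Y T.mor₂) (fun x => by
    obtain ⟨g, hg⟩ := Triangle.yoneda_exact₂ T hT x (h _)
    exact ⟨g, hg.symm⟩)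

/-- `Hom(T.obj₂, Y) → Hom(T.obj₁, Y)` is injective when `Hom(T.obj₃, Y) = 0`. -/
lemma finite_obj₂_of_obj₁ [IsNoetherianRing A] (T : Triangle C) (hT : T ∈ distTriang C) (Y : C)
    (h : ∀ φ : T.obj₃ ⟶ Y, φ = 0) [Module.Finite A (T.obj₁ ⟶ Y)] :
    Module.Finite A (T.obj₂ ⟶ Y) := by
  have : IsNoetherian A (T.obj₁ ⟶ Y) := isNoetherian_of_isNoetherianRing_of_finite A _
  refine Module.Finite.of_injective (Linear.leftComp A Y T.mor₁) ?_
  rw [← LinearMap.ker_eq_bot, LinearMap.ker_eq_bot']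
  intro x hx
  obtain ⟨g, hg⟩ := Triangle.yoneda_exact₂ T hT x hx
  rw [hg, h g, comp_zero]

end Groth.Agent.Lib.Helper16.HomFin
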