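import Mathlib

/-!
# Helper16 — InjSum: over a noetherian ring, a direct sum of copies of an injective module is
injective (Bass–Papp, easy direction); `A[X] ⊗[A] E` is an injective `A`-module for `E` injective.
-/

set_option autoImplicit false
universe u
open TensorProduct Polynomial

namespace Groth.Agent.Lib.Helper16.InjSum

/-- injectivity is invariant under linear equivalences -/
lemma injective_of_linearEquiv {A : Type u} [CommRing A] {M N : Type u} [AddCommGroup M]
    [Module A M] [AddCommGroup N] [Module A N] (e : M ≃ₗ[A] N) [Module.Injective A M] :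
    Module.Injective A N := by
  refine Module.Baer.injective (fun I g => ?_)
  obtain ⟨f', hf'⟩ := Module.Baer.of_injective (inferInstance : Module.Injective A M) I
    (e.symm.toLinearMap ∘ₗ g)
  refine ⟨e.toLinearMap ∘ₗ f', fun x hx => ?_⟩
  rw [LinearMap.comp_apply, hf' x hx]
  simp

variable {A : Type u} [CommRing A] [IsNoetherianRing A]

/-- over a noetherian ring, `ι →₀ E` is injective if `E` is -/
theorem injective_finsupp (ι : Type*) (E : Type u) [AddCommGroup E] [Module A E]
    [Module.Injective A E] : Module.Injective A (ι →₀ E) := by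
  classical
  refine Module.Baer.injective (fun J g => ?_)
  -- a finite set of indices supporting the image of `g`
  obtain ⟨s, hs⟩ := (isNoetherian_def.1 (inferInstance : IsNoetherian A A)) J
  let F : Finset ι := s.attach.biUnion (fun a => (g ⟨a.1, by rw [← hs]; exact Submodule.subset_span a.2⟩).support)
  have hF' : ∀ x : A, x ∈ Submodule.span A (s : Set A) → ∀ hxJ : x ∈ J, ∀ i : ι, i ∉ F →
      g ⟨x, hxJ⟩ i = 0 := by
    intro x hx
    induction hx using Submodule.span_induction with
    | mem a ha =>
      intro hxJ i hi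
      by_contra hne
      apply hi
      refine Finset.mem_biUnion.2 ⟨⟨a, ha⟩, Finset.mem_attach _ _, ?_⟩
      exact Finsupp.mem_support_iff.2 hne
    | zero =>
      intro hxJ i hi
      have : g ⟨0, hxJ⟩ = 0 := by
        have : (⟨0, hxJ⟩ : J) = 0 := rfl
        rw [this, map_zero]
      rw [this, Finsupp.zero_apply]
    | add a b ha hb iha ihb =>
      intro hxJ i hi
      have haJ : a ∈ J := by rw [← hs]; exact ha
      have hbJ : b ∈ J := by rw [← hs]; exact hb
      have : g ⟨a + b, hxJ⟩ = g ⟨a, haJ⟩ + g ⟨b, hbJ⟩ := by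
        rw [← map_add]; rfl
      rw [this, Finsupp.add_apply, iha haJ i hi, ihb hbJ i hi, add_zero]
    | smul r a ha iha =>
      intro hxJ i hi
      have haJ : a ∈ J := by rw [← hs]; exact ha
      have : g ⟨r • a, hxJ⟩ = r • g ⟨a, haJ⟩ := by
        rw [← map_smul]; rfl
      rw [this, Finsupp.smul_apply, iha haJ i hi, smul_zero]
  have hF : ∀ x : J, ∀ i : ι, i ∉ F → g x i = 0 := fun x i hi =>
    hF' x.1 (by rw [hs]; exact x.2) x.2 i hi
  -- the restricted map to the finite product
  let g' : J →ₗ[A] (F → E) :=
    { toFun := fun x i => g x i.1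
      map_add' := fun x y => by funext i; simp
      map_smul' := fun r x => by funext i; simp }
  haveI : Module.Injective A (F → E) := inferInstance
  obtain ⟨h', hh'⟩ := Module.Baer.of_injective (inferInstance : Module.Injective A (F → E)) J g'
  let ext0 : (F → E) →ₗ[A] (ι →₀ E) :=
    (Finsupp.lmapDomain E A (Subtype.val : F → ι)) ∘ₗ
      (Finsupp.linearEquivFunOnFinite A E F).symm.toLinearMap
  refine ⟨ext0 ∘ₗ h', fun x hx => ?_⟩
  rw [LinearMap.comp_apply, hh' x hx]
  ext i
  by_cases hi : i ∈ F
  · change (Finsupp.mapDomain Subtype.val ((Finsupp.linearEquivFunOnFinite A E F).symm (g' ⟨x, hx⟩))) i = _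
    have : i = Subtype.val (⟨i, hi⟩ : F) := rfl
    rw [this, Finsupp.mapDomain_apply Subtype.val_injective]
    rfl
  · rw [hF ⟨x, hx⟩ i hi]
    change (Finsupp.mapDomain Subtype.val ((Finsupp.linearEquivFunOnFinite A E F).symm (g' ⟨x, hx⟩))) i = 0
    apply Finsupp.mapDomain_of_notMem_range
    rintro ⟨⟨j, hj⟩, rfl⟩
    exact hi hj

/-- `A[X] ⊗[A] E` is an injective `A`-module for `E` injective over a noetherian ring `A` -/
theorem injective_polynomial_tensor (E : Type u) [AddCommGroup E] [Module A E]
    [Module.Injective A E] : Module.Injective A (A[X] ⊗[A] E) := by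
  haveI := injective_finsupp (A := A) ℕ E
  let e : A[X] ⊗[A] E ≃ₗ[A] (ℕ →₀ E) :=
    (TensorProduct.congr (Polynomial.basisMonomials A).repr (LinearEquiv.refl A E)).trans
      (TensorProduct.finsuppScalarLeft A E ℕ)
  exact injective_of_linearEquiv e.symm
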