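import Groth.Agent.Lib.Helper16.PBM3

/-!
# Helper16 — JS1: extension by zero `j_!` of modules along an open immersion `j : U ⟶ X`
(the left adjoint of the restriction functor): the unit is an isomorphism, the stalks vanish
outside `U`.
-/

set_option autoImplicit false
universe u
open CategoryTheory CategoryTheory.Limits TopologicalSpace Opposite AlgebraicGeometry

namespace Groth.Agent.Lib.Helper16.JS
open Groth.Agent.Lib.Helper16.Stk

variable {U X : Scheme.{u}} (j : U ⟶ X) [IsOpenImmersion j]

set_option backward.isDefEq.respectTransparency.types false in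
instance isRightAdjoint_restrictFunctor : (Scheme.Modules.restrictFunctor j).IsRightAdjoint := by
  unfold Scheme.Modules.restrictFunctor
  exact (SheafOfModules.PullbackConstruction.adjunction.{u} _).isRightAdjoint

/-- restriction to `U` (short name). -/
noncomputable abbrev rF : X.Modules ⥤ U.Modules := Scheme.Modules.restrictFunctor j

/-- **extension by zero** `j_!`. -/
noncomputable def jS : U.Modules ⥤ X.Modules := (rF j).leftAdjoint

/-- `j_! ⊣ j^*`. -/
noncomputable def jSAdj : jS j ⊣ rF j := Adjunction.ofIsRightAdjoint _

instance : (jS j).IsLeftAdjoint := (jSAdj j).isLeftAdjoint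

/-- the adjoint triple `j_! ⊣ j^* ⊣ j_*`. -/
noncomputable def triple :
    Adjunction.Triple (jS j) (rF j) (Scheme.Modules.pushforward j) :=
  ⟨jSAdj j, Scheme.Modules.restrictAdjunction j⟩

instance isIso_jSAdj_unit : IsIso (jSAdj j).unit :=
  (triple j).isIso_unit_iff_isIso_counit.2
    (inferInstanceAs (IsIso (Scheme.Modules.restrictAdjunction j).counit))

instance isIso_jSAdj_unit_app (A : U.Modules) : IsIso ((jSAdj j).unit.app A) := inferInstance

/-- the restriction to `U` of a skyscraper at a point outside `U` vanishes. -/
lemma isZero_rF_sky (y : X) (hy : y ∉ Set.range j.base)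
    (N : ModuleCat.{u} (X.presheaf.stalk y)) : IsZero ((rF j).obj ((skyFunctor y).obj N)) := by
  apply Groth.Agent.Lib.Helper28.QCohLoc.isZero_of_sections_zero
  intro W s
  change (skyP (R := X.presheaf) y N).obj (op (j ''ᵁ W)) at s
  funext h
  exact absurd (Set.image_subset_range _ _ h.down) hy

/-- **the stalks of `j_! A` vanish outside `U`.** -/
theorem isZero_stk_jS (A : U.Modules) (y : X) (hy : y ∉ Set.range j.base) :
    IsZero ((stk y).obj ((jS j).obj A)) := by
  rw [IsZero.iff_id_eq_zero]
  apply ((stkSkyAdj y).homEquiv _ _).injective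
  apply ((jSAdj j).homEquiv _ _).injective
  exact (isZero_rF_sky j y hy _).eq_of_tgt _ _

end Groth.Agent.Lib.Helper16.JS
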