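import Groth.Agent.Lib.Helper16.JS1
import Groth.Agent.Lib.Helper1.ShriekSheaf

/-!
# Helper16 — JS2: stalks at points of `U` only depend on the restriction to `U`; `j_!` is exact
-/

set_option autoImplicit false
universe u
open CategoryTheory CategoryTheory.Limits TopologicalSpace Opposite AlgebraicGeometry

namespace Groth.Agent.Lib.Helper16.JS
open Groth.Agent.Lib.Helper16.Stk Groth.Agent.Lib.Helper23.CIProj

variable {U X : Scheme.{u}} (j : U ⟶ X) [IsOpenImmersion j]

/-- the map on stalks of the underlying presheaves of abelian groups. -/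
noncomputable abbrev abStalkMap {M N : X.Modules} (φ : M ⟶ N) (y : X) :=
  (TopCat.Presheaf.stalkFunctor Ab y).map ((Scheme.Modules.toPresheaf X).map φ)

lemma stk_map_hom_apply {M N : X.Modules} (φ : M ⟶ N) (y : X) (a : St y (tP M)) :
    ((stk y).map φ).hom a = (abStalkMap φ y).hom a := rfl

lemma isIso_stk_map_iff {M N : X.Modules} (φ : M ⟶ N) (y : X) :
    IsIso ((stk y).map φ) ↔ IsIso (abStalkMap φ y) := by
  rw [ConcreteCategory.isIso_iff_bijective, ConcreteCategory.isIso_iff_bijective]
  rfl

lemma mono_stk_map_iff {M N : X.Modules} (φ : M ⟶ N) (y : X) :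
    Mono ((stk y).map φ) ↔ Mono (abStalkMap φ y) := by
  rw [ModuleCat.mono_iff_injective, AddCommGrpCat.mono_iff_injective]
  rfl

/-- the square relating the maps on stalks of `φ` and of its restriction to `U`. -/
lemma abStalkMap_sq {M N : X.Modules} (φ : M ⟶ N) (x : U) :
    abStalkMap ((rF j).map φ) x ≫ (Scheme.Modules.restrictStalkNatIso j x).hom.app N =
      (Scheme.Modules.restrictStalkNatIso j x).hom.app M ≫ abStalkMap φ (j x) :=
  (Scheme.Modules.restrictStalkNatIso j x).hom.naturality φ

lemma isIso_stk_of_isIso_rF {M N : X.Modules} (φ : M ⟶ N) (x : U)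
    (h : IsIso ((rF j).map φ)) : IsIso ((stk (j x)).map φ) := by
  rw [isIso_stk_map_iff]
  haveI : IsIso (abStalkMap ((rF j).map φ) x) := by
    rw [← isIso_stk_map_iff]
    infer_instance
  have e : abStalkMap φ (j x) = (Scheme.Modules.restrictStalkNatIso j x).inv.app M ≫
      abStalkMap ((rF j).map φ) x ≫ (Scheme.Modules.restrictStalkNatIso j x).hom.app N := by
    rw [abStalkMap_sq, Iso.inv_hom_id_app_assoc]
  rw [e]
  infer_instance

lemma mono_stk_of_mono_rF {M N : X.Modules} (φ : M ⟶ N) (x : U)
    (h : Mono ((rF j).map φ)) : Mono ((stk (j x)).map φ) := by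
  rw [mono_stk_map_iff]
  haveI : Mono (abStalkMap ((rF j).map φ) x) := by
    rw [← mono_stk_map_iff]
    infer_instance
  have e : abStalkMap φ (j x) = (Scheme.Modules.restrictStalkNatIso j x).inv.app M ≫
      abStalkMap ((rF j).map φ) x ≫ (Scheme.Modules.restrictStalkNatIso j x).hom.app N := by
    rw [abStalkMap_sq, Iso.inv_hom_id_app_assoc]
  rw [e]
  infer_instance

/-- a morphism is an isomorphism if its restriction to `U` is, and it is so on the stalks outside
`U`. -/
theorem isIso_of_rF_of_stalks {M N : X.Modules} (φ : M ⟶ N) (h : IsIso ((rF j).map φ))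
    (h' : ∀ y : X, y ∉ Set.range j.base → IsIso ((stk y).map φ)) : IsIso φ := by
  apply Groth.Agent.Lib.Helper23.CIProj.isIso_of_forall_stalk
  intro y
  by_cases hy : y ∈ Set.range j.base
  · obtain ⟨x, rfl⟩ := hy
    exact isIso_stk_of_isIso_rF j φ x h
  · exact h' y hy

/-- `j^* j_! ψ` in terms of `ψ`. -/
lemma rF_map_jS_map {A B : U.Modules} (ψ : A ⟶ B) :
    (rF j).map ((jS j).map ψ) = inv ((jSAdj j).unit.app A) ≫ ψ ≫ (jSAdj j).unit.app B := by
  rw [IsIso.eq_inv_comp]
  exact ((jSAdj j).unit.naturality ψ).symm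

instance preservesMonomorphisms_jS : (jS j).PreservesMonomorphisms where
  preserves {A B} ψ _ := by
    apply mono_of_forall_stalk
    intro y
    by_cases hy : y ∈ Set.range j.base
    · obtain ⟨x, rfl⟩ := hy
      apply mono_stk_of_mono_rF j
      rw [rF_map_jS_map]
      infer_instance
    · exact ⟨fun _ _ _ => (isZero_stk_jS j A y hy).eq_of_tgt _ _⟩

instance preservesFiniteLimits_jS : PreservesFiniteLimits (jS j) :=
  Groth.Agent.Lib.Helper1.ShriekSheaf.preservesFiniteLimits_of_preservesMono (jS j)

attribute [local instance] preservesBinaryBiproducts_of_preservesBinaryCoproducts in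
instance additive_jS : (jS j).Additive := Functor.additive_of_preservesBinaryBiproducts _

instance preservesHomology_jS : (jS j).PreservesHomology := inferInstance

end Groth.Agent.Lib.Helper16.JS
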