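import Mathlib

/-!
# Adjunction between pushforwards of presheaves of modules along adjoint functors
(presheaf-level analogue of `SheafOfModules.pushforwardPushforwardAdj`)
-/

set_option autoImplicit false
universe v v₁ v₂ u₁ u₂ u
open CategoryTheory Functor

namespace Groth.Agent.Lib.Helper16.RM

variable {C : Type u₁} [Category.{v₁} C] {D : Type u₂} [Category.{v₂} D]
  {F : C ⥤ D} {G : D ⥤ C} (adj : F ⊣ G)
  {S : Cᵒᵖ ⥤ RingCat.{u}} {R : Dᵒᵖ ⥤ RingCat.{u}}
  (φ : S ⟶ F.op ⋙ R) (ψ : R ⟶ G.op ⋙ S)
  (H₁ : Functor.whiskerRight (NatTrans.op adj.counit) R = ψ ≫ G.op.whiskerLeft φ)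
  (H₂ : φ ≫ F.op.whiskerLeft ψ ≫ Functor.whiskerRight (NatTrans.op adj.unit) S = 𝟙 S)

open PresheafOfModules

include H₁ in
/-- the unit. -/
noncomputable def ppUnitApp (M : PresheafOfModules.{v} R) :
    M ⟶ (pushforward ψ).obj ((pushforward φ).obj M) :=
  homMk (M₂ := (pushforward ψ).obj ((pushforward φ).obj M))
    (Functor.whiskerRight (NatTrans.op adj.counit) M.presheaf) (by
    intro W r m
    have h := M.map_smul (adj.counit.app W.unop).op r m
    have h1 : R.map (adj.counit.app W.unop).op r = (φ.app (G.op.obj W)) ((ψ.app W) r) :=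
      congr_fun (congrArg (fun (t : _ ⟶ _) => (t.app W).hom) H₁) r
    rw [h1] at h
    exact h)

include H₂ in
/-- the counit. -/
noncomputable def ppCounitApp (N : PresheafOfModules.{v} S) :
    (pushforward φ).obj ((pushforward ψ).obj N) ⟶ N :=
  homMk (M₁ := (pushforward φ).obj ((pushforward ψ).obj N))
    (Functor.whiskerRight (NatTrans.op adj.unit) N.presheaf) (by
    intro U r m
    have h := N.map_smul (adj.unit.app U.unop).op ((ψ.app (F.op.obj U)) ((φ.app U) r)) m
    have h1 : S.map (adj.unit.app U.unop).op ((ψ.app (F.op.obj U)) ((φ.app U) r)) = r :=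
      congr_fun (congrArg (fun (t : _ ⟶ _) => (t.app U).hom) H₂) r
    rw [h1] at h
    exact h)

/-- **adjunction between pushforwards of presheaves of modules** along adjoint functors. -/
noncomputable def pushforwardPushforwardAdj : pushforward.{v} φ ⊣ pushforward.{v} ψ where
  unit :=
    { app := fun M => ppUnitApp adj φ ψ H₁ M
      naturality := fun M M' f => by
        ext W m
        exact (naturality_apply f (adj.counit.app W.unop).op m).symm }
  counit :=
    { app := fun N => ppCounitApp adj φ ψ H₂ N
      naturality := fun N N' f => by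
        ext U m
        exact (naturality_apply f (adj.unit.app U.unop).op m).symm }
  left_triangle_components M := by
    ext U x
    change (M.presheaf.map (adj.counit.app (F.obj U.unop)).op ≫
      M.presheaf.map (F.map (adj.unit.app U.unop)).op) _ = _
    dsimp only [id_obj]
    rw [← Functor.map_comp, ← op_comp, adj.left_triangle_components]
    simp
    rfl
  right_triangle_components N := by
    ext W x
    change (N.presheaf.map (G.map (adj.counit.app W.unop)).op ≫
      N.presheaf.map (adj.unit.app (G.obj W.unop)).op) _ = _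
    rw [← Functor.map_comp, ← op_comp, adj.right_triangle_components]
    simp
    rfl

end Groth.Agent.Lib.Helper16.RM
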