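import Groth.Agent.Lib.Helper16.RM1
import Groth.Agent.Lib.Helper16.RM2
import Groth.Agent.Lib.Helper16.Stk5

/-!
# Restriction of `O_X`-modules to an open subscheme commutes with tensor products
-/

set_option autoImplicit false
universe u
open CategoryTheory MonoidalCategory AlgebraicGeometry

namespace Groth.Agent.Lib.Helper16.RM

variable {V X : Scheme.{u}} (j : V ⟶ X) [IsOpenImmersion j]

/-- the isomorphism of presheaves of commutative rings `O_V ≅ O_X ∘ j`. -/
noncomputable def αIso : V.sheaf.obj ≅ j.opensFunctor.op ⋙ X.sheaf.obj :=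
  NatIso.ofComponents (fun U => (j.appIso U.unop).symm) (fun {U U'} f => by
    have h := j.appIso_inv_naturality f
    exact h)

/-- restriction of presheaves of modules to an open subscheme. -/
noncomputable abbrev RPj : CohB1.PMod X ⥤ CohB1.PMod V :=
  RP j.opensFunctor X.sheaf.obj V.sheaf.obj (αIso j).hom

/-- restriction of sheaves and presheaves of modules are compatible. -/
noncomputable def toPRPjIso :
    DCoh.toP ⋙ RPj j ≅ Scheme.Modules.restrictFunctor j ⋙ DCoh.toP :=
  NatIso.ofComponents (fun _ => Iso.refl _) (fun _ =>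
    (Category.comp_id _).trans (Eq.trans rfl (Category.id_comp _).symm))

/-- the pushforward of presheaves of modules. -/
noncomputable abbrev PPj : CohB1.PMod V ⥤ CohB1.PMod X :=
  PresheafOfModules.pushforward (R := V.sheaf.obj ⋙ forget₂ CommRingCat RingCat)
    (S := X.sheaf.obj ⋙ forget₂ CommRingCat RingCat)
    (F := TopologicalSpace.Opens.map j.base) (Functor.whiskerRight j.c (forget₂ CommRingCat RingCat))

/-- pushforward of sheaves and presheaves of modules are compatible. -/
noncomputable def toPPPjIso :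
    DCoh.toP ⋙ PPj j ≅ Scheme.Modules.pushforward j ⋙ DCoh.toP :=
  NatIso.ofComponents (fun _ => Iso.refl _) (fun _ =>
    (Category.comp_id _).trans (Eq.trans rfl (Category.id_comp _).symm))

/-- the presheaf level adjunction between restriction and pushforward. -/
noncomputable def RPjAdj : RPj j ⊣ PPj j := by
  refine pushforwardPushforwardAdj (F := j.opensFunctor) (G := TopologicalSpace.Opens.map j.base)
    (by exact j.isOpenEmbedding.isOpenMap.adjunction) _ _ ?_ ?_
  · ext U x; exact congr($((j.app_appIso_inv _).symm).hom x)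
  · ext U x
    have : (j.appIso U.unop).inv ≫ j.app _ ≫
      V.presheaf.map (eqToHom (j.preimage_image_eq U.unop).symm).op = 𝟙 _ := by
      rw [Scheme.Hom.appIso_inv_app_assoc, ← Functor.map_comp, ← V.presheaf.map_id]; rfl
    exact congr($this x)

/-- restriction to an open subscheme commutes with sheafification. -/
noncomputable def shRIso :
    DCoh.shP ⋙ Scheme.Modules.restrictFunctor j ≅ RPj j ⋙ DCoh.shP :=
  Adjunction.leftAdjointUniq
    ((Stk.adjSh (X := X)).comp (Scheme.Modules.restrictAdjunction j))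
    (((RPjAdj j).comp (Stk.adjSh (X := V))).ofNatIsoRight (toPPPjIso j))

/-- the presheaf level comparison isomorphism. -/
noncomputable def νj (A B : CohB1.PMod X) :
    (RPj j).obj A ⊗ (RPj j).obj B ≅ (RPj j).obj (A ⊗ B) :=
  νIso j.opensFunctor X.sheaf.obj V.sheaf.obj (αIso j).hom (αIso j).inv (αIso j).inv_hom_id A B

lemma νj_naturality {A A' B B' : CohB1.PMod X} (f : A ⟶ A') (g : B ⟶ B') :
    ((RPj j).map f ⊗ₘ (RPj j).map g) ≫ (νj j A' B').hom =
      (νj j A B).hom ≫ (RPj j).map (f ⊗ₘ g) :=
  νIso_hom_naturality j.opensFunctor X.sheaf.obj V.sheaf.obj (αIso j).hom (αIso j).inv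
    (αIso j).inv_hom_id f g

/-- **restriction to an open subscheme commutes with the tensor product of modules.** -/
noncomputable def μj (M N : X.Modules) :
    (DCoh.tensorBi.obj ((Scheme.Modules.restrictFunctor j).obj M)).obj
        ((Scheme.Modules.restrictFunctor j).obj N) ≅
      (Scheme.Modules.restrictFunctor j).obj ((DCoh.tensorBi.obj M).obj N) :=
  DCoh.shP.mapIso (νj j (DCoh.toP.obj M) (DCoh.toP.obj N)) ≪≫
    ((shRIso j).app (DCoh.toP.obj M ⊗ DCoh.toP.obj N)).symm

lemma μj_hom (M N : X.Modules) :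
    (μj j M N).hom = DCoh.shP.map (νj j (DCoh.toP.obj M) (DCoh.toP.obj N)).hom ≫
      (shRIso j).inv.app (DCoh.toP.obj M ⊗ DCoh.toP.obj N) := rfl

lemma μj_natL {M M' : X.Modules} (f : M ⟶ M') (N : X.Modules) :
    (DCoh.tensorBi.map ((Scheme.Modules.restrictFunctor j).map f)).app
        ((Scheme.Modules.restrictFunctor j).obj N) ≫ (μj j M' N).hom =
      (μj j M N).hom ≫ (Scheme.Modules.restrictFunctor j).map ((DCoh.tensorBi.map f).app N) := by
  have h1 := νj_naturality j (DCoh.toP.map f) (𝟙 (DCoh.toP.obj N))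
  rw [CategoryTheory.Functor.map_id, tensorHom_id, tensorHom_id] at h1
  have h2 := (shRIso j).inv.naturality (DCoh.toP.map f ▷ DCoh.toP.obj N)
  have h3 := (congrArg DCoh.shP.map h1)
  rw [DCoh.shP.map_comp, DCoh.shP.map_comp] at h3
  rw [μj_hom, μj_hom, Stk.tensorBi_map_app, Stk.tensorBi_map_app]
  refine (Category.assoc _ _ _).symm.trans (Eq.trans ?_ (Category.assoc _ _ _).symm)
  refine (congrArg (· ≫ _) h3).trans ?_
  refine (Category.assoc _ _ _).trans ?_
  exact congrArg (_ ≫ ·) h2

lemma μj_natR (M : X.Modules) {N N' : X.Modules} (g : N ⟶ N') :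
    (DCoh.tensorBi.obj ((Scheme.Modules.restrictFunctor j).obj M)).map
        ((Scheme.Modules.restrictFunctor j).map g) ≫ (μj j M N').hom =
      (μj j M N).hom ≫ (Scheme.Modules.restrictFunctor j).map ((DCoh.tensorBi.obj M).map g) := by
  have h1 := νj_naturality j (𝟙 (DCoh.toP.obj M)) (DCoh.toP.map g)
  rw [CategoryTheory.Functor.map_id, id_tensorHom, id_tensorHom] at h1
  have h2 := (shRIso j).inv.naturality (DCoh.toP.obj M ◁ DCoh.toP.map g)
  have h3 := (congrArg DCoh.shP.map h1)
  rw [DCoh.shP.map_comp, DCoh.shP.map_comp] at h3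
  rw [μj_hom, μj_hom, Stk.tensorBi_obj_map, Stk.tensorBi_obj_map]
  refine (Category.assoc _ _ _).symm.trans (Eq.trans ?_ (Category.assoc _ _ _).symm)
  refine (congrArg (· ≫ _) h3).trans ?_
  refine (Category.assoc _ _ _).trans ?_
  exact congrArg (_ ≫ ·) h2

end Groth.Agent.Lib.Helper16.RM
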