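import Groth.Agent.Lib.Helper16.JS2
import Groth.Agent.Lib.Helper16.RM3

/-!
# Helper16 — JS3: the projection formula `j_!(A ⊗ j^*B) ≅ j_!A ⊗ B` for extension by zero
-/

set_option autoImplicit false
universe u
open CategoryTheory CategoryTheory.Limits TopologicalSpace Opposite AlgebraicGeometry MonoidalCategory

namespace Groth.Agent.Lib.Helper16.JS
open Groth.Agent.Lib.Helper16.Stk Groth.Agent.Lib.Helper23.CIProj Groth.Agent.Lib.Helper16.RM

variable {U X : Scheme.{u}} (j : U ⟶ X) [IsOpenImmersion j]

/-- `A ⊗ j^*B ⟶ j^*(j_!A ⊗ B)`. -/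
noncomputable def projAdj (A : U.Modules) (B : X.Modules) :
    tens A ((rF j).obj B) ⟶ (rF j).obj (tens ((jS j).obj A) B) :=
  (DCoh.tensorBi.map ((jSAdj j).unit.app A)).app ((rF j).obj B) ≫ (μj j ((jS j).obj A) B).hom

instance isIso_projAdj (A : U.Modules) (B : X.Modules) : IsIso (projAdj j A B) := by
  unfold projAdj
  haveI : IsIso (DCoh.tensorBi.map ((jSAdj j).unit.app A)) := Functor.map_isIso _ _
  infer_instance

/-- **the projection formula map `j_!(A ⊗ j^*B) ⟶ j_!A ⊗ B`.** -/
noncomputable def proj (A : U.Modules) (B : X.Modules) :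
    (jS j).obj (tens A ((rF j).obj B)) ⟶ tens ((jS j).obj A) B :=
  ((jSAdj j).homEquiv _ _).symm (projAdj j A B)

lemma unit_comp_rF_map_proj (A : U.Modules) (B : X.Modules) :
    (jSAdj j).unit.app (tens A ((rF j).obj B)) ≫ (rF j).map (proj j A B) = projAdj j A B := by
  have h := (jSAdj j).homEquiv_unit (X := tens A ((rF j).obj B))
    (Y := tens ((jS j).obj A) B) (f := proj j A B)
  exact h.symm.trans (Equiv.apply_symm_apply _ _)

instance isIso_rF_map_proj (A : U.Modules) (B : X.Modules) : IsIso ((rF j).map (proj j A B)) := by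
  have h := unit_comp_rF_map_proj j A B
  have e : (rF j).map (proj j A B) =
      inv ((jSAdj j).unit.app (tens A ((rF j).obj B))) ≫ projAdj j A B := by
    rw [IsIso.eq_inv_comp]
    exact h
  rw [e]
  infer_instance

/-- **the projection formula for extension by zero.** -/
instance isIso_proj (A : U.Modules) (B : X.Modules) : IsIso (proj j A B) := by
  refine isIso_of_rF_of_stalks j _ inferInstance (fun y hy => ?_)
  refine isIso_of_isZero _ (isZero_stk_jS j _ y hy) ?_
  exact IsZero.of_iso (isZero_tensor_left _ (isZero_stk_jS j A y hy))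
    (stalkTensorIso y ((jS j).obj A) B).symm

lemma projAdj_natL {A A' : U.Modules} (g : A ⟶ A') (B : X.Modules) :
    (DCoh.tensorBi.map g).app ((rF j).obj B) ≫ projAdj j A' B =
      projAdj j A B ≫ (rF j).map ((DCoh.tensorBi.map ((jS j).map g)).app B) := by
  unfold projAdj
  have h1 : (DCoh.tensorBi.map g).app ((rF j).obj B) ≫
      (DCoh.tensorBi.map ((jSAdj j).unit.app A')).app ((rF j).obj B) =
      (DCoh.tensorBi.map ((jSAdj j).unit.app A)).app ((rF j).obj B) ≫
        (DCoh.tensorBi.map ((rF j).map ((jS j).map g))).app ((rF j).obj B) := by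
    rw [← NatTrans.comp_app, ← Functor.map_comp, ← NatTrans.comp_app, ← Functor.map_comp]
    exact congrArg (fun t => (DCoh.tensorBi.map t).app ((rF j).obj B))
      ((jSAdj j).unit.naturality g)
  rw [reassoc_of% h1, Category.assoc, μj_natL]

lemma projAdj_natR (A : U.Modules) {B B' : X.Modules} (h : B ⟶ B') :
    (DCoh.tensorBi.obj A).map ((rF j).map h) ≫ projAdj j A B' =
      projAdj j A B ≫ (rF j).map ((DCoh.tensorBi.obj ((jS j).obj A)).map h) := by
  unfold projAdj
  have h1 : (DCoh.tensorBi.obj A).map ((rF j).map h) ≫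
      (DCoh.tensorBi.map ((jSAdj j).unit.app A)).app ((rF j).obj B') =
      (DCoh.tensorBi.map ((jSAdj j).unit.app A)).app ((rF j).obj B) ≫
        (DCoh.tensorBi.obj ((rF j).obj ((jS j).obj A))).map ((rF j).map h) :=
    (DCoh.tensorBi.map ((jSAdj j).unit.app A)).naturality ((rF j).map h)
  rw [reassoc_of% h1, Category.assoc, μj_natR]

/-- `proj` is natural in the first variable. -/
theorem proj_natL {A A' : U.Modules} (g : A ⟶ A') (B : X.Modules) :
    (jS j).map ((DCoh.tensorBi.map g).app ((rF j).obj B)) ≫ proj j A' B =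
      proj j A B ≫ (DCoh.tensorBi.map ((jS j).map g)).app B := by
  unfold proj
  rw [← Adjunction.homEquiv_naturality_left_symm, ← Adjunction.homEquiv_naturality_right_symm,
    projAdj_natL]

/-- `proj` is natural in the second variable. -/
theorem proj_natR (A : U.Modules) {B B' : X.Modules} (h : B ⟶ B') :
    (jS j).map ((DCoh.tensorBi.obj A).map ((rF j).map h)) ≫ proj j A B' =
      proj j A B ≫ (DCoh.tensorBi.obj ((jS j).obj A)).map h := by
  unfold proj
  rw [← Adjunction.homEquiv_naturality_left_symm, ← Adjunction.homEquiv_naturality_right_symm,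
    projAdj_natR]

end Groth.Agent.Lib.Helper16.JS
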