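import Groth.Agent.Lib.Helper16.JS3
import Groth.Agent.Lib.Helper16.BiCx7
import Groth.Agent.Lib.Helper16.RS7

/-!
# Helper16 — JS4: the projection formula for extension by zero, for complexes
-/

set_option autoImplicit false
universe u
open CategoryTheory CategoryTheory.Limits HomologicalComplex

namespace Groth.Agent.Lib.Helper16.BiCx

open Groth.Agent.Lib.Helper16.KF (Idx)

section CompareNat

variable {C₁ C₂ D : Type*} [Category C₁] [Category C₂] [Category D]
  [Abelian C₁] [Abelian C₂] [Abelian D]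
  (F : C₁ ⥤ C₂ ⥤ D) [F.Additive] [∀ X, (F.obj X).Additive]
  [∀ (K₁ : CochainComplex C₁ ℤ) (K₂ : CochainComplex C₂ ℤ),
    HasMapBifunctor K₁ K₂ F (ComplexShape.up ℤ)]
  {C₁' C₂' D' : Type*} [Category C₁'] [Category C₂'] [Category D']
  [Abelian C₁'] [Abelian C₂'] [Abelian D']
  (F' : C₁' ⥤ C₂' ⥤ D') [F'.Additive] [∀ X, (F'.obj X).Additive]
  [∀ (K₁ : CochainComplex C₁' ℤ) (K₂ : CochainComplex C₂' ℤ),
    HasMapBifunctor K₁ K₂ F' (ComplexShape.up ℤ)]
  (S₁ : C₁ ⥤ C₁') (S₂ : C₂ ⥤ C₂') (S : D ⥤ D') [S₁.Additive] [S₂.Additive] [S.Additive]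
  [∀ n : ℤ, PreservesColimitsOfShape (Discrete (Idx n)) S]
  (μ : ∀ (X : C₁) (Y : C₂), (F'.obj (S₁.obj X)).obj (S₂.obj Y) ≅ S.obj ((F.obj X).obj Y))
  (hL : ∀ {X X' : C₁} (f : X ⟶ X') (Y : C₂),
    (F'.map (S₁.map f)).app (S₂.obj Y) ≫ (μ X' Y).hom = (μ X Y).hom ≫ S.map ((F.map f).app Y))
  (hR : ∀ (X : C₁) {Y Y' : C₂} (g : Y ⟶ Y'),
    (F'.obj (S₁.obj X)).map (S₂.map g) ≫ (μ X Y').hom = (μ X Y).hom ≫ S.map ((F.obj X).map g))

include hL in
lemma cmpHom_natL {L L' : CochainComplex C₁ ℤ} (f : L ⟶ L') (K : CochainComplex C₂ ℤ) (n : ℤ) :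
    (mapL F' ((S₁.mapHomologicalComplex (ComplexShape.up ℤ)).map f) (mK S₂ K)).f n ≫
        cmpHom F F' S₁ S₂ S μ L' K n =
      cmpHom F F' S₁ S₂ S μ L K n ≫ S.map ((mapL F f K).f n) := by
  apply T_hom_ext
  intro p q h
  rw [ι_mapL_assoc, ι_cmpHom, ι_cmpHom_assoc, ← S.map_comp, ι_mapL, S.map_comp]
  exact (reassoc_of% (hL (f.f p) (K.X q))) _

include hL hR in
/-- the comparison isomorphism `cmpIso` is natural in the first variable. -/
lemma cmpIso_hom_natL {L L' : CochainComplex C₁ ℤ} (f : L ⟶ L') (K : CochainComplex C₂ ℤ) :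
    mapL F' ((S₁.mapHomologicalComplex (ComplexShape.up ℤ)).map f) (mK S₂ K) ≫
        (cmpIso F F' S₁ S₂ S μ hL hR L' K).hom =
      (cmpIso F F' S₁ S₂ S μ hL hR L K).hom ≫
        (S.mapHomologicalComplex (ComplexShape.up ℤ)).map (mapL F f K) := by
  refine HomologicalComplex.hom_ext _ _ (fun n => ?_)
  exact cmpHom_natL F F' S₁ S₂ S μ hL f K n

end CompareNat

end Groth.Agent.Lib.Helper16.BiCx

namespace Groth.Agent.Lib.Helper16.JS
open Groth.Agent.Lib.Helper16.Stk Groth.Agent.Lib.Helper16.BiCx Groth.Agent.Lib.Helper16.RM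
  Groth.Agent.Lib.Helper16.RS
  Groth.Agent.Lib.Helper23.CIProj AlgebraicGeometry

variable {U X : Scheme.{u}} (j : U ⟶ X) [IsOpenImmersion j]

/-- `(A, B) ↦ A ⊗ j^*B`. -/
noncomputable def tensR : U.Modules ⥤ X.Modules ⥤ U.Modules :=
  DCoh.tensorBi (X := U) ⋙ (Functor.whiskeringLeft _ _ _).obj (rF j)

instance additive_tensR : (tensR j).Additive := by
  unfold tensR
  infer_instance

instance additive_tensR_obj (A : U.Modules) : ((tensR j).obj A).Additive :=
  inferInstanceAs (rF j ⋙ (DCoh.tensorBi (X := U)).obj A).Additive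

/-- extension by zero of complexes. -/
noncomputable abbrev jSCx : CochainComplex U.Modules ℤ ⥤ CochainComplex X.Modules ℤ :=
  (jS j).mapHomologicalComplex (ComplexShape.up ℤ)

/-- the projection formula, in the form used for total complexes. -/
noncomputable def projIso (A : U.Modules) (B : X.Modules) :
    ((DCoh.tensorBi (X := X)).obj ((jS j).obj A)).obj ((𝟭 X.Modules).obj B) ≅
      (jS j).obj (((tensR j).obj A).obj B) :=
  (asIso (proj j A B)).symm

lemma projIso_natL {A A' : U.Modules} (g : A ⟶ A') (B : X.Modules) :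
    ((DCoh.tensorBi (X := X)).map ((jS j).map g)).app ((𝟭 X.Modules).obj B) ≫
        (projIso j A' B).hom =
      (projIso j A B).hom ≫ (jS j).map (((tensR j).map g).app B) := by
  change _ ≫ inv (proj j A' B) = inv (proj j A B) ≫ _
  rw [IsIso.comp_inv_eq, Category.assoc, IsIso.eq_inv_comp]
  exact (proj_natL j g B).symm

lemma projIso_natR (A : U.Modules) {B B' : X.Modules} (h : B ⟶ B') :
    ((DCoh.tensorBi (X := X)).obj ((jS j).obj A)).map ((𝟭 X.Modules).map h) ≫
        (projIso j A B').hom =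
      (projIso j A B).hom ≫ (jS j).map (((tensR j).obj A).map h) := by
  change _ ≫ inv (proj j A B') = inv (proj j A B) ≫ _
  rw [IsIso.comp_inv_eq, Category.assoc, IsIso.eq_inv_comp]
  exact (proj_natR j A h).symm

/-- **the projection formula for complexes**: `j_!P ⊗ K ≅ j_!(P ⊗ j^*K)`. -/
noncomputable def projCxIso (P : CochainComplex U.Modules ℤ) (K : CochainComplex X.Modules ℤ) :
    T (DCoh.tensorBi (X := X)) ((jSCx j).obj P) K ≅
      (jSCx j).obj (T (DCoh.tensorBi (X := U)) P ((RCx j).obj K)) :=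
  cmpIso (tensR j) (DCoh.tensorBi (X := X)) (jS j) (𝟭 X.Modules) (jS j) (projIso j)
    (fun g B => projIso_natL j g B) (fun A _ _ h => projIso_natR j A h) P K

lemma mapL_tensR {P P' : CochainComplex U.Modules ℤ} (f : P ⟶ P')
    (K : CochainComplex X.Modules ℤ) :
    mapL (tensR j) f K = mapL (DCoh.tensorBi (X := U)) f ((RCx j).obj K) := by
  refine HomologicalComplex.hom_ext _ _ (fun n => ?_)
  apply T_hom_ext (tensR j)
  intro p q h
  exact (ι_mapL (tensR j) f K p q n h).trans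
    (ι_mapL (DCoh.tensorBi (X := U)) f ((RCx j).obj K) p q n h).symm

/-- the projection formula for complexes is natural in the first variable. -/
lemma projCxIso_hom_natL {P P' : CochainComplex U.Modules ℤ} (f : P ⟶ P')
    (K : CochainComplex X.Modules ℤ) :
    mapL (DCoh.tensorBi (X := X)) ((jSCx j).map f) K ≫ (projCxIso j P' K).hom =
      (projCxIso j P K).hom ≫
        (jSCx j).map (mapL (DCoh.tensorBi (X := U)) f ((RCx j).obj K)) := by
  rw [← mapL_tensR]
  exact cmpIso_hom_natL (tensR j) (DCoh.tensorBi (X := X)) (jS j) (𝟭 X.Modules) (jS j) (projIso j)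
    (fun g B => projIso_natL j g B) (fun A _ _ h => projIso_natR j A h) f K

end Groth.Agent.Lib.Helper16.JS
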