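import Groth.Agent.Lib.Helper16.JS4
import Groth.Agent.Lib.Helper1.BiCxNat

/-!
# Helper16 — JS5: symmetry of the tensor product of `O_X`-modules; `j_!` preserves K-flat complexes
-/

set_option autoImplicit false
universe u
open CategoryTheory CategoryTheory.Limits HomologicalComplex MonoidalCategory AlgebraicGeometry

namespace Groth.Agent.Lib.Helper16.JS
open Groth.Agent.Lib.Helper16.Stk Groth.Agent.Lib.Helper16.BiCx Groth.Agent.Lib.Helper16.RM
  Groth.Agent.Lib.Helper16.RS Groth.Agent.Lib.Helper23.CIProj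

section Symm

variable {X : Scheme.{u}}

/-- the symmetry of the tensor product of `O_X`-modules. -/
noncomputable def symmIso (M N : X.Modules) :
    ((DCoh.tensorBi (X := X)).obj M).obj N ≅ ((DCoh.tensorBi (X := X)).obj N).obj M :=
  DCoh.shP.mapIso (β_ (DCoh.toP.obj M) (DCoh.toP.obj N))

/-- the symmetry of the tensor product, as an isomorphism of bifunctors. -/
noncomputable def tensorBiSymm : DCoh.tensorBi (X := X) ≅ (DCoh.tensorBi (X := X)).flip :=
  NatIso.ofComponents (fun M => NatIso.ofComponents (fun N => symmIso M N) (by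
    intro N N' g
    change DCoh.shP.map (DCoh.toP.obj M ◁ DCoh.toP.map g) ≫
        DCoh.shP.map (β_ (DCoh.toP.obj M) (DCoh.toP.obj N')).hom =
      DCoh.shP.map (β_ (DCoh.toP.obj M) (DCoh.toP.obj N)).hom ≫
        DCoh.shP.map (DCoh.toP.map g ▷ DCoh.toP.obj M)
    rw [← Functor.map_comp, ← Functor.map_comp, BraidedCategory.braiding_naturality_right])) (by
    intro M M' f
    apply NatTrans.ext
    funext N
    change DCoh.shP.map (DCoh.toP.map f ▷ DCoh.toP.obj N) ≫
        DCoh.shP.map (β_ (DCoh.toP.obj M') (DCoh.toP.obj N)).hom =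
      DCoh.shP.map (β_ (DCoh.toP.obj M) (DCoh.toP.obj N)).hom ≫
        DCoh.shP.map (DCoh.toP.obj N ◁ DCoh.toP.map f)
    rw [← Functor.map_comp, ← Functor.map_comp, BraidedCategory.braiding_naturality_left])

/-- `Tot(L ⊗ K)` is acyclic iff `Tot(K ⊗ L)` is. -/
theorem acyc_T_symm_sch (L K : CochainComplex X.Modules ℤ) :
    Acyc (T (DCoh.tensorBi (X := X)) L K) ↔ Acyc (T (DCoh.tensorBi (X := X)) K L) :=
  Groth.Agent.Lib.Helper1.BiCxNat.acyc_T_symm (DCoh.tensorBi (X := X)) tensorBiSymm L K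

end Symm

variable {U X : Scheme.{u}} (j : U ⟶ X) [IsOpenImmersion j]

/-- `j_!` preserves acyclic complexes. -/
lemma acyc_jSCx (C : CochainComplex U.Modules ℤ) (h : Acyc C) : Acyc ((jSCx j).obj C) := fun i =>
  IsZero.of_iso ((jS j).map_isZero (h i)) ((C.sc i).mapHomologyIso (jS j))

instance quasiIso_jSCx_map {P P' : CochainComplex U.Modules ℤ} (s : P ⟶ P') [QuasiIso s] :
    QuasiIso ((jSCx j).map s) := inferInstance

/-- **`j_!` preserves K-flat complexes.** -/
theorem isKFlat_jSCx (P : CochainComplex U.Modules ℤ) (hP : DCoh.IsKFlat P) :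
    DCoh.IsKFlat ((jSCx j).obj P) := by
  intro L hL
  change Acyc (T (DCoh.tensorBi (X := X)) L ((jSCx j).obj P))
  rw [acyc_T_symm_sch]
  refine Acyc.of_iso ?_ (projCxIso j P L).symm
  have h1 : Acyc ((RCx j).obj L) := fun i => isZero_homology_RCx j L i (hL i)
  have h2 : Acyc (T (DCoh.tensorBi (X := U)) ((RCx j).obj L) P) := hP _ h1
  exact acyc_jSCx j _ ((acyc_T_symm_sch _ _).1 h2)

end Groth.Agent.Lib.Helper16.JS
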