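import Mathlib

/-!
# Exactness of `- ⊗ M` from exactness of `- ⊗ M/IⁿM` (Krull intersection)
-/

open TensorProduct

namespace Groth.Agent.Lib.Helper16.KrullEx
universe u

variable {R : Type u} [CommRing R]

/-- `B ⊗ (I • ⊤)` maps into `I • ⊤ ⊆ B ⊗ M`. -/
lemma range_lTensor_subtype_le (J : Ideal R) (B M : Type u) [AddCommGroup B] [Module R B]
    [AddCommGroup M] [Module R M] :
    LinearMap.range ((J • (⊤ : Submodule R M)).subtype.lTensor B) ≤
      J • (⊤ : Submodule R (B ⊗[R] M)) := by
  rintro _ ⟨w, rfl⟩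
  induction w using TensorProduct.induction_on with
  | zero => simp
  | tmul b x =>
    have aux : ∀ x : M, x ∈ J • (⊤ : Submodule R M) →
        b ⊗ₜ[R] x ∈ J • (⊤ : Submodule R (B ⊗[R] M)) := by
      intro x hx
      refine Submodule.smul_induction_on hx ?_ ?_
      · intro r hr m _
        rw [TensorProduct.tmul_smul]
        exact Submodule.smul_mem_smul hr Submodule.mem_top
      · intro x y hx hy
        rw [TensorProduct.tmul_add]
        exact Submodule.add_mem _ hx hy
    rw [LinearMap.lTensor_tmul, Submodule.subtype_apply]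
    exact aux x.1 x.2
  | add x y hx hy =>
    rw [map_add]
    exact Submodule.add_mem _ hx hy

theorem exact_rTensor_of_exact_quotients [IsNoetherianRing R] (I : Ideal R)
    (hI : I ≤ Ideal.jacobson ⊥)
    {A B C : Type u} [AddCommGroup A] [Module R A] [AddCommGroup B] [Module R B]
    [Module.Finite R B] [AddCommGroup C] [Module R C]
    (f : A →ₗ[R] B) (g : B →ₗ[R] C) (hgf : g ∘ₗ f = 0)
    (M : Type u) [AddCommGroup M] [Module R M] [Module.Finite R M]
    (h : ∀ n : ℕ, Function.Exact (f.rTensor (M ⧸ (I ^ n • ⊤ : Submodule R M)))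
      (g.rTensor (M ⧸ (I ^ n • ⊤ : Submodule R M)))) :
    Function.Exact (f.rTensor M) (g.rTensor M) := by
  intro z
  constructor
  · intro hz
    -- `z ∈ range ⊔ Iⁿ • ⊤` for all `n`
    have key : ∀ n : ℕ, z ∈ LinearMap.range (f.rTensor M) ⊔
        (I ^ n • (⊤ : Submodule R (B ⊗[R] M))) := by
      intro n
      set N : Submodule R M := I ^ n • ⊤ with hN
      have h1 : (g.rTensor (M ⧸ N)) ((N.mkQ.lTensor B) z) = 0 := by
        have : (g.rTensor (M ⧸ N)) ((N.mkQ.lTensor B) z) = (N.mkQ.lTensor C) ((g.rTensor M) z) := by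
          rw [← LinearMap.comp_apply, ← LinearMap.comp_apply, LinearMap.rTensor_comp_lTensor,
            LinearMap.lTensor_comp_rTensor]
        rw [this, hz, map_zero]
      obtain ⟨y', hy'⟩ := (h n _).1 h1
      obtain ⟨y, rfl⟩ := LinearMap.lTensor_surjective A N.mkQ_surjective y'
      have h2 : (N.mkQ.lTensor B) (z - (f.rTensor M) y) = 0 := by
        rw [map_sub, ← hy', sub_eq_zero, ← LinearMap.comp_apply, ← LinearMap.comp_apply,
          LinearMap.rTensor_comp_lTensor, LinearMap.lTensor_comp_rTensor]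
      have hex : Function.Exact (N.subtype.lTensor B) (N.mkQ.lTensor B) :=
        lTensor_exact B (LinearMap.exact_subtype_mkQ N) N.mkQ_surjective
      have h3 : z - (f.rTensor M) y ∈ I ^ n • (⊤ : Submodule R (B ⊗[R] M)) :=
        range_lTensor_subtype_le (I ^ n) B M ((hex _).1 h2)
      have : z = (f.rTensor M) y + (z - (f.rTensor M) y) := by abel
      rw [this]
      exact Submodule.add_mem_sup ⟨y, rfl⟩ h3
    -- Krull on the quotient
    set W := LinearMap.range (f.rTensor M) with hW
    have hk := Ideal.iInf_pow_smul_eq_bot_of_le_jacobson (M := (B ⊗[R] M) ⧸ W) I hI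
    have hz' : W.mkQ z ∈ (⨅ i : ℕ, I ^ i • ⊤ : Submodule R ((B ⊗[R] M) ⧸ W)) := by
      rw [Submodule.mem_iInf]
      intro n
      obtain ⟨w, hw, v, hv, rfl⟩ := Submodule.mem_sup.1 (key n)
      have hw0 : W.mkQ w = 0 := by
        rw [Submodule.mkQ_apply, Submodule.Quotient.mk_eq_zero]
        exact hw
      rw [map_add, hw0, zero_add]
      have : Submodule.map W.mkQ (I ^ n • (⊤ : Submodule R (B ⊗[R] M))) ≤
          I ^ n • (⊤ : Submodule R ((B ⊗[R] M) ⧸ W)) := by
        rw [Submodule.map_smul'']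
        exact Submodule.smul_mono le_rfl le_top
      exact this ⟨v, hv, rfl⟩
    rw [hk, Submodule.mem_bot] at hz'
    exact (Submodule.Quotient.mk_eq_zero W).1 hz'
  · rintro ⟨y, rfl⟩
    rw [← LinearMap.comp_apply, ← LinearMap.rTensor_comp, hgf, LinearMap.rTensor_zero,
      LinearMap.zero_apply]

end Groth.Agent.Lib.Helper16.KrullEx
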