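import Mathlib
import Groth.Agent.Lib.Helper16.KPR8
import Groth.Agent.Lib.Helper16.KrullEx

/-!
# Tor amplitude from the fibre over `R/I`, `I` in the Jacobson radical (Noetherian case)
-/

open CategoryTheory CategoryTheory.Limits MonoidalCategory TensorProduct DerivedCategory

namespace Groth.Agent.Lib.Helper16.KPR
universe u

open Groth.Agent.Lib.Helper16.TorAmp Groth.Agent.Lib.Helper16.LDer Groth.Agent.Lib.Helper16.TorBal
  Groth.Agent.Lib.Helper16.RestrictD

attribute [local instance] HasDerivedCategory.standard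

section
variable {R : Type u} [CommRing R]

/-- `R ⧸ ⊥` is the unit. -/
noncomputable def quotBotIsoUnit : ModuleCat.of R (R ⧸ (⊥ : Ideal R)) ≅ 𝟙_ (ModuleCat.{u} R) :=
  (Submodule.quotEquivOfEqBot (⊥ : Ideal R) rfl).toModuleIso

/-- tor amplitude criterion using only cyclic test modules. -/
theorem torAmp_of_exactAt_cyclic (P : DRing.Cx R) [P.IsKProjective] (a b : ℤ)
    (h : ∀ (J : Ideal R) (i : ℤ), i < a ∨ b < i →
      ((tensCx (ModuleCat.of R (R ⧸ J))).obj P).ExactAt i) :
    DRing.HasTorAmplitudeIn R a b (DRing.toD P) := by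
  have hunit : ∀ i : ℤ, i < a ∨ b < i → P.ExactAt i := fun i hi =>
    ((exactAt_tensCx_of_iso quotBotIsoUnit P i).1 (h ⊥ i hi)).of_iso (tensCxUnitIso P)
  have hb : (Q.obj P).IsLE b := by
    rw [isLE_Q_obj_iff, CochainComplex.isLE_iff]
    intro i hi
    exact hunit i (Or.inr hi)
  obtain ⟨F, e, hF, hproj⟩ := exists_bddAbove_model P b hb
  have hFflat := TorAmp.termwiseFlat_of_projective F hproj
  haveI : IsIso (Q.map e.hom) := by
    rw [isIso_Q_map_iff_quasiIso]
    infer_instance
  refine hasTorAmplitudeIn_of_iso (asIso (Q.map e.hom)) a b ?_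
  have hF' : ∀ (J : Ideal R) (i : ℤ), i < a ∨ b < i →
      ((tensCx (ModuleCat.of R (R ⧸ J))).obj F).ExactAt i := fun J i hi =>
    (exactAt_tensCx_iff_of_homotopyEquiv e _ i).2 (h J i hi)
  have hexF : ∀ i : ℤ, i < a → F.ExactAt i := fun i hi =>
    ((exactAt_tensCx_of_iso quotBotIsoUnit F i).1 (hF' ⊥ i (Or.inl hi))).of_iso (tensCxUnitIso F)
  haveI := hFflat a
  have hc : Module.Flat R (F.X a ⧸ LinearMap.range (F.d (a - 1) a).hom) := by
    refine flat_coker (F.d (a - 1 - 1) (a - 1)).hom (F.d (a - 1) a).hom ?_ (fun J => ?_)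
    · exact (exactAt_iff_function_exact F (a - 1 - 1) (a - 1) a (by omega) (by omega)).1
        (hexF _ (by omega))
    · exact (exactAt_tensCx_iff (ModuleCat.of R (R ⧸ J)) F (a - 1 - 1) (a - 1) a (by omega)
        (by omega)).1 (hF' J _ (Or.inl (by omega)))
  exact torAmp_of_flat_coker F a b hF hFflat hexF hc

end

section Krull
variable {R : Type u} [CommRing R]

lemma smul_top_quotient_eq_bot (J : Ideal R) (M : Type u) [AddCommGroup M] [Module R M] :
    J • (⊤ : Submodule R (M ⧸ (J • ⊤ : Submodule R M))) = ⊥ := by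
  rw [Submodule.eq_bot_iff]
  intro x hx
  refine Submodule.smul_induction_on hx ?_ ?_
  · intro r hr y _
    induction y using Submodule.Quotient.induction_on with
    | H m =>
      rw [← Submodule.Quotient.mk_smul, Submodule.Quotient.mk_eq_zero]
      exact Submodule.smul_mem_smul hr Submodule.mem_top
  · intro x y hx hy
    rw [hx, hy, add_zero]

lemma exactAt_tensCx_of_quotients [IsNoetherianRing R] (I : Ideal R)
    (hI : I ≤ Ideal.jacobson ⊥) (E : DRing.Cx R) (j : ℤ)
    [Module.Finite R (E.X j)] (M : ModuleCat.{u} R) [Module.Finite R M]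
    (h : ∀ n : ℕ,
      ((tensCx (ModuleCat.of R (M ⧸ (I ^ n • ⊤ : Submodule R M)))).obj E).ExactAt j) :
    ((tensCx M).obj E).ExactAt j := by
  rw [exactAt_tensCx_iff M E (j - 1) j (j + 1) (by omega) rfl]
  have hgf : (E.d j (j + 1)).hom ∘ₗ (E.d (j - 1) j).hom = 0 := by
    have := E.d_comp_d (j - 1) j (j + 1)
    exact congrArg ModuleCat.Hom.hom this
  have hn : ∀ n : ℕ, Function.Exact
      ((E.d (j - 1) j).hom.rTensor (M ⧸ (I ^ n • ⊤ : Submodule R M)))
      ((E.d j (j + 1)).hom.rTensor (M ⧸ (I ^ n • ⊤ : Submodule R M))) := fun n =>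
    (exactAt_tensCx_iff (ModuleCat.of R (M ⧸ (I ^ n • ⊤ : Submodule R M))) E (j - 1) j (j + 1)
      (by omega) rfl).1 (h n)
  exact KrullEx.exact_rTensor_of_exact_quotients I hI (E.d (j - 1) j).hom (E.d j (j + 1)).hom hgf
    M hn

end Krull

section Main
variable {R : Type u} [CommRing R]

/-- **Tor amplitude from the fibre over `R/I`**, `I` in the Jacobson radical of a Noetherian ring,
for pseudo-coherent objects. -/
theorem hasTorAmplitudeIn_of_LBaseChange_of_le_jacobson [IsNoetherianRing R] (I : Ideal R)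
    (hI : I ≤ Ideal.jacobson ⊥) [DRing.HasLBaseChange (Ideal.Quotient.mk I)] (P : Dual.D R)
    (hP : DRing.IsPseudoCoherent' R P) (a b : ℤ)
    (h : DRing.HasTorAmplitudeIn (R ⧸ I) a b ((DRing.LBaseChange (Ideal.Quotient.mk I)).obj P)) :
    DRing.HasTorAmplitudeIn R a b P := by
  obtain ⟨E, b', hE, hff, ⟨e⟩⟩ := hP
  have hproj : ∀ i, Module.Projective R (E.X i) := fun i =>
    haveI := (hff i).2
    Module.Projective.of_free
  haveI : E.IsKProjective := isKProjective_of_bddAbove_projective E b' hE hproj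
  have hfl := TorAmp.termwiseFlat_of_projective E hproj
  have h' : DRing.HasTorAmplitudeIn (R ⧸ I) a b
      (DRing.toD ((extCx (Ideal.Quotient.mk I)).obj E)) :=
    hasTorAmplitudeIn_of_iso ((DRing.LBaseChange (Ideal.Quotient.mk I)).mapIso e.symm ≪≫
      lBaseChangeIso (Ideal.Quotient.mk I) E) a b h
  refine hasTorAmplitudeIn_of_iso e a b ?_
  apply torAmp_of_exactAt_cyclic
  intro J i hi
  haveI : Module.Finite R (E.X i) := (hff i).1
  haveI : Module.Finite R (ModuleCat.of R (R ⧸ J)) :=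
    (inferInstance : Module.Finite R (R ⧸ J))
  refine exactAt_tensCx_of_quotients I hI E i (ModuleCat.of R (R ⧸ J)) (fun n => ?_)
  refine exactAt_tensCx_of_pow_smul_eq_bot (Ideal.Quotient.mk I) Ideal.Quotient.mk_surjective E hfl i
    (fun N'' => exactAt_tensCx_restrict_of_torAmp (Ideal.Quotient.mk I) E a b h' N'' i hi) n _ ?_
  rw [Ideal.mk_ker]
  exact smul_top_quotient_eq_bot (I ^ n) _

end Main

end Groth.Agent.Lib.Helper16.KPR
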