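import Groth.Prelude.Def_KZero
import Mathlib.CategoryTheory.ObjectProperty.Kernels
import Mathlib.CategoryTheory.ObjectProperty.Extensions
import Mathlib.CategoryTheory.ObjectProperty.ContainsZero
import Mathlib.Algebra.Homology.ShortComplex.Exact
import Mathlib.CategoryTheory.Abelian.Exact
import Mathlib.Algebra.BigOperators.Finprod
import Mathlib.Algebra.Ring.NegOnePow

namespace Groth.Agent.Lib.Helper16.K0Db

open CategoryTheory CategoryTheory.Limits KZero ZeroObject

universe v u
variable {C : Type u} [Category.{v} C] [Abelian C] (P : ObjectProperty C)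

lemma clSub_of (X : C) (h : P X) :
    clSub P X = QuotientAddGroup.mk (FreeAbelianGroup.of ⟨X, h⟩) := dif_pos h

lemma clSub_shortExact (S : ShortComplex C) (hS : S.ShortExact)
    (h₁ : P S.X₁) (h₂ : P S.X₂) (h₃ : P S.X₃) :
    clSub P S.X₂ = clSub P S.X₁ + clSub P S.X₃ := by
  rw [clSub_of P _ h₁, clSub_of P _ h₂, clSub_of P _ h₃]
  have hmem : FreeAbelianGroup.of (⟨S.X₂, h₂⟩ : Subtype P) - FreeAbelianGroup.of ⟨S.X₁, h₁⟩
      - FreeAbelianGroup.of ⟨S.X₃, h₃⟩ ∈ relSub P :=
    AddSubgroup.subset_closure ⟨S, h₁, h₂, h₃, hS, rfl⟩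
  have h := (QuotientAddGroup.eq_zero_iff _).2 hmem
  rw [QuotientAddGroup.mk_sub, QuotientAddGroup.mk_sub, sub_sub, sub_eq_zero] at h
  exact h

lemma clSub_isZero (X : C) (hX : IsZero X) : clSub P X = 0 := by
  by_cases h : P X
  · have hS : (ShortComplex.mk (𝟙 X) (𝟙 X) (hX.eq_of_src _ _)).ShortExact :=
      { exact := ShortComplex.exact_of_isZero_X₂ _ hX
        mono_f := inferInstance
        epi_g := inferInstance }
    have := clSub_shortExact P _ hS h h h
    dsimp at this
    exact left_eq_add.mp this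
  · exact dif_neg h

variable [P.IsClosedUnderIsomorphisms] [P.ContainsZero]

lemma clSub_iso {X Y : C} (e : X ≅ Y) : clSub P X = clSub P Y := by
  by_cases h : P X
  · have hY : P Y := P.prop_of_iso e h
    have h0 : P (0 : C) := P.prop_zero
    have hS : (ShortComplex.mk (0 : (0 : C) ⟶ X) e.hom zero_comp).ShortExact :=
      { exact := by
          rw [ShortComplex.exact_iff_mono _ rfl]
          dsimp; infer_instance
        mono_f := by dsimp; infer_instance
        epi_g := by dsimp; infer_instance }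
    have := clSub_shortExact P _ hS h0 h hY
    dsimp at this
    rw [this, clSub_isZero P _ (isZero_zero C), zero_add]
  · have hY : ¬ P Y := fun hY => h (P.prop_of_iso e.symm hY)
    rw [clSub, clSub, dif_neg h, dif_neg hY]

/-- for an exact sequence `X₁ ⟶ X₂ ⟶ X₃` one has `0 → ker f → X₁ → ker g → 0` -/
lemma shortExact_of_exact (S : ShortComplex C) (hS : S.Exact) :
    (ShortComplex.mk (kernel.ι S.f) (kernel.lift S.g S.f S.zero)
      (by rw [← cancel_mono (kernel.ι S.g)]; simp)).ShortExact := by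
  have := hS.epi_kernelLift
  refine ShortComplex.ShortExact.mk' ?_ inferInstance inferInstance
  apply ShortComplex.exact_of_f_is_kernel
  exact isKernelOfComp (f := kernel.lift S.g S.f S.zero) (kernel.ι S.g) S.f (kernelIsKernel S.f) _
    (kernel.lift_ι _ _ _)

omit [P.IsClosedUnderIsomorphisms] [P.ContainsZero] in
lemma clSub_exact [P.IsClosedUnderKernels] (S : ShortComplex C) (hS : S.Exact)
    (h₁ : P S.X₁) (h₂ : P S.X₂) (h₃ : P S.X₃) :
    clSub P S.X₁ = clSub P (kernel S.f) + clSub P (kernel S.g) :=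
  clSub_shortExact P _ (shortExact_of_exact S hS) (P.prop_kernel _ h₁ h₂) h₁
    (P.prop_kernel _ h₂ h₃)

section Alt

variable {G H : Type*} [AddCommGroup G] [AddCommGroup H]

/-- alternating sum of a finitely supported `ℤ`-indexed family -/
noncomputable def alt (f : ℤ → G) : G := ∑ᶠ i : ℤ, (i.negOnePow : ℤ) • f i

lemma alt_support (f : ℤ → G) (hf : (Function.support f).Finite) :
    (Function.support fun i : ℤ => (i.negOnePow : ℤ) • f i).Finite := by
  refine hf.subset ?_
  intro i hi
  simp only [Function.mem_support, ne_eq] at hi ⊢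
  intro h
  exact hi (by rw [h, smul_zero])

lemma alt_add (f g : ℤ → G) (hf : (Function.support f).Finite)
    (hg : (Function.support g).Finite) : alt (fun i => f i + g i) = alt f + alt g := by
  unfold alt
  rw [← finsum_add_distrib (alt_support f hf) (alt_support g hg)]
  exact finsum_congr fun i => smul_add _ _ _

lemma alt_neg (f : ℤ → G) : alt (fun i => - f i) = - alt f := by
  unfold alt
  rw [← finsum_neg_distrib]
  exact finsum_congr fun i => smul_neg _ _

lemma alt_shift (f : ℤ → G) : alt (fun i => f (i + 1)) = - alt f := by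
  unfold alt
  have h := finsum_comp_equiv (Equiv.addRight (1 : ℤ)) (f := fun j : ℤ => (j.negOnePow : ℤ) • f j)
  rw [← h, ← finsum_neg_distrib]
  refine finsum_congr fun i => ?_
  simp only [Equiv.coe_addRight, Int.negOnePow_succ, Units.val_neg, neg_smul, neg_neg]

lemma alt_single (f : ℤ → G) (j : ℤ) (h : ∀ i, i ≠ j → f i = 0) :
    alt f = (j.negOnePow : ℤ) • f j := by
  unfold alt
  exact finsum_eq_single _ j fun i hi => by rw [h i hi, smul_zero]

lemma alt_zero (f : ℤ → G) (h : ∀ i, f i = 0) : alt f = 0 := by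
  unfold alt
  exact finsum_eq_zero_of_forall_eq_zero fun i => by rw [h i, smul_zero]

lemma map_alt (φ : G →+ H) (f : ℤ → G) (hf : (Function.support f).Finite) :
    φ (alt f) = alt (fun i => φ (f i)) := by
  unfold alt
  rw [φ.map_finsum (alt_support f hf)]
  exact finsum_congr fun i => map_zsmul _ _ _

end Alt

section Tr

open Pretriangulated

variable {D : Type u} [Category.{v} D] [Preadditive D] [HasZeroObject D] [HasShift D ℤ]
  [∀ n : ℤ, (shiftFunctor D n).Additive] [Pretriangulated D] (Q : ObjectProperty D)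

lemma clTr_of (X : D) (h : Q X) :
    clTr Q X = QuotientAddGroup.mk (FreeAbelianGroup.of ⟨X, h⟩) := dif_pos h

lemma clTr_dist (T : Triangle D) (hT : T ∈ distTriang D)
    (h₁ : Q T.obj₁) (h₂ : Q T.obj₂) (h₃ : Q T.obj₃) :
    clTr Q T.obj₂ = clTr Q T.obj₁ + clTr Q T.obj₃ := by
  rw [clTr_of Q _ h₁, clTr_of Q _ h₂, clTr_of Q _ h₃]
  have hmem : FreeAbelianGroup.of (⟨T.obj₂, h₂⟩ : Subtype Q) - FreeAbelianGroup.of ⟨T.obj₁, h₁⟩
      - FreeAbelianGroup.of ⟨T.obj₃, h₃⟩ ∈ relTr Q :=
    AddSubgroup.subset_closure ⟨T, h₁, h₂, h₃, hT, rfl⟩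
  have h := (QuotientAddGroup.eq_zero_iff _).2 hmem
  rw [QuotientAddGroup.mk_sub, QuotientAddGroup.mk_sub, sub_sub, sub_eq_zero] at h
  exact h

lemma clTr_zero : clTr Q (0 : D) = 0 := by
  by_cases h : Q (0 : D)
  · have := clTr_dist Q _ (contractible_distinguished (0 : D)) h h h
    exact left_eq_add.mp this
  · exact dif_neg h

variable [Q.IsClosedUnderIsomorphisms] [Q.ContainsZero]

lemma clTr_iso {X Y : D} (e : X ≅ Y) : clTr Q X = clTr Q Y := by
  by_cases h : Q X
  · have hY : Q Y := Q.prop_of_iso e h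
    have h0 : Q (0 : D) := Q.prop_zero
    have hT : Triangle.mk e.hom (0 : Y ⟶ 0) 0 ∈ distTriang D := by
      rw [Triangle.distinguished_iff_of_isZero₃ _ (isZero_zero D)]
      exact inferInstanceAs (IsIso e.hom)
    have := clTr_dist Q _ hT h hY h0
    change clTr Q Y = clTr Q X + clTr Q 0 at this
    rw [this, clTr_zero, add_zero]
  · have hY : ¬ Q Y := fun hY => h (Q.prop_of_iso e.symm hY)
    rw [clTr, clTr, dif_neg h, dif_neg hY]

lemma clTr_isZero (X : D) (hX : IsZero X) : clTr Q X = 0 := by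
  rw [clTr_iso Q hX.isoZero, clTr_zero]

lemma clTr_shift (X : D) (h : Q X) (h' : Q (X⟦(1 : ℤ)⟧)) :
    clTr Q (X⟦(1 : ℤ)⟧) = - clTr Q X := by
  have := clTr_dist Q _ (contractible_distinguished₂ X) h Q.prop_zero h'
  change clTr Q 0 = clTr Q X + clTr Q (X⟦(1 : ℤ)⟧) at this
  rw [clTr_zero] at this
  exact (neg_eq_of_add_eq_zero_right this.symm).symm

end Tr

end Groth.Agent.Lib.Helper16.K0Db
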