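import Groth.Agent.Lib.Helper16.K0Db1
import Groth.Agent.Lib.Helper16.DerTrunc3
import Mathlib.Algebra.Homology.DerivedCategory.SingleTriangle
import Mathlib.Data.Int.Interval

namespace Groth.Agent.Lib.Helper16.K0Db

open CategoryTheory CategoryTheory.Limits KZero DerivedCategory Pretriangulated ZeroObject
open Groth.Agent.Lib.Helper16.DerT

universe w v u
variable {C : Type u} [Category.{v} C] [Abelian C] [HasDerivedCategory.{w} C]
variable (P : ObjectProperty C)

/-- bounded objects of the derived category with cohomology in `P` -/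
def Qb : ObjectProperty (DerivedCategory C) := fun K =>
  (∀ i : ℤ, P ((homologyFunctor C i).obj K)) ∧
    ∃ a b : ℤ, (TStructure.t (C := C)).IsGE K a ∧ (TStructure.t (C := C)).IsLE K b

variable [P.IsClosedUnderIsomorphisms] [P.ContainsZero]

instance : (Qb P).IsClosedUnderIsomorphisms where
  of_iso := by
    rintro X Y e ⟨h1, a, b, ha, hb⟩
    refine ⟨fun i => P.prop_of_iso ((homologyFunctor C i).mapIso e) (h1 i), a, b, ?_, ?_⟩
    · exact (TStructure.t (C := C)).isGE_of_iso e a
    · exact (TStructure.t (C := C)).isLE_of_iso e b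

lemma Qb_isZero (X : DerivedCategory C) (hX : IsZero X) : Qb P X := by
  refine ⟨fun i => P.prop_of_isZero ((homologyFunctor C i).map_isZero hX), 0, 0, ?_, ?_⟩
  · exact (TStructure.t (C := C)).isGE_of_isZero hX 0
  · exact (TStructure.t (C := C)).isLE_of_isZero hX 0

instance : (Qb P).ContainsZero where
  exists_zero := ⟨0, isZero_zero _, Qb_isZero P _ (isZero_zero _)⟩

lemma isZero_homology_single (M : C) (j i : ℤ) (h : i ≠ j) :
    IsZero ((homologyFunctor C i).obj ((singleFunctor C j).obj M)) := by
  rcases lt_or_gt_of_ne h with h | h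
  · exact isZero_of_isGE _ j i h
  · exact isZero_of_isLE _ j i h

lemma Qb_single (M : C) (hM : P M) (j : ℤ) : Qb P ((singleFunctor C j).obj M) := by
  refine ⟨fun i => ?_, j, j, inferInstance, inferInstance⟩
  by_cases h : i = j
  · subst h
    exact P.prop_of_iso ((singleFunctorCompHomologyFunctorIso C i).app M).symm hM
  · exact P.prop_of_isZero (isZero_homology_single M j i h)

lemma Qb_truncLT (Y : DerivedCategory C) (hY : Qb P Y) (c : ℤ) :
    Qb P (((TStructure.t (C := C)).truncLT c).obj Y) := by
  obtain ⟨h1, a, b, ha, hb⟩ := hY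
  refine ⟨fun i => ?_, a, b, inferInstance, inferInstance⟩
  by_cases h : i < c
  · have := isIso_homologyMap_truncLTι Y c i h
    exact P.prop_of_iso (asIso ((homologyFunctor C i).map
      (((TStructure.t (C := C)).truncLTι c).app Y))).symm (h1 i)
  · have : (((TStructure.t (C := C)).truncLT c).obj Y).IsLE (c - 1) := by
      show (TStructure.t (C := C)).IsLE _ (c - 1)
      infer_instance
    exact P.prop_of_isZero (isZero_of_isLE _ (c - 1) i (by omega))

lemma Qb_truncGE (Y : DerivedCategory C) (hY : Qb P Y) (c : ℤ) :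
    Qb P (((TStructure.t (C := C)).truncGE c).obj Y) := by
  obtain ⟨h1, a, b, ha, hb⟩ := hY
  refine ⟨fun i => ?_, a, b, inferInstance, inferInstance⟩
  by_cases h : c ≤ i
  · have := isIso_homologyMap_truncGEπ Y c i h
    exact P.prop_of_iso (asIso ((homologyFunctor C i).map
      (((TStructure.t (C := C)).truncGEπ c).app Y))) (h1 i)
  · have : (((TStructure.t (C := C)).truncGE c).obj Y).IsGE c := by
      show (TStructure.t (C := C)).IsGE _ c
      infer_instance
    exact P.prop_of_isZero (isZero_of_isGE _ c i (by omega))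

/-- Euler characteristic `Σ (-1)^i [H^i K]` in `K₀(P)` -/
noncomputable def chi (K : DerivedCategory C) : K0sub P :=
  alt (fun i : ℤ => clSub P ((homologyFunctor C i).obj K))

lemma finite_support_of_bounded {G : Type*} [AddCommGroup G] (f : ℤ → G) (a b : ℤ)
    (h : ∀ i, (i < a ∨ b < i) → f i = 0) : (Function.support f).Finite := by
  refine (Finset.Icc a b).finite_toSet.subset ?_
  intro i hi
  simp only [Function.mem_support, ne_eq] at hi
  simp only [Finset.coe_Icc, Set.mem_Icc]
  by_contra hc
  exact hi (h i (by omega))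

omit [P.IsClosedUnderIsomorphisms] [P.ContainsZero] in
lemma chi_support (K : DerivedCategory C) (hK : Qb P K) :
    (Function.support (fun i : ℤ => clSub P ((homologyFunctor C i).obj K))).Finite := by
  obtain ⟨_, a, b, ha, hb⟩ := hK
  have : K.IsGE a := ha
  have : K.IsLE b := hb
  refine finite_support_of_bounded _ a b ?_
  rintro i (h | h)
  · exact clSub_isZero P _ (isZero_of_isGE K a i h)
  · exact clSub_isZero P _ (isZero_of_isLE K b i h)

lemma chi_iso {X Y : DerivedCategory C} (e : X ≅ Y) : chi P X = chi P Y := by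
  unfold chi
  congr 1
  funext i
  exact clSub_iso P ((homologyFunctor C i).mapIso e)

omit [P.IsClosedUnderIsomorphisms] [P.ContainsZero] in
lemma chi_isZero (X : DerivedCategory C) (hX : IsZero X) : chi P X = 0 :=
  alt_zero _ fun i => clSub_isZero P _ ((homologyFunctor C i).map_isZero hX)

lemma chi_single (M : C) (j : ℤ) :
    chi P ((singleFunctor C j).obj M) = (j.negOnePow : ℤ) • clSub P M := by
  unfold chi
  rw [alt_single _ j (fun i hi => clSub_isZero P _ (isZero_homology_single M j i hi))]
  congr 1
  exact clSub_iso P ((singleFunctorCompHomologyFunctorIso C j).app M)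

omit [P.IsClosedUnderIsomorphisms] [P.ContainsZero] in
lemma chi_dist [P.IsClosedUnderKernels] (T : Triangle (DerivedCategory C))
    (hT : T ∈ distTriang (DerivedCategory C))
    (h₁ : Qb P T.obj₁) (h₂ : Qb P T.obj₂) (h₃ : Qb P T.obj₃) :
    chi P T.obj₂ = chi P T.obj₁ + chi P T.obj₃ := by
  let x : ℤ → K0sub P := fun i => clSub P ((homologyFunctor C i).obj T.obj₁)
  let y : ℤ → K0sub P := fun i => clSub P ((homologyFunctor C i).obj T.obj₂)
  let z : ℤ → K0sub P := fun i => clSub P ((homologyFunctor C i).obj T.obj₃)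
  let ku : ℤ → K0sub P := fun i => clSub P (kernel ((homologyFunctor C i).map T.mor₁))
  let kv : ℤ → K0sub P := fun i => clSub P (kernel ((homologyFunctor C i).map T.mor₂))
  let kd : ℤ → K0sub P := fun i => clSub P (kernel (HomologySequence.δ T i (i + 1) rfl))
  have hx : ∀ i, x i = ku i + kv i := fun i =>
    clSub_exact P _ (HomologySequence.exact₂ T hT i) (h₁.1 i) (h₂.1 i) (h₃.1 i)
  have hy : ∀ i, y i = kv i + kd i := fun i =>
    clSub_exact P _ (HomologySequence.exact₃ T hT i (i + 1) rfl) (h₂.1 i) (h₃.1 i) (h₁.1 (i + 1))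
  have hz : ∀ i, z i = kd i + ku (i + 1) := fun i =>
    clSub_exact P _ (HomologySequence.exact₁ T hT i (i + 1) rfl) (h₃.1 i) (h₁.1 (i + 1))
      (h₂.1 (i + 1))
  have key : ∀ i, y i + (ku i + ku (i + 1)) = x i + z i := by
    intro i; rw [hx, hy, hz]; abel
  have hku : (Function.support ku).Finite := by
    obtain ⟨_, a, b, ha, hb⟩ := h₁
    have : T.obj₁.IsGE a := ha
    have : T.obj₁.IsLE b := hb
    refine finite_support_of_bounded _ a b ?_
    rintro i (h | h)
    · exact clSub_isZero P _ (IsZero.of_mono (kernel.ι _) (isZero_of_isGE T.obj₁ a i h))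
    · exact clSub_isZero P _ (IsZero.of_mono (kernel.ι _) (isZero_of_isLE T.obj₁ b i h))
  have hku' : (Function.support (fun i => ku (i + 1))).Finite := by
    have := hku.preimage (f := fun i : ℤ => i + 1) (fun a _ b _ hab => by simpa using hab)
    exact this
  have hsum : alt (fun i => ku i + ku (i + 1)) = 0 := by
    rw [alt_add ku (fun i => ku (i + 1)) hku hku', alt_shift, add_neg_cancel]
  have hkk : (Function.support (fun i => ku i + ku (i + 1))).Finite :=
    (hku.union hku').subset (Function.support_add _ _)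
  calc chi P T.obj₂ = alt y := rfl
    _ = alt y + alt (fun i => ku i + ku (i + 1)) := by rw [hsum, add_zero]
    _ = alt (fun i => y i + (ku i + ku (i + 1))) :=
        (alt_add y _ (chi_support P _ h₂) hkk).symm
    _ = alt (fun i => x i + z i) := by congr 1; funext i; exact key i
    _ = alt x + alt z := alt_add x z (chi_support P _ h₁) (chi_support P _ h₃)

/-- the homomorphism `K₀(P) → K₀(D^b_P)` induced by `X ↦ X[0]` -/
noncomputable def F : K0sub P →+ K0tr (Qb P) :=
  QuotientAddGroup.lift (relSub P)
    (FreeAbelianGroup.lift fun X : Subtype P => clTr (Qb P) ((singleFunctor C 0).obj X.1))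
    (by
      rw [relSub, AddSubgroup.closure_le]
      rintro x ⟨S, h₁, h₂, h₃, hS, rfl⟩
      simp only [SetLike.mem_coe, AddMonoidHom.mem_ker, map_sub, FreeAbelianGroup.lift_apply_of]
      have := clTr_dist (Qb P) _ hS.singleTriangle_distinguished (Qb_single P _ h₁ 0)
        (Qb_single P _ h₂ 0) (Qb_single P _ h₃ 0)
      change clTr (Qb P) ((singleFunctor C 0).obj S.X₂) = clTr (Qb P) ((singleFunctor C 0).obj S.X₁)
        + clTr (Qb P) ((singleFunctor C 0).obj S.X₃) at this
      rw [this]; abel)

lemma F_clSub (X : C) (hX : P X) :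
    F P (clSub P X) = clTr (Qb P) ((singleFunctor C 0).obj X) := by
  rw [clSub_of P X hX]
  simp [F]

variable [P.IsClosedUnderKernels]

/-- the Euler characteristic homomorphism `K₀(D^b_P) → K₀(P)` -/
noncomputable def G : K0tr (Qb P) →+ K0sub P :=
  QuotientAddGroup.lift (relTr (Qb P))
    (FreeAbelianGroup.lift fun X : Subtype (Qb P) => chi P X.1)
    (by
      rw [relTr, AddSubgroup.closure_le]
      rintro x ⟨T, h₁, h₂, h₃, hT, rfl⟩
      simp only [SetLike.mem_coe, AddMonoidHom.mem_ker, map_sub, FreeAbelianGroup.lift_apply_of]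
      rw [chi_dist P T hT h₁ h₂ h₃]; abel)

omit [P.IsClosedUnderIsomorphisms] [P.ContainsZero] in
lemma G_clTr (K : DerivedCategory C) (hK : Qb P K) : G P (clTr (Qb P) K) = chi P K := by
  rw [clTr_of (Qb P) K hK]
  simp [G]

omit [P.IsClosedUnderKernels] in
lemma clTr_single_succ (M : C) (hM : P M) (j j' : ℤ) (h : j' = j + 1) :
    clTr (Qb P) ((singleFunctor C j').obj M) = - clTr (Qb P) ((singleFunctor C j).obj M) := by
  have e : ((singleFunctor C j').obj M)⟦(1 : ℤ)⟧ ≅ (singleFunctor C j).obj M :=
    ((singleFunctors C).shiftIso 1 j j' (by omega)).app M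
  have h' : Qb P (((singleFunctor C j').obj M)⟦(1 : ℤ)⟧) :=
    (Qb P).prop_of_iso e.symm (Qb_single P M hM j)
  have := clTr_shift (Qb P) _ (Qb_single P M hM j') h'
  rw [clTr_iso (Qb P) e] at this
  rw [this, neg_neg]

lemma clTr_single (M : C) (hM : P M) (j : ℤ) :
    clTr (Qb P) ((singleFunctor C j).obj M) =
      (j.negOnePow : ℤ) • clTr (Qb P) ((singleFunctor C 0).obj M) := by
  induction j using Int.induction_on with
  | zero => simp
  | succ i ih =>
    rw [clTr_single_succ P M hM i (i + 1) rfl, ih, Int.negOnePow_succ, Units.val_neg, neg_smul]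
  | pred i ih =>
    have := clTr_single_succ P M hM (-(i : ℤ) - 1) (-(i : ℤ)) (by omega)
    rw [ih] at this
    rw [Int.negOnePow_sub, Int.negOnePow_one, mul_neg, mul_one, Units.val_neg, neg_smul, this,
      neg_neg]

lemma FG (K : DerivedCategory C) (hK : Qb P K) : clTr (Qb P) K = F P (chi P K) := by
  obtain ⟨a, b, ha, hb⟩ := hK.2
  have : K.IsGE a := ha
  have : K.IsLE b := hb
  by_cases hab : b + 1 ≤ a
  · have hz : IsZero K := (TStructure.t (C := C)).isZero K b a (by omega)
    rw [clTr_isZero (Qb P) K hz, chi_isZero P K hz, map_zero]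
  · refine bounded_induction_trunc (fun Y => Qb P Y → clTr (Qb P) Y = F P (chi P Y))
      ?_ ?_ ?_ (b + 1 - a).toNat a b (by rw [Int.toNat_of_nonneg (by omega)]; omega) K ?_ hK
    · intro X Y e hX hY
      rw [← clTr_iso (Qb P) e, ← chi_iso P e]
      exact hX ((Qb P).prop_of_iso e.symm hY)
    · intro X hX _
      rw [clTr_isZero (Qb P) X hX, chi_isZero P X hX, map_zero]
    · intro Y c h1 h3 hY
      have hT := (TStructure.t (C := C)).triangleLTGE_distinguished c Y
      have q1 := Qb_truncLT P Y hY c
      have q3 := Qb_truncGE P Y hY c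
      have e1 := clTr_dist (Qb P) _ hT q1 hY q3
      have e2 := chi_dist P _ hT q1 hY q3
      change clTr (Qb P) Y = _ at e1
      change chi P Y = _ at e2
      rw [e1, e2, map_add]
      congr 1
      · exact h1 q1
      · exact h3 q3
    · intro j _ _ _
      rw [clTr_single P _ (hK.1 j) j, chi_single, map_zsmul, F_clSub P _ (hK.1 j)]

theorem main : ∃ φ : K0sub P ≃+ K0tr (Qb P),
    ∀ X : C, P X → φ (clSub P X) = clTr (Qb P) ((singleFunctor C 0).obj X) := by
  have hGF : (G P).comp (F P) = AddMonoidHom.id _ := by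
    apply QuotientAddGroup.addMonoidHom_ext
    apply FreeAbelianGroup.lift_ext
    rintro ⟨X, hX⟩
    have h1 : F P (clSub P X) = clTr (Qb P) ((singleFunctor C 0).obj X) := F_clSub P X hX
    have h2 := G_clTr P _ (Qb_single P X hX 0)
    rw [chi_single] at h2
    simp only [Int.negOnePow_zero, Units.val_one, one_smul] at h2
    rw [clSub_of P X hX] at h1 h2
    simp only [AddMonoidHom.coe_comp, Function.comp_apply, QuotientAddGroup.coe_mk',
      AddMonoidHom.id_apply]
    rw [h1]
    exact h2
  have hFG : (F P).comp (G P) = AddMonoidHom.id _ := by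
    apply QuotientAddGroup.addMonoidHom_ext
    apply FreeAbelianGroup.lift_ext
    rintro ⟨K, hK⟩
    have h1 := G_clTr P K hK
    have h2 := FG P K hK
    rw [clTr_of (Qb P) K hK] at h1 h2
    simp only [AddMonoidHom.coe_comp, Function.comp_apply, QuotientAddGroup.coe_mk',
      AddMonoidHom.id_apply]
    rw [h1]
    exact h2.symm
  refine ⟨{ toFun := F P
            invFun := G P
            left_inv := fun x => DFunLike.congr_fun hGF x
            right_inv := fun x => DFunLike.congr_fun hFG x
            map_add' := map_add _ }, fun X hX => F_clSub P X hX⟩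

end Groth.Agent.Lib.Helper16.K0Db
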