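import Mathlib
import Groth.Prelude.Def_CohB1
import Groth.Agent.Lib.Helper8.K0Coh
import Groth.Agent.Lib.Helper16.RS13
import Groth.Agent.Lib.Helper16.Stk4
import Groth.Agent.S1006

/-!
# Helper16 — K0Supp: `K₀` of coherent modules supported in a closed subset vs `K₀` of perfect
complexes with cohomology supported there (S14007).
-/

set_option autoImplicit false
universe u
open CategoryTheory CategoryTheory.Limits AlgebraicGeometry DerivedCategory Pretriangulated

attribute [local instance] HasDerivedCategory.standard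

namespace Groth.Agent.Lib.Helper16.K0Supp

open Groth.Agent.Lib.Helper16.K0Db Groth.Agent.Lib.Helper16.DerT Groth.Agent.Lib.Helper16.RS

variable (X : Scheme.{u}) (Y' : Set X)

/-- coherent modules with support in `Y'`. -/
def P : ObjectProperty X.Modules := fun G => Coh.IsCoh G ∧ CohB1.support G ⊆ Y'

variable {X}

lemma support_subset_of_mono {K F : X.Modules} (i : K ⟶ F) [Mono i] :
    CohB1.support K ⊆ CohB1.support F := by
  intro x hx hF
  apply hx
  haveI : Mono ((DerSch.stalkFunctor X x).map i) := inferInstance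
  have hinj : Function.Injective ((DerSch.stalkFunctor X x).map i) :=
    (ModuleCat.mono_iff_injective _).1 inferInstance
  haveI : Subsingleton ((DerSch.stalkFunctor X x).obj F) := hF
  exact hinj.subsingleton

lemma support_eq_of_iso {K F : X.Modules} (e : K ≅ F) : CohB1.support K = CohB1.support F :=
  le_antisymm (support_subset_of_mono e.hom) (support_subset_of_mono e.inv)

lemma support_of_isZero {Z : X.Modules} (hZ : IsZero Z) : CohB1.support Z = ∅ := by
  ext x
  simp only [Set.mem_empty_iff_false, iff_false]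
  intro hx
  apply hx
  have h : IsZero ((DerSch.stalkFunctor X x).obj Z) := (DerSch.stalkFunctor X x).map_isZero hZ
  exact ModuleCat.subsingleton_of_isZero h

variable (X)

instance : (P X Y').IsClosedUnderIsomorphisms where
  of_iso := by
    rintro F G e ⟨hc, hs⟩
    exact ⟨(Groth.Agent.Lib.Helper8.K0Coh.P X).prop_of_iso e hc, by rwa [← support_eq_of_iso e]⟩

instance : (P X Y').ContainsZero where
  exists_zero := by
    obtain ⟨Z, hZ, hP⟩ := (inferInstance : (Groth.Agent.Lib.Helper8.K0Coh.P X).ContainsZero).exists_zero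
    exact ⟨Z, hZ, hP, by rw [support_of_isZero hZ]; exact Set.empty_subset _⟩

instance [IsLocallyNoetherian X] : (P X Y').IsClosedUnderKernels where
  kernels_le := by
    rintro _ ⟨f, k, hk, ⟨hF, hG⟩⟩
    refine ⟨?_, ?_⟩
    · exact (inferInstance : (Groth.Agent.Lib.Helper8.K0Coh.P X).IsClosedUnderKernels).kernels_le _
        ⟨f, k, hk, ⟨hF.1, hG.1⟩⟩
    · haveI : Mono (Fork.ι k) := mono_of_isLimit_fork hk
      exact (support_subset_of_mono (Fork.ι k)).trans hF.2

variable {X Y'}

/-- bounded with cohomology coherent and supported in `Y'` ⟹ perfect, under `hperf`. -/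
lemma isPerfect_of_Qb
    (hperf : ∀ G : X.Modules, Coh.IsCoh G → CohB1.support G ⊆ Y' → DCoh.IsPerfect (DCoh.inD X G))
    (K : DCoh.D X) (hK : Qb (P X Y') K) : DCoh.IsPerfect K := by
  obtain ⟨hH, a, b, ha, hb⟩ := hK
  haveI : K.IsGE a := ha
  haveI : K.IsLE b := hb
  have hzero : ∀ Z : DCoh.D X, IsZero Z → DCoh.IsPerfect Z := by
    intro Z hZ
    obtain ⟨Z0, hZ0, hP⟩ := (inferInstance : (P X Y').ContainsZero).exists_zero
    have := hperf Z0 hP.1 hP.2
    exact isPerfect_of_iso (((singleFunctor X.Modules 0).map_isZero hZ0).iso hZ) this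
  by_cases hab : b + 1 ≤ a
  · exact hzero K ((TStructure.t (C := X.Modules)).isZero K b a (by omega))
  · refine bounded_induction_trunc (fun Y => DCoh.IsPerfect Y) ?_ hzero ?_ (b + 1 - a).toNat a b
      (by rw [Int.toNat_of_nonneg (by omega)]; omega) K ?_
    · intro X Y e h
      exact isPerfect_of_iso e h
    · intro Y c h1 h3
      exact (isPerfect_two_out_of_three _
        ((TStructure.t (C := X.Modules)).triangleLTGE_distinguished c Y)).2.1 h1 h3
    · intro j _ _
      have h := hperf _ (hH j).1 (hH j).2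
      exact isPerfect_of_iso (((singleFunctors X.Modules).shiftIso (-j) j 0 (by omega)).app _)
        (isPerfect_shift _ (-j) h)

theorem main [IsNoetherian X]
    (hperf : ∀ G : X.Modules, Coh.IsCoh G → CohB1.support G ⊆ Y' → DCoh.IsPerfect (DCoh.inD X G)) :
    ∃ φ : KZero.K0sub (fun G : X.Modules => Coh.IsCoh G ∧ CohB1.support G ⊆ Y') ≃+
        KZero.K0tr (fun K : DCoh.D X => DCoh.IsPerfect K ∧ ∀ i : ℤ, CohB1.support (DCoh.HD K i) ⊆ Y'),
      ∀ G : X.Modules, Coh.IsCoh G → CohB1.support G ⊆ Y' →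
        φ (KZero.clSub (fun G : X.Modules => Coh.IsCoh G ∧ CohB1.support G ⊆ Y') G) =
          KZero.clTr (fun K : DCoh.D X => DCoh.IsPerfect K ∧ ∀ i : ℤ, CohB1.support (DCoh.HD K i) ⊆ Y')
            (DCoh.inD X G) := by
  obtain ⟨φ, hφ⟩ := Groth.Agent.Lib.Helper16.K0Db.main (P X Y')
  have h : Qb (P X Y') =
      (fun K : DCoh.D X => DCoh.IsPerfect K ∧ ∀ i : ℤ, CohB1.support (DCoh.HD K i) ⊆ Y') := by
    funext K
    refine propext ⟨fun hK => ⟨isPerfect_of_Qb hperf K hK, fun i => (hK.1 i).2⟩, ?_⟩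
    rintro ⟨hK, hs⟩
    obtain ⟨hc, a, b, ha, hb⟩ := Groth.Agent.S1006.result X K hK
    exact ⟨fun i => ⟨hc i, hs i⟩, a, b, ha, hb⟩
  have key : ∀ (Q Q' : DCoh.D X → Prop) (h : Q = Q')
      (φ : KZero.K0sub (P X Y') ≃+ KZero.K0tr Q)
      (hφ : ∀ G : X.Modules, P X Y' G → φ (KZero.clSub (P X Y') G) =
        KZero.clTr Q ((singleFunctor X.Modules 0).obj G)),
      ∃ φ' : KZero.K0sub (P X Y') ≃+ KZero.K0tr Q', ∀ G : X.Modules, P X Y' G →
        φ' (KZero.clSub (P X Y') G) = KZero.clTr Q' ((singleFunctor X.Modules 0).obj G) := by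
    intro Q Q' h φ hφ
    subst h
    exact ⟨φ, hφ⟩
  obtain ⟨φ', hφ'⟩ := key _ _ h φ hφ
  exact ⟨φ', fun G h1 h2 => hφ' G ⟨h1, h2⟩⟩

end Groth.Agent.Lib.Helper16.K0Supp
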