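import Mathlib
import Groth.Prelude.Def_CohB1
import Groth.Agent.Lib.Helper16.K0Supp
import Groth.Agent.Lib.Helper6.DevStep
import Groth.Agent.Lib.Helper6.DevCore
import Groth.Agent.Lib.Helper6.DevRed

/-!
# Helper16 — K0Dev: generation of `K₀` of coherent modules supported in a closed subset by a family
with one-dimensional generic stalks (S14003), via helper6's dévissage.
-/

set_option autoImplicit false
universe u
open CategoryTheory CategoryTheory.Limits AlgebraicGeometry

namespace Groth.Agent.Lib.Helper16.K0Dev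

open Groth.Agent.Lib.Helper16.K0Db Groth.Agent.Lib.Helper16.K0Supp
  Groth.Agent.Lib.Helper6.DevCore Groth.Agent.Lib.Helper6.DevStep Groth.Agent.Lib.Helper6.DevRed

variable {X : Scheme.{u}} (Y' : Set X)

/-- the class of coherent modules supported in `Y'` whose class lies in the subgroup `H`. -/
def K' (H : AddSubgroup (KZero.K0sub (P X Y'))) : ObjectProperty X.Modules := fun G =>
  Coh.IsCoh G ∧ CohB1.support G ⊆ Y' ∧ KZero.clSub (P X Y') G ∈ H

instance (H : AddSubgroup (KZero.K0sub (P X Y'))) : (K' Y' H).IsClosedUnderIsomorphisms where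
  of_iso := by
    rintro F G e ⟨hc, hs, hH⟩
    exact ⟨isCoh_of_iso e hc, by rwa [← support_eq_of_iso e], by rwa [← clSub_iso (P X Y') e]⟩

theorem closure_eq_top [IsNoetherian X] (hY' : IsClosed Y') {ι : Type u} (F : ι → X.Modules)
    (hF : ∀ a : ι, Coh.IsCoh (F a) ∧ CohB1.support (F a) ⊆ Y')
    (hgen : ∀ (Z : Set X), IsClosed Z → IsIrreducible Z → Z ⊆ Y' → ∀ y : X, closure ({y} : Set X) = Z →
      ∃ a : ι, CohB1.support (F a) ⊆ Z ∧
        Module.length (X.presheaf.stalk y) ((F a).presheaf.stalk y) = 1) :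
    AddSubgroup.closure (Set.range fun a : ι =>
        KZero.clSub (fun G : X.Modules => Coh.IsCoh G ∧ CohB1.support G ⊆ Y') (F a)) = ⊤ := by
  set H : AddSubgroup (KZero.K0sub (P X Y')) := AddSubgroup.closure (Set.range fun a : ι =>
        KZero.clSub (fun G : X.Modules => Coh.IsCoh G ∧ CohB1.support G ⊆ Y') (F a)) with hH
  -- two out of three
  have hex : ∀ S : ShortComplex X.Modules, S.ShortExact → Coh.IsCoh S.X₁ → Coh.IsCoh S.X₂ →
      Coh.IsCoh S.X₃ →
      (K' Y' H S.X₁ → K' Y' H S.X₂ → K' Y' H S.X₃) ∧ (K' Y' H S.X₁ → K' Y' H S.X₃ → K' Y' H S.X₂) ∧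
        (K' Y' H S.X₂ → K' Y' H S.X₃ → K' Y' H S.X₁) := by
    intro S hS h1 h2 h3
    haveI := hS.mono_f
    haveI := hS.epi_g
    have hsupp := Groth.Agent.S0796.support_eq_union S hS
    refine ⟨?_, ?_, ?_⟩
    · rintro ⟨-, s1, k1⟩ ⟨-, s2, k2⟩
      have s3 : CohB1.support S.X₃ ⊆ Y' := (support_subset_of_epi S.g).trans s2
      refine ⟨h3, s3, ?_⟩
      have := clSub_shortExact (P X Y') S hS ⟨h1, s1⟩ ⟨h2, s2⟩ ⟨h3, s3⟩
      have e : KZero.clSub (P X Y') S.X₃ = KZero.clSub (P X Y') S.X₂ - KZero.clSub (P X Y') S.X₁ := by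
        rw [this]; abel
      rw [e]
      exact H.sub_mem k2 k1
    · rintro ⟨-, s1, k1⟩ ⟨-, s3, k3⟩
      have s2 : CohB1.support S.X₂ ⊆ Y' := by rw [hsupp]; exact Set.union_subset s1 s3
      refine ⟨h2, s2, ?_⟩
      rw [clSub_shortExact (P X Y') S hS ⟨h1, s1⟩ ⟨h2, s2⟩ ⟨h3, s3⟩]
      exact H.add_mem k1 k3
    · rintro ⟨-, s2, k2⟩ ⟨-, s3, k3⟩
      have s1 : CohB1.support S.X₁ ⊆ Y' := (Groth.Agent.Lib.Helper6.DevCore.support_subset_of_mono S.f).trans s2
      refine ⟨h1, s1, ?_⟩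
      have := clSub_shortExact (P X Y') S hS ⟨h1, s1⟩ ⟨h2, s2⟩ ⟨h3, s3⟩
      have e : KZero.clSub (P X Y') S.X₁ = KZero.clSub (P X Y') S.X₂ - KZero.clSub (P X Y') S.X₃ := by
        rw [this]; abel
      rw [e]
      exact H.sub_mem k2 k3
  have key : ∀ G : X.Modules, Coh.IsCoh G → CohB1.support G ⊆ Y' → K' Y' H G := by
    intro G hG hGs
    refine devissage_core (K' Y' H) (fun S hS h1 h2 h3 => (hex S hS h1 h2 h3).2.1) ?_ Y' ?_ hY' G hG hGs
    · intro M hM
      refine ⟨isCoh_of_isZero hM, by rw [support_of_isZero hM]; exact Set.empty_subset _, ?_⟩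
      rw [clSub_isZero (P X Y') M hM]
      exact H.zero_mem
    · intro Z hZc hZi hZY y hy IH Q hQ hQZ hyQ
      obtain ⟨a, haZ, hlen⟩ := hgen Z hZc hZi hZY y hy
      haveI : IsSimpleModule (X.presheaf.stalk y) ((F a).presheaf.stalk y) :=
        Module.length_eq_one_iff.1 hlen
      obtain ⟨g, hg0, hgm, hgg⟩ := exists_gen_of_isSimpleModule (X.presheaf.stalk y)
        ((F a).presheaf.stalk y)
      have hKF : K' Y' H (F a) := ⟨(hF a).1, (hF a).2, AddSubgroup.subset_closure ⟨a, rfl⟩⟩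
      exact step_simple (K' Y' H) hex Z y hy IH (F a) (hF a).1 hKF haZ g hg0 hgm hgg Q hQ hQZ hyQ
  rw [eq_top_iff]
  rintro x -
  induction x using QuotientAddGroup.induction_on with
  | H z =>
    induction z using FreeAbelianGroup.induction_on with
    | zero => exact H.zero_mem
    | of G =>
      have := (key G.1 G.2.1 G.2.2).2.2
      rwa [clSub_of (P X Y') G.1 G.2] at this
    | neg G ih => exact H.neg_mem ih
    | add a b iha ihb => exact H.add_mem iha ihb

end Groth.Agent.Lib.Helper16.K0Dev
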