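import Mathlib
import Groth.Prelude.Def_KZero
import Groth.Prelude.Def_DRing2
import Groth.Prelude.Def_Koszul
import Groth.Agent.Lib.Helper16.K0Db2
import Groth.Agent.Lib.Helper16.PCNoeth
import Groth.Agent.Lib.Helper8.Perf2
import Groth.Agent.Lib.Helper15.RelPC15
import Groth.Agent.Lib.Helper5.RegImmB
import Groth.Agent.Lib.Helper2.ChiLocal2

/-!
# Helper16 — K0Kos: over a Noetherian local ring whose maximal ideal is generated by a regular
sequence, `K₀` of perfect complexes with cohomology supported at the closed point is generated by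
the Koszul complex (S14001).
-/

set_option autoImplicit false
universe u
open CategoryTheory CategoryTheory.Limits DerivedCategory Pretriangulated

attribute [local instance] HasDerivedCategory.standard

namespace Groth.Agent.Lib.Helper16.K0Kos

open Groth.Agent.Lib.Helper16.K0Db Groth.Agent.Lib.Helper16.DerT KZero

variable (R : Type u) [CommRing R]

/-- modules of finite length -/
def P : ObjectProperty (ModuleCat.{u} R) := fun M => IsFiniteLength R M

instance : (P R).IsClosedUnderIsomorphisms where
  of_iso := by
    intro M N e h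
    exact e.toLinearEquiv.isFiniteLength h

lemma P_of_isZero (M : ModuleCat.{u} R) (hM : IsZero M) : P R M := by
  haveI : Subsingleton M := ModuleCat.subsingleton_of_isZero hM
  exact IsFiniteLength.of_subsingleton

instance : (P R).ContainsZero where
  exists_zero := ⟨ModuleCat.of R PUnit, ModuleCat.isZero_of_subsingleton _,
    P_of_isZero R _ (ModuleCat.isZero_of_subsingleton _)⟩

instance : (P R).IsClosedUnderKernels where
  kernels_le := by
    rintro _ ⟨f, k, hk, ⟨hF, hG⟩⟩
    haveI : Mono (Fork.ι k) := mono_of_isLimit_fork hk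
    exact IsFiniteLength.of_injective hF ((ModuleCat.mono_iff_injective (Fork.ι k)).1 inferInstance)

variable {R}

/-- the short exact sequence of a submodule -/
lemma shortExact_sub (M : Type u) [AddCommGroup M] [Module R M] (N : Submodule R M) :
    (ShortComplex.mk (ModuleCat.ofHom N.subtype) (ModuleCat.ofHom N.mkQ)
      (by ext x; simp)).ShortExact := by
  refine ShortComplex.ShortExact.mk' ?_ ?_ ?_
  · rw [ShortComplex.moduleCat_exact_iff_range_eq_ker]
    simp
  · exact (ModuleCat.mono_iff_injective _).2 N.injective_subtype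
  · exact (ModuleCat.epi_iff_surjective _).2 N.mkQ_surjective

/-- induction principle for finite length modules over a local ring, in `ModuleCat`. -/
theorem finLen_induction [IsLocalRing R] (S : ModuleCat.{u} R → Prop)
    (hiso : ∀ M N : ModuleCat.{u} R, (M ≅ N) → S M → S N)
    (hzero : ∀ M : ModuleCat.{u} R, IsZero M → S M)
    (hk : S (ModuleCat.of R (R ⧸ IsLocalRing.maximalIdeal R)))
    (hext : ∀ T : ShortComplex (ModuleCat.{u} R), T.ShortExact → P R T.X₁ → P R T.X₂ → P R T.X₃ →
      S T.X₁ → S T.X₃ → S T.X₂)
    (M : Type u) [AddCommGroup M] [Module R M] (h : IsFiniteLength R M) : S (ModuleCat.of R M) := by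
  induction h with
  | of_subsingleton => exact hzero _ (ModuleCat.isZero_of_subsingleton _)
  | @of_simple_quotient M _ _ N hs hN ih =>
    have hM : IsFiniteLength R M := IsFiniteLength.of_simple_quotient hN
    have hQ : IsFiniteLength R (M ⧸ N) := IsFiniteLength.of_surjective hM N.mkQ_surjective
    obtain ⟨I, hI, ⟨e⟩⟩ := isSimpleModule_iff_quot_maximal.1 hs
    have hIm : I = IsLocalRing.maximalIdeal R := IsLocalRing.eq_maximalIdeal hI
    subst hIm
    have h3 : S (ModuleCat.of R (M ⧸ N)) := hiso _ _ e.symm.toModuleIso hk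
    exact hext _ (shortExact_sub M N) hN hM hQ ih h3

section main

variable [IsLocalRing R]

/-- the residue module -/
noncomputable abbrev kk (R : Type u) [CommRing R] [IsLocalRing R] : ModuleCat.{u} R :=
  ModuleCat.of R (R ⧸ IsLocalRing.maximalIdeal R)

lemma P_kk : P R (kk R) := by
  haveI : IsSimpleModule R (R ⧸ IsLocalRing.maximalIdeal R) :=
    isSimpleModule_iff_quot_maximal.2 ⟨_, inferInstance, ⟨LinearEquiv.refl _ _⟩⟩
  have h : Module.length R (R ⧸ IsLocalRing.maximalIdeal R) = 1 := Module.length_eq_one _ _
  refine Module.length_ne_top_iff.1 ?_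
  change Module.length R (R ⧸ IsLocalRing.maximalIdeal R) ≠ ⊤
  rw [h]
  exact ENat.one_ne_top

/-- `K₀` of finite length modules is generated by the residue field. -/
lemma clSub_mem_zmultiples (M : ModuleCat.{u} R) (hM : P R M) :
    clSub (P R) M ∈ AddSubgroup.zmultiples (clSub (P R) (kk R)) := by
  have h := finLen_induction (R := R)
    (fun M => clSub (P R) M ∈ AddSubgroup.zmultiples (clSub (P R) (kk R)))
    (fun M N e h => by rwa [← clSub_iso (P R) e])
    (fun M hM => by rw [clSub_isZero (P R) M hM]; exact AddSubgroup.zero_mem _)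
    (AddSubgroup.mem_zmultiples _)
    (fun T hT h1 h2 h3 k1 k3 => by
      rw [clSub_shortExact (P R) T hT h1 h2 h3]
      exact AddSubgroup.add_mem _ k1 k3) M hM
  exact h

omit [IsLocalRing R] in
lemma isPerfect_of_iso' {K K' : Dual.D R} (e : K ≅ K') (h : DRing.IsPerfect R K) :
    DRing.IsPerfect R K' := by
  rw [Groth.Agent.Lib.Helper8.Perf.isPerfect_iff] at h ⊢
  exact h.of_iso e

omit [IsLocalRing R] in
lemma isPerfect_shift' {K : Dual.D R} (m : ℤ) (h : DRing.IsPerfect R K) :
    DRing.IsPerfect R (K⟦m⟧) := by
  rw [Groth.Agent.Lib.Helper8.Perf.isPerfect_iff] at h ⊢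
  exact h.shift m

/-- finite length modules are perfect as soon as the residue field is. -/
lemma isPerfect_single_of_finLen
    (hk : DRing.IsPerfect R ((singleFunctor (ModuleCat.{u} R) 0).obj (kk R)))
    (M : ModuleCat.{u} R) (hM : P R M) :
    DRing.IsPerfect R ((singleFunctor (ModuleCat.{u} R) 0).obj M) := by
  have hzero : ∀ Z : Dual.D R, IsZero Z → DRing.IsPerfect R Z := by
    intro Z hZ
    have := (Groth.Agent.Lib.Helper8.Perf.isPerfect_two_of_three _
      (contractible_distinguished ((singleFunctor (ModuleCat.{u} R) 0).obj (kk R)))).1 hk hk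
    exact isPerfect_of_iso' ((isZero_zero _).iso hZ) this
  exact finLen_induction (R := R)
    (fun M => DRing.IsPerfect R ((singleFunctor (ModuleCat.{u} R) 0).obj M))
    (fun M N e h => isPerfect_of_iso' ((singleFunctor (ModuleCat.{u} R) 0).mapIso e) h)
    (fun M hM => hzero _ ((singleFunctor (ModuleCat.{u} R) 0).map_isZero hM))
    hk
    (fun T hT _ _ _ k1 k3 =>
      (Groth.Agent.Lib.Helper8.Perf.isPerfect_two_of_three _ hT.singleTriangle_distinguished).2.1 k1 k3)
    M hM

/-- finite length modules are supported at the closed point. -/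
lemma support_subset_of_finLen (M : Type u) [AddCommGroup M] [Module R M] (h : IsFiniteLength R M) :
    Module.support R M ⊆ {IsLocalRing.closedPoint R} := by
  intro p hp
  have := Groth.Agent.Lib.Helper2.ChiLocal.eq_maximalIdeal_of_mem_support M
    (Module.length_ne_top_iff.2 h) p hp
  rw [Set.mem_singleton_iff]
  exact PrimeSpectrum.ext this

lemma finLen_of_support_subset [IsNoetherianRing R] (M : Type u) [AddCommGroup M] [Module R M]
    [Module.Finite R M] (h : Module.support R M ⊆ {IsLocalRing.closedPoint R}) :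
    IsFiniteLength R M := by
  refine Groth.Agent.Lib.Helper2.ChiLocal2.isFiniteLength_of_support_subset M ?_
  intro q hq
  have := h hq
  rw [Set.mem_singleton_iff] at this
  rw [this]
  rfl

/-- the two descriptions of the subcategory coincide. -/
lemma Qb_eq [IsNoetherianRing R]
    (hk : DRing.IsPerfect R ((singleFunctor (ModuleCat.{u} R) 0).obj (kk R))) :
    Qb (P R) = (fun K : Dual.D R => DRing.IsPerfect R K ∧
      ∀ i : ℤ, Module.support R (Dual.HD R K i) ⊆ {IsLocalRing.closedPoint R}) := by
  funext K
  refine propext ⟨?_, ?_⟩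
  · rintro ⟨hH, a, b, ha, hb⟩
    refine ⟨?_, fun i => support_subset_of_finLen _ (hH i)⟩
    haveI : K.IsGE a := ha
    haveI : K.IsLE b := hb
    have hzero : ∀ Z : Dual.D R, IsZero Z → DRing.IsPerfect R Z := by
      intro Z hZ
      have := (Groth.Agent.Lib.Helper8.Perf.isPerfect_two_of_three _
        (contractible_distinguished ((singleFunctor (ModuleCat.{u} R) 0).obj (kk R)))).1 hk hk
      exact isPerfect_of_iso' ((isZero_zero _).iso hZ) this
    by_cases hab : b + 1 ≤ a
    · exact hzero K ((TStructure.t (C := ModuleCat.{u} R)).isZero K b a (by omega))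
    · refine bounded_induction_trunc (fun Y => DRing.IsPerfect R Y) ?_ hzero ?_ (b + 1 - a).toNat a b
        (by rw [Int.toNat_of_nonneg (by omega)]; omega) K ?_
      · intro X Y e h
        exact isPerfect_of_iso' e h
      · intro Y c h1 h3
        exact (Groth.Agent.Lib.Helper8.Perf.isPerfect_two_of_three _
          ((TStructure.t (C := ModuleCat.{u} R)).triangleLTGE_distinguished c Y)).2.1 h1 h3
      · intro j _ _
        have h := isPerfect_single_of_finLen hk _ (hH j)
        exact isPerfect_of_iso' (((singleFunctors (ModuleCat.{u} R)).shiftIso (-j) j 0 (by omega)).app _)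
          (isPerfect_shift' (-j) h)
  · rintro ⟨⟨E, a, b, hv, hfp, ⟨e⟩⟩, hs⟩
    refine ⟨fun i => ?_, a, b, ?_, ?_⟩
    · have e1 : (homologyFunctor (ModuleCat.{u} R) i).obj K ≅ E.homology i :=
        (homologyFunctor (ModuleCat.{u} R) i).mapIso e.symm ≪≫
          (homologyFunctorFactors (ModuleCat.{u} R) i).app E
      haveI : Module.Finite R (E.homology i) :=
        Groth.Agent.Lib.Helper16.PC.finite_homology_of_termwise E i (hfp i).1
      haveI : Module.Finite R ((homologyFunctor (ModuleCat.{u} R) i).obj K) :=
        Module.Finite.equiv e1.symm.toLinearEquiv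
      exact finLen_of_support_subset _ (hs i)
    · haveI : E.IsStrictlyGE a :=
        (CochainComplex.isStrictlyGE_iff _ _).2 (fun i hi => hv i (Or.inl hi))
      have : (Q.obj E).IsGE a := (isGE_Q_obj_iff E a).2 inferInstance
      exact (TStructure.t (C := ModuleCat.{u} R)).isGE_of_iso e a
    · haveI : E.IsStrictlyLE b :=
        (CochainComplex.isStrictlyLE_iff _ _).2 (fun i hi => hv i (Or.inr hi))
      have : (Q.obj E).IsLE b := (isLE_Q_obj_iff E b).2 inferInstance
      exact (TStructure.t (C := ModuleCat.{u} R)).isLE_of_iso e b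

theorem closure_eq_top [IsNoetherianRing R] (fs : List R)
    (hreg : RingTheory.Sequence.IsRegular R fs)
    (hgen : Ideal.ofList fs = IsLocalRing.maximalIdeal R) :
    AddSubgroup.closure
        {KZero.clTr (fun K : Dual.D R => DRing.IsPerfect R K ∧
            ∀ i : ℤ, Module.support R (Dual.HD R K i) ⊆ {IsLocalRing.closedPoint R})
          (DRing.toD (Koszul.koszul R fs))} = ⊤ := by
  -- the Koszul complex resolves the residue field
  obtain ⟨e0⟩ := Groth.Agent.Lib.Helper15.RelPC15.nonempty_toD_koszul_iso fs
    (Groth.Agent.Lib.Helper5.RegImmB.isKoszulRegularSeq_of_isWeaklyRegular fs hreg.toIsWeaklyRegular)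
  have e1 : ModuleCat.of R (R ⧸ Ideal.ofList fs) ≅ kk R :=
    (Submodule.quotEquivOfEq _ _ hgen).toModuleIso
  have e : DRing.toD (Koszul.koszul R fs) ≅ (singleFunctor (ModuleCat.{u} R) 0).obj (kk R) :=
    e0 ≪≫ (singleFunctor (ModuleCat.{u} R) 0).mapIso e1
  have hkos : DRing.IsPerfect R (DRing.toD (Koszul.koszul R fs)) := by
    refine ⟨Koszul.koszul R fs, -(fs.length : ℤ), 0, ?_, ?_, ⟨Iso.refl _⟩⟩
    · rintro i (hi | hi)
      · exact Groth.Agent.Lib.Helper15.RelPC15.isZero_koszul_X_lt fs i hi
      · exact Groth.Agent.Lib.Helper2.KosTor2.isZero_koszul_X fs i hi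
    · intro i
      exact ⟨Groth.Agent.Lib.Helper15.RelPC15.finite_koszul fs i,
        Groth.Agent.Lib.Helper2.KosChi2.projective_koszul fs i⟩
  have hk : DRing.IsPerfect R ((singleFunctor (ModuleCat.{u} R) 0).obj (kk R)) :=
    isPerfect_of_iso' e hkos
  have hQ := Qb_eq (R := R) hk
  -- the statement for `Qb (P R)`
  have main : AddSubgroup.closure {KZero.clTr (Qb (P R)) (DRing.toD (Koszul.koszul R fs))} = ⊤ := by
    obtain ⟨φ, hφ⟩ := Groth.Agent.Lib.Helper16.K0Db.main (P R)
    rw [clTr_iso (Qb (P R)) e, ← hφ _ P_kk]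
    rw [eq_top_iff]
    rintro x -
    obtain ⟨y, rfl⟩ := φ.surjective x
    have hy : y ∈ AddSubgroup.zmultiples (clSub (P R) (kk R)) := by
      induction y using QuotientAddGroup.induction_on with
      | H z =>
        induction z using FreeAbelianGroup.induction_on with
        | zero => exact AddSubgroup.zero_mem _
        | of G =>
          have := clSub_mem_zmultiples G.1 G.2
          rwa [clSub_of (P R) G.1 G.2] at this
        | neg G ih => exact AddSubgroup.neg_mem _ ih
        | add a b iha ihb => exact AddSubgroup.add_mem _ iha ihb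
    obtain ⟨n, rfl⟩ := AddSubgroup.mem_zmultiples_iff.1 hy
    rw [map_zsmul]
    exact AddSubgroup.zsmul_mem _ (AddSubgroup.subset_closure (Set.mem_singleton _)) n
  have key : ∀ (Q' : Dual.D R → Prop), Qb (P R) = Q' →
      AddSubgroup.closure {KZero.clTr Q' (DRing.toD (Koszul.koszul R fs))} = ⊤ := by
    rintro _ rfl
    exact main
  exact key _ hQ

end main

end Groth.Agent.Lib.Helper16.K0Kos
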