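import Mathlib
import Groth.Agent.Lib.Helper16.K0Db1

/-!
# Helper16 — K0Trans: `K₀` of a triangulated subcategory transported along a fully faithful triangulated
functor which matches the object properties and is essentially surjective on them
-/

set_option autoImplicit false
universe v v' u u'

namespace Groth.Agent.Lib.Helper16.K0Trans

open CategoryTheory CategoryTheory.Limits KZero Pretriangulated Groth.Agent.Lib.Helper16.K0Db

variable {C : Type u} [Category.{v} C] [Preadditive C] [HasZeroObject C] [HasShift C ℤ]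
  [∀ n : ℤ, (shiftFunctor C n).Additive] [Pretriangulated C]
  {D : Type u'} [Category.{v'} D] [Preadditive D] [HasZeroObject D] [HasShift D ℤ]
  [∀ n : ℤ, (shiftFunctor D n).Additive] [Pretriangulated D]
  (Φ : C ⥤ D) [Φ.CommShift ℤ] [Φ.IsTriangulated]
  (P : ObjectProperty C) (P' : ObjectProperty D)
  (hP : ∀ K, P K ↔ P' (Φ.obj K))

/-- the homomorphism induced by `Φ`. -/
noncomputable def fwd : K0tr P →+ K0tr P' :=
  QuotientAddGroup.lift (relTr P)
    (FreeAbelianGroup.lift fun X : Subtype P => clTr P' (Φ.obj X.1))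
    (by
      rw [relTr, AddSubgroup.closure_le]
      rintro x ⟨T, h₁, h₂, h₃, hT, rfl⟩
      simp only [SetLike.mem_coe, AddMonoidHom.mem_ker, map_sub, FreeAbelianGroup.lift_apply_of]
      have := clTr_dist P' _ (Φ.map_distinguished T hT) ((hP _).1 h₁) ((hP _).1 h₂) ((hP _).1 h₃)
      change clTr P' (Φ.obj T.obj₂) = clTr P' (Φ.obj T.obj₁) + clTr P' (Φ.obj T.obj₃) at this
      rw [this]; abel)

lemma fwd_clTr (K : C) (hK : P K) : fwd Φ P P' hP (clTr P K) = clTr P' (Φ.obj K) := by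
  rw [clTr_of P K hK]
  simp [fwd]

variable [Φ.Full] [Φ.Faithful] [P'.IsClosedUnderIsomorphisms]
  (hess : ∀ K', P' K' → ∃ K, Nonempty (Φ.obj K ≅ K'))

/-- a chosen preimage. -/
noncomputable def pre (K' : Subtype P') : C := (hess K'.1 K'.2).choose

noncomputable def preIso (K' : Subtype P') : Φ.obj (pre Φ P' hess K') ≅ K'.1 :=
  (hess K'.1 K'.2).choose_spec.some

omit [HasZeroObject C] [∀ n : ℤ, (shiftFunctor C n).Additive] [Pretriangulated C]
  [HasZeroObject D] [∀ n : ℤ, (shiftFunctor D n).Additive] [Pretriangulated D]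
  [Φ.CommShift ℤ] [Φ.IsTriangulated] [Φ.Full] [Φ.Faithful] [Preadditive C] [HasShift C ℤ]
  [Preadditive D] [HasShift D ℤ] in
include hP in
lemma pre_mem (K' : Subtype P') : P (pre Φ P' hess K') :=
  (hP _).2 (P'.prop_of_iso (preIso Φ P' hess K').symm K'.2)

/-- the inverse homomorphism. -/
noncomputable def bwd : K0tr P' →+ K0tr P :=
  QuotientAddGroup.lift (relTr P')
    (FreeAbelianGroup.lift fun X : Subtype P' => clTr P (pre Φ P' hess X))
    (by
      rw [relTr, AddSubgroup.closure_le]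
      rintro x ⟨T, h₁, h₂, h₃, hT, rfl⟩
      simp only [SetLike.mem_coe, AddMonoidHom.mem_ker, map_sub, FreeAbelianGroup.lift_apply_of]
      let e₁ := preIso Φ P' hess ⟨T.obj₁, h₁⟩
      let e₂ := preIso Φ P' hess ⟨T.obj₂, h₂⟩
      let e₃ := preIso Φ P' hess ⟨T.obj₃, h₃⟩
      let f := Φ.preimage (e₁.hom ≫ T.mor₁ ≫ e₂.inv)
      let g := Φ.preimage (e₂.hom ≫ T.mor₂ ≫ e₃.inv)
      let h := Φ.preimage (e₃.hom ≫ T.mor₃ ≫ e₁.inv⟦(1 : ℤ)⟧' ≫
        (Φ.commShiftIso (1 : ℤ)).inv.app _)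
      let T₀ : Triangle C := Triangle.mk f g h
      have i : Φ.mapTriangle.obj T₀ ≅ T := Triangle.isoMk _ _ e₁ e₂ e₃
        (by
          show Φ.map f ≫ e₂.hom = e₁.hom ≫ T.mor₁
          simp [f])
        (by
          show Φ.map g ≫ e₃.hom = e₂.hom ≫ T.mor₂
          simp [g])
        (by
          show (Φ.map h ≫ (Φ.commShiftIso (1 : ℤ)).hom.app _) ≫ e₁.hom⟦(1 : ℤ)⟧' = e₃.hom ≫ T.mor₃
          simp only [h, Functor.map_preimage, Category.assoc, Iso.inv_hom_id_app_assoc]
          rw [← CategoryTheory.Functor.map_comp, Iso.inv_hom_id, CategoryTheory.Functor.map_id,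
            Category.comp_id])
      have hT₀ : T₀ ∈ distTriang C :=
        (Φ.map_distinguished_iff T₀).1 (isomorphic_distinguished _ hT _ i)
      have := clTr_dist P T₀ hT₀ (pre_mem Φ P P' hP hess _) (pre_mem Φ P P' hP hess _)
        (pre_mem Φ P P' hP hess _)
      change clTr P (pre Φ P' hess ⟨T.obj₂, h₂⟩) = clTr P (pre Φ P' hess ⟨T.obj₁, h₁⟩) +
        clTr P (pre Φ P' hess ⟨T.obj₃, h₃⟩) at this
      rw [this]; abel)

lemma bwd_clTr (K' : D) (hK' : P' K') :
    bwd Φ P P' hP hess (clTr P' K') = clTr P (pre Φ P' hess ⟨K', hK'⟩) := by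
  rw [clTr_of P' K' hK']
  simp [bwd]

variable [P.IsClosedUnderIsomorphisms] [P.ContainsZero] [P'.ContainsZero]

include hP hess in
theorem main : ∃ φ : K0tr P ≃+ K0tr P', ∀ (K : C), P K → φ (clTr P K) = clTr P' (Φ.obj K) := by
  have h1 : (bwd Φ P P' hP hess).comp (fwd Φ P P' hP) = AddMonoidHom.id _ := by
    apply QuotientAddGroup.addMonoidHom_ext
    apply FreeAbelianGroup.lift_ext
    rintro ⟨K, hK⟩
    have a1 := fwd_clTr Φ P P' hP K hK
    have a2 := bwd_clTr Φ P P' hP hess (Φ.obj K) ((hP K).1 hK)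
    have a3 : clTr P (pre Φ P' hess ⟨Φ.obj K, (hP K).1 hK⟩) = clTr P K :=
      clTr_iso P (Φ.preimageIso (preIso Φ P' hess ⟨Φ.obj K, (hP K).1 hK⟩))
    rw [clTr_of P K hK] at a1 a3
    simp only [AddMonoidHom.coe_comp, Function.comp_apply, QuotientAddGroup.coe_mk',
      AddMonoidHom.id_apply]
    rw [a1, a2, a3]
  have h2 : (fwd Φ P P' hP).comp (bwd Φ P P' hP hess) = AddMonoidHom.id _ := by
    apply QuotientAddGroup.addMonoidHom_ext
    apply FreeAbelianGroup.lift_ext
    rintro ⟨K', hK'⟩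
    have a1 := bwd_clTr Φ P P' hP hess K' hK'
    have a2 := fwd_clTr Φ P P' hP _ (pre_mem Φ P P' hP hess ⟨K', hK'⟩)
    have a3 : clTr P' (Φ.obj (pre Φ P' hess ⟨K', hK'⟩)) = clTr P' K' :=
      clTr_iso P' (preIso Φ P' hess ⟨K', hK'⟩)
    rw [clTr_of P' K' hK'] at a1 a3
    simp only [AddMonoidHom.coe_comp, Function.comp_apply, QuotientAddGroup.coe_mk',
      AddMonoidHom.id_apply]
    rw [a1, a2, a3]
  refine ⟨{ toFun := fwd Φ P P' hP, invFun := bwd Φ P P' hP hess,
            left_inv := fun x => DFunLike.congr_fun h1 x,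
            right_inv := fun x => DFunLike.congr_fun h2 x,
            map_add' := map_add _ }, fun K hK => fwd_clTr Φ P P' hP K hK⟩

end Groth.Agent.Lib.Helper16.K0Trans
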