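import Mathlib
import Groth.Prelude
import Groth.Agent.S0997
import Groth.Agent.S1105
import Groth.Agent.S7142
import Groth.Agent.Lib.Helper16.K0Trans
import Groth.Agent.Lib.Helper16.AffRed6
import Groth.Agent.Lib.Helper16.DualSch2
import Groth.Agent.Lib.Helper16.RS12
import Groth.Agent.Lib.Helper1.LocFree9

/-!
# Helper16 — K0Spec: `K₀(A) ≃ K₀(D_perf(Spec A))`
-/

set_option autoImplicit false
set_option linter.style.haveILetI false
universe u
open CategoryTheory CategoryTheory.Limits AlgebraicGeometry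

attribute [local instance] HasDerivedCategory.standard

namespace Groth.Agent.Lib.Helper16.K0Spec

open Scheme.Modules Groth.Agent.Lib.Helper16.RS Groth.Agent.Lib.Helper16.DualSch KZero
  Groth.Agent.Lib.Helper16.K0Db ZeroObject

section QCoh

variable {X : Scheme.{u}}

/-- a perfect object has quasi-coherent cohomology sheaves. -/
theorem isQCohD_of_isPerfect (K : DCoh.D X) (hK : DCoh.IsPerfect K) : DCoh.IsQCohD K := by
  apply isQCohD_of_cover
  intro x
  obtain ⟨V, hx, hV⟩ := hK x
  obtain ⟨E, hE, ⟨e⟩⟩ := hV _ ⟨DerivedCategory.Q.objObjPreimageIso K⟩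
  refine ⟨V, V.ι, inferInstance, by rw [Scheme.Opens.range_ι]; exact hx, ?_⟩
  have e1 : (RD V.ι).obj K ≅ DerivedCategory.Q.obj E :=
    (RD V.ι).mapIso (DerivedCategory.Q.objObjPreimageIso K).symm ≪≫ RDQIso V.ι _ ≪≫ e
  intro i
  have h1 : (E.homology i).IsQuasicoherent :=
    Groth.Agent.Lib.Helper1.LocFree.isQuasicoherent_homology_of_isStrictlyPerfect E hE i
  have e2 : DCoh.HD ((RD V.ι).obj K) i ≅ E.homology i :=
    (DerivedCategory.homologyFunctor _ i).mapIso e1 ≪≫
      (DerivedCategory.homologyFunctorFactors _ i).app E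
  exact (SheafOfModules.isQuasicoherent (V : Scheme.{u}).ringCatSheaf).prop_of_iso e2.symm h1

end QCoh

section Main

variable (A : Type u) [CommRing A]

instance : ObjectProperty.IsClosedUnderIsomorphisms
    (fun K : DCoh.D (Spec (CommRingCat.of A)) => DCoh.IsPerfect K) where
  of_iso e h := isPerfect_of_iso e h

theorem exists_preimage (K' : DCoh.D (Spec (CommRingCat.of A))) (h : DCoh.IsPerfect K') :
    ∃ K : Dual.D A, Nonempty ((DCoh.tildeD (CommRingCat.of A)).obj K ≅ K') :=
  ((Groth.Agent.S0997.result (CommRingCat.of A)).2.2 K').1 (isQCohD_of_isPerfect K' h)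

instance : ObjectProperty.ContainsZero
    (fun K : DCoh.D (Spec (CommRingCat.of A)) => DCoh.IsPerfect K) where
  exists_zero := ⟨(DCoh.tildeD (CommRingCat.of A)).obj 0,
    (DCoh.tildeD (CommRingCat.of A)).map_isZero (isZero_zero _),
    (Groth.Agent.S1105.result A 0).2
      (Groth.Agent.Lib.Helper8.KPerf.Pf_of_isZero _ (isZero_zero _))⟩

theorem main :
    ∃ φ : K0tr (fun K : Dual.D A => DRing.IsPerfect A K) ≃+
        K0tr (fun K : DCoh.D (Spec (CommRingCat.of A)) => DCoh.IsPerfect K),
      ∀ K : Dual.D A, DRing.IsPerfect A K →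
        φ (clTr (fun K : Dual.D A => DRing.IsPerfect A K) K) =
          clTr (fun K : DCoh.D (Spec (CommRingCat.of A)) => DCoh.IsPerfect K)
            ((DCoh.tildeD (CommRingCat.of A)).obj K) := by
  obtain ⟨hfull, hfaith, -⟩ := Groth.Agent.S0997.result (CommRingCat.of A)
  haveI := hfull
  haveI := hfaith
  exact Groth.Agent.Lib.Helper16.K0Trans.main (DCoh.tildeD (CommRingCat.of A))
    (Groth.Agent.Lib.Helper8.KPerf.Pf A)
    (fun K : DCoh.D (Spec (CommRingCat.of A)) => DCoh.IsPerfect K)
    (fun K => (Groth.Agent.S1105.result A K).symm) (exists_preimage A)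

end Main

end Groth.Agent.Lib.Helper16.K0Spec
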