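import Groth.Prelude.Def_LambdaRing
import Mathlib.Data.Nat.Choose.Sum
import Mathlib.Tactic

/-!
# Basic identities in pre-λ-rings with `λ_t(1) = 1 + t` (helper16)
-/

set_option autoImplicit false
universe u
open Finset

namespace Groth.Agent.Lib.Helper16.LambdaBasic

open LambdaRing

variable {K : Type u} [CommRing K] [LambdaOps K]

lemma lam_zero_add_one (x : K) : LambdaOps.lam 0 (x + 1) = 1 := LambdaOps.lam_zero _

/-- Pascal rule: `λ^(k+1)(x + 1) = λ^(k+1)(x) + λ^k(x)`. -/
lemma lam_succ_add_one (h1 : ∀ k : ℕ, 2 ≤ k → LambdaOps.lam k (1 : K) = 0) (k : ℕ) (x : K) :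
    LambdaOps.lam (k + 1) (x + 1) = LambdaOps.lam (k + 1) x + LambdaOps.lam k x := by
  rw [LambdaOps.lam_add, Finset.sum_range_succ, Finset.sum_range_succ]
  have hz : ∑ i ∈ range k, LambdaOps.lam i x * LambdaOps.lam (k + 1 - i) (1 : K) = 0 := by
    apply Finset.sum_eq_zero
    intro i hi
    rw [Finset.mem_range] at hi
    rw [h1 (k + 1 - i) (by omega), mul_zero]
  rw [hz, zero_add]
  have e1 : k + 1 - k = 1 := by omega
  have e2 : k + 1 - (k + 1) = 0 := by omega
  rw [e1, e2, LambdaOps.lam_one, LambdaOps.lam_zero, mul_one, mul_one, add_comm]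

/-- `λ^k(x + m) = Σ_i λ^i(x) C(m, k - i)`. -/
lemma lam_add_natCast (h1 : ∀ k : ℕ, 2 ≤ k → LambdaOps.lam k (1 : K) = 0) (m : ℕ) :
    ∀ (k : ℕ) (x : K), LambdaOps.lam k (x + (m : K)) =
      ∑ i ∈ range (k + 1), LambdaOps.lam i x * (Nat.choose m (k - i) : K) := by
  induction m with
  | zero =>
    intro k x
    rw [Nat.cast_zero, add_zero, Finset.sum_range_succ]
    have hz : ∑ i ∈ range k, LambdaOps.lam i x * ((Nat.choose 0 (k - i) : ℕ) : K) = 0 := by
      apply Finset.sum_eq_zero
      intro i hi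
      rw [Finset.mem_range] at hi
      have : Nat.choose 0 (k - i) = 0 := Nat.choose_eq_zero_of_lt (by omega)
      rw [this, Nat.cast_zero, mul_zero]
    rw [hz, zero_add, Nat.sub_self, Nat.choose_zero_right, Nat.cast_one, mul_one]
  | succ m ih =>
    intro k x
    have hx : x + ((m + 1 : ℕ) : K) = (x + (m : K)) + 1 := by push_cast; ring
    rw [hx]
    cases k with
    | zero =>
      rw [LambdaOps.lam_zero]
      simp [LambdaOps.lam_zero]
    | succ k =>
      rw [lam_succ_add_one h1, ih (k + 1) x, ih k x]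
      rw [Finset.sum_range_succ (fun i => LambdaOps.lam i x * ((Nat.choose m (k + 1 - i) : ℕ) : K)),
        Finset.sum_range_succ (fun i => LambdaOps.lam i x * ((Nat.choose (m + 1) (k + 1 - i) : ℕ) : K))]
      have e2 : k + 1 - (k + 1) = 0 := by omega
      rw [e2, Nat.choose_zero_right, Nat.choose_zero_right]
      have : ∑ i ∈ range (k + 1), LambdaOps.lam i x * ((Nat.choose (m + 1) (k + 1 - i) : ℕ) : K) =
          ∑ i ∈ range (k + 1), LambdaOps.lam i x * ((Nat.choose m (k + 1 - i) : ℕ) : K) +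
            ∑ i ∈ range (k + 1), LambdaOps.lam i x * ((Nat.choose m (k - i) : ℕ) : K) := by
        rw [← Finset.sum_add_distrib]
        apply Finset.sum_congr rfl
        intro i hi
        rw [Finset.mem_range] at hi
        have e : k + 1 - i = (k - i) + 1 := by omega
        rw [e, Nat.choose_succ_succ]
        push_cast
        ring
      rw [this]
      ring

/-- Telescoping identity `Σ_{i ≤ n} (-1)^i λ^i(y + 1) = (-1)^n λ^n(y)`. -/
lemma alternating_sum_lam_add_one (h1 : ∀ k : ℕ, 2 ≤ k → LambdaOps.lam k (1 : K) = 0) (n : ℕ)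
    (y : K) : ∑ i ∈ range (n + 1), (-1 : K) ^ i * LambdaOps.lam i (y + 1) =
      (-1 : K) ^ n * LambdaOps.lam n y := by
  induction n with
  | zero => simp [LambdaOps.lam_zero]
  | succ n ih =>
    rw [Finset.sum_range_succ, ih, lam_succ_add_one h1]
    ring

end Groth.Agent.Lib.Helper16.LambdaBasic
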