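import Mathlib

/-!
# Rank of a matrix over a field via minors, and base change of the rank
-/

set_option autoImplicit false
universe u
open Module

namespace Groth.Agent.Lib.Helper16.MR

variable {K : Type*} [Field K]

/-- a matrix of rank at least `r` has `r` linearly independent columns. -/
lemma exists_linearIndependent_cols {m n : Type*} [Fintype m] [Fintype n] (M : Matrix m n K)
    (r : ℕ) (h : r ≤ M.rank) : ∃ I : Fin r → n, LinearIndependent K (fun k => M.col (I k)) := by
  have h' : r ≤ finrank K (Submodule.span K (Set.range M.col)) := by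
    rw [← Matrix.rank_eq_finrank_span_cols]; exact h
  obtain ⟨f, hf, -, hli⟩ := Submodule.exists_fun_fin_finrank_span_eq K (Set.range M.col)
  replace h := h'
  choose I₀ hI₀ using hf
  refine ⟨fun k => I₀ (Fin.castLE h k), ?_⟩
  have h1 : (fun k : Fin r => M.col (I₀ (Fin.castLE h k))) = f ∘ Fin.castLE h := by
    funext k; exact hI₀ _
  rw [h1]
  exact hli.comp _ (Fin.castLE_injective h)

/-- a matrix over a field of rank at least `r` has an invertible `r × r` minor. -/
theorem exists_minor_ne_zero {a b : ℕ} (A : Matrix (Fin b) (Fin a) K) (r : ℕ) (h : r ≤ A.rank) :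
    ∃ (I : Fin r → Fin a) (J : Fin r → Fin b), (A.submatrix J I).det ≠ 0 := by
  obtain ⟨I, hI⟩ := exists_linearIndependent_cols A r h
  let B : Matrix (Fin b) (Fin r) K := A.submatrix id I
  have hB : LinearIndependent K B.col := hI
  have hBr : B.rank = r := by
    rw [Matrix.rank_eq_finrank_span_cols, finrank_span_eq_card hB]; simp
  have hBt : r ≤ B.transpose.rank := by rw [Matrix.rank_transpose, hBr]
  obtain ⟨J, hJ⟩ := exists_linearIndependent_cols B.transpose r hBt
  refine ⟨I, J, ?_⟩
  have hD : LinearIndependent K (A.submatrix J I).transpose.col := hJ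
  rw [Matrix.linearIndependent_cols_iff_isUnit, Matrix.isUnit_iff_isUnit_det,
    Matrix.det_transpose] at hD
  exact hD.ne_zero

/-- **rank and base change**: the rank of the image of a matrix under a ring homomorphism to a
field is at least `r` iff some `r × r` minor has non-zero image. -/
theorem le_rank_map_iff {R : Type*} [CommRing R] (σ : R →+* K) {a b : ℕ}
    (A : Matrix (Fin b) (Fin a) R) (r : ℕ) :
    r ≤ (A.map σ).rank ↔ ∃ (I : Fin r → Fin a) (J : Fin r → Fin b), σ (A.submatrix J I).det ≠ 0 := by
  have key : ∀ (I : Fin r → Fin a) (J : Fin r → Fin b),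
      σ (A.submatrix J I).det = ((A.map σ).submatrix J I).det := by
    intro I J
    rw [RingHom.map_det]
    rfl
  constructor
  · intro h
    obtain ⟨I, J, hIJ⟩ := exists_minor_ne_zero (A.map σ) r h
    exact ⟨I, J, by rw [key]; exact hIJ⟩
  · rintro ⟨I, J, hIJ⟩
    rw [key] at hIJ
    have hu : IsUnit ((A.map σ).submatrix J I) := by
      rw [Matrix.isUnit_iff_isUnit_det]; exact hIJ.isUnit
    have h1 := Matrix.rank_of_isUnit _ hu
    have h2 := Matrix.rank_submatrix_le (A.map σ) J I
    simp only [Fintype.card_fin] at h1
    omega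

end Groth.Agent.Lib.Helper16.MR
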