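import Groth.Agent.Lib.Helper16.EC2
import Groth.Agent.Lib.Helper16.MR1

/-!
# Morphisms between free modules on a scheme as matrices of global functions
-/

set_option autoImplicit false
universe u
open CategoryTheory CategoryTheory.Limits AlgebraicGeometry TopologicalSpace Opposite

namespace Groth.Agent.Lib.Helper16.MR

open Groth.Agent.Lib.Helper29.FreeIso Groth.Agent.Lib.Helper28.QCohLoc
  Groth.Agent.Lib.Helper28.TwistGen Groth.Agent.Lib.Helper16.EC

variable {Y : Scheme.{u}}

/-- the inclusion of the `j`-th factor. -/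
noncomputable abbrev bι (Y : Scheme.{u}) (n : ℕ) (j : Fin n) : Coh.structureModule Y ⟶ B Y n :=
  biproduct.ι (fun _ : Fin n => Coh.structureModule Y) j

/-- the projection to the `j`-th factor. -/
noncomputable abbrev bπ (Y : Scheme.{u}) (n : ℕ) (j : Fin n) : B Y n ⟶ Coh.structureModule Y :=
  biproduct.π (fun _ : Fin n => Coh.structureModule Y) j

/-- the value of an endomorphism of the structure sheaf on `1`. -/
noncomputable def val1 (s : Coh.structureModule Y ⟶ Coh.structureModule Y) : Γ(Y, ⊤) :=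
  (show Γ(Y, ⊤) from s.app ⊤ (show Γ(Coh.structureModule Y, ⊤) from (1 : Γ(Y, ⊤))))

/-- multiplication by a global function, as an endomorphism of the structure sheaf. -/
noncomputable def mulO (c : Γ(Y, ⊤)) : Coh.structureModule Y ⟶ Coh.structureModule Y :=
  ofSection (Coh.structureModule Y) (show Γ(Coh.structureModule Y, ⊤) from c)

theorem val1_mulO (c : Γ(Y, ⊤)) : val1 (mulO c) = c := by
  unfold val1 mulO
  rw [ofSection_app_one, res_self]

theorem mulO_val1 (s : Coh.structureModule Y ⟶ Coh.structureModule Y) : mulO (val1 s) = s := by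
  apply hom_ext_unit
  exact val1_mulO (val1 s)

theorem app_eq_val1_mul (s : Coh.structureModule Y ⟶ Coh.structureModule Y) (c : Γ(Y, ⊤)) :
    (show Γ(Y, ⊤) from s.app ⊤ (show Γ(Coh.structureModule Y, ⊤) from c)) = c * val1 s := by
  have h1 : (show Γ(Coh.structureModule Y, ⊤) from c) =
      (c • (show Γ(Coh.structureModule Y, ⊤) from (1 : Γ(Y, ⊤))) : Γ(Coh.structureModule Y, ⊤)) :=
    (mul_one c).symm
  have h2 : s.app ⊤ (show Γ(Coh.structureModule Y, ⊤) from c) =
      (c • s.app ⊤ (show Γ(Coh.structureModule Y, ⊤) from (1 : Γ(Y, ⊤))) :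
        Γ(Coh.structureModule Y, ⊤)) := by
    conv_lhs => rw [h1]
    exact Scheme.Modules.Hom.app_smul s c _
  exact h2

/-- the matrix of a morphism of free modules. -/
noncomputable def mat {a b : ℕ} (φ : B Y a ⟶ B Y b) : Matrix (Fin b) (Fin a) Γ(Y, ⊤) :=
  fun k j => val1 (bι Y a j ≫ φ ≫ bπ Y b k)

/-- coordinates of a global section of a free module. -/
noncomputable def coord (n : ℕ) (z : Γ(B Y n, ⊤)) : Fin n → Γ(Y, ⊤) :=
  fun j => (show Γ(Y, ⊤) from (bπ Y n j).app ⊤ z)

theorem coord_injective (n : ℕ) : Function.Injective (coord (Y := Y) n) := by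
  intro z z' h
  rw [decomp n ⊤ z, decomp n ⊤ z']
  refine Finset.sum_congr rfl fun j _ => ?_
  congr 1
  exact congrFun h j

theorem coord_surjective (n : ℕ) : Function.Surjective (coord (Y := Y) n) := by
  intro c
  refine ⟨∑ j : Fin n, (bι Y n j).app ⊤ (show Γ(Coh.structureModule Y, ⊤) from c j), ?_⟩
  funext i
  unfold coord
  rw [app_sum]
  simp only [π_ι_app]
  exact (Finset.sum_ite_eq' Finset.univ i c).trans (by simp)

theorem coord_app {a b : ℕ} (φ : B Y a ⟶ B Y b) (z : Γ(B Y a, ⊤)) :
    coord b (φ.app ⊤ z) = (mat φ).mulVec (coord a z) := by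
  funext k
  unfold coord
  conv_lhs => rw [decomp a ⊤ z]
  rw [app_sum, app_sum]
  simp only [Matrix.mulVec, dotProduct]
  refine Finset.sum_congr rfl fun j _ => ?_
  have h := app_eq_val1_mul (bι Y a j ≫ φ ≫ bπ Y b k) ((show Γ(Y, ⊤) from (bπ Y a j).app ⊤ z))
  rw [mul_comm] at h
  exact h

/-- the map on global sections, as a linear map. -/
noncomputable def Lmap {M N : Y.Modules} (φ : M ⟶ N) : Γ(M, ⊤) →ₗ[Γ(Y, ⊤)] Γ(N, ⊤) where
  toFun := fun z => φ.app ⊤ z
  map_add' := fun z z' => map_add (ConcreteCategory.hom (φ.app ⊤)) z z'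
  map_smul' := fun c z => Scheme.Modules.Hom.app_smul φ c z

/-- coordinates, as a linear equivalence on global sections. -/
noncomputable def coordEquiv (n : ℕ) : Γ(B Y n, ⊤) ≃ₗ[Γ(Y, ⊤)] (Fin n → Γ(Y, ⊤)) :=
  LinearEquiv.ofBijective
    { toFun := fun z => coord n z
      map_add' := fun z z' => by
        funext j
        exact map_add (ConcreteCategory.hom ((bπ Y n j).app ⊤)) _ _
      map_smul' := fun c z => by
        funext j
        exact Scheme.Modules.Hom.app_smul (bπ Y n j) c z }
    ⟨coord_injective n, coord_surjective n⟩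

theorem coordEquiv_map {a b : ℕ} (φ : B Y a ⟶ B Y b) (z : Γ(B Y a, ⊤)) :
    coordEquiv b (Lmap φ z) = (mat φ).mulVecLin (coordEquiv a z) :=
  coord_app φ z

open Module in
lemma finrank_ker_mulVecLin_add_rank {R : Type*} [CommRing R] (hF : IsField R) {a b : ℕ}
    (A : Matrix (Fin b) (Fin a) R) :
    finrank R (LinearMap.ker A.mulVecLin) + A.rank = a := by
  letI : Field R := hF.toField
  have h3 : finrank R (LinearMap.range A.mulVecLin) + finrank R (LinearMap.ker A.mulVecLin) =
      finrank R (Fin a → R) := LinearMap.finrank_range_add_finrank_ker A.mulVecLin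
  have h4 : finrank R (Fin a → R) = a := Module.finrank_fin_fun R
  have h5 : A.rank = finrank R (LinearMap.range A.mulVecLin) := rfl
  omega

/-- **dimension of the kernel on global sections** in terms of the rank of the matrix. -/
theorem finrank_ker_Lmap (hF : IsField Γ(Y, ⊤)) {a b : ℕ} (φ : B Y a ⟶ B Y b) :
    Module.finrank Γ(Y, ⊤) (LinearMap.ker (Lmap φ)) + (mat φ).rank = a := by
  have h1 : LinearMap.ker (Lmap φ) =
      (LinearMap.ker (mat φ).mulVecLin).comap (coordEquiv a).toLinearMap := by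
    ext z
    simp only [LinearMap.mem_ker, Submodule.mem_comap, LinearEquiv.coe_coe]
    rw [← coordEquiv_map φ z]
    exact (LinearEquiv.map_eq_zero_iff (coordEquiv b)).symm
  have h2 : Module.finrank Γ(Y, ⊤) (LinearMap.ker (Lmap φ)) =
      Module.finrank Γ(Y, ⊤) (LinearMap.ker (mat φ).mulVecLin) := by
    rw [h1, Submodule.comap_equiv_eq_map_symm]
    exact LinearEquiv.finrank_map_eq (coordEquiv (Y := Y) a).symm _
  rw [h2]
  exact finrank_ker_mulVecLin_add_rank hF (mat φ)

end Groth.Agent.Lib.Helper16.MR
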