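import Groth.Agent.Lib.Helper16.MR2
import Groth.Agent.Lib.Helper16.RS6

/-!
# Pullback of morphisms between free modules: the matrix is the image matrix
-/

set_option autoImplicit false
universe u
open CategoryTheory CategoryTheory.Limits AlgebraicGeometry TopologicalSpace Opposite

namespace Groth.Agent.Lib.Helper16.MR

open Groth.Agent.Lib.Helper29.FreeIso Groth.Agent.Lib.Helper28.QCohLoc
  Groth.Agent.Lib.Helper28.TwistGen Groth.Agent.Lib.Helper16.EC Groth.Agent.Lib.Helper16.RS

variable {T W : Scheme.{u}} (g : T ⟶ W)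

set_option backward.isDefEq.respectTransparency.types false in
/-- the unit `O_W ⟶ g_* O_T`. -/
noncomputable def unitPush : Coh.structureModule W ⟶
    (Scheme.Modules.pushforward g).obj (Coh.structureModule T) :=
  SheafOfModules.unitToPushforwardObjUnit g.toRingCatSheafHom

set_option backward.isDefEq.respectTransparency.types false in
theorem pullbackUnitIso_hom_eq :
    (pullbackUnitIso g).hom =
      ((Scheme.Modules.pullbackPushforwardAdjunction g).homEquiv _ _).symm (unitPush g) := rfl

set_option backward.isDefEq.respectTransparency.types false in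
theorem unitPush_app_top (c : Γ(W, ⊤)) :
    (unitPush g).app ⊤ (show Γ(Coh.structureModule W, ⊤) from c) =
      (show Γ(Coh.structureModule T, ⊤) from g.appTop c) := rfl

theorem mulO_comp_unitPush (c : Γ(W, ⊤)) :
    mulO c ≫ unitPush g = unitPush g ≫ (Scheme.Modules.pushforward g).map (mulO (g.appTop c)) := by
  apply hom_ext_unit
  have h1 : (mulO c ≫ unitPush g).app ⊤ (1 : Γ(W, ⊤)) =
      (unitPush g).app ⊤ ((mulO c).app ⊤ (show Γ(Coh.structureModule W, ⊤) from (1 : Γ(W, ⊤)))) := rfl
  have h2 : (unitPush g ≫ (Scheme.Modules.pushforward g).map (mulO (g.appTop c))).app ⊤ (1 : Γ(W, ⊤)) =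
      (mulO (g.appTop c)).app ⊤ ((unitPush g).app ⊤
        (show Γ(Coh.structureModule W, ⊤) from (1 : Γ(W, ⊤)))) := rfl
  rw [h1, h2]
  have h3 : (mulO c).app ⊤ (show Γ(Coh.structureModule W, ⊤) from (1 : Γ(W, ⊤))) =
      (show Γ(Coh.structureModule W, ⊤) from c) := val1_mulO c
  rw [h3, unitPush_app_top, unitPush_app_top]
  have h4 : g.appTop (1 : Γ(W, ⊤)) = 1 := map_one _
  rw [h4]
  exact (val1_mulO (g.appTop c)).symm

/-- **pullback of multiplication by a function is multiplication by the pulled back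
function.** -/
theorem pullback_map_mulO (c : Γ(W, ⊤)) :
    (Scheme.Modules.pullback g).map (mulO c) ≫ (pullbackUnitIso g).hom =
      (pullbackUnitIso g).hom ≫ mulO (g.appTop c) := by
  rw [pullbackUnitIso_hom_eq, ← Adjunction.homEquiv_naturality_left_symm,
    ← Adjunction.homEquiv_naturality_right_symm, mulO_comp_unitPush]

/-- `g^*(O_W^n) ≅ O_T^n`. -/
noncomputable def θ (n : ℕ) : (Scheme.Modules.pullback g).obj (B W n) ≅ B T n :=
  (Scheme.Modules.pullback g).mapBiproduct (fun _ : Fin n => Coh.structureModule W) ≪≫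
    biproduct.mapIso (fun _ => pullbackUnitIso g)

theorem ι_θ_inv (n : ℕ) (j : Fin n) :
    bι T n j ≫ (θ g n).inv = (pullbackUnitIso g).inv ≫ (Scheme.Modules.pullback g).map (bι W n j) := by
  simp only [θ, bι, Iso.trans_inv, biproduct.mapIso_inv, Functor.mapBiproduct_inv]
  rw [biproduct.ι_map_assoc, biproduct.ι_desc]

theorem θ_hom_π (n : ℕ) (k : Fin n) :
    (θ g n).hom ≫ bπ T n k = (Scheme.Modules.pullback g).map (bπ W n k) ≫ (pullbackUnitIso g).hom := by
  simp only [θ, bπ, Iso.trans_hom, biproduct.mapIso_hom, Functor.mapBiproduct_hom, Category.assoc]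
  rw [biproduct.map_π]
  exact biproduct.lift_π_assoc _ _ _

/-- the pulled back morphism between free modules. -/
noncomputable def pb {a b : ℕ} (φ : B W a ⟶ B W b) : B T a ⟶ B T b :=
  (θ g a).inv ≫ (Scheme.Modules.pullback g).map φ ≫ (θ g b).hom

theorem comp_eq_mulO_mat {a b : ℕ} (φ : B W a ⟶ B W b) (j : Fin a) (k : Fin b) :
    bι W a j ≫ φ ≫ bπ W b k = mulO (mat φ k j) :=
  (mulO_val1 _).symm

/-- **the matrix of the pulled back morphism is the image of the matrix.** -/
theorem mat_pb {a b : ℕ} (φ : B W a ⟶ B W b) :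
    mat (pb g φ) = (mat φ).map g.appTop := by
  funext k j
  have h : bι T a j ≫ pb g φ ≫ bπ T b k = mulO (g.appTop (mat φ k j)) := by
    unfold pb
    simp only [Category.assoc]
    rw [θ_hom_π, ← Category.assoc, ← Category.assoc, ι_θ_inv]
    simp only [Category.assoc]
    rw [← Functor.map_comp_assoc, ← Functor.map_comp_assoc, Category.assoc, comp_eq_mulO_mat,
      pullback_map_mulO, Iso.inv_hom_id_assoc]
  show val1 _ = _
  rw [h, val1_mulO]
  rfl

/-- `le_rank_map_iff` for a ring which is a field. -/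
theorem le_rank_map_iff' {R K : Type*} [CommRing R] [CommRing K] (hK : IsField K) (σ : R →+* K)
    {a b : ℕ} (A : Matrix (Fin b) (Fin a) R) (r : ℕ) :
    r ≤ (A.map σ).rank ↔ ∃ (I : Fin r → Fin a) (J : Fin r → Fin b), σ (A.submatrix J I).det ≠ 0 := by
  letI : Field K := hK.toField
  exact le_rank_map_iff σ A r

/-- a function on a scheme whose ring of global functions is a field is non-zero iff the
basic open contains the given point. -/
theorem appTop_ne_zero_iff (hF : IsField Γ(T, ⊤)) (t₀ : T) (c : Γ(W, ⊤)) :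
    g.appTop c ≠ 0 ↔ g t₀ ∈ W.basicOpen c := by
  have h1 : g t₀ ∈ W.basicOpen c ↔ t₀ ∈ T.basicOpen (g.appTop c) := by
    have h := Scheme.preimage_basicOpen g c
    have h' : T.basicOpen (g.appTop c) = g ⁻¹ᵁ W.basicOpen c := h.symm
    rw [h']
    rfl
  rw [h1]
  constructor
  · intro h
    obtain ⟨d, hd⟩ := hF.mul_inv_cancel h
    have hu : IsUnit (g.appTop c) := IsUnit.of_mul_eq_one _ hd
    rw [Scheme.basicOpen_of_isUnit _ hu]
    trivial
  · intro h h0
    rw [h0, Scheme.basicOpen_zero] at h
    exact h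

end Groth.Agent.Lib.Helper16.MR
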