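import Groth.Agent.Lib.Helper23.CIProj.LaxNat
import Groth.Agent.Lib.Helper23.CIProj.UnitStalk

/-!
# Helper16 — PBM1: the oplax monoidal structure map `f^*(A ⊗ B) ⟶ f^*A ⊗ f^*B` of the pullback of
`O`-modules, its naturality, and its description on stalks
-/

set_option autoImplicit false
universe u
open CategoryTheory CategoryTheory.Limits TopologicalSpace Opposite AlgebraicGeometry MonoidalCategory

namespace Groth.Agent.Lib.Helper16.PBM
open Groth.Agent.Lib.Helper16.Stk Groth.Agent.Lib.Helper23.CIProj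

variable {X Y : Scheme.{u}} (f : X ⟶ Y)

/-- the pullback of modules (short name). -/
noncomputable abbrev pb : Y.Modules ⥤ X.Modules := Scheme.Modules.pullback f
/-- the pushforward of modules (short name). -/
noncomputable abbrev pf : X.Modules ⥤ Y.Modules := Scheme.Modules.pushforward f
/-- the adjunction (short name). -/
noncomputable abbrev adj : pb f ⊣ pf f := Scheme.Modules.pullbackPushforwardAdjunction f

/-- `η_A ⊗ η_B`. -/
noncomputable def etaTens (A B : Y.Modules) :
    tens A B ⟶ tens ((pf f).obj ((pb f).obj A)) ((pf f).obj ((pb f).obj B)) :=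
  (DCoh.tensorBi.map ((adj f).unit.app A)).app B ≫
    (DCoh.tensorBi.obj ((pf f).obj ((pb f).obj A))).map ((adj f).unit.app B)

/-- `A ⊗ B ⟶ f_*(f^*A ⊗ f^*B)`. -/
noncomputable def thetaAdj (A B : Y.Modules) :
    tens A B ⟶ (pf f).obj (tens ((pb f).obj A) ((pb f).obj B)) :=
  etaTens f A B ≫ lax f ((pb f).obj A) ((pb f).obj B)

/-- **the oplax monoidal structure map `f^*(A ⊗ B) ⟶ f^*A ⊗ f^*B`.** -/
noncomputable def theta (A B : Y.Modules) :
    (pb f).obj (tens A B) ⟶ tens ((pb f).obj A) ((pb f).obj B) :=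
  ((adj f).homEquiv _ _).symm (thetaAdj f A B)

lemma unit_comp_map_theta (A B : Y.Modules) :
    (adj f).unit.app (tens A B) ≫ (pf f).map (theta f A B) = thetaAdj f A B := by
  have h := (adj f).homEquiv_unit (X := tens A B) (Y := tens ((pb f).obj A) ((pb f).obj B))
    (f := theta f A B)
  exact h.symm.trans (Equiv.apply_symm_apply _ _)

lemma etaTens_natL {A A' : Y.Modules} (g : A ⟶ A') (B : Y.Modules) :
    (DCoh.tensorBi.map g).app B ≫ etaTens f A' B =
      etaTens f A B ≫ (DCoh.tensorBi.map ((pf f).map ((pb f).map g))).app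
        ((pf f).obj ((pb f).obj B)) := by
  unfold etaTens
  have h1 : (DCoh.tensorBi.map g).app B ≫ (DCoh.tensorBi.map ((adj f).unit.app A')).app B =
      (DCoh.tensorBi.map ((adj f).unit.app A)).app B ≫
        (DCoh.tensorBi.map ((pf f).map ((pb f).map g))).app B := by
    rw [← NatTrans.comp_app, ← Functor.map_comp, ← NatTrans.comp_app, ← Functor.map_comp]
    exact congrArg (fun t => (DCoh.tensorBi.map t).app B) ((adj f).unit.naturality g)
  have h2 : (DCoh.tensorBi.obj ((pf f).obj ((pb f).obj A))).map ((adj f).unit.app B) ≫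
      (DCoh.tensorBi.map ((pf f).map ((pb f).map g))).app ((pf f).obj ((pb f).obj B)) =
      (DCoh.tensorBi.map ((pf f).map ((pb f).map g))).app B ≫
        (DCoh.tensorBi.obj ((pf f).obj ((pb f).obj A'))).map ((adj f).unit.app B) :=
    (DCoh.tensorBi.map ((pf f).map ((pb f).map g))).naturality ((adj f).unit.app B)
  rw [reassoc_of% h1, Category.assoc, h2]

lemma etaTens_natR (A : Y.Modules) {B B' : Y.Modules} (g : B ⟶ B') :
    (DCoh.tensorBi.obj A).map g ≫ etaTens f A B' =
      etaTens f A B ≫ (DCoh.tensorBi.obj ((pf f).obj ((pb f).obj A))).map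
        ((pf f).map ((pb f).map g)) := by
  unfold etaTens
  have h1 : (DCoh.tensorBi.obj A).map g ≫ (DCoh.tensorBi.map ((adj f).unit.app A)).app B' =
      (DCoh.tensorBi.map ((adj f).unit.app A)).app B ≫
        (DCoh.tensorBi.obj ((pf f).obj ((pb f).obj A))).map g :=
    (DCoh.tensorBi.map ((adj f).unit.app A)).naturality g
  have h2 : (DCoh.tensorBi.obj ((pf f).obj ((pb f).obj A))).map g ≫
      (DCoh.tensorBi.obj ((pf f).obj ((pb f).obj A))).map ((adj f).unit.app B') =
      (DCoh.tensorBi.obj ((pf f).obj ((pb f).obj A))).map ((adj f).unit.app B) ≫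
        (DCoh.tensorBi.obj ((pf f).obj ((pb f).obj A))).map ((pf f).map ((pb f).map g)) := by
    rw [← Functor.map_comp, ← Functor.map_comp]
    exact congrArg (fun t => (DCoh.tensorBi.obj ((pf f).obj ((pb f).obj A))).map t)
      ((adj f).unit.naturality g)
  rw [reassoc_of% h1, h2, Category.assoc]

lemma thetaAdj_natL {A A' : Y.Modules} (g : A ⟶ A') (B : Y.Modules) :
    (DCoh.tensorBi.map g).app B ≫ thetaAdj f A' B =
      thetaAdj f A B ≫ (pf f).map ((DCoh.tensorBi.map ((pb f).map g)).app ((pb f).obj B)) := by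
  unfold thetaAdj
  rw [reassoc_of% (etaTens_natL f g B), Category.assoc]
  exact congrArg (fun t => etaTens f A B ≫ t) (lax_natL f ((pb f).map g) ((pb f).obj B))

lemma thetaAdj_natR (A : Y.Modules) {B B' : Y.Modules} (g : B ⟶ B') :
    (DCoh.tensorBi.obj A).map g ≫ thetaAdj f A B' =
      thetaAdj f A B ≫ (pf f).map ((DCoh.tensorBi.obj ((pb f).obj A)).map ((pb f).map g)) := by
  unfold thetaAdj
  rw [reassoc_of% (etaTens_natR f A g), Category.assoc]
  exact congrArg (fun t => etaTens f A B ≫ t) (lax_natR f ((pb f).obj A) ((pb f).map g))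

/-- `theta` is natural in the first variable. -/
theorem theta_natL {A A' : Y.Modules} (g : A ⟶ A') (B : Y.Modules) :
    (pb f).map ((DCoh.tensorBi.map g).app B) ≫ theta f A' B =
      theta f A B ≫ (DCoh.tensorBi.map ((pb f).map g)).app ((pb f).obj B) := by
  unfold theta
  rw [← Adjunction.homEquiv_naturality_left_symm, ← Adjunction.homEquiv_naturality_right_symm,
    thetaAdj_natL]

/-- `theta` is natural in the second variable. -/
theorem theta_natR (A : Y.Modules) {B B' : Y.Modules} (g : B ⟶ B') :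
    (pb f).map ((DCoh.tensorBi.obj A).map g) ≫ theta f A B' =
      theta f A B ≫ (DCoh.tensorBi.obj ((pb f).obj A)).map ((pb f).map g) := by
  unfold theta
  rw [← Adjunction.homEquiv_naturality_left_symm, ← Adjunction.homEquiv_naturality_right_symm,
    thetaAdj_natR]

end Groth.Agent.Lib.Helper16.PBM
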