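import Groth.Agent.Lib.Helper16.PBM1

/-!
# Helper16 — PBM2: `f^*(A ⊗ B) ⟶ f^*A ⊗ f^*B` on stalks; it is an isomorphism
-/

set_option autoImplicit false
universe u
open CategoryTheory CategoryTheory.Limits TopologicalSpace Opposite AlgebraicGeometry MonoidalCategory

namespace Groth.Agent.Lib.Helper16.PBM
open Groth.Agent.Lib.Helper16.Stk Groth.Agent.Lib.Helper23.CIProj

variable {X Y : Scheme.{u}} (f : X ⟶ Y) (x : X)

/-- extension of scalars along the stalk map (short name). -/
noncomputable abbrev es : ModuleCat.{u} (Y.presheaf.stalk (f x)) ⥤ ModuleCat.{u} (X.presheaf.stalk x) :=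
  ModuleCat.extendScalars.{u, u, u} (φs f x)

/-- the unit of the adjunction between extension and restriction of scalars (short name). -/
noncomputable abbrev erUnit (B : ModuleCat.{u} (Y.presheaf.stalk (f x))) :
    B ⟶ (rs (φs f x)).obj ((es f x).obj B) :=
  (ModuleCat.extendRestrictScalarsAdj.{u, u, u} (φs f x)).unit.app B

/-- the unit `A_{f x} ⟶ (f^* A)_x`, in two ways. -/
lemma erUnit_comp_inv (A : Y.Modules) :
    erUnit f x ((stk (f x)).obj A) ≫ (rs (φs f x)).map ((pullbackStkIso f x).inv.app A) =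
      (stk (f x)).map ((adj f).unit.app A) ≫ lam f x ((pb f).obj A) := by
  have h := stk_unit_formula f x A
  have h2 : (rs (φs f x)).map ((pullbackStkIso f x).hom.app A) ≫
      (rs (φs f x)).map ((pullbackStkIso f x).inv.app A) =
      𝟙 ((rs (φs f x)).obj ((stk x).obj ((pb f).obj A))) := by
    rw [← Functor.map_comp, Iso.hom_inv_id_app]
    exact CategoryTheory.Functor.map_id _ _
  calc erUnit f x ((stk (f x)).obj A) ≫ (rs (φs f x)).map ((pullbackStkIso f x).inv.app A)
      = ((stk (f x)).map ((adj f).unit.app A) ≫ lam f x ((pb f).obj A) ≫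
          (rs (φs f x)).map ((pullbackStkIso f x).hom.app A)) ≫
            (rs (φs f x)).map ((pullbackStkIso f x).inv.app A) := by rw [h]
    _ = (stk (f x)).map ((adj f).unit.app A) ≫ lam f x ((pb f).obj A) := by
        rw [Category.assoc, Category.assoc, h2, Category.comp_id]

/-- the adjoint of `theta` on stalks. -/
lemma stk_thetaAdj_lam (A B : Y.Modules) :
    (stalkTensorIso (f x) A B).hom ≫ (stk (f x)).map (thetaAdj f A B) ≫
        lam f x (tens ((pb f).obj A) ((pb f).obj B)) =
      (((stk (f x)).map ((adj f).unit.app A) ≫ lam f x ((pb f).obj A)) ⊗ₘ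
        ((stk (f x)).map ((adj f).unit.app B) ≫ lam f x ((pb f).obj B))) ≫
        kappaHom (φs f x) ((stk x).obj ((pb f).obj A)) ((stk x).obj ((pb f).obj B)) ≫
          (rs (φs f x)).map (stalkTensorIso x ((pb f).obj A) ((pb f).obj B)).hom := by
  have h1 := stalkTensorIso_natL (f x) ((adj f).unit.app A) B
  have h2 := stalkTensorIso_natR (f x) ((pf f).obj ((pb f).obj A)) ((adj f).unit.app B)
  have h3 := stk_lax_diagram f (M := (pb f).obj A) (N := (pb f).obj B) x
  unfold thetaAdj etaTens
  rw [Functor.map_comp, Functor.map_comp, Category.assoc, Category.assoc, ← reassoc_of% h1,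
    ← reassoc_of% h2, h3, ← tensorHom_comp_tensorHom, Category.assoc,
    MonoidalCategory.tensorHom_def ((stk (f x)).map ((adj f).unit.app A))
      ((stk (f x)).map ((adj f).unit.app B)), Category.assoc]
  rfl

section Alg

variable {R S : Type u} [CommRing R] [CommRing S] (φ : R →+* S)

/-- the oplax structure of extension of scalars and the lax structure of restriction of scalars. -/
lemma un_comp_map_δ (M N : ModuleCat.{u} R) {M' N' : ModuleCat.{u} S}
    (a : (ModuleCat.extendScalars.{u, u, u} φ).obj M ⟶ M')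
    (b : (ModuleCat.extendScalars.{u, u, u} φ).obj N ⟶ N') :
    un φ (M ⊗ N) ≫ (rs φ).map (Functor.OplaxMonoidal.δ (ModuleCat.extendScalars.{u, u, u} φ) M N) ≫
        (rs φ).map (a ⊗ₘ b) =
      ((un φ M ≫ (rs φ).map a) ⊗ₘ (un φ N ≫ (rs φ).map b)) ≫ kappaHom φ M' N' := by
  apply ModuleCat.MonoidalCategory.tensor_ext
  intro m n
  rfl

end Alg

/-- **`theta` on stalks is the oplax structure map of extension of scalars.** -/
theorem stk_theta_formula (A B : Y.Modules) :
    (es f x).map (stalkTensorIso (f x) A B).hom ≫ (pullbackStkIso f x).inv.app (tens A B) ≫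
        (stk x).map (theta f A B) =
      Functor.OplaxMonoidal.δ (es f x) ((stk (f x)).obj A) ((stk (f x)).obj B) ≫
        ((pullbackStkIso f x).inv.app A ⊗ₘ (pullbackStkIso f x).inv.app B) ≫
          (stalkTensorIso x ((pb f).obj A) ((pb f).obj B)).hom := by
  apply ((ModuleCat.extendRestrictScalarsAdj.{u, u, u} (φs f x)).homEquiv _ _).injective
  rw [Adjunction.homEquiv_unit, Adjunction.homEquiv_unit]
  have hL : erUnit f x ((stk (f x)).obj A ⊗ (stk (f x)).obj B) ≫
      (rs (φs f x)).map ((es f x).map (stalkTensorIso (f x) A B).hom ≫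
        (pullbackStkIso f x).inv.app (tens A B) ≫ (stk x).map (theta f A B)) =
      (stalkTensorIso (f x) A B).hom ≫ (stk (f x)).map (thetaAdj f A B) ≫
        lam f x (tens ((pb f).obj A) ((pb f).obj B)) := by
    have n1 : (stalkTensorIso (f x) A B).hom ≫ erUnit f x ((stk (f x)).obj (tens A B)) =
        erUnit f x ((stk (f x)).obj A ⊗ (stk (f x)).obj B) ≫
          (rs (φs f x)).map ((es f x).map (stalkTensorIso (f x) A B).hom) :=
      (ModuleCat.extendRestrictScalarsAdj.{u, u, u} (φs f x)).unit.naturality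
        (stalkTensorIso (f x) A B).hom
    have n2 := erUnit_comp_inv f x (tens A B)
    have n3 := lam_naturality f x (theta f A B)
    have n4 := unit_comp_map_theta f A B
    rw [Functor.map_comp, Functor.map_comp, ← reassoc_of% n1, reassoc_of% n2, ← n3,
      ← Functor.map_comp_assoc, n4]
  have hR := un_comp_map_δ (φs f x) ((stk (f x)).obj A) ((stk (f x)).obj B)
    ((pullbackStkIso f x).inv.app A) ((pullbackStkIso f x).inv.app B)
  refine hL.trans ?_
  rw [stk_thetaAdj_lam, ← erUnit_comp_inv, ← erUnit_comp_inv, ← reassoc_of% hR,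
    ← Functor.map_comp, ← Functor.map_comp]

/-- `theta` is an isomorphism on stalks. -/
theorem isIso_stk_theta (A B : Y.Modules) : IsIso ((stk x).map (theta f A B)) := by
  have h := stk_theta_formula f x A B
  have e : (stk x).map (theta f A B) =
      (pullbackStkIso f x).hom.app (tens A B) ≫
        (es f x).map (stalkTensorIso (f x) A B).inv ≫
          Functor.OplaxMonoidal.δ (es f x) ((stk (f x)).obj A) ((stk (f x)).obj B) ≫
            ((pullbackStkIso f x).inv.app A ⊗ₘ (pullbackStkIso f x).inv.app B) ≫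
              (stalkTensorIso x ((pb f).obj A) ((pb f).obj B)).hom := by
    rw [← h, ← Functor.map_comp_assoc, Iso.inv_hom_id, CategoryTheory.Functor.map_id,
      Category.id_comp, Iso.hom_inv_id_app_assoc]
  rw [e]
  infer_instance

/-- **the pullback of modules commutes with tensor products**: `f^*(A ⊗ B) ⟶ f^*A ⊗ f^*B` is an
isomorphism. -/
instance isIso_theta (A B : Y.Modules) : IsIso (theta f A B) :=
  Groth.Agent.Lib.Helper23.CIProj.isIso_of_forall_stalk _ (fun x => isIso_stk_theta f x A B)

/-- the isomorphism `f^*A ⊗ f^*B ≅ f^*(A ⊗ B)`. -/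
noncomputable def muIso (A B : Y.Modules) :
    (DCoh.tensorBi.obj ((pb f).obj A)).obj ((pb f).obj B) ≅ (pb f).obj ((DCoh.tensorBi.obj A).obj B) :=
  (asIso (theta f A B)).symm

lemma muIso_natL {A A' : Y.Modules} (g : A ⟶ A') (B : Y.Modules) :
    (DCoh.tensorBi.map ((pb f).map g)).app ((pb f).obj B) ≫ (muIso f A' B).hom =
      (muIso f A B).hom ≫ (pb f).map ((DCoh.tensorBi.map g).app B) := by
  change _ ≫ inv (theta f A' B) = inv (theta f A B) ≫ _
  rw [IsIso.comp_inv_eq, Category.assoc, IsIso.eq_inv_comp]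
  exact (theta_natL f g B).symm

lemma muIso_natR (A : Y.Modules) {B B' : Y.Modules} (g : B ⟶ B') :
    (DCoh.tensorBi.obj ((pb f).obj A)).map ((pb f).map g) ≫ (muIso f A B').hom =
      (muIso f A B).hom ≫ (pb f).map ((DCoh.tensorBi.obj A).map g) := by
  change _ ≫ inv (theta f A B') = inv (theta f A B) ≫ _
  rw [IsIso.comp_inv_eq, Category.assoc, IsIso.eq_inv_comp]
  exact (theta_natR f A g).symm

end Groth.Agent.Lib.Helper16.PBM
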