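import Groth.Agent.Lib.Helper16.PBM2
import Groth.Agent.Lib.Helper16.BiCx7
import Groth.Agent.Lib.Helper16.KD12
import Groth.Agent.Lib.Helper16.KD3
import Groth.Agent.Lib.Helper16.TA4
import Groth.Agent.Lib.Helper16.Fl2

/-!
# Helper16 — PBM3: pullback commutes with the tensor product of complexes; `Lf^*(K ⊗^L L) ≅ Lf^*K ⊗^L f^*L`
-/

set_option autoImplicit false
universe u
open CategoryTheory CategoryTheory.Limits AlgebraicGeometry MonoidalCategory

attribute [local instance] HasDerivedCategory.standard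

namespace Groth.Agent.Lib.Helper16.PBM
open Groth.Agent.Lib.Helper16.Stk Groth.Agent.Lib.Helper16.BiCx Groth.Agent.Lib.Helper16.KD

variable {X Y : Scheme.{u}} (f : X ⟶ Y)

/-- **the pullback commutes with the tensor product of complexes.** -/
noncomputable def tensorPullCxIso (L K : CochainComplex Y.Modules ℤ) :
    T (DCoh.tensorBi (X := X)) ((pullCx f).obj L) ((pullCx f).obj K) ≅
      (pullCx f).obj (T (DCoh.tensorBi (X := Y)) L K) :=
  cmpIso (DCoh.tensorBi (X := Y)) (DCoh.tensorBi (X := X)) (pb f) (pb f) (pb f) (muIso f)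
    (fun g N => muIso_natL f g N) (fun M _ _ g => muIso_natR f M g) L K

/-- the tensor product of K-flat complexes is K-flat. -/
theorem isKFlat_tensorCx (P L : CochainComplex Y.Modules ℤ) (hP : DCoh.IsKFlat P)
    (hL : DCoh.IsKFlat L) : DCoh.IsKFlat ((DCoh.tensorCx.obj P).obj L) := by
  intro F hF i
  have h := hL _ (hP F hF) i
  exact h.of_iso ((HomologicalComplex.homologyFunctor _ _ i).mapIso
    (Groth.Agent.Lib.Helper16.TA.assocCx F P L).symm)

/-- **`Lf^*(K ⊗^L L) ≅ Lf^*K ⊗^L f^*L` for a K-flat complex `L`.** -/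
theorem nonempty_Lpull_LTensorCx_iso [DCoh.HasLpull f] (L : CochainComplex Y.Modules ℤ)
    (hL : DCoh.IsKFlat L) [DCoh.HasLTensorCx L] [DCoh.HasLTensorCx ((pullCx f).obj L)]
    (K : DCoh.D Y) :
    Nonempty ((DCoh.Lpull f).obj ((DCoh.LTensorCx L).obj K) ≅
      (DCoh.LTensorCx ((pullCx f).obj L)).obj ((DCoh.Lpull f).obj K)) := by
  obtain ⟨P, p, hP, -, hp, -⟩ := exists_kFlat_resolution (DerivedCategory.Q.objPreimage K)
  haveI := hp
  have e : DerivedCategory.Q.obj P ≅ K :=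
    asIso (DerivedCategory.Q.map p) ≪≫ DerivedCategory.Q.objObjPreimageIso K
  have hPL : DCoh.IsKFlat ((DCoh.tensorCx.obj P).obj L) := isKFlat_tensorCx P L hP hL
  have hfP : DCoh.IsKFlat ((pullCx f).obj P) := pullback_isKFlat f P hP
  exact ⟨(DCoh.Lpull f).mapIso ((DCoh.LTensorCx L).mapIso e.symm ≪≫ LTensorCxIso L P hP) ≪≫
    LpullIso f _ hPL ≪≫ DerivedCategory.Q.mapIso (tensorPullCxIso f P L).symm ≪≫
    (LTensorCxIso ((pullCx f).obj L) ((pullCx f).obj P) hfP).symm ≪≫
    (DCoh.LTensorCx ((pullCx f).obj L)).mapIso ((LpullIso f P hP).symm ≪≫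
      (DCoh.Lpull f).mapIso e)⟩

end Groth.Agent.Lib.Helper16.PBM
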