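import Mathlib
import Groth.Agent.Lib.Helper8.Perf2

/-!
# Helper16 — PCohAbs: abstract "liftable" classes of objects in an abelian category.
-/

open CategoryTheory CategoryTheory.Limits

namespace Groth.Agent.Lib.Helper16.PCohAbs

universe v u

variable {C : Type u} [Category.{v} C] [Abelian C] (P : ObjectProperty C)

/-- if every epimorphism onto an object of the class splits, objects of the class are projective. -/
lemma projective_of_hlift (hlift : ∀ (E F : C) (u : E ⟶ F), Epi u → P F → IsSplitEpi u) (X : C)
    (hX : P X) : Projective X := by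
  constructor
  intro E Y f e he
  have : Epi (pullback.snd e f) := inferInstance
  obtain ⟨⟨s, hs⟩⟩ := hlift _ _ (pullback.snd e f) inferInstance hX
  exact ⟨s ≫ pullback.fst e f, by
    rw [Category.assoc, pullback.condition, ← Category.assoc, hs, Category.id_comp]⟩

lemma biprod_of_hsum [P.IsClosedUnderIsomorphisms] (hsum : ∀ X Y : C, P X → P Y → P (X ⨯ Y))
    (X Y : C) (hX : P X) (hY : P Y) : P (X ⊞ Y) :=
  P.prop_of_iso (biprod.isoProd X Y).symm (hsum X Y hX hY)

end Groth.Agent.Lib.Helper16.PCohAbs
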