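import Mathlib
import Groth.Agent.Lib.Helper16.PCohAbs
import Groth.Agent.Lib.Helper16.PC7f
import Groth.Agent.Lib.Helper16.CycProp3

/-!
# Helper16 — PCohAbs2: liftable classes stable under kernels of epimorphisms: covers, and
truncated representatives.
-/

open CategoryTheory CategoryTheory.Limits DerivedCategory

namespace Groth.Agent.Lib.Helper16.PCohAbs

open Groth.Agent.Lib.Helper16.PC Groth.Agent.Lib.Helper16.CycProp

universe w v u

variable {C : Type u} [Category.{v} C] [Abelian C] [HasDerivedCategory.{w} C]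
  (P : ObjectProperty C) [P.IsClosedUnderIsomorphisms] [P.ContainsZero]

lemma cover_of_hst (hst : ∀ (E F : C) (u : E ⟶ F), Epi u → P E → P F → P (kernel u))
    (n : ℤ) (W : DerivedCategory C) (hW : W.IsLE n) (hWpc : IsPC P n W) :
    ∃ (F : C) (_ : P F) (π : F ⟶ (homologyFunctor C n).obj W), Epi π := by
  obtain ⟨E, a, b, α, hE, hpc, hgood⟩ := hWpc
  have hex : ∀ i : ℤ, n < i → E.ExactAt i := fun i hi => by
    rw [HomologicalComplex.exactAt_iff_isZero_homology]
    have := hgood.1 i hi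
    exact ((isLE_iff W n).1 hW i hi).of_iso
      (((homologyFunctorFactors C i).app E).symm ≪≫ asIso ((homologyFunctor C i).map α))
  have hZ : P (E.cycles n) := prop_cycles P (fun X hX => P.prop_of_isZero hX) hst E n b
    (fun i hi => hE i (Or.inr hi)) hex (fun i _ => hpc i) n le_rfl
  have h1 := hgood.2
  have h2 : Epi (((homologyFunctorFactors C n).app E).inv ≫ (homologyFunctor C n).map α) :=
    @epi_comp _ _ _ _ _ _ inferInstance _ h1
  exact ⟨E.cycles n, hZ, E.homologyπ n ≫ ((homologyFunctorFactors C n).app E).inv ≫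
    (homologyFunctor C n).map α, @epi_comp _ _ _ _ _ _ inferInstance _ h2⟩

/-- a complex with cohomology in `[a, b]` which is `(a-1)`-pseudo-coherent is represented by a
complex concentrated in `[a, b]` whose terms in degrees `> a` are in the class. -/
theorem exists_truncated_rep (hsum : ∀ X Y : C, P X → P Y → P (X ⨯ Y))
    (hlift : ∀ (E F : C) (u : E ⟶ F), Epi u → P F → IsSplitEpi u)
    (hst : ∀ (E F : C) (u : E ⟶ F), Epi u → P E → P F → P (kernel u))
    (L : CochainComplex C ℤ) (a b : ℤ) (hab : a ≤ b)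
    (hge : (Q.obj L).IsGE a) (hle : (Q.obj L).IsLE b) (hpc : IsPC P (a - 1) (Q.obj L)) :
    ∃ G : CochainComplex C ℤ, (∀ i : ℤ, i < a ∨ b < i → IsZero (G.X i)) ∧
      (∀ i : ℤ, a < i → P (G.X i)) ∧ Nonempty (Q.obj G ≅ Q.obj L) := by
  obtain ⟨E₁, f₁, hE₁, hpc₁, hgood⟩ := IsPC.exists_bounded (projective_of_hlift P hlift)
    (biprod_of_hsum P hsum) (fun X Y e h => P.prop_of_iso e h) (fun X hX => P.prop_of_isZero hX)
    (cover_of_hst P hst) L b hle (a - 1) (by omega) hpc
  have hqi : ∀ i : ℤ, a ≤ i → QuasiIsoAt f₁ i := fun i hi => by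
    have h3 := hgood.1 i (by omega)
    rw [quasiIsoAt_iff_isIso_homologyMap]
    exact (NatIso.isIso_map_iff (homologyFunctorFactors _ i) f₁).1 h3
  have hq1 : QuasiIso (CochainComplex.truncGEMap f₁ a) :=
    (CochainComplex.quasiIso_truncGEMap_iff f₁ a).2 hqi
  have hLge : L.IsGE a := (isGE_Q_obj_iff L a).1 hge
  have hq2 : QuasiIso (L.πTruncGE a) := inferInstance
  have h1 : IsIso (Q.map (CochainComplex.truncGEMap f₁ a)) := by
    rw [isIso_Q_map_iff_quasiIso]; exact hq1
  have h2 : IsIso (Q.map (L.πTruncGE a)) := by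
    rw [isIso_Q_map_iff_quasiIso]; exact hq2
  refine ⟨E₁.truncGE a, fun i hi => ?_, fun i hi => ?_,
    ⟨asIso (Q.map (CochainComplex.truncGEMap f₁ a)) ≪≫ (asIso (Q.map (L.πTruncGE a))).symm⟩⟩
  · rcases hi with hi | hi
    · exact (E₁.truncGE a).isZero_of_isStrictlyGE a i hi
    · exact (hE₁ i (Or.inr hi)).of_iso (E₁.truncGEXIso a i (by omega))
  · exact P.prop_of_iso (E₁.truncGEXIso a i hi).symm (hpc₁ i)

end Groth.Agent.Lib.Helper16.PCohAbs
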