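import Mathlib
import Groth.Agent.Lib.Helper16.PCohAbs2
import Groth.Agent.S5621

/-!
# Helper16 — PCohAbs3: perfect amplitude in `[a, b]` relative to a liftable class stable under kernels
of epimorphisms: direct sums and direct summands.
-/

open CategoryTheory CategoryTheory.Limits DerivedCategory

namespace Groth.Agent.Lib.Helper16.PCohAbs

open Groth.Agent.Lib.Helper16.PC Groth.Agent.Lib.Helper16.CycProp

universe w v u

variable {C : Type u} [Category.{v} C] [Abelian C] [HasDerivedCategory.{w} C]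
  (P : ObjectProperty C) [P.IsClosedUnderIsomorphisms] [P.ContainsZero]

/-- `F` is isomorphic to a complex with terms in `P` vanishing outside `[a, b]`. -/
def PerfAmp (a b : ℤ) (F : DerivedCategory C) : Prop :=
  ∃ E : CochainComplex C ℤ, (∀ i : ℤ, P (E.X i)) ∧ (∀ i : ℤ, i < a ∨ b < i → IsZero (E.X i)) ∧
    Nonempty (Q.obj E ≅ F)

omit [HasDerivedCategory C] [P.IsClosedUnderIsomorphisms] [P.ContainsZero] in
lemma isZero_biprod {X Y : C} (hX : IsZero X) (hY : IsZero Y) : IsZero (X ⊞ Y) := by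
  rw [IsZero.iff_id_eq_zero]
  exact biprod.hom_ext _ _ (hX.eq_of_tgt _ _) (hY.eq_of_tgt _ _)

/-- terms of a biproduct of complexes. -/
noncomputable def biprodXIso (E' E'' : CochainComplex C ℤ) (i : ℤ) :
    (E' ⊞ E'').X i ≅ E'.X i ⊞ E''.X i :=
  (HomologicalComplex.eval C (ComplexShape.up ℤ) i).mapBiprod E' E''

attribute [local instance] preservesBinaryBiproducts_of_preservesBiproducts in
lemma PerfAmp.biprod (hsum : ∀ X Y : C, P X → P Y → P (X ⨯ Y)) {a b : ℤ}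
    {F' F'' : DerivedCategory C} [HasBinaryBiproduct F' F''] (h' : PerfAmp P a b F')
    (h'' : PerfAmp P a b F'') : PerfAmp P a b (F' ⊞ F'') := by
  obtain ⟨E', hP', hv', ⟨e'⟩⟩ := h'
  obtain ⟨E'', hP'', hv'', ⟨e''⟩⟩ := h''
  refine ⟨E' ⊞ E'', fun i => ?_, fun i hi => ?_, ⟨Q.mapBiprod E' E'' ≪≫ biprod.mapIso e' e''⟩⟩
  · exact P.prop_of_iso (biprodXIso E' E'' i).symm (biprod_of_hsum P hsum _ _ (hP' i) (hP'' i))
  · exact (isZero_biprod (hv' i hi) (hv'' i hi)).of_iso (biprodXIso E' E'' i)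

omit [P.IsClosedUnderIsomorphisms] [P.ContainsZero] in
lemma isZero_homology_of_retract {F G : DerivedCategory C} (r : F ⟶ G) (s : G ⟶ F)
    (hrs : r ≫ s = 𝟙 F) (i : ℤ) (hG : IsZero ((homologyFunctor C i).obj G)) :
    IsZero ((homologyFunctor C i).obj F) := by
  rw [IsZero.iff_id_eq_zero, ← CategoryTheory.Functor.map_id, ← hrs, Functor.map_comp,
    hG.eq_of_tgt ((homologyFunctor C i).map r) 0, zero_comp]

theorem PerfAmp.truncated_of_retract (hsum : ∀ X Y : C, P X → P Y → P (X ⨯ Y))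
    (hlift : ∀ (E F : C) (u : E ⟶ F), Epi u → P F → IsSplitEpi u)
    (hst : ∀ (E F : C) (u : E ⟶ F), Epi u → P E → P F → P (kernel u))
    {a b : ℤ} (hab : a ≤ b) {F G : DerivedCategory C} (hG : PerfAmp P a b G)
    (r : F ⟶ G) (s : G ⟶ F) (hrs : r ≫ s = 𝟙 F) :
    ∃ G' : CochainComplex C ℤ, (∀ i : ℤ, i < a ∨ b < i → IsZero (G'.X i)) ∧
      (∀ i : ℤ, a < i → P (G'.X i)) ∧ Nonempty (Q.obj G' ≅ F) := by
  obtain ⟨E, hPE, hvE, ⟨e⟩⟩ := hG
  have hGpc : ∀ m : ℤ, IsPC P m G := fun m => ⟨E, a, b, e.hom, hvE, hPE, good_of_isIso m _⟩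
  have hFpc : IsPC P (a - 1) F := IsPC.of_retract (projective_of_hlift P hlift)
    (biprod_of_hsum P hsum) (fun X Y e h => P.prop_of_iso e h) (fun X hX => P.prop_of_isZero hX)
    r s hrs (hGpc _)
  have hEle : E.IsStrictlyLE b :=
    (CochainComplex.isStrictlyLE_iff _ _).2 (fun i hi => hvE i (Or.inr hi))
  have hEge : E.IsStrictlyGE a :=
    (CochainComplex.isStrictlyGE_iff _ _).2 (fun i hi => hvE i (Or.inl hi))
  have hQle : (Q.obj E).IsLE b := by
    rw [isLE_Q_obj_iff]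
    infer_instance
  have hQge : (Q.obj E).IsGE a := by
    rw [isGE_Q_obj_iff]
    infer_instance
  have hGle : G.IsLE b := (TStructure.t).isLE_of_iso e b
  have hGge : G.IsGE a := (TStructure.t).isGE_of_iso e a
  have hFle : F.IsLE b := (isLE_iff F b).2 (fun i hi =>
    isZero_homology_of_retract r s hrs i ((isLE_iff G b).1 hGle i hi))
  have hFge : F.IsGE a := (isGE_iff F a).2 (fun i hi =>
    isZero_homology_of_retract r s hrs i ((isGE_iff G a).1 hGge i hi))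
  have eL : Q.obj (Q.objPreimage F) ≅ F := Q.objObjPreimageIso F
  obtain ⟨G', h1, h2, ⟨e'⟩⟩ := exists_truncated_rep P hsum hlift hst (Q.objPreimage F) a b hab
    ((TStructure.t).isGE_of_iso eL.symm a) ((TStructure.t).isLE_of_iso eL.symm b)
    (hFpc.of_iso eL.symm)
  exact ⟨G', h1, h2, ⟨e' ≪≫ eL⟩⟩

attribute [local instance] preservesBinaryBiproducts_of_preservesBiproducts in
theorem PerfAmp.of_biprod (hsum : ∀ X Y : C, P X → P Y → P (X ⨯ Y))
    (hlift : ∀ (E F : C) (u : E ⟶ F), Epi u → P F → IsSplitEpi u)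
    (hst : ∀ (E F : C) (u : E ⟶ F), Epi u → P E → P F → P (kernel u))
    (hfac : ∀ (E' E'' : C) [HasBinaryBiproduct E' E''], P (E' ⊞ E'') → P E' ∧ P E'')
    {a b : ℤ} (hab : a ≤ b) {F' F'' : DerivedCategory C} [HasBinaryBiproduct F' F'']
    (h : PerfAmp P a b (F' ⊞ F'')) : PerfAmp P a b F' ∧ PerfAmp P a b F'' := by
  obtain ⟨G', h1', h2', ⟨e'⟩⟩ := PerfAmp.truncated_of_retract P hsum hlift hst hab h
    biprod.inl biprod.fst biprod.inl_fst
  obtain ⟨G'', h1'', h2'', ⟨e''⟩⟩ := PerfAmp.truncated_of_retract P hsum hlift hst hab h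
    biprod.inr biprod.snd biprod.inr_snd
  obtain ⟨E, hPE, hvE, ⟨e⟩⟩ := h
  have eG : Q.obj (G' ⊞ G'') ≅ F' ⊞ F'' := Q.mapBiprod G' G'' ≪≫ biprod.mapIso e' e''
  have hGa : P ((G' ⊞ G'').X a) := Groth.Agent.S5621.result P hsum hlift hst a b hab (G' ⊞ G'')
    (fun i hi => (isZero_biprod (h1' i hi) (h1'' i hi)).of_iso (biprodXIso G' G'' i))
    (fun i hi => P.prop_of_iso (biprodXIso G' G'' i).symm
      (biprod_of_hsum P hsum _ _ (h2' i hi) (h2'' i hi)))
    ⟨E, hPE, hvE, ⟨e ≪≫ eG.symm⟩⟩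
  have h3 := hfac _ _ (P.prop_of_iso (biprodXIso G' G'' a) hGa)
  refine ⟨⟨G', fun i => ?_, h1', ⟨e'⟩⟩, ⟨G'', fun i => ?_, h1'', ⟨e''⟩⟩⟩
  · rcases lt_trichotomy i a with hi | hi | hi
    · exact P.prop_of_isZero (h1' i (Or.inl hi))
    · subst hi; exact h3.1
    · exact h2' i hi
  · rcases lt_trichotomy i a with hi | hi | hi
    · exact P.prop_of_isZero (h1'' i (Or.inl hi))
    · subst hi; exact h3.2
    · exact h2'' i hi

end Groth.Agent.Lib.Helper16.PCohAbs
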