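import Mathlib
import Groth.Agent.Lib.Helper16.LocFree1
import Groth.Agent.Lib.Helper1.LocPC3
import Groth.Agent.Lib.Helper16.RS3

/-!
# Helper16 — PerfAmp1: truncating a strictly perfect complex from above

If a complex of finite locally free modules, bounded above, is exact in degrees `> n`, then its
cycles in degrees `≥ n` are finite locally free and the canonical truncation `τ_{≤ n}` is a complex
of finite locally free modules, quasi-isomorphic to the original complex.
-/

set_option autoImplicit false
universe u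
open CategoryTheory CategoryTheory.Limits AlgebraicGeometry

namespace Groth.Agent.Lib.Helper16.PerfAmp

open Groth.Agent.Lib.Helper16.LocFree Groth.Agent.Lib.Helper1.LocPC Groth.Agent.Lib.Helper16.RS

variable {V : Scheme.{u}}

lemma isZero_cycles_of_isZero (E : CochainComplex V.Modules ℤ) (k : ℤ) (h : IsZero (E.X k)) :
    IsZero (E.cycles k) := IsZero.of_mono (E.iCycles k) h

/-- `Z^k` as the kernel of `E^k ⟶ Z^{k+1}`. -/
noncomputable def cyclesIsoKernelToCycles (E : CochainComplex V.Modules ℤ) (k : ℤ) :
    E.cycles k ≅ kernel (E.toCycles k (k + 1)) := by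
  have hf : E.iCycles k ≫ E.toCycles k (k + 1) = 0 := by
    rw [← cancel_mono (E.iCycles (k + 1)), Category.assoc, HomologicalComplex.toCycles_i,
      HomologicalComplex.iCycles_d, zero_comp]
  exact IsLimit.conePointUniqueUpToIso
    (isKernelOfComp (f := E.toCycles k (k + 1)) (E.iCycles (k + 1)) (E.d k (k + 1))
      (E.cyclesIsKernel k (k + 1) (by simp)) hf (E.toCycles_i k (k + 1)))
    (limit.isLimit _)

lemma epi_toCycles (E : CochainComplex V.Modules ℤ) (k : ℤ) (h : E.ExactAt (k + 1)) :
    Epi (E.toCycles k (k + 1)) :=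
  Preadditive.epi_of_isZero_cokernel' _ (E.homologyIsCokernel k (k + 1) (by simp))
    ((HomologicalComplex.exactAt_iff_isZero_homology _ _).1 h)

/-- descending induction: the cycles above the exactness bound are finite locally free. -/
lemma isFinLocFree_cycles_aux (E : CochainComplex V.Modules ℤ)
    (hfree : ∀ i : ℤ, FlatMod.IsFinLocFree (E.X i)) (b' n : ℤ)
    (hb : ∀ i : ℤ, b' < i → IsZero (E.X i)) (hex : ∀ i : ℤ, n < i → E.ExactAt i) :
    ∀ (t : ℕ) (k : ℤ), n ≤ k → b' + 1 ≤ k + t → FlatMod.IsFinLocFree (E.cycles k) := by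
  intro t
  induction t with
  | zero =>
    intro k _ hk
    exact isFinLocFree_of_isZero _ (isZero_cycles_of_isZero E k (hb k (by omega)))
  | succ t ih =>
    intro k hnk hk
    haveI := epi_toCycles E k (hex (k + 1) (by omega))
    have h1 : FlatMod.IsFinLocFree (E.cycles (k + 1)) := ih (k + 1) (by omega) (by push_cast at hk; omega)
    exact isFinLocFree_of_iso (cyclesIsoKernelToCycles E k).symm
      (isFinLocFree_kernel_of_epi (E.toCycles k (k + 1)) (hfree k) h1)

theorem isFinLocFree_cycles (E : CochainComplex V.Modules ℤ)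
    (hfree : ∀ i : ℤ, FlatMod.IsFinLocFree (E.X i)) (b' n : ℤ)
    (hb : ∀ i : ℤ, b' < i → IsZero (E.X i)) (hex : ∀ i : ℤ, n < i → E.ExactAt i) :
    FlatMod.IsFinLocFree (E.cycles n) :=
  isFinLocFree_cycles_aux E hfree b' n hb hex (b' + 1 - n).toNat n le_rfl (by
    have := Int.self_le_toNat (b' + 1 - n)
    omega)

/-- **truncation from above** of a bounded complex of finite locally free modules which is exact in
degrees `> n`. -/
theorem truncLE_strictlyPerfect (E : CochainComplex V.Modules ℤ)
    (hfree : ∀ i : ℤ, FlatMod.IsFinLocFree (E.X i)) (m b' n : ℤ) (hmn : m ≤ n)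
    (hm : ∀ i : ℤ, i < m → IsZero (E.X i)) (hb : ∀ i : ℤ, b' < i → IsZero (E.X i))
    (hex : ∀ i : ℤ, n < i → E.ExactAt i) :
    DCoh.VanishesOutside (E.truncLE n) m n ∧
      (∀ i : ℤ, FlatMod.IsFinLocFree ((E.truncLE n).X i)) ∧ QuasiIso (E.ιTruncLE n) := by
  refine ⟨fun i hi => ?_, fun i => ?_, ?_⟩
  · rcases hi with hi | hi
    · exact (hm i hi).of_iso (E.truncLEXIso n i (by omega))
    · exact (E.truncLE n).isZero_of_isStrictlyLE n i hi
  · rcases lt_trichotomy i n with h | h | h
    · exact isFinLocFree_of_iso (E.truncLEXIso n i h).symm (hfree i)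
    · subst h
      exact isFinLocFree_of_iso (E.truncLEXIsoCycles i).symm
        (isFinLocFree_cycles E hfree b' i hb hex)
    · exact isFinLocFree_of_isZero _ ((E.truncLE n).isZero_of_isStrictlyLE n i h)
  · rw [CochainComplex.quasiIso_ιTruncLE_iff]
    exact (CochainComplex.isLE_iff E n).2 hex

end Groth.Agent.Lib.Helper16.PerfAmp
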