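import Mathlib
import Groth.Agent.Lib.Helper16.PCohAbs3
import Groth.Agent.S2068

/-!
# Helper16 — PerfSummand: direct summands of perfect objects of `D(R)` are perfect.
-/

open CategoryTheory CategoryTheory.Limits DerivedCategory

namespace Groth.Agent.Lib.Helper16.PerfSummand

open Groth.Agent.Lib.Helper8.Perf Groth.Agent.Lib.Helper16.PCohAbs

universe u

attribute [local instance] HasDerivedCategory.standard

variable (R : Type u) [CommRing R]

/-- finite projective modules as an object property. -/
def finProjProp : ObjectProperty (ModuleCat.{u} R) := fun M => FinProj M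

instance : (finProjProp R).IsClosedUnderIsomorphisms where
  of_iso e h := finProj_iso _ _ e h

instance : (finProjProp R).ContainsZero where
  exists_zero := ⟨ModuleCat.of R PUnit.{u + 1}, ModuleCat.isZero_of_subsingleton _,
    ⟨(inferInstance : Module.Finite R PUnit.{u + 1}),
      (inferInstance : Module.Projective R PUnit.{u + 1})⟩⟩

variable {R}

lemma finProjProp_prod (X Y : ModuleCat.{u} R) (hX : finProjProp R X) (hY : finProjProp R Y) :
    finProjProp R (X ⨯ Y) :=
  (finProjProp R).prop_of_iso (biprod.isoProd X Y) (finProj_biprod X Y hX hY)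

lemma finProjProp_lift (E F : ModuleCat.{u} R) (u : E ⟶ F) (hu : Epi u) (hF : finProjProp R F) :
    IsSplitEpi u := by
  have : Projective F := (IsProjective.iff_projective _).1 hF.2
  exact IsSplitEpi.mk' ⟨Projective.factorThru (𝟙 F) u, Projective.factorThru_comp _ _⟩

lemma finProjProp_of_retract (X Y : ModuleCat.{u} R) (i : X ⟶ Y) (r : Y ⟶ X) (h : i ≫ r = 𝟙 X)
    (hY : finProjProp R Y) : finProjProp R X := by
  have := hY.1
  have := hY.2
  have hri : ∀ x : X, r.hom (i.hom x) = x := fun x => congr($(h).hom x)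
  refine ⟨Module.Finite.of_surjective r.hom (fun x => ⟨i.hom x, hri x⟩), ?_⟩
  exact Module.Projective.of_split i.hom r.hom (LinearMap.ext hri)

lemma finProjProp_kernel (E F : ModuleCat.{u} R) (u : E ⟶ F) (hu : Epi u) (hE : finProjProp R E)
    (hF : finProjProp R F) : finProjProp R (kernel u) := by
  obtain ⟨⟨s, hs⟩⟩ := finProjProp_lift E F u hu hF
  -- retraction `E ⟶ kernel u`, `x ↦ x - s (u x)`
  have h0 : (𝟙 E - u ≫ s) ≫ u = 0 := by
    rw [Preadditive.sub_comp, Category.id_comp, Category.assoc, hs, Category.comp_id, sub_self]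
  refine finProjProp_of_retract _ _ (kernel.ι u) (kernel.lift u (𝟙 E - u ≫ s) h0) ?_ hE
  rw [← cancel_mono (kernel.ι u), Category.assoc, kernel.lift_ι, Preadditive.comp_sub,
    Category.comp_id, Category.id_comp, kernel.condition_assoc, zero_comp, sub_zero]

lemma finProjProp_fac (E' E'' : ModuleCat.{u} R) [HasBinaryBiproduct E' E'']
    (h : finProjProp R (E' ⊞ E'')) : finProjProp R E' ∧ finProjProp R E'' :=
  ⟨finProjProp_of_retract _ _ biprod.inl biprod.fst biprod.inl_fst h,
    finProjProp_of_retract _ _ biprod.inr biprod.snd biprod.inr_snd h⟩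

/-- S7019 (without the superfluous hypothesis). -/
theorem isPerfect_of_biprod (K L : Dual.D R) [HasBinaryBiproduct K L]
    (h : DRing.IsPerfect R (K ⊞ L)) : DRing.IsPerfect R K ∧ DRing.IsPerfect R L := by
  obtain ⟨E, a, b, hE, hfp, he⟩ := h
  have hE' : ∀ i : ℤ, i < a ∨ max a b < i → IsZero (E.X i) := fun i hi => hE i (by
    rcases hi with hi | hi
    · exact Or.inl hi
    · exact Or.inr (lt_of_le_of_lt (le_max_right _ _) hi))
  have h' : PerfAmp (finProjProp R) a (max a b) (K ⊞ L) := ⟨E, hfp, hE', he⟩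
  obtain ⟨⟨E₁, h1, h2, h3⟩, ⟨E₂, h4, h5, h6⟩⟩ := PerfAmp.of_biprod (finProjProp R) finProjProp_prod
    finProjProp_lift finProjProp_kernel finProjProp_fac (le_max_left a b) h'
  exact ⟨⟨E₁, a, max a b, h2, h1, h3⟩, ⟨E₂, a, max a b, h5, h4, h6⟩⟩

end Groth.Agent.Lib.Helper16.PerfSummand
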