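import Mathlib.Tactic
import Mathlib.LinearAlgebra.DirectSum.Finsupp
import Mathlib.RingTheory.Finiteness.Projective

/-!
# Tensoring a projective module with an inverse limit (helper16)

`pi_lTensor_injective_of_projective`: for projective `M` and a jointly injective family `g i : P → N i`,
`M ⊗ P → Π i, M ⊗ N i` is injective.
`exists_of_compatible_projective`: for finite projective `M`, if `P` is the inverse limit of the tower `N`,
every compatible sequence in `Π i, M ⊗ N i` comes from `M ⊗ P`.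
-/

open TensorProduct

namespace Groth.Agent.Lib.Helper16

section general
variable {R : Type*} [CommRing R]

theorem finsuppScalarLeft_lTensor {κ : Type*} [DecidableEq κ] {P Q : Type*} [AddCommGroup P]
    [Module R P] [AddCommGroup Q] [Module R Q] (g : P →ₗ[R] Q) (t : (κ →₀ R) ⊗[R] P) (j : κ) :
    finsuppScalarLeft R Q κ (LinearMap.lTensor (κ →₀ R) g t) j
      = g (finsuppScalarLeft R P κ t j) := by
  induction t using TensorProduct.induction_on with
  | zero => simp
  | tmul p n => simp
  | add x y hx hy => simp [hx, hy]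

theorem pi_lTensor_injective_free {κ : Type*} [DecidableEq κ] {ι : Type*} {P : Type*}
    [AddCommGroup P] [Module R P] {N : ι → Type*} [∀ i, AddCommGroup (N i)] [∀ i, Module R (N i)]
    (g : ∀ i, P →ₗ[R] N i) (hg : ∀ x : P, (∀ i, g i x = 0) → x = 0)
    (t : (κ →₀ R) ⊗[R] P) (ht : ∀ i, LinearMap.lTensor (κ →₀ R) (g i) t = 0) : t = 0 := by
  apply (finsuppScalarLeft R P κ).injective
  rw [map_zero]
  ext j
  apply hg
  intro i
  rw [← finsuppScalarLeft_lTensor, ht i, map_zero]
  rfl

theorem pi_lTensor_injective_of_projective {M : Type*} [AddCommGroup M] [Module R M]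
    [Module.Projective R M] {ι : Type*} {P : Type*}
    [AddCommGroup P] [Module R P] {N : ι → Type*} [∀ i, AddCommGroup (N i)] [∀ i, Module R (N i)]
    (g : ∀ i, P →ₗ[R] N i) (hg : ∀ x : P, (∀ i, g i x = 0) → x = 0) :
    Function.Injective (LinearMap.pi fun i => LinearMap.lTensor M (g i)) := by
  classical
  obtain ⟨s, hs⟩ := Module.Projective.out (R := R) (P := M)
  rw [injective_iff_map_eq_zero]
  intro t ht
  have ht' : ∀ i, LinearMap.lTensor M (g i) t = 0 := fun i => congrFun ht i
  have h1 : LinearMap.rTensor P s t = 0 := by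
    apply pi_lTensor_injective_free g hg
    intro i
    rw [← LinearMap.comp_apply, LinearMap.lTensor_comp_rTensor, ← LinearMap.rTensor_comp_lTensor,
      LinearMap.comp_apply, ht' i, map_zero]
  have h2 : LinearMap.rTensor P (Finsupp.linearCombination R id) (LinearMap.rTensor P s t) = t := by
    rw [← LinearMap.comp_apply, ← LinearMap.rTensor_comp]
    have : (Finsupp.linearCombination R id) ∘ₗ s = LinearMap.id := LinearMap.ext hs
    rw [this, LinearMap.rTensor_id]
    rfl
  rw [← h2, h1, map_zero]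

theorem exists_of_compatible_free {n : ℕ} {P : Type*}
    [AddCommGroup P] [Module R P] {N : ℕ → Type*} [∀ i, AddCommGroup (N i)] [∀ i, Module R (N i)]
    (g : ∀ i, P →ₗ[R] N i) (φ : ∀ i, N (i + 1) →ₗ[R] N i)
    (hsurj : ∀ c : ∀ i, N i, (∀ i, φ i (c (i + 1)) = c i) → ∃ x : P, ∀ i, g i x = c i)
    (y : ∀ i, (Fin n →₀ R) ⊗[R] N i)
    (hy : ∀ i, LinearMap.lTensor (Fin n →₀ R) (φ i) (y (i + 1)) = y i) :
    ∃ t : (Fin n →₀ R) ⊗[R] P, ∀ i, LinearMap.lTensor (Fin n →₀ R) (g i) t = y i := by
  have hx : ∀ j : Fin n, ∃ x : P, ∀ i, g i x = finsuppScalarLeft R (N i) (Fin n) (y i) j := by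
    intro j
    apply hsurj
    intro i
    rw [← finsuppScalarLeft_lTensor, hy i]
  choose x hx using hx
  refine ⟨(finsuppScalarLeft R P (Fin n)).symm (Finsupp.equivFunOnFinite.symm x), ?_⟩
  intro i
  apply (finsuppScalarLeft R (N i) (Fin n)).injective
  ext j
  rw [finsuppScalarLeft_lTensor, LinearEquiv.apply_symm_apply, Finsupp.equivFunOnFinite_symm_apply_apply, hx]

theorem exists_of_compatible_projective {M : Type*} [AddCommGroup M] [Module R M]
    [Module.Finite R M] [Module.Projective R M] {P : Type*}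
    [AddCommGroup P] [Module R P] {N : ℕ → Type*} [∀ i, AddCommGroup (N i)] [∀ i, Module R (N i)]
    (g : ∀ i, P →ₗ[R] N i) (φ : ∀ i, N (i + 1) →ₗ[R] N i)
    (hsurj : ∀ c : ∀ i, N i, (∀ i, φ i (c (i + 1)) = c i) → ∃ x : P, ∀ i, g i x = c i)
    (y : ∀ i, M ⊗[R] N i)
    (hy : ∀ i, LinearMap.lTensor M (φ i) (y (i + 1)) = y i) :
    ∃ t : M ⊗[R] P, ∀ i, LinearMap.lTensor M (g i) t = y i := by
  obtain ⟨n, f, s, -, -, hfs⟩ := Module.Finite.exists_comp_eq_id_of_projective R M
  let e := Finsupp.linearEquivFunOnFinite R R (Fin n)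
  let f' : (Fin n →₀ R) →ₗ[R] M := f ∘ₗ e.toLinearMap
  let s' : M →ₗ[R] (Fin n →₀ R) := e.symm.toLinearMap ∘ₗ s
  have hfs' : f' ∘ₗ s' = LinearMap.id := by
    ext m
    simp only [f', s', LinearMap.comp_apply, LinearEquiv.coe_coe, LinearEquiv.apply_symm_apply]
    exact LinearMap.congr_fun hfs m
  obtain ⟨t', ht'⟩ := exists_of_compatible_free g φ hsurj
    (fun i => LinearMap.rTensor (N i) s' (y i)) (by
      intro i
      rw [← LinearMap.comp_apply, LinearMap.lTensor_comp_rTensor, ← LinearMap.rTensor_comp_lTensor,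
        LinearMap.comp_apply, hy i])
  refine ⟨LinearMap.rTensor P f' t', ?_⟩
  intro i
  rw [← LinearMap.comp_apply, LinearMap.lTensor_comp_rTensor, ← LinearMap.rTensor_comp_lTensor,
    LinearMap.comp_apply, ht' i, ← LinearMap.comp_apply, ← LinearMap.rTensor_comp, hfs',
    LinearMap.rTensor_id]
  rfl

end general

end Groth.Agent.Lib.Helper16
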