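import Mathlib

/-!
# Helper16 — PolyCoext: for every `A[X]`-module `N` the short exact sequence
`0 → N → Hom_A(A[X], N) → Hom_A(A[X], N) → 0` of `A[X]`-modules (coextension of scalars), and the
injectivity of `Hom_A(A[X], N)` over `A[X]` when `N` is injective over `A`.
-/

set_option autoImplicit false
universe u
open Polynomial

namespace Groth.Agent.Lib.Helper16.PolyCoext

noncomputable section

/-- the coextension `Hom_A(A[X], N)`, with `A[X]` acting through the source -/
def Co (A : Type u) [CommRing A] (N : Type u) [AddCommGroup N] [Module A N] : Type u :=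
  A[X] →ₗ[A] N

namespace Co

variable {A : Type u} [CommRing A] {N : Type u} [AddCommGroup N] [Module A N]

instance : AddCommGroup (Co A N) := inferInstanceAs (AddCommGroup (A[X] →ₗ[A] N))

/-- constructor -/
def mk (φ : A[X] →ₗ[A] N) : Co A N := φ

/-- underlying linear map -/
def fn (c : Co A N) : A[X] →ₗ[A] N := c

@[simp] lemma fn_mk (φ : A[X] →ₗ[A] N) : (mk φ).fn = φ := rfl
@[simp] lemma mk_fn (c : Co A N) : mk c.fn = c := rfl
@[simp] lemma fn_add (c c' : Co A N) : (c + c').fn = c.fn + c'.fn := rfl
@[simp] lemma fn_zero : (0 : Co A N).fn = 0 := rfl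
@[simp] lemma fn_sub (c c' : Co A N) : (c - c').fn = c.fn - c'.fn := rfl

@[ext] lemma ext {c c' : Co A N} (h : ∀ b, c.fn b = c'.fn b) : c = c' := LinearMap.ext h

instance : SMul A[X] (Co A N) := ⟨fun b c => mk (c.fn ∘ₗ LinearMap.mulRight A b)⟩

@[simp] lemma smul_fn_apply (b : A[X]) (c : Co A N) (x : A[X]) : (b • c).fn x = c.fn (x * b) := rfl

instance : Module A[X] (Co A N) where
  one_smul c := by ext x; simp
  mul_smul b b' c := by ext x; simp [mul_assoc]
  smul_zero b := by ext x; simp
  smul_add b c c' := by ext x; simp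
  add_smul b b' c := by ext x; simp [mul_add]
  zero_smul c := by ext x; simp

end Co

variable {A : Type u} [CommRing A] (N : Type u) [AddCommGroup N] [Module A N] [Module A[X] N]
  [IsScalarTower A A[X] N]

/-- `n ↦ (b ↦ b • n)` -/
def α : N →ₗ[A[X]] Co A N where
  toFun n := Co.mk ((LinearMap.toSpanSingleton A[X] N n).restrictScalars A)
  map_add' n n' := by
    ext b
    simp [LinearMap.toSpanSingleton_apply]
  map_smul' b₀ n := by
    ext b
    simp [LinearMap.toSpanSingleton_apply, mul_smul]

@[simp] lemma α_apply (n : N) (b : A[X]) : (α N n).fn b = b • n := rfl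

/-- multiplication by `X` on `N`, as an `A`-linear map -/
def mulX : N →ₗ[A] N := (LinearMap.lsmul A[X] N X).restrictScalars A

@[simp] lemma mulX_apply (n : N) : mulX (A := A) N n = (X : A[X]) • n := rfl

/-- `φ ↦ (b ↦ φ (X b) - X φ(b))` -/
def β : Co A N →ₗ[A[X]] Co A N where
  toFun c := Co.mk (c.fn ∘ₗ LinearMap.mulLeft A (X : A[X]) - mulX N ∘ₗ c.fn)
  map_add' c c' := by
    ext b
    simp
    abel
  map_smul' b₀ c := by
    ext b
    simp [mul_assoc]

@[simp] lemma β_apply (c : Co A N) (b : A[X]) :
    (β N c).fn b = c.fn (X * b) - (X : A[X]) • c.fn b := rfl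

lemma α_injective : Function.Injective (α (A := A) N) := by
  intro n n' h
  have := congrArg (fun c => c.fn 1) h
  simpa using this

lemma β_comp_α (n : N) : β N (α (A := A) N n) = 0 := by
  ext b
  simp [mul_smul]

/-- exactness in the middle -/
lemma exact_α_β : Function.Exact (α (A := A) N) (β N) := by
  intro c
  constructor
  · intro hc
    refine ⟨c.fn 1, ?_⟩
    -- `c` is `A[X]`-linear
    have hX : ∀ b : A[X], c.fn (X * b) = (X : A[X]) • c.fn b := by
      intro b
      have := congrArg (fun c => c.fn b) hc
      simpa [sub_eq_zero] using this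
    ext b
    rw [α_apply]
    induction b using Polynomial.induction_on' with
    | add p q hp hq => rw [add_smul, hp, hq, map_add]
    | monomial n a =>
      rw [← C_mul_X_pow_eq_monomial]
      induction n with
      | zero =>
        rw [pow_zero, mul_one, ← algebraMap_eq, algebraMap_smul,
          show (algebraMap A A[X] a) = a • (1 : A[X]) by rw [Algebra.smul_def, mul_one],
          map_smul]
      | succ n ih =>
        have h1 : C a * X ^ (n + 1) = X * (C a * X ^ n) := by ring
        rw [h1, hX, ← ih, mul_smul]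
  · rintro ⟨n, rfl⟩
    exact β_comp_α N n

/-- surjectivity of `β` -/
lemma β_surjective : Function.Surjective (β (A := A) N) := by
  intro ψ
  -- coefficients of the preimage on the monomial basis
  let cseq : ℕ → N := fun k => Nat.rec (0 : N) (fun k ck => ψ.fn (X ^ k) + (X : A[X]) • ck) k
  have hc0 : cseq 0 = 0 := rfl
  have hcs : ∀ k, cseq (k + 1) = ψ.fn (X ^ k) + (X : A[X]) • cseq k := fun k => rfl
  let φ : A[X] →ₗ[A] N := (Polynomial.basisMonomials A).constr A cseq
  have hφ : ∀ k : ℕ, φ (X ^ k) = cseq k := by
    intro k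
    have := (Polynomial.basisMonomials A).constr_basis A cseq k
    simpa only [Polynomial.coe_basisMonomials, Polynomial.monomial_one_right_eq_X_pow] using this
  refine ⟨Co.mk φ, ?_⟩
  -- both sides are `A`-linear; compare on the monomial basis
  have : (β N (Co.mk φ)).fn = ψ.fn := by
    refine (Polynomial.basisMonomials A).ext (fun k => ?_)
    simp only [Polynomial.coe_basisMonomials, Polynomial.monomial_one_right_eq_X_pow]
    rw [β_apply, Co.fn_mk, ← pow_succ', hφ, hφ, hcs]
    abel
  exact Co.ext (fun b => by rw [this])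

omit [Module A[X] N] [IsScalarTower A A[X] N] in
/-- the coextension of an injective `A`-module is an injective `A[X]`-module -/
theorem injective_Co [Module.Injective A N] : Module.Injective A[X] (Co A N) := by
  refine Module.Baer.injective (fun J g => ?_)
  let J' : Submodule A A[X] := J.restrictScalars A
  let gt : J' →ₗ[A] N :=
    { toFun := fun j => (g ⟨j.1, j.2⟩).fn 1
      map_add' := fun j j' => by
        have : g ⟨(j + j').1, (j + j').2⟩ = g ⟨j.1, j.2⟩ + g ⟨j'.1, j'.2⟩ := by
          rw [← map_add]; rfl
        rw [this, Co.fn_add, LinearMap.add_apply]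
      map_smul' := fun r j => by
        have : g ⟨(r • j).1, (r • j).2⟩ = (C r : A[X]) • g ⟨j.1, j.2⟩ := by
          rw [← map_smul]
          congr 1
          apply Subtype.ext
          change r • j.1 = C r * j.1
          rw [Algebra.smul_def, algebraMap_eq]
        rw [this, Co.smul_fn_apply, one_mul, RingHom.id_apply,
          show (C r : A[X]) = r • (1 : A[X]) by rw [Algebra.smul_def, algebraMap_eq, mul_one],
          map_smul] }
  obtain ⟨h, hh⟩ := Module.Injective.extension_property A N J' A[X] J'.subtype
    J'.injective_subtype gt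
  refine ⟨(LinearMap.toSpanSingleton A[X] (Co A N) (Co.mk h)), fun x hx => ?_⟩
  ext b
  rw [LinearMap.toSpanSingleton_apply, Co.smul_fn_apply, Co.fn_mk]
  have h1 : h (b * x) = gt ⟨b * x, J.mul_mem_left b hx⟩ := by
    rw [← hh]; rfl
  rw [h1]
  change (g ⟨b * x, _⟩).fn 1 = (g ⟨x, hx⟩).fn b
  have h2 : g ⟨b * x, J.mul_mem_left b hx⟩ = b • g ⟨x, hx⟩ := by
    rw [← map_smul]; rfl
  rw [h2, Co.smul_fn_apply, one_mul]

end

end Groth.Agent.Lib.Helper16.PolyCoext
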