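import Mathlib
import Groth.Agent.Lib.Helper16.PolyCoext
import Groth.Agent.Lib.Helper16.InjSum
import Groth.Agent.Lib.Helper8.IAmp5
import Groth.Agent.Lib.Helper8.EFB17

/-!
# Helper16 — PolyInj: an `A[X]`-module which is injective as an `A`-module has injective amplitude
`[0, 1]` over `A[X]`; in particular `A[X] ⊗[A] E` for `E` injective over a noetherian ring `A`.
-/

set_option autoImplicit false
universe u
open CategoryTheory CategoryTheory.Limits DerivedCategory TensorProduct Polynomial
  CategoryTheory.Pretriangulated

attribute [local instance] HasDerivedCategory.standard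

namespace Groth.Agent.Lib.Helper16.PolyCoext

open Groth.Agent.Lib.Helper8

variable {A : Type u} [CommRing A]

/-- an `A[X]`-module that is injective over `A` has injective amplitude `[0, 1]` over `A[X]` -/
theorem hasInjAmplitudeIn_zero_one (N : Type u) [AddCommGroup N] [Module A N] [Module A[X] N]
    [IsScalarTower A A[X] N] [Module.Injective A N] :
    DRing.HasInjAmplitudeIn A[X] 0 1 (Dual.inD A[X] N) := by
  rw [IAmp.hasInjAmp_iff]
  haveI := injective_Co (A := A) N
  haveI : Injective (ModuleCat.of A[X] (Co A N)) :=
    Module.injective_object_of_injective_module A[X] (Co A N)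
  obtain ⟨δ, hT⟩ := EFB.exists_singleTriangle (α (A := A) N) (β N) (α_injective N)
    (β_surjective N) (exact_α_β N)
  have h0 := IAmp.hasInjAmp_single 0 (ModuleCat.of A[X] (Co A N))
  exact IAmp.HasInjAmp.of_triangle _ (inv_rot_of_distTriang _ hT)
    (h0.shift (-1) 1 1 (by norm_num) (by norm_num)) h0 ⟨by norm_num, le_rfl⟩
    ⟨le_rfl, by norm_num⟩

/-- **S1748** -/
theorem hasInjAmplitudeIn_polynomial_tensor [IsNoetherianRing A] (E : Type u) [AddCommGroup E]
    [Module A E] [Module.Injective A E] :
    DRing.HasInjAmplitudeIn A[X] 0 1 (Dual.inD A[X] (A[X] ⊗[A] E)) := by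
  haveI := InjSum.injective_polynomial_tensor (A := A) E
  exact hasInjAmplitudeIn_zero_one (A[X] ⊗[A] E)

end Groth.Agent.Lib.Helper16.PolyCoext
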