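import Mathlib
import Groth.Prelude
import Groth.Agent.Lib.Helper8.Bid8
import Groth.Agent.Lib.Helper16.AffRed8
import Groth.Agent.Lib.Helper16.TildeLoc
import Groth.Agent.Lib.Helper16.TorLoc9

/-!
# Helper16 — PtDualB1: transport of dualizing complexes along bijective ring maps
-/

set_option autoImplicit false
set_option linter.style.haveILetI false
universe u
open CategoryTheory CategoryTheory.Limits DerivedCategory

attribute [local instance] HasDerivedCategory.standard

namespace Groth.Agent.Lib.Helper16.PtDualB

open Groth.Agent.Lib.Helper16.FlatBC Groth.Agent.Lib.Helper16.LDer Groth.Agent.Lib.Helper8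

variable {A A' : Type u} [CommRing A] [CommRing A']

/-- a bijective ring map is flat. -/
lemma flatHom_of_bijective (σ : A →+* A') (hσ : Function.Bijective σ) : FlatHom σ := by
  letI : Algebra A A' := σ.toAlgebra
  haveI : Module.Flat A A' :=
    Module.Flat.of_linearEquiv (LinearEquiv.ofBijective (Algebra.linearMap A A') hσ).symm
  exact flatHom_algebraMap (A := A) (B := A')

/-- base change along a bijective ring map preserves dualizing complexes. -/
theorem isDualizing_ε_of_bijective (σ : A →+* A') (hσ : Function.Bijective σ) [FlatHom σ]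
    (ω : Dual.D A) (hω : Dual.IsDualizing A ω) : Dual.IsDualizing A' ((ε σ).obj ω) := by
  haveI := hω.isNoetherianRing
  letI : Algebra A A' := σ.toAlgebra
  haveI : Module.Flat A A' := Bidual.flat_of_bijective (A := A) (B := A') hσ
  exact Bidual.isDualizing_ε_of_bijective (A := A) (B := A') hσ ω hω

/-- the counit `A' ⊗_A N ⟶ N` is an isomorphism for a bijective ring map. -/
lemma isIso_counit_of_bijective (σ : A →+* A') (hσ : Function.Bijective σ) :
    IsIso (ModuleCat.extendRestrictScalarsAdj.{u, u, u} σ).counit := by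
  letI : Algebra A A' := σ.toAlgebra
  haveI : IsLocalization (IsUnit.submonoid A) A' :=
    IsLocalization.isLocalization_of_algEquiv (IsUnit.submonoid A)
      (AlgEquiv.ofBijective (Algebra.ofId A A') hσ)
  haveI := Groth.Agent.Lib.Helper16.TildeLoc.full_restrictScalars_of_isLocalization (R := A)
    (S := A') (IsUnit.submonoid A)
  exact (inferInstance : IsIso (ModuleCat.extendRestrictScalarsAdj.{u, u, u}
    (algebraMap A A')).counit)

/-- `A' ⊗_A K ≅ K` on complexes, for a bijective ring map. -/
noncomputable def extResCxIso (σ : A →+* A') (hσ : Function.Bijective σ) (K : DRing.Cx A') :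
    (extCx σ).obj (((ModuleCat.restrictScalars.{u} σ).mapHomologicalComplex
      (ComplexShape.up ℤ)).obj K) ≅ K :=
  haveI := isIso_counit_of_bijective σ hσ
  (NatIso.mapHomologicalComplex
    (asIso (ModuleCat.extendRestrictScalarsAdj.{u, u, u} σ).counit) (ComplexShape.up ℤ)).app K

/-- if the restriction of `K` along a bijective ring map is dualizing, so is `K`. -/
theorem isDualizing_of_res (σ : A →+* A') (hσ : Function.Bijective σ) (K : DRing.Cx A')
    (h : Dual.IsDualizing A (Q.obj (((ModuleCat.restrictScalars.{u} σ).mapHomologicalComplex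
      (ComplexShape.up ℤ)).obj K))) : Dual.IsDualizing A' (Q.obj K) := by
  haveI := flatHom_of_bijective σ hσ
  have h1 := isDualizing_ε_of_bijective σ hσ _ h
  exact EFB.isDualizing_of_iso (εQIso σ _ ≪≫ Q.mapIso (extResCxIso σ hσ K)) h1

/-- base change of `Q (P ⊗ A')` along a bijective map. -/
theorem isDualizing_extCx_comp {B C : Type u} [CommRing B] [CommRing C] (ψ : B →+* A)
    (τ : A →+* C) (hτ : Function.Bijective τ) (χ : B →+* C) (hχ : τ.comp ψ = χ)
    (P : DRing.Cx B) (h : Dual.IsDualizing A (Q.obj ((extCx ψ).obj P))) :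
    Dual.IsDualizing C (Q.obj ((extCx χ).obj P)) := by
  subst hχ
  haveI := flatHom_of_bijective τ hτ
  have h1 := isDualizing_ε_of_bijective τ hτ _ h
  exact EFB.isDualizing_of_iso (εQIso τ _ ≪≫
    Q.mapIso ((Groth.Agent.Lib.Helper16.TorLoc.extCxCompIso ψ τ).app P).symm) h1

/-- derived base change along a flat map, computed termwise. -/
theorem isDualizing_LBaseChange_of_extCx {B C : Type u} [CommRing B] [CommRing C] (χ : B →+* C)
    [FlatHom χ] [DRing.HasLBaseChange χ] (P : DRing.Cx B) (ω : Dual.D B) (e : ω ≅ Q.obj P)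
    (h : Dual.IsDualizing C (Q.obj ((extCx χ).obj P))) :
    Dual.IsDualizing C ((DRing.LBaseChange χ).obj ω) := by
  obtain ⟨e8⟩ := Groth.Agent.Lib.Helper16.AffRed.nonempty_LBaseChange_iso_ε χ ω
  exact EFB.isDualizing_of_iso ((εQIso χ P).symm ≪≫ (ε χ).mapIso e.symm ≪≫ e8.symm) h

end Groth.Agent.Lib.Helper16.PtDualB
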