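import Mathlib
import Groth.Prelude
import Groth.Agent.Lib.Helper16.PtDualB1
import Groth.Agent.Lib.Helper16.DualSchCM
import Groth.Agent.S6188

/-!
# Helper16 — PtDualB2: from dualizing stalks to dualizing localizations on a chart
-/

set_option autoImplicit false
set_option linter.style.haveILetI false
universe u
open CategoryTheory CategoryTheory.Limits AlgebraicGeometry DerivedCategory

attribute [local instance] HasDerivedCategory.standard

namespace Groth.Agent.Lib.Helper16.PtDualB

open Groth.Agent.Lib.Helper16.FlatBC Groth.Agent.Lib.Helper16.LDer Groth.Agent.Lib.Helper8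
  Groth.Agent.Lib.Helper16 Groth.Agent.Lib.Helper16.Stk Groth.Agent.Lib.Helper16.RS
  Groth.Agent.Lib.Helper16.TildeTor Groth.Agent.Lib.Helper16.DualSchCM

section Stalk

variable {X : Scheme.{u}} (I : CochainComplex X.Modules ℤ)

/-- the hypothesis on stalks, in terms of `stkCx`. -/
theorem isDualizing_stkCx (x : X)
    (hst : Dual.IsDualizing (X.presheaf.stalk ((𝟙 X : X ⟶ X).base x))
      (DRing.toD ((DerSch.stalkCxOver (𝟙 X) x).obj I))) :
    Dual.IsDualizing (X.presheaf.stalk x) (Q.obj (stkCx x I)) := by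
  have hb : Function.Bijective ((𝟙 X : X ⟶ X).stalkMap x).hom :=
    ConcreteCategory.bijective_of_isIso ((𝟙 X : X ⟶ X).stalkMap x)
  refine isDualizing_of_res ((𝟙 X : X ⟶ X).stalkMap x).hom hb (stkCx x I) ?_
  exact EFB.isDualizing_of_iso (Q.mapIso (Groth.Agent.S6188.stalkCxOverIso (𝟙 X) x I)) hst

/-- dualizing stalks on an open subscheme. -/
theorem isDualizing_stkCx_RCx {U : Scheme.{u}} (j : U ⟶ X) [IsOpenImmersion j] (z : U)
    (h : Dual.IsDualizing (X.presheaf.stalk (j z)) (Q.obj (stkCx (j z) I))) :
    Dual.IsDualizing (U.presheaf.stalk z) (Q.obj (stkCx z ((RCx j).obj I))) := by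
  have hb := PerfFib.bijective_φs j z
  haveI := flatHom_of_bijective (φs j z) hb
  have h1 := isDualizing_ε_of_bijective (φs j z) hb _ h
  exact EFB.isDualizing_of_iso (εQIso (φs j z) _ ≪≫
    Q.mapIso (PerfFib.stkCxRCxIso j I z).symm) h1

end Stalk

section Chart

variable (R : CommRingCat.{u}) [PreservesFiniteLimits (tilde.functor R)]

omit [PreservesFiniteLimits (tilde.functor R)] in
/-- `O_{Spec R, p} ≃ R_p` is compatible with the maps from `R`. -/
lemma stalkRingEquiv_comp_ψ (p : PrimeSpectrum R) :
    ((stalkRingEquiv R p).toRingHom).comp (ψ R (pt R p)) =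
      algebraMap R (Localization.AtPrime p.asIdeal) := by
  letI k : Algebra R ((Spec (CommRingCat.of R)).presheaf.stalk (pt R p)) :=
    StructureSheaf.stalkAlgebra R p
  haveI : IsLocalization.AtPrime ((Spec (CommRingCat.of R)).presheaf.stalk (pt R p)) p.asIdeal :=
    StructureSheaf.IsLocalization.to_stalk R p
  ext r
  exact (IsLocalization.algEquiv p.asIdeal.primeCompl
    ((Spec (CommRingCat.of R)).presheaf.stalk (pt R p))
    (Localization.AtPrime p.asIdeal)).commutes r

/-- from a dualizing stalk of `E ≅ P~` to a dualizing localization of `P`. -/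
theorem isDualizing_localization_of_stalk (P : DRing.Cx R)
    (E : CochainComplex (Spec (CommRingCat.of R)).Modules ℤ)
    (e : Q.obj E ≅ (DCoh.tildeD R).obj (Q.obj P)) (p : PrimeSpectrum R)
    (h : Dual.IsDualizing ((Spec (CommRingCat.of R)).presheaf.stalk (pt R p))
      (Q.obj (stkCx (pt R p) E))) :
    Dual.IsDualizing (Localization.AtPrime p.asIdeal)
      (Q.obj ((extCx (algebraMap R (Localization.AtPrime p.asIdeal))).obj P)) := by
  have h1 : Dual.IsDualizing ((Spec (CommRingCat.of R)).presheaf.stalk (pt R p))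
      (Q.obj ((extCx (ψ R (pt R p))).obj P)) :=
    EFB.isDualizing_of_iso (stalkIso R (pt R p) P E e).symm h
  exact isDualizing_extCx_comp (ψ R (pt R p)) (stalkRingEquiv R p).toRingHom
    (stalkRingEquiv R p).bijective _ (stalkRingEquiv_comp_ψ R p) P h1

end Chart

end Groth.Agent.Lib.Helper16.PtDualB
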