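import Mathlib
import Groth.Prelude
import Groth.Agent.Lib.Helper16.PtDualB2
import Groth.Agent.Lib.Helper16.DualSch3
import Groth.Agent.Lib.Helper16.AffRed6
import Groth.Agent.Lib.Helper16.PCNoeth
import Groth.Agent.Lib.Helper17.TensorSupp
import Groth.Agent.Lib.Helper6.DevCore
import Groth.Agent.S1039
import Groth.Agent.S1004
import Groth.Agent.S7867

/-!
# Helper16 — PtDualB3: a bounded complex of injectives with coherent cohomology and dualizing
stalks is a dualizing complex (chart analysis; S7882)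
-/

set_option autoImplicit false
set_option linter.style.haveILetI false
universe u
open CategoryTheory CategoryTheory.Limits AlgebraicGeometry DerivedCategory

attribute [local instance] HasDerivedCategory.standard

namespace Groth.Agent.Lib.Helper16.PtDualB

open Scheme.Modules Groth.Agent.Lib.Helper16.RS Groth.Agent.Lib.Helper16.AffRed
  Groth.Agent.Lib.Helper16.DualSch Groth.Agent.Lib.Helper16.DualSchCM
  Groth.Agent.Lib.Helper16.FlatBC Groth.Agent.Lib.Helper16.Stk Groth.Agent.Lib.Helper16.TildeTor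

section HomVan

variable {C : Type*} [Category C] [Abelian C] [HasDerivedCategory C]

/-- no maps in `D(C)` from `S` to `L[i]` when `L` is K-injective and all chain maps `S ⟶ L[i]`
vanish. -/
theorem subsingleton_hom_of_isKInjective (S L : CochainComplex C ℤ) [L.IsKInjective] (i : ℤ)
    (h : ∀ f : S ⟶ L⟦i⟧, f = 0) : Subsingleton (Q.obj S ⟶ (Q.obj L)⟦i⟧) := by
  let q := HomotopyCategory.quotient C (ComplexShape.up ℤ)
  have e1 : (Q.obj L)⟦i⟧ ≅ Qh.obj (q.obj (L⟦i⟧)) :=
    ((Q.commShiftIso i).app L).symm ≪≫ ((quotientCompQhIso C).app (L⟦i⟧)).symm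
  have e2 : Q.obj S ≅ Qh.obj (q.obj S) := ((quotientCompQhIso C).app S).symm
  have key : ∀ ψ : Qh.obj (q.obj S) ⟶ Qh.obj (q.obj (L⟦i⟧)), ψ = 0 := by
    intro ψ
    obtain ⟨g, rfl⟩ := (CochainComplex.IsKInjective.Qh_map_bijective (q.obj S) (L⟦i⟧)).2 ψ
    obtain ⟨f, rfl⟩ := q.map_surjective g
    rw [h f, q.map_zero, Qh.map_zero]
  refine ⟨fun φ₁ φ₂ => ?_⟩
  have h1 := key (e2.inv ≫ φ₁ ≫ e1.hom)
  have h2 := key (e2.inv ≫ φ₂ ≫ e1.hom)
  have : e2.inv ≫ φ₁ ≫ e1.hom = e2.inv ≫ φ₂ ≫ e1.hom := by rw [h1, h2]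
  simpa using this

omit [HasDerivedCategory C] in
/-- chain maps from a complex concentrated in degree `0` to a complex vanishing in degree `i`. -/
theorem eq_zero_of_single (M : C) (L : CochainComplex C ℤ) (i : ℤ) (hL : IsZero (L.X i))
    (f : (CochainComplex.singleFunctor C 0).obj M ⟶ L⟦i⟧) : f = 0 := by
  ext n
  by_cases hn : n = 0
  · subst hn
    apply IsZero.eq_of_tgt
    exact IsZero.of_iso hL (L.shiftFunctorObjXIso i 0 i (by omega))
  · apply IsZero.eq_of_src
    exact HomologicalComplex.isZero_single_obj_X _ _ _ _ hn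

end HomVan

section Coh

variable {X : Scheme.{u}}

/-- restriction along an open immersion preserves coherence (as in `Helper6.K0LocC`). -/
theorem isCoh_restrict {Y : Scheme.{u}} (f : Y ⟶ X) [IsOpenImmersion f] (M : X.Modules)
    (hM : Coh.IsCoh M) : Coh.IsCoh ((Scheme.Modules.restrictFunctor f).obj M) := by
  haveI : M.IsQuasicoherent := hM.1
  haveI : SheafOfModules.IsFiniteType.{u} (R := X.ringCatSheaf) M := hM.2
  have h1 : Coh.IsCoh ((Scheme.Modules.pullback f).obj M) :=
    ⟨inferInstance, Groth.Agent.Lib.Helper17.TensorSupp.isFiniteType_pullback f M⟩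
  exact Groth.Agent.Lib.Helper6.DevCore.isCoh_of_iso
    ((Scheme.Modules.restrictFunctorIsoPullback f).app M).symm h1

end Coh

section KInj

variable {X : Scheme.{u}} (I : CochainComplex X.Modules ℤ)

lemma isKInjective_of_bdd_injective (hIinj : ∀ i : ℤ, Injective (I.X i)) (a : ℤ)
    (ha : ∀ i : ℤ, i < a → IsZero (I.X i)) : I.IsKInjective := by
  haveI : I.IsStrictlyGE a := by
    rw [CochainComplex.isStrictlyGE_iff]
    exact ha
  exact CochainComplex.isKInjective_of_injective I a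

lemma isKInjective_RCx_congr {U : Scheme.{u}} (j j' : U ⟶ X) [IsOpenImmersion j]
    [IsOpenImmersion j'] (h : j = j') (hj : ((RCx j).obj I).IsKInjective) :
    ((RCx j').obj I).IsKInjective := by
  subst h
  exact hj

lemma isKInjective_RCx_of_isOpenImmersion {U : Scheme.{u}} (j : U ⟶ X) [IsOpenImmersion j]
    [I.IsKInjective] : ((RCx j).obj I).IsKInjective :=
  isKInjective_RCx_congr I (j.isoOpensRange.hom ≫ j.opensRange.ι) j
    (Scheme.Hom.isoOpensRange_hom_ι j) (isKInjective_RCx_chart j.opensRange j.isoOpensRange I)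

end KInj

section Main

variable {X : Scheme.{u}} [IsNoetherian X]
  [inst2 : ∀ (R : CommRingCat.{u}), PreservesFiniteLimits (tilde.functor R)]
  (I : CochainComplex X.Modules ℤ)

/-- **chart analysis**: on every affine chart, a bounded complex of injectives with coherent
cohomology and dualizing stalks is the tilde of a dualizing complex. -/
theorem exists_isDualizing_chart (hIinj : ∀ i : ℤ, Injective (I.X i))
    (hIbdd : ∃ a b : ℤ, ∀ i : ℤ, (i < a ∨ b < i) → IsZero (I.X i))
    (hcoh : ∀ i : ℤ, Coh.IsCoh (DCoh.HD (DCoh.toD X I) i))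
    (hst : ∀ x : X, Dual.IsDualizing (X.presheaf.stalk ((𝟙 X : X ⟶ X).base x))
      (DRing.toD ((DerSch.stalkCxOver (𝟙 X) x).obj I)))
    (B : Type u) [CommRing B] (jB : Spec (CommRingCat.of B) ⟶ X) [IsOpenImmersion jB] :
    ∃ ω : Dual.D B, Dual.IsDualizing B ω ∧
      Nonempty ((RD jB).obj (DCoh.toD X I) ≅ (DCoh.tildeD (CommRingCat.of B)).obj ω) := by
  obtain ⟨a, b, hab⟩ := hIbdd
  haveI : IsNoetherianRing B := isNoetherianRing_of_chart jB
  haveI : IsLocallyNoetherian (Spec (CommRingCat.of B)) := isLocallyNoetherian_of_isOpenImmersion jB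
  haveI : IsNoetherian (Spec (CommRingCat.of B)) := { }
  let R : CommRingCat.{u} := CommRingCat.of B
  let T := DCoh.tildeD R
  let E : CochainComplex (Spec (CommRingCat.of B)).Modules ℤ := (RCx jB).obj I
  have hEz : ∀ i : ℤ, (i < a ∨ b < i) → IsZero (E.X i) := fun i hi =>
    Functor.map_isZero (Scheme.Modules.restrictFunctor jB) (hab i hi)
  haveI : I.IsKInjective := isKInjective_of_bdd_injective I hIinj a (fun i hi => hab i (Or.inl hi))
  haveI : E.IsKInjective := isKInjective_RCx_of_isOpenImmersion I jB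
  let e0 : (RD jB).obj (Q.obj I) ≅ Q.obj E := RDQIso jB I
  have hcohB : ∀ i : ℤ, Coh.IsCoh (DCoh.HD ((RD jB).obj (Q.obj I)) i) := fun i => by
    obtain ⟨e⟩ := nonempty_HD_restrictD_iso jB (Q.obj I) i
    exact Groth.Agent.Lib.Helper6.DevCore.isCoh_of_iso e.symm (isCoh_restrict jB _ (hcoh i))
  have hq : DCoh.IsQCohD ((RD jB).obj (Q.obj I)) := fun i => (hcohB i).1
  obtain ⟨ω', ⟨e'⟩⟩ := ((Groth.Agent.S0997.result R).2.2 _).1 hq
  refine ⟨ω', ?_, ⟨e'.symm⟩⟩
  -- boundedness
  have hEhom : ∀ i : ℤ, (i < a ∨ b < i) → IsZero (DCoh.HD (T.obj ω') i) := fun i hi => by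
    have h1 : IsZero (E.homology i) :=
      ((E.exactAt_iff i).2 (ShortComplex.exact_of_isZero_X₂ _ (hEz i hi))).isZero_homology
    exact IsZero.of_iso h1 ((homologyFunctor _ i).mapIso (e' ≪≫ e0) ≪≫
      (homologyFunctorFactors _ i).app E)
  have hbdd : ∀ i : ℤ, (i < a ∨ b < i) → Subsingleton (Dual.HD B ω' i) := fun i hi => by
    obtain ⟨e⟩ := nonempty_HD_tildeD_iso R ω' i
    have h1 := isZero_of_isZero_tilde R _ (IsZero.of_iso (hEhom i hi) e.symm)
    exact ModuleCat.subsingleton_of_isZero h1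
  -- finiteness
  have hLE : (T.obj ω').IsLE b := by
    haveI : E.IsStrictlyLE b := by
      rw [CochainComplex.isStrictlyLE_iff]
      exact fun i hi => hEz i (Or.inr hi)
    have h2 : (Q.obj E).IsLE b := by
      rw [isLE_Q_obj_iff]
      infer_instance
    exact (TStructure.t).isLE_of_iso (e' ≪≫ e0).symm b
  have hqT : DCoh.IsQCohD (T.obj ω') := fun i =>
    (Groth.Agent.Lib.Helper6.DevCore.isCoh_of_iso ((homologyFunctor _ i).mapIso e'.symm)
      (hcohB i)).1
  have hpc : ∀ m : ℤ, DRing.IsPseudoCoherent B m ω' := fun m =>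
    (Groth.Agent.S1004.result B ω' m).1
      ((Groth.Agent.S1039.result (Spec (CommRingCat.of B)) (T.obj ω') hqT m).2
        ⟨fun i _ => Groth.Agent.Lib.Helper6.DevCore.isCoh_of_iso
          ((homologyFunctor _ i).mapIso e'.symm) (hcohB i), ⟨b, hLE⟩⟩)
  have hfin : ∀ i : ℤ, Module.Finite B (Dual.HD B ω' i) := fun i =>
    Groth.Agent.Lib.Helper16.PC.finite_homology_of_pc ω' i (hpc i) i le_rfl
  -- injective dimension
  haveI := (Groth.Agent.S0997.result R).2.1
  have hinj : ∀ (M : Type u) [AddCommGroup M] [Module B M] (i : ℤ),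
      (i < a ∨ b < i) → Subsingleton (Dual.inD B M ⟶ ω'⟦i⟧) := by
    intro M _ _ i hi
    let eT : T.obj (ω'⟦i⟧) ≅ (Q.obj E)⟦i⟧ :=
      (T.commShiftIso i).app ω' ≪≫ (shiftFunctor _ i).mapIso (e' ≪≫ e0)
    let eS : T.obj (Dual.inD B M) ≅
        Q.obj ((CochainComplex.singleFunctor _ 0).obj ((tilde.functor R).obj (ModuleCat.of B M))) :=
      tildeDSingleIso R (ModuleCat.of B M) ≪≫ (singleFunctorIsoCompQ _ 0).app _
    have sub := subsingleton_hom_of_isKInjective
      ((CochainComplex.singleFunctor _ 0).obj ((tilde.functor R).obj (ModuleCat.of B M))) E i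
      (eq_zero_of_single _ E i (hEz i hi))
    refine ⟨fun φ₁ φ₂ => T.map_injective ?_⟩
    have := sub.elim (eS.inv ≫ T.map φ₁ ≫ eT.hom) (eS.inv ≫ T.map φ₂ ≫ eT.hom)
    simpa using this
  -- localizations at maximal ideals
  refine @Groth.Agent.S7867.result B _ _ ω' ⟨a, b, hbdd⟩ hfin ⟨a, b, hinj⟩
    (fun m _ => Groth.Agent.Lib.Helper16.DRE.hasLBaseChange _) ?_
  intro m _
  haveI : DRing.HasLBaseChange (algebraMap B (Localization.AtPrime m)) :=
    Groth.Agent.Lib.Helper16.DRE.hasLBaseChange _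
  let p : PrimeSpectrum B := ⟨m, inferInstance⟩
  let P := Q.objPreimage ω'
  let eP : Q.obj P ≅ ω' := Q.objObjPreimageIso ω'
  have e : Q.obj E ≅ T.obj (Q.obj P) := e0.symm ≪≫ e'.symm ≪≫ T.mapIso eP.symm
  have h1 := isDualizing_stkCx I (jB (pt R p)) (hst _)
  have h2 := isDualizing_stkCx_RCx I jB (pt R p) h1
  have h3 := isDualizing_localization_of_stalk R P E e p h2
  exact isDualizing_LBaseChange_of_extCx (algebraMap B (Localization.AtPrime m)) P ω' eP.symm h3

end Main

end Groth.Agent.Lib.Helper16.PtDualB
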