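import Mathlib
import Groth.Prelude.Def_DerSch
import Groth.Prelude.Def_DTor2
import Groth.Agent.Lib.Helper16.SmTor1
import Groth.Agent.Lib.Helper15.RelPC27

/-!
# Helper16 — SmTor2: stalkwise tor amplitude of a direct image along a closed immersion into a
smooth scheme.
-/

set_option autoImplicit false
universe u
open CategoryTheory CategoryTheory.Limits AlgebraicGeometry DerivedCategory TopologicalSpace

namespace Groth.Agent.Lib.Helper16.SmTor

open Groth.Agent.Lib.Helper16.TorAmp Groth.Agent.Lib.Helper16.TorBal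
  Groth.Agent.Lib.Helper16.RestrictD Groth.Agent.Lib.Helper15.RelPC26
  Groth.Agent.Lib.Helper15.RelPC27

attribute [local instance] HasDerivedCategory.standard

section Stalk

variable {X' Y : Scheme.{u}} (f' : X' ⟶ Y)

/-- standard smoothness of relative dimension `n` on a pair of affine opens gives `FlatTD n` of the
stalk maps. -/
theorem flatTD_stalkMap_of_appLE {U : Y.Opens} (hU : IsAffineOpen U) {V : X'.Opens}
    (hV : IsAffineOpen V) (e : V ≤ f' ⁻¹ᵁ U) (n : ℕ)
    (h : (f'.appLE U V e).hom.IsStandardSmoothOfRelativeDimension n) (x' : X') (hx' : x' ∈ V) :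
    FlatTD n (f'.stalkMap x').hom := by
  have hfl : (Y.presheaf.germ U (f'.base x') (e hx')).hom.Flat := by
    letI := Y.presheaf.algebra_section_stalk ⟨f'.base x', e hx'⟩
    haveI := hU.isLocalization_stalk ⟨f'.base x', e hx'⟩
    exact (IsLocalization.flat (Y.presheaf.stalk (f'.base x'))
      (hU.primeIdealOf ⟨f'.base x', e hx'⟩).asIdeal.primeCompl :
        Module.Flat Γ(Y, U) (Y.presheaf.stalk (f'.base x')))
  exact flatTD_of_square n (f'.appLE U V e).hom
    (Y.presheaf.germ U (f'.base x') (e hx')).hom (X'.presheaf.germ V x' hx').hom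
    (f'.stalkMap x').hom (stalkMap_comp_germ f' U V e x' hx')
    (flatTD_of_standardSmooth n _ h) hfl
    (hV.primeIdealOf ⟨x', hx'⟩).asIdeal.primeCompl
    (hV.isLocalization_stalk ⟨x', hx'⟩)

/-- a smooth morphism locally has `FlatTD n` stalk maps for a uniform `n`. -/
theorem exists_nhd_flatTD_of_smooth [Smooth f'] (x' : X') :
    ∃ (n : ℕ) (V : X'.Opens), x' ∈ V ∧ ∀ x'' : X', x'' ∈ V → FlatTD n (f'.stalkMap x'').hom := by
  obtain ⟨U, hU, V, hV, hx', e, h⟩ := Smooth.exists_isStandardSmooth f' x'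
  obtain ⟨n, hn⟩ : ∃ n, (f'.appLE U V e).hom.IsStandardSmoothOfRelativeDimension n := by
    letI : Algebra Γ(Y, U) Γ(X', V) := (f'.appLE U V e).hom.toAlgebra
    have h' : Algebra.IsStandardSmooth Γ(Y, U) Γ(X', V) := h
    obtain ⟨ι, σ, _, _, ⟨P⟩⟩ := h'
    exact ⟨P.dimension, ⟨ι, σ, inferInstance, inferInstance, P, rfl⟩⟩
  exact ⟨n, V, hx', fun x'' hx'' => flatTD_stalkMap_of_appLE f' hU hV e n hn x'' hx''⟩

/-- smoothness of relative dimension `n` of the restriction to an open gives `FlatTD n` of the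
stalk maps at the points of the open. -/
theorem flatTD_stalkMap_of_smoothOfRelativeDimension (V : X'.Opens) (n : ℕ)
    [SmoothOfRelativeDimension n (V.ι ≫ f')] (x' : X') (hx' : x' ∈ V) :
    FlatTD n (f'.stalkMap x').hom := by
  obtain ⟨U, hU, W, hW, hxW, e, h⟩ :=
    SmoothOfRelativeDimension.exists_isStandardSmoothOfRelativeDimension
      (n := n) (f := V.ι ≫ f') ⟨x', hx'⟩
  have hW' : IsAffineOpen (V.ι ''ᵁ W) := hW.image_of_isOpenImmersion V.ι
  have e' : V.ι ''ᵁ W ≤ f' ⁻¹ᵁ U := by
    rintro _ ⟨z, hz, rfl⟩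
    exact e hz
  have heq : f'.appLE U (V.ι ''ᵁ W) e' = (V.ι ≫ f').appLE U W e := by
    simp only [Scheme.Hom.appLE, Scheme.Hom.comp_app, Scheme.Opens.ι_app,
      Scheme.Opens.toScheme_presheaf_map]
    refine ((Category.assoc _ _ _).trans ?_).symm
    congr 1
    exact (X'.presheaf.map_comp _ _).symm.trans (congrArg _ (Subsingleton.elim _ _))
  have hmem : x' ∈ V.ι ''ᵁ W := ⟨⟨x', hx'⟩, hxW, rfl⟩
  refine flatTD_stalkMap_of_appLE f' hU hW' e' n ?_ x' hmem
  rw [heq]
  exact h

end Stalk

section Push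

variable {X X' Y : Scheme.{u}} (i : X ⟶ X') (f' : X' ⟶ Y)

/-- the complex of stalks of `i_* F` at a point of `X'`. -/
noncomputable abbrev pushStalkCx (F : CochainComplex X.Modules ℤ) (x' : X') :
    DRing.Cx (X'.presheaf.stalk x') :=
  ((DerSch.stalkFunctor X' x').mapHomologicalComplex (ComplexShape.up ℤ)).obj
    (((Scheme.Modules.pushforward i).mapHomologicalComplex (ComplexShape.up ℤ)).obj F)

/-- tor amplitude of the stalk of `i_* F` at `i x` over the local ring of `X'`, from tor amplitude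
of `F` at `x` over the local ring of `Y`. -/
theorem torAmp_pushStalkCx (hi : Topology.IsInducing i) [Flat f']
    (F : CochainComplex X.Modules ℤ) (x : X) (n : ℕ)
    (hn : FlatTD n (f'.stalkMap (i.base x)).hom) (a b : ℤ)
    (hF : DerSch.HasTorAmplitudeAt (i ≫ f') a b F x) :
    DRing.HasTorAmplitudeIn (X'.presheaf.stalk (i.base x)) (a - n) b
      (DRing.toD (pushStalkCx i F (i.base x))) := by
  refine torAmp_of_torAmp_restrict (f'.stalkMap (i.base x)).hom (Flat.stalkMap f' (i.base x)) n hn
    _ a b ?_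
  have e1 := restrictQIso (f'.stalkMap (i.base x)).hom (pushStalkCx i F (i.base x))
  have e2 : ((ModuleCat.restrictScalars.{u} (f'.stalkMap (i.base x)).hom).mapHomologicalComplex
      (ComplexShape.up ℤ)).obj (pushStalkCx i F (i.base x)) ≅
      (DerSch.stalkCxOver (i ≫ f') x).obj F :=
    HomologicalComplex.Hom.isoOfComponents
      (fun n => (pushStalkOverIso i f' hi x).app (F.X n))
      (fun n m _ => ((pushStalkOverIso i f' hi x).hom.naturality (F.d n m)).symm)
  unfold DerSch.HasTorAmplitudeAt at hF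
  exact hasTorAmplitudeIn_of_iso (e1 ≪≫ Q.mapIso e2).symm _ _ hF

/-- outside the closed range of `i` the complex of stalks of `i_* F` is zero. -/
theorem torAmp_pushStalkCx_of_notMem_range (hi : IsClosed (Set.range i.base))
    (F : CochainComplex X.Modules ℤ) (x' : X') (hx' : x' ∉ Set.range i.base) (a b : ℤ) :
    DRing.HasTorAmplitudeIn (X'.presheaf.stalk x') a b (DRing.toD (pushStalkCx i F x')) := by
  refine torAmp_of_isZero _ ?_ a b
  apply Groth.Agent.Lib.Helper16.FlatAcyc.isZero_Q_obj_of_exactAt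
  intro k
  apply HomologicalComplex.ExactAt.of_isZero
  have h1 := Groth.Agent.Lib.Helper18.CycPush.stalk_subsingleton_of_notMem_range i (F.X k) hi x' hx'
  have h2 : Subsingleton ((pushStalkCx i F x').X k) := h1
  exact ModuleCat.isZero_of_subsingleton _

end Push

end Groth.Agent.Lib.Helper16.SmTor
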