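import Mathlib
import Groth.Prelude.Def_DerSch
import Groth.Prelude.Def_DTor2
import Groth.Agent.Lib.Helper16.SmTor2
import Groth.Agent.Lib.Helper16.PerfFib1
import Groth.Agent.Lib.Helper16.KD7
import Groth.Agent.S6200

/-!
# Helper16 — SmTor3: flat amplitude of the direct image along a closed immersion into a smooth
scheme, from tor amplitude relative to the base.
-/

set_option autoImplicit false
universe u
open CategoryTheory CategoryTheory.Limits AlgebraicGeometry DerivedCategory TopologicalSpace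

namespace Groth.Agent.Lib.Helper16.SmTor

open Groth.Agent.Lib.Helper16.TorAmp Groth.Agent.Lib.Helper16.TorBal
  Groth.Agent.Lib.Helper16.RestrictD Groth.Agent.Lib.Helper16.RS Groth.Agent.Lib.Helper16.Stk
  Groth.Agent.Lib.Helper16.KD Groth.Agent.Lib.Helper16.FlatBC Groth.Agent.Lib.Helper16

attribute [local instance] HasDerivedCategory.standard

section Flat

variable {Z : Scheme.{u}}

/-- flat amplitude from stalkwise tor amplitude. -/
theorem hasFlatAmplitudeIn_of_stalks (K : CochainComplex Z.Modules ℤ) (a b : ℤ)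
    (h : ∀ z : Z, DRing.HasTorAmplitudeIn (Z.presheaf.stalk z) a b (DRing.toD (stkCx z K))) :
    DCoh.HasFlatAmplitudeIn a b (DCoh.toD Z K) := by
  haveI : (DCoh.toD Z K).IsLE b := by
    rw [isLE_Q_obj_iff, CochainComplex.isLE_iff]
    intro i hi
    rw [exactAt_iff_forall_stalk]
    intro z
    exact exactAt_of_torAmp _ a b (h z) i (Or.inr hi)
  exact Groth.Agent.S6200.backward K b a b h

/-- flat amplitude of a restriction from stalkwise tor amplitude on the open. -/
theorem hasFlatAmplitudeIn_restrict_of_stalks (K : CochainComplex Z.Modules ℤ) (V : Z.Opens)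
    (a b : ℤ)
    (h : ∀ z : Z, z ∈ V →
      DRing.HasTorAmplitudeIn (Z.presheaf.stalk z) a b (DRing.toD (stkCx z K))) :
    DCoh.HasFlatAmplitudeIn a b (DerivedCategory.Q.obj ((DCoh.restrictCx V).obj K)) := by
  apply hasFlatAmplitudeIn_of_stalks
  intro z
  have e := PerfFib.stkCxRCxIso V.ι K z
  haveI : FlatHom (φs V.ι z) := ⟨by
    have hb := PerfFib.bijective_φs V.ι z
    letI := (φs V.ι z).toAlgebra
    exact (Module.Flat.of_linearEquiv
      (LinearEquiv.ofBijective (Algebra.linearMap _ _) hb).symm : Module.Flat _ _)⟩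
  have h1 := torAmp_ε (φs V.ι z) _ a b (h (V.ι z) z.2)
  exact hasTorAmplitudeIn_of_iso (εQIso (φs V.ι z) _ ≪≫ Q.mapIso e.symm) _ _ h1

end Flat

section Main

variable {X X' Y : Scheme.{u}} (i : X ⟶ X') [IsClosedImmersion i] (f' : X' ⟶ Y)

/-- the stalkwise statement at all points of `X'`. -/
theorem torAmp_pushStalkCx_all [Flat f'] (F : CochainComplex X.Modules ℤ) (n : ℕ) (a b : ℤ)
    (x' : X')
    (h : ∀ x : X, i.base x = x' → FlatTD n (f'.stalkMap (i.base x)).hom ∧
      DerSch.HasTorAmplitudeAt (i ≫ f') a b F x) :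
    DRing.HasTorAmplitudeIn (X'.presheaf.stalk x') (a - n) b
      (DRing.toD (pushStalkCx i F x')) := by
  by_cases hx' : x' ∈ Set.range i.base
  · obtain ⟨x, rfl⟩ := hx'
    exact torAmp_pushStalkCx i f' i.isClosedEmbedding.isInducing F x n (h x rfl).1 a b (h x rfl).2
  · exact torAmp_pushStalkCx_of_notMem_range i i.isClosedEmbedding.isClosed_range F x' hx' _ _

/-- **flat amplitude of the direct image** -/
theorem hasFlatAmplitudeIn_pushforward [Flat f'] (F : CochainComplex X.Modules ℤ) (n : ℕ)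
    (hn : ∀ x : X, FlatTD n (f'.stalkMap (i.base x)).hom) (a b : ℤ)
    (hF : DerSch.HasTorAmplitude (i ≫ f') a b F) :
    DCoh.HasFlatAmplitudeIn (a - n) b (DCoh.toD X'
      (((Scheme.Modules.pushforward i).mapHomologicalComplex (ComplexShape.up ℤ)).obj F)) := by
  apply hasFlatAmplitudeIn_of_stalks
  intro x'
  exact torAmp_pushStalkCx_all i f' F n a b x' (fun x _ => ⟨hn x, hF x⟩)

/-- `FlatTD d` of all stalk maps from smoothness of relative dimension `≤ d`. -/
theorem flatTD_of_relDim_le [Smooth f'] (d : ℕ)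
    (hd : ∀ x : X', ∃ (n : ℕ) (V : X'.Opens), n ≤ d ∧ x ∈ V ∧
      SmoothOfRelativeDimension n (V.ι ≫ f')) (x' : X') :
    FlatTD d (f'.stalkMap x').hom := by
  obtain ⟨n, V, hnd, hxV, hsm⟩ := hd x'
  haveI := hsm
  exact (flatTD_stalkMap_of_smoothOfRelativeDimension f' V n x' hxV).mono hnd

/-- locally finite tor dimension of the direct image. -/
theorem locHasFiniteTorDim_pushforward [Smooth f'] (F : CochainComplex X.Modules ℤ)
    (hF : DerSch.LocFiniteTorAmplitude (i ≫ f') F) :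
    DCoh.LocHasFiniteTorDim (DCoh.toD X'
      (((Scheme.Modules.pushforward i).mapHomologicalComplex (ComplexShape.up ℤ)).obj F)) := by
  haveI : Flat f' := inferInstance
  intro x'
  by_cases hx' : x' ∈ Set.range i.base
  · obtain ⟨x, rfl⟩ := hx'
    obtain ⟨V, a, b, hxV, hV⟩ := hF x
    obtain ⟨n, V₁, hxV₁, hV₁⟩ := exists_nhd_flatTD_of_smooth f' (i.base x)
    obtain ⟨t, ht, htV⟩ := i.isClosedEmbedding.isInducing.isOpen_iff.1 V.2
    let V₂ : X'.Opens := ⟨t, ht⟩
    refine ⟨V₁ ⊓ V₂, a - n, b, ⟨hxV₁, ?_⟩, fun F' ⟨e⟩ => ?_⟩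
    · change i.base x ∈ t
      have : x ∈ i.base ⁻¹' t := by rw [htV]; exact hxV
      exact this
    · obtain ⟨e'⟩ := nonempty_iso_Q_RCx (V₁ ⊓ V₂).ι e
      obtain ⟨E, hE, hfl, ⟨e0⟩⟩ := hasFlatAmplitudeIn_restrict_of_stalks
        (((Scheme.Modules.pushforward i).mapHomologicalComplex (ComplexShape.up ℤ)).obj F)
        (V₁ ⊓ V₂) (a - n) b (fun z hz => torAmp_pushStalkCx_all i f' F n a b z
          (fun x₁ hx₁ => ⟨hV₁ _ (hx₁ ▸ hz.1), hV x₁ (by
            have h1 : i.base x₁ ∈ t := hx₁ ▸ hz.2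
            have h2 : x₁ ∈ i.base ⁻¹' t := h1
            rw [htV] at h2
            exact h2)⟩))
      exact ⟨E, hE, hfl, ⟨e0 ≪≫ e'.symm⟩⟩
  · let V' : X'.Opens := ⟨(Set.range i.base)ᶜ, i.isClosedEmbedding.isClosed_range.isOpen_compl⟩
    refine ⟨V', 0, 0, hx', fun F' ⟨e⟩ => ?_⟩
    obtain ⟨e'⟩ := nonempty_iso_Q_RCx V'.ι e
    obtain ⟨E, hE, hfl, ⟨e0⟩⟩ := hasFlatAmplitudeIn_restrict_of_stalks
      (((Scheme.Modules.pushforward i).mapHomologicalComplex (ComplexShape.up ℤ)).obj F)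
      V' 0 0 (fun z hz => torAmp_pushStalkCx_of_notMem_range i
        i.isClosedEmbedding.isClosed_range F z hz _ _)
    exact ⟨E, hE, hfl, ⟨e0 ≪≫ e'.symm⟩⟩

end Main

end Groth.Agent.Lib.Helper16.SmTor
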