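import Mathlib
import Groth.Prelude.Def_DerSch
import Groth.Prelude.Def_DTor2
import Groth.Agent.Lib.Helper16.SmTor3
import Groth.Agent.Lib.Helper17.FlatDict
import Groth.Agent.Lib.Helper28.QCohPush

/-!
# Helper16 — PushFlat: the direct image of the structure sheaf along an affine morphism `f : X ⟶ Y`
with `X` flat over `S` is flat over `S`; for `Y` smooth over `S` it locally has finite tor dimension.
-/

set_option autoImplicit false
universe u
open CategoryTheory CategoryTheory.Limits AlgebraicGeometry DerivedCategory TopologicalSpace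

namespace Groth.Agent.Lib.Helper16.PushFlat

open Groth.Agent.Lib.Helper16.SmTor Groth.Agent.Lib.Helper17.FlatDict
  Groth.Agent.Lib.Helper17.ModStalk Groth.Agent.Lib.Helper28.QCohLoc

attribute [local instance] HasDerivedCategory.standard

variable {X Y S : Scheme.{u}} (f : X ⟶ Y) (g : Y ⟶ S)

instance isQuasicoherent_push_unit [IsAffineHom f] :
    ((Scheme.Modules.pushforward f).obj (SheafOfModules.unit X.ringCatSheaf)).IsQuasicoherent := by
  haveI : (SheafOfModules.unit X.ringCatSheaf).IsQuasicoherent := inferInstance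
  exact isQuasicoherent_pushforward f _

/-- `f_* O_X` is flat over `S` when `f` is affine and `X` is flat over `S`. -/
theorem isFlatOver_push_unit [IsAffineHom f] [Flat (f ≫ g)] :
    FlatMod.IsFlatOver g
      ((Scheme.Modules.pushforward f).obj (SheafOfModules.unit X.ringCatSheaf)) := by
  rw [isFlatOver_iff_flat_sections]
  intro U V hUV hU hV
  have hU' : IsAffineOpen (f ⁻¹ᵁ U) := hU.preimage f
  have e' : f ⁻¹ᵁ U ≤ (f ≫ g) ⁻¹ᵁ V := fun x hx => hUV hx
  letI := ((f ≫ g).appLE V (f ⁻¹ᵁ U) e').hom.toAlgebra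
  have h1 : Module.Flat Γ(S, V) Γ(X, f ⁻¹ᵁ U) := Flat.flat_appLE (f ≫ g) hV hU' e'
  letI mA : Module Γ(S, V)
      Γ((Scheme.Modules.pushforward f).obj (SheafOfModules.unit X.ringCatSheaf), U) :=
    Module.compHom _ (g.appLE V U hUV).hom
  have hcomp : ∀ r : Γ(S, V), f.app U (g.appLE V U hUV r) = (f ≫ g).appLE V (f ⁻¹ᵁ U) e' r := by
    intro r
    have := Scheme.Hom.appLE_comp_appLE f g V U (f ⁻¹ᵁ U) hUV le_rfl
    rw [Scheme.Hom.appLE_eq_app] at this
    exact congr_arg (fun φ => φ.hom r) this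
  let e : Γ((Scheme.Modules.pushforward f).obj (SheafOfModules.unit X.ringCatSheaf), U)
      ≃ₗ[Γ(S, V)] Γ(X, f ⁻¹ᵁ U) :=
    { toFun := fun m => m
      invFun := fun m => m
      map_add' := fun _ _ => rfl
      map_smul' := fun r m => by
        change (f.app U (g.appLE V U hUV r) * (show Γ(X, f ⁻¹ᵁ U) from m) : Γ(X, f ⁻¹ᵁ U)) =
          (f ≫ g).appLE V (f ⁻¹ᵁ U) e' r * (show Γ(X, f ⁻¹ᵁ U) from m)
        rw [hcomp]
      left_inv := fun _ => rfl
      right_inv := fun _ => rfl }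
  exact Module.Flat.of_linearEquiv e

open Groth.Agent.Lib.Helper16.TorAmp Groth.Agent.Lib.Helper16.Stk Groth.Agent.Lib.Helper16.RS
  Groth.Agent.Lib.Helper16 in
/-- `f_* O_X` locally has finite tor dimension on `Y`, for `f` affine, `Y` smooth over `S` and `X`
flat over `S`. -/
theorem locHasFiniteTorDim_push_unit [IsAffineHom f] [Smooth g] [Flat (f ≫ g)] :
    DCoh.LocHasFiniteTorDim (DCoh.inD Y
      ((Scheme.Modules.pushforward f).obj (SheafOfModules.unit X.ringCatSheaf))) := by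
  intro y
  obtain ⟨n, V₁, hy, hV₁⟩ := exists_nhd_flatTD_of_smooth g y
  refine ⟨V₁, -(n : ℤ), 0, hy, fun F' ⟨e⟩ => ?_⟩
  set M := (Scheme.Modules.pushforward f).obj (SheafOfModules.unit X.ringCatSheaf) with hM
  let K₀ : CochainComplex Y.Modules ℤ := (HomologicalComplex.single _ (ComplexShape.up ℤ) 0).obj M
  have e₀ : DCoh.toD Y K₀ ≅ DCoh.inD Y M :=
    ((DerivedCategory.singleFunctorIsoCompQ Y.Modules 0).app M).symm
  obtain ⟨e'⟩ := nonempty_iso_Q_RCx V₁.ι (e ≪≫ e₀.symm)
  obtain ⟨E, hE, hfl, ⟨e1⟩⟩ := hasFlatAmplitudeIn_restrict_of_stalks K₀ V₁ (-(n : ℤ)) 0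
    (fun z hz => by
      have hflz := isFlatOver_push_unit f g z
      have h2 := hV₁ z hz ((stk z).obj M) hflz
      refine hasTorAmplitudeIn_of_iso ?_ _ _ h2
      exact (DerivedCategory.singleFunctorIsoCompQ _ 0).app _ ≪≫ DerivedCategory.Q.mapIso
        ((HomologicalComplex.singleMapHomologicalComplex (stk z) (ComplexShape.up ℤ) 0).app
          M).symm)
  exact ⟨E, hE, hfl, ⟨e1 ≪≫ e'.symm⟩⟩

end Groth.Agent.Lib.Helper16.PushFlat
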