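import Mathlib
import Groth.Prelude.Def_DerSch
import Groth.Agent.Lib.Helper28.QCohPush

/-!
# Helper16 — PushStalk: every module over the local ring `O_{X,x}` is the stalk at `x` of a
quasi-coherent `O_X`-module (`X` quasi-separated): the direct image of `N~` along
`Spec O_{X,x} ⟶ X`
-/

set_option autoImplicit false

open CategoryTheory CategoryTheory.Limits AlgebraicGeometry TopologicalSpace Opposite

namespace Groth.Agent.Lib.Helper16.PushStalk

universe u

variable (X : Scheme.{u}) (x : X) (N : ModuleCat.{u} (X.presheaf.stalk x))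

/-- the direct image of `N~` along `Spec O_{X,x} ⟶ X`. -/
noncomputable abbrev FF : X.Modules :=
  (Scheme.Modules.pushforward (X.fromSpecStalk x)).obj (tilde N)

/-- open neighbourhoods of `x` pull back to the whole of `Spec O_{X,x}`. -/
lemma preimage_eq_top (V : X.Opens) (hx : x ∈ V) : (X.fromSpecStalk x) ⁻¹ᵁ V = ⊤ := by
  ext t
  simp only [Opens.coe_top, Set.mem_univ, iff_true]
  have h : (X.fromSpecStalk x).base t ⤳ x := by
    have : (X.fromSpecStalk x).base t ∈ Set.range (X.fromSpecStalk x).base := ⟨t, rfl⟩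
    rw [Scheme.range_fromSpecStalk] at this
    exact this
  exact h.mem_open V.2 hx

/-- the section of `FF` over `V` attached to `n`. -/
noncomputable def sec (V : X.Opens) (n : N) : (FF X x N).presheaf.obj (op V) :=
  tilde.toOpen N ((X.fromSpecStalk x) ⁻¹ᵁ V) n

/-- the germ at `x` of the section attached to `n`. -/
noncomputable def ψ (V : X.Opens) (hx : x ∈ V) (n : N) : (FF X x N).presheaf.stalk x :=
  (FF X x N).presheaf.germ V x hx (sec X x N V n)

lemma sec_res {V W : X.Opens} (h : W ≤ V) (n : N) :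
    (FF X x N).presheaf.map (homOfLE h).op (sec X x N V n) = sec X x N W n := by
  have := tilde.toOpen_res N ((X.fromSpecStalk x) ⁻¹ᵁ V) ((X.fromSpecStalk x) ⁻¹ᵁ W)
    (homOfLE ((X.fromSpecStalk x).preimage_mono h))
  exact congr($(this).hom n)

lemma ψ_eq {V W : X.Opens} (hxV : x ∈ V) (hxW : x ∈ W) (n : N) :
    ψ X x N V hxV n = ψ X x N W hxW n := by
  have h1 : ψ X x N V hxV n = ψ X x N (V ⊓ W) ⟨hxV, hxW⟩ n := by
    unfold ψ
    rw [← sec_res X x N (inf_le_left : V ⊓ W ≤ V) n]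
    exact (TopCat.Presheaf.germ_res_apply (FF X x N).presheaf (homOfLE inf_le_left) x
      ⟨hxV, hxW⟩ _).symm
  have h2 : ψ X x N W hxW n = ψ X x N (V ⊓ W) ⟨hxV, hxW⟩ n := by
    unfold ψ
    rw [← sec_res X x N (inf_le_right : V ⊓ W ≤ W) n]
    exact (TopCat.Presheaf.germ_res_apply (FF X x N).presheaf (homOfLE inf_le_right) x
      ⟨hxV, hxW⟩ _).symm
  rw [h1, h2]

lemma sec_add (V : X.Opens) (n n' : N) :
    sec X x N V (n + n') = sec X x N V n + sec X x N V n' :=
  (tilde.toOpen N ((X.fromSpecStalk x) ⁻¹ᵁ V)).hom.map_add n n'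

lemma ψ_add (V : X.Opens) (hx : x ∈ V) (n n' : N) :
    ψ X x N V hx (n + n') = ψ X x N V hx n + ψ X x N V hx n' := by
  unfold ψ
  rw [sec_add]
  exact map_add _ _ _

/-- the action of a section of `O_X` on the sections of `FF`. -/
lemma smul_sec (V : X.Opens) (hx : x ∈ V) (s : Γ(X, V)) (n : N) :
    (s • (show Γ(FF X x N, V) from sec X x N V n) : Γ(FF X x N, V)) =
      (show Γ(FF X x N, V) from sec X x N V (X.presheaf.germ V x hx s • n)) := by
  have h1 : sec X x N V (X.presheaf.germ V x hx s • n) =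
      (X.presheaf.germ V x hx s) • (tilde.toOpen N ((X.fromSpecStalk x) ⁻¹ᵁ V) n) :=
    (tilde.toOpen N ((X.fromSpecStalk x) ⁻¹ᵁ V)).hom.map_smul _ n
  have h3 : (X.presheaf.germ V x hx s) •
      (show Γ(tilde N, (X.fromSpecStalk x) ⁻¹ᵁ V) from
        tilde.toOpen N ((X.fromSpecStalk x) ⁻¹ᵁ V) n) =
      (((Spec (X.presheaf.stalk x)).presheaf.map
        (Opens.leTop ((X.fromSpecStalk x) ⁻¹ᵁ V)).op)
        ((Scheme.ΓSpecIso (X.presheaf.stalk x)).inv (X.presheaf.germ V x hx s))) •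
      (show Γ(tilde N, (X.fromSpecStalk x) ⁻¹ᵁ V) from
        tilde.toOpen N ((X.fromSpecStalk x) ⁻¹ᵁ V) n) :=
    Scheme.Modules.smul_Spec_def _ _
  have h2 : (X.fromSpecStalk x).app V s =
      ((Spec (X.presheaf.stalk x)).presheaf.map
        (Opens.leTop ((X.fromSpecStalk x) ⁻¹ᵁ V)).op)
        ((Scheme.ΓSpecIso (X.presheaf.stalk x)).inv (X.presheaf.germ V x hx s)) := by
    rw [Scheme.fromSpecStalk_app hx]
    rfl
  have h4 : (s • (show Γ(FF X x N, V) from sec X x N V n) : Γ(FF X x N, V)) =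
      (show Γ(FF X x N, V) from (((X.fromSpecStalk x).app V s) •
        (show Γ(tilde N, (X.fromSpecStalk x) ⁻¹ᵁ V) from
          tilde.toOpen N ((X.fromSpecStalk x) ⁻¹ᵁ V) n) :
        Γ(tilde N, (X.fromSpecStalk x) ⁻¹ᵁ V))) := rfl
  refine h4.trans ?_
  rw [h2]
  exact (h1.trans h3).symm

lemma germ_smul_ψ (V : X.Opens) (hx : x ∈ V) (s : Γ(X, V)) (n : N) :
    X.presheaf.germ V x hx s • ψ X x N V hx n =
      ψ X x N V hx (X.presheaf.germ V x hx s • n) := by
  have h := PresheafOfModules.germ_smul (R := X.presheaf) (FF X x N).val x V hx s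
    (sec X x N V n)
  refine h.symm.trans ?_
  exact congrArg (fun t => (FF X x N).presheaf.germ V x hx t) (smul_sec X x N V hx s n)

lemma toOpen_bijective_of_eq_top (W : (Spec (X.presheaf.stalk x)).Opens) (h : W = ⊤) :
    Function.Bijective (tilde.toOpen N W).hom := by
  subst h
  exact ConcreteCategory.bijective_of_isIso (tilde.toOpen N ⊤)

/-- the comparison map `N → (i_* N~)_x`. -/
noncomputable def ψₗ : N →ₗ[X.presheaf.stalk x] (FF X x N).presheaf.stalk x where
  toFun := ψ X x N ⊤ trivial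
  map_add' := ψ_add X x N ⊤ trivial
  map_smul' r n := by
    obtain ⟨V, hxV, s, rfl⟩ := TopCat.Presheaf.exists_germ_eq X.presheaf r
    have hT : x ∈ (⊤ : X.Opens) := trivial
    rw [RingHom.id_apply, ψ_eq X x N hT hxV, ψ_eq X x N hT hxV n, germ_smul_ψ]

theorem ψₗ_bijective : Function.Bijective (ψₗ X x N) := by
  constructor
  · rw [← LinearMap.ker_eq_bot, LinearMap.ker_eq_bot']
    intro n hn
    have h0 : ψ X x N ⊤ trivial n = ψ X x N ⊤ trivial 0 := by
      have h1 : ψ X x N ⊤ trivial 0 = 0 := (ψₗ X x N).map_zero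
      rw [h1]
      exact hn
    obtain ⟨W, hxW, iU, iV, hres⟩ :=
      TopCat.Presheaf.germ_eq (FF X x N).presheaf x (U := ⊤) (V := ⊤) trivial trivial _ _ h0
    have h2 : sec X x N W n = sec X x N W 0 := by
      rw [← sec_res X x N (le_top : W ≤ ⊤) n, ← sec_res X x N (le_top : W ≤ ⊤) 0]
      exact hres
    exact (toOpen_bijective_of_eq_top X x N _ (preimage_eq_top X x W hxW)).1 h2
  · intro μ
    obtain ⟨V, hxV, t, rfl⟩ := TopCat.Presheaf.exists_germ_eq (FF X x N).presheaf μ
    obtain ⟨n, hn⟩ := (toOpen_bijective_of_eq_top X x N _ (preimage_eq_top X x V hxV)).2 t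
    refine ⟨n, ?_⟩
    change ψ X x N ⊤ trivial n = _
    rw [ψ_eq X x N (V := ⊤) trivial hxV]
    exact congrArg (fun t => (FF X x N).presheaf.germ V x hxV t) hn

/-- **the stalk of `i_* N~` at `x` is `N`.** -/
noncomputable def stalkIso : ModuleCat.of (X.presheaf.stalk x) N ≅
    (DerSch.stalkFunctor X x).obj (FF X x N) :=
  (LinearEquiv.ofBijective (ψₗ X x N) (ψₗ_bijective X x N)).toModuleIso

instance isQuasicoherent_FF [QuasiSeparatedSpace X] : (FF X x N).IsQuasicoherent :=
  Groth.Agent.Lib.Helper28.QCohLoc.isQuasicoherent_pushforward (X.fromSpecStalk x) (tilde N)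

end Groth.Agent.Lib.Helper16.PushStalk
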