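import Mathlib

/-!
# Helper16 — QhBij1: transporting bijectivity of `Hom_K(E,F) → Hom_D(E,F)` along fully faithful exact functors
-/

set_option autoImplicit false
universe w₁ w₂ v₁ v₂ u₁ u₂
open CategoryTheory CategoryTheory.Limits

namespace Groth.Agent.Lib.Helper16.QhBij

section Def

variable {A : Type u₁} [Category.{v₁} A] [Abelian A] [HasDerivedCategory.{w₁} A]

/-- homotopy classes of maps `E ⟶ F` are the same as maps in the derived category. -/
def QhBij (E F : CochainComplex A ℤ) : Prop :=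
  Function.Bijective (fun φ : (HomotopyCategory.quotient A (ComplexShape.up ℤ)).obj E ⟶
      (HomotopyCategory.quotient A (ComplexShape.up ℤ)).obj F =>
    (DerivedCategory.Qh (C := A)).map φ)

theorem qhBij_of_isKProjective (E F : CochainComplex A ℤ) [E.IsKProjective] : QhBij E F :=
  CochainComplex.IsKProjective.Qh_map_bijective E _

/-- invariance under isomorphisms of complexes. -/
theorem qhBij_of_iso {E F E' F' : CochainComplex A ℤ} (e₁ : E ≅ E') (e₂ : F ≅ F')
    (h : QhBij E F) : QhBij E' F' := by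
  let q := HomotopyCategory.quotient A (ComplexShape.up ℤ)
  let Qh := DerivedCategory.Qh (C := A)
  let c₁ : (q.obj E' ⟶ q.obj F') ≃ (q.obj E ⟶ q.obj F) :=
    Iso.homCongr (q.mapIso e₁).symm (q.mapIso e₂).symm
  let c₂ : (Qh.obj (q.obj E) ⟶ Qh.obj (q.obj F)) ≃ (Qh.obj (q.obj E') ⟶ Qh.obj (q.obj F')) :=
    Iso.homCongr (Qh.mapIso (q.mapIso e₁)) (Qh.mapIso (q.mapIso e₂))
  have hcomp : (fun φ : q.obj E' ⟶ q.obj F' => Qh.map φ) =
      c₂ ∘ (fun φ : q.obj E ⟶ q.obj F => Qh.map φ) ∘ c₁ := by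
    funext φ
    have h1 : q.map e₁.inv ≫ q.map e₁.hom = 𝟙 _ := by
      rw [← q.map_comp, e₁.inv_hom_id, q.map_id]
    have h2 : q.map e₂.inv ≫ q.map e₂.hom = 𝟙 _ := by
      rw [← q.map_comp, e₂.inv_hom_id, q.map_id]
    simp only [Function.comp_apply, c₁, c₂, Iso.homCongr_apply, Iso.symm_inv, Iso.symm_hom,
      Functor.mapIso_hom, Functor.mapIso_inv]
    rw [← Qh.map_comp, ← Qh.map_comp]
    congr 1
    rw [Category.assoc, Category.assoc, h2, Category.comp_id, ← Category.assoc, h1,
      Category.id_comp]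
  show Function.Bijective (fun φ : q.obj E' ⟶ q.obj F' => Qh.map φ)
  rw [hcomp]
  exact c₂.bijective.comp (h.comp c₁.bijective)

end Def

section Transfer

variable {A : Type u₁} [Category.{v₁} A] [Abelian A] [HasDerivedCategory.{w₁} A]
  {B : Type u₂} [Category.{v₂} B] [Abelian B] [HasDerivedCategory.{w₂} B]
  (G : A ⥤ B) [G.Additive] [PreservesFiniteLimits G] [PreservesFiniteColimits G]

/-- transfer along a fully faithful exact functor whose derived functor is fully faithful. -/
theorem qhBij_map_iff [G.Full] [G.Faithful] [G.mapDerivedCategory.Full]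
    [G.mapDerivedCategory.Faithful] (E F : CochainComplex A ℤ) :
    QhBij ((G.mapHomologicalComplex (ComplexShape.up ℤ)).obj E)
      ((G.mapHomologicalComplex (ComplexShape.up ℤ)).obj F) ↔ QhBij E F := by
  let GK := G.mapHomotopyCategory (ComplexShape.up ℤ)
  let GD := G.mapDerivedCategory
  let e := G.mapDerivedCategoryFactorsh
  let qA := HomotopyCategory.quotient A (ComplexShape.up ℤ)
  let QA := DerivedCategory.Qh (C := A)
  let QB := DerivedCategory.Qh (C := B)
  let a : (qA.obj E ⟶ qA.obj F) → (QA.obj (qA.obj E) ⟶ QA.obj (qA.obj F)) := fun φ => QA.map φ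
  let b : (GK.obj (qA.obj E) ⟶ GK.obj (qA.obj F)) →
      (QB.obj (GK.obj (qA.obj E)) ⟶ QB.obj (GK.obj (qA.obj F))) := fun ψ => QB.map ψ
  let k : (qA.obj E ⟶ qA.obj F) → (GK.obj (qA.obj E) ⟶ GK.obj (qA.obj F)) := fun φ => GK.map φ
  let d : (QA.obj (qA.obj E) ⟶ QA.obj (qA.obj F)) →
      (GD.obj (QA.obj (qA.obj E)) ⟶ GD.obj (QA.obj (qA.obj F))) := fun x => GD.map x
  let c : (QB.obj (GK.obj (qA.obj E)) ⟶ QB.obj (GK.obj (qA.obj F))) ≃
      (GD.obj (QA.obj (qA.obj E)) ⟶ GD.obj (QA.obj (qA.obj F))) :=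
    Iso.homCongr (e.app (qA.obj E)).symm (e.app (qA.obj F)).symm
  have hk : Function.Bijective k := ⟨GK.map_injective, GK.map_surjective⟩
  have hd : Function.Bijective d := ⟨GD.map_injective, GD.map_surjective⟩
  have hcomm : d ∘ a = c ∘ b ∘ k := by
    funext φ
    have h := e.hom.naturality φ
    simp only [Function.comp_apply, a, b, c, d, k, Iso.homCongr_apply, Iso.symm_inv, Iso.symm_hom,
      Iso.app_hom, Iso.app_inv]
    simp only [Functor.comp_map] at h
    rw [← Category.assoc, ← h, Category.assoc, Iso.hom_inv_id_app, Category.comp_id]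
  have hb : Function.Bijective b ↔ Function.Bijective a := by
    rw [← Function.Bijective.of_comp_iff' hd a, hcomm,
      Function.Bijective.of_comp_iff' c.bijective, Function.Bijective.of_comp_iff b hk]
  exact hb

end Transfer

section EssImage

variable {A : Type u₁} [Category.{v₁} A] [Preadditive A]
  {B : Type u₂} [Category.{v₂} B] [Preadditive B]
  (G : A ⥤ B) [G.Additive] [G.Full] [G.Faithful]
  (K : CochainComplex B ℤ) (P : ℤ → A) (e : ∀ i, G.obj (P i) ≅ K.X i)

/-- a complex whose terms lie in the essential image of a fully faithful functor comes from a complex. -/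
noncomputable def cxOf : CochainComplex A ℤ :=
  CochainComplex.of P (fun n => G.preimage ((e n).hom ≫ K.d n (n + 1) ≫ (e (n + 1)).inv))
    (fun n => G.map_injective (by simp))

@[simp] lemma cxOf_X (i : ℤ) : (cxOf G K P e).X i = P i := rfl

lemma cxOf_d (n : ℤ) : (cxOf G K P e).d n (n + 1) =
    G.preimage ((e n).hom ≫ K.d n (n + 1) ≫ (e (n + 1)).inv) :=
  CochainComplex.of_d P (fun n => G.preimage ((e n).hom ≫ K.d n (n + 1) ≫ (e (n + 1)).inv)) n

lemma cxOf_map_d (i : ℤ) :
    G.map ((cxOf G K P e).d i (i + 1)) ≫ (e (i + 1)).hom = (e i).hom ≫ K.d i (i + 1) := by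
  have h : G.map (X := P i) (Y := P (i + 1)) ((cxOf G K P e).d i (i + 1)) =
      (e i).hom ≫ K.d i (i + 1) ≫ (e (i + 1)).inv := by
    rw [cxOf_d, Functor.map_preimage]
  show G.map (X := P i) (Y := P (i + 1)) ((cxOf G K P e).d i (i + 1)) ≫ (e (i + 1)).hom = _
  rw [h, Category.assoc, Category.assoc, Iso.inv_hom_id, Category.comp_id]

noncomputable def cxOfIso : (G.mapHomologicalComplex (ComplexShape.up ℤ)).obj (cxOf G K P e) ≅ K :=
  HomologicalComplex.Hom.isoOfComponents (fun i => e i) (by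
    rintro i j (rfl : i + 1 = j)
    exact (cxOf_map_d G K P e i).symm)

end EssImage

section Equiv

variable {A : Type u₁} [Category.{v₁} A] [Abelian A] [HasDerivedCategory.{w₁} A]
  {B : Type u₂} [Category.{v₂} B] [Abelian B] [HasDerivedCategory.{w₂} B]
  (G : A ⥤ B) [G.Additive] [PreservesFiniteLimits G] [PreservesFiniteColimits G]
  (H : B ⥤ A) [H.Additive] [PreservesFiniteLimits H] [PreservesFiniteColimits H]

/-- a one-sided inverse at the level of abelian categories gives one on derived categories. -/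
noncomputable def mapDerivedCategoryCompIdIso (η : G ⋙ H ≅ 𝟭 A) :
    G.mapDerivedCategory ⋙ H.mapDerivedCategory ≅ 𝟭 (DerivedCategory A) := by
  let W := HomologicalComplex.quasiIso A (ComplexShape.up ℤ)
  let Q := DerivedCategory.Q (C := A)
  let e : Q ⋙ (G.mapDerivedCategory ⋙ H.mapDerivedCategory) ≅ Q ⋙ 𝟭 _ :=
    (Functor.associator _ _ _).symm ≪≫
    Functor.isoWhiskerRight G.mapDerivedCategoryFactors H.mapDerivedCategory ≪≫
    Functor.associator _ _ _ ≪≫
    Functor.isoWhiskerLeft _ H.mapDerivedCategoryFactors ≪≫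
    (Functor.associator _ _ _).symm ≪≫
    Functor.isoWhiskerRight (Functor.mapHomologicalComplexCompIso η (ComplexShape.up ℤ) ≪≫
      Functor.mapHomologicalComplexIdIso A (ComplexShape.up ℤ)) Q ≪≫
    Functor.leftUnitor _ ≪≫ (Functor.rightUnitor _).symm
  letI : Localization.Lifting Q W (Q ⋙ (G.mapDerivedCategory ⋙ H.mapDerivedCategory))
      (G.mapDerivedCategory ⋙ H.mapDerivedCategory) := ⟨Iso.refl _⟩
  letI : Localization.Lifting Q W (Q ⋙ 𝟭 _) (𝟭 (DerivedCategory A)) := ⟨Iso.refl _⟩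
  exact Localization.liftNatIso Q W _ _ _ _ e

theorem isEquivalence_mapDerivedCategory (η : G ⋙ H ≅ 𝟭 A) (ε : H ⋙ G ≅ 𝟭 B) :
    G.mapDerivedCategory.IsEquivalence :=
  (CategoryTheory.Equivalence.mk G.mapDerivedCategory H.mapDerivedCategory
    (mapDerivedCategoryCompIdIso G H η).symm (mapDerivedCategoryCompIdIso H G ε)).isEquivalence_functor

theorem isEquivalence_of_isos {A : Type u₁} [Category.{v₁} A] {B : Type u₂} [Category.{v₂} B]
    (G : A ⥤ B) (H : B ⥤ A) (η : G ⋙ H ≅ 𝟭 A) (ε : H ⋙ G ≅ 𝟭 B) : G.IsEquivalence :=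
  (CategoryTheory.Equivalence.mk G H η.symm ε).isEquivalence_functor

end Equiv

end Groth.Agent.Lib.Helper16.QhBij
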