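import Mathlib
import Groth.Prelude.Def_CxOX
import Groth.Prelude.Def_DCoh3
import Groth.Agent.S0997
import Groth.Agent.S12451
import Groth.Agent.Lib.Helper29.FreeIso4
import Groth.Agent.Lib.Helper16.RS3
import Groth.Agent.Lib.Helper16.AffRed5
import Groth.Agent.Lib.Helper16.QhBij1

/-!
# Helper16 — QhBij2: on an affine scheme, homotopy classes of maps from a bounded above complex of
finite locally free modules to a complex of quasi-coherent modules compute derived category maps
-/

set_option autoImplicit false
set_option linter.style.haveILetI false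
universe u
open CategoryTheory CategoryTheory.Limits AlgebraicGeometry

attribute [local instance] HasDerivedCategory.standard

namespace Groth.Agent.Lib.Helper16.QhBij

open Scheme.Modules

section Spec

variable (R : CommRingCat.{u})

theorem qhBij_tilde (P M : CochainComplex (ModuleCat.{u} R) ℤ) [P.IsKProjective] :
    QhBij (((tilde.functor R).mapHomologicalComplex (ComplexShape.up ℤ)).obj P)
      (((tilde.functor R).mapHomologicalComplex (ComplexShape.up ℤ)).obj M) := by
  obtain ⟨hfull, hfaith, -⟩ := Groth.Agent.S0997.result R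
  haveI : (tilde.functor R).mapDerivedCategory.Full := hfull
  haveI : (tilde.functor R).mapDerivedCategory.Faithful := hfaith
  exact (qhBij_map_iff (tilde.functor R) P M).2 (qhBij_of_isKProjective P M)

theorem qhBij_spec (E F : CochainComplex (Spec R).Modules ℤ) (b : ℤ)
    (hEb : ∀ i : ℤ, b < i → IsZero (E.X i))
    (hE : ∀ i : ℤ, FlatMod.IsFinLocFree (E.X i)) (hF : ∀ i : ℤ, Coh.IsQCoh (F.X i)) :
    QhBij E F := by
  have hE' : ∀ i, (tilde.functor R).essImage (E.X i) := fun i => by
    haveI : (E.X i).IsQuasicoherent :=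
      Groth.Agent.Lib.Helper29.FreeIso.isQuasicoherent_of_isFinLocFree _ (hE i)
    exact isIso_fromTildeΓ_iff.1 inferInstance
  have hF' : ∀ i, (tilde.functor R).essImage (F.X i) := fun i => by
    haveI : (F.X i).IsQuasicoherent := hF i
    exact isIso_fromTildeΓ_iff.1 inferInstance
  let P : ℤ → ModuleCat.{u} R := fun i => (hE' i).witness
  let eP : ∀ i, (tilde.functor R).obj (P i) ≅ E.X i := fun i => (hE' i).getIso
  let M : ℤ → ModuleCat.{u} R := fun i => (hF' i).witness
  let eM : ∀ i, (tilde.functor R).obj (M i) ≅ F.X i := fun i => (hF' i).getIso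
  let P' := cxOf (tilde.functor R) E P eP
  let M' := cxOf (tilde.functor R) F M eM
  haveI : P'.IsStrictlyLE b := by
    rw [CochainComplex.isStrictlyLE_iff]
    intro i hi
    show IsZero (P i)
    rw [IsZero.iff_id_eq_zero]
    apply (tilde.functor R).map_injective
    exact (IsZero.of_iso (hEb i hi) (eP i)).eq_of_src _ _
  haveI : ∀ n, Projective (P'.X n) := fun n => by
    show Projective (P n)
    have h1 : FlatMod.IsFinLocFree (tilde (P n)) :=
      Groth.Agent.Lib.Helper16.RS.isFinLocFree_of_iso (eP n).symm (hE n)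
    exact (IsProjective.iff_projective (P n)).1 ((Groth.Agent.S12451.result (P n)).1 h1).2
  haveI : P'.IsKProjective := CochainComplex.isKProjective_of_projective P' b
  exact qhBij_of_iso (cxOfIso (tilde.functor R) E P eP) (cxOfIso (tilde.functor R) F M eM)
    (qhBij_tilde R P' M')

end Spec

section Affine

variable {X : Scheme.{u}} [IsAffine X]

theorem qhBij_affine (E F : CochainComplex X.Modules ℤ) (b : ℤ)
    (hEb : ∀ i : ℤ, b < i → IsZero (E.X i))
    (hE : ∀ i : ℤ, FlatMod.IsFinLocFree (E.X i)) (hF : ∀ i : ℤ, Coh.IsQCoh (F.X i)) :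
    QhBij E F := by
  let c : X ≅ Spec Γ(X, ⊤) := X.isoSpec
  let G : X.Modules ⥤ (Spec Γ(X, ⊤)).Modules := restrictFunctor c.inv
  let H : (Spec Γ(X, ⊤)).Modules ⥤ X.Modules := restrictFunctor c.hom
  let η : G ⋙ H ≅ 𝟭 _ :=
    (restrictFunctorComp c.hom c.inv).symm ≪≫ restrictFunctorCongr c.hom_inv_id ≪≫ restrictFunctorId
  let ε : H ⋙ G ≅ 𝟭 _ :=
    (restrictFunctorComp c.inv c.hom).symm ≪≫ restrictFunctorCongr c.inv_hom_id ≪≫ restrictFunctorId
  haveI : G.IsEquivalence := isEquivalence_of_isos G H η ε
  haveI : G.mapDerivedCategory.IsEquivalence := isEquivalence_mapDerivedCategory G H η ε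
  refine (qhBij_map_iff G E F).1 ?_
  exact qhBij_spec _ _ _ b (fun i hi => G.map_isZero (hEb i hi))
    (fun i => Groth.Agent.Lib.Helper16.RS.isFinLocFree_restrict c.inv _ (hE i))
    (fun i => by
      haveI : (F.X i).IsQuasicoherent := hF i
      exact inferInstanceAs ((restrictFunctor c.inv).obj (F.X i)).IsQuasicoherent)

end Affine

end Groth.Agent.Lib.Helper16.QhBij
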