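import Mathlib
import Groth.Agent.Lib.Helper16.QhBij1

/-!
# Helper16 — QhBij3: consequences of `QhBij`: acyclic complexes are contractible, null-homotopy descends
along quasi-isomorphisms
-/

set_option autoImplicit false
universe w₁ v₁ u₁
open CategoryTheory CategoryTheory.Limits

namespace Groth.Agent.Lib.Helper16.QhBij

variable {A : Type u₁} [Category.{v₁} A] [Abelian A] [HasDerivedCategory.{w₁} A]

theorem isZero_Q_obj_of_acyclic (E : CochainComplex A ℤ) (hE : E.Acyclic) :
    IsZero ((DerivedCategory.Q (C := A)).obj E) := by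
  have hq : QuasiIso (0 : E ⟶ E) := by
    constructor
    intro i
    exact (quasiIsoAt_iff_exactAt (0 : E ⟶ E) i (hE i)).2 (hE i)
  have hiso : IsIso ((DerivedCategory.Q (C := A)).map (0 : E ⟶ E)) := by
    rw [DerivedCategory.isIso_Q_map_iff_quasiIso]; exact hq
  rw [IsZero.iff_id_eq_zero]
  have h0 : (DerivedCategory.Q (C := A)).map (0 : E ⟶ E) = 0 := Functor.map_zero _ _ _
  calc 𝟙 _ = (DerivedCategory.Q (C := A)).map (0 : E ⟶ E) ≫
        inv ((DerivedCategory.Q (C := A)).map (0 : E ⟶ E)) := (IsIso.hom_inv_id _).symm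
    _ = 0 ≫ inv ((DerivedCategory.Q (C := A)).map (0 : E ⟶ E)) := by
        exact congrArg (· ≫ inv ((DerivedCategory.Q (C := A)).map (0 : E ⟶ E))) h0
    _ = 0 := zero_comp

theorem homotopy_zero_of_acyclic (E : CochainComplex A ℤ) (h : QhBij E E) (hE : E.Acyclic) :
    Nonempty (Homotopy (𝟙 E) 0) := by
  let q := HomotopyCategory.quotient A (ComplexShape.up ℤ)
  have z : IsZero ((DerivedCategory.Qh (C := A)).obj (q.obj E)) :=
    IsZero.of_iso (isZero_Q_obj_of_acyclic E hE) ((DerivedCategory.quotientCompQhIso A).app E)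
  have h1 : q.map (𝟙 E) = q.map 0 := h.1 (z.eq_of_src _ _)
  exact ⟨HomotopyCategory.homotopyOfEq _ _ h1⟩

omit [HasDerivedCategory A] in
theorem acyclic_of_homotopy (E : CochainComplex A ℤ) (h : Nonempty (Homotopy (𝟙 E) 0)) :
    E.Acyclic := by
  obtain ⟨h⟩ := h
  intro i
  rw [HomologicalComplex.exactAt_iff_isZero_homology, IsZero.iff_id_eq_zero]
  have := h.homologyMap_eq i
  rw [HomologicalComplex.homologyMap_id, HomologicalComplex.homologyMap_zero] at this
  exact this

theorem homotopy_zero_of_comp (E F G : CochainComplex A ℤ) (h : QhBij E F) (f : E ⟶ F) (g : F ⟶ G)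
    [QuasiIso g] (hgf : Nonempty (Homotopy (f ≫ g) 0)) : Nonempty (Homotopy f 0) := by
  obtain ⟨hgf⟩ := hgf
  let q := HomotopyCategory.quotient A (ComplexShape.up ℤ)
  let Qh := DerivedCategory.Qh (C := A)
  have h1 : q.map (f ≫ g) = q.map 0 := HomotopyCategory.eq_of_homotopy _ _ hgf
  have hg : IsIso (Qh.map (q.map g)) := by
    have h2 : IsIso ((DerivedCategory.Q (C := A)).map g) := by
      rw [DerivedCategory.isIso_Q_map_iff_quasiIso]; infer_instance
    have h3 := (DerivedCategory.quotientCompQhIso A).hom.naturality g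
    have h4 : Qh.map (q.map g) = ((DerivedCategory.quotientCompQhIso A).hom.app F) ≫
        (DerivedCategory.Q (C := A)).map g ≫ ((DerivedCategory.quotientCompQhIso A).inv.app G) := by
      rw [← Category.assoc, ← h3]
      simp [q, Qh]
    rw [h4]; infer_instance
  have h5 : Qh.map (q.map f) ≫ Qh.map (q.map g) = 0 := by
    rw [← Qh.map_comp, ← q.map_comp, h1, q.map_zero, Qh.map_zero]
  have h6 : Qh.map (q.map f) = Qh.map (q.map 0) := by
    rw [q.map_zero, Qh.map_zero]
    exact (cancel_mono (Qh.map (q.map g))).1 (by rw [h5, zero_comp])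
  exact ⟨HomotopyCategory.homotopyOfEq _ _ (h.1 h6)⟩

end Groth.Agent.Lib.Helper16.QhBij
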