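import Mathlib

/-!
# Restriction of scalars along a ring isomorphism is (strong) monoidal; the pushforward of
presheaves of modules along a sectionwise bijective morphism of presheaves of commutative rings
commutes with tensor products
-/

set_option autoImplicit false
universe u
open CategoryTheory MonoidalCategory

namespace Groth.Agent.Lib.Helper16.RM

section ModuleLevel

variable {S₀ T₀ : Type u} [CommRing S₀] [CommRing T₀] (a : S₀ →+* T₀)
  (M N : ModuleCat.{u} T₀)

/-- restriction of scalars. -/
noncomputable abbrev rs (M : ModuleCat.{u} T₀) : ModuleCat.{u} S₀ :=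
  (ModuleCat.restrictScalars a).obj M

lemma rs_smul (s : S₀) (m : rs a M) : s • m = (a s • (show M from m) : M) := rfl

/-- the comparison map `M|_S ⊗_S N|_S ⟶ (M ⊗_T N)|_S`. -/
noncomputable def rsTensorHom : rs a M ⊗ rs a N ⟶ rs a (M ⊗ N) :=
  ModuleCat.MonoidalCategory.tensorLift (M₃ := rs a (M ⊗ N))
    (fun m n => ((show M from m) ⊗ₜ[T₀] (show N from n) : (M ⊗ N : ModuleCat T₀)))
    (fun m m' n => TensorProduct.add_tmul _ _ _)
    (fun s m n => by
      show (a s • (show M from m)) ⊗ₜ[T₀] (show N from n) = a s • ((show M from m) ⊗ₜ[T₀] (show N from n))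
      rw [TensorProduct.smul_tmul'])
    (fun m n n' => TensorProduct.tmul_add _ _ _)
    (fun s m n => by
      show (show M from m) ⊗ₜ[T₀] (a s • (show N from n)) = a s • ((show M from m) ⊗ₜ[T₀] (show N from n))
      rw [TensorProduct.tmul_smul])

lemma rsTensorHom_tmul (m : M) (n : N) :
    (rsTensorHom a M N).hom ((show rs a M from m) ⊗ₜ[S₀] (show rs a N from n)) =
      (m ⊗ₜ[T₀] n : (M ⊗ N : ModuleCat T₀)) := rfl

variable (b : T₀ →+* S₀) (hab : ∀ t, a (b t) = t)

/-- the biadditive map underlying the inverse. -/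
noncomputable def rsTensorInvAux : M →+ N →+ (rs a M ⊗ rs a N : ModuleCat S₀) where
  toFun m := ((TensorProduct.mk S₀ (rs a M) (rs a N)) (show rs a M from m)).toAddMonoidHom
  map_zero' := by ext n; exact TensorProduct.zero_tmul _ _
  map_add' m m' := by ext n; exact TensorProduct.add_tmul _ _ _

include hab in
lemma rsTensorInvAux_balanced (t : T₀) (m : M) (n : N) :
    rsTensorInvAux a M N (t • m) n = rsTensorInvAux a M N m (t • n) := by
  have h := TensorProduct.smul_tmul (R := S₀) (b t) (show rs a M from m) (show rs a N from n)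
  have h1 : (b t • (show rs a M from m) : rs a M) = (show rs a M from (t • m : M)) := by
    rw [rs_smul, hab]
  have h2 : (b t • (show rs a N from n) : rs a N) = (show rs a N from (t • n : N)) := by
    rw [rs_smul, hab]
  rw [h1, h2] at h
  exact h

/-- the inverse comparison map. -/
noncomputable def rsTensorInvₗ :
    (rs a (M ⊗ N) : ModuleCat S₀) →ₗ[S₀] (rs a M ⊗ rs a N : ModuleCat S₀) where
  toFun := fun x => TensorProduct.liftAddHom (rsTensorInvAux a M N)
    (rsTensorInvAux_balanced a M N b hab) (show (M ⊗ N : ModuleCat T₀) from x)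
  map_add' := fun x y => map_add (TensorProduct.liftAddHom (rsTensorInvAux a M N)
    (rsTensorInvAux_balanced a M N b hab)) _ _
  map_smul' := fun s x => by
    show TensorProduct.liftAddHom _ _ (a s • (show (M ⊗ N : ModuleCat T₀) from x)) = _
    induction (show (M ⊗ N : ModuleCat T₀) from x) using TensorProduct.induction_on with
    | zero => simp
    | tmul m n =>
      rw [TensorProduct.smul_tmul']
      rfl
    | add x y hx hy =>
      rw [smul_add, map_add, hx, hy]
      simp only [RingHom.id_apply]
      rw [← smul_add, ← map_add]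

/-- the inverse comparison map. -/
noncomputable def rsTensorInv : rs a (M ⊗ N) ⟶ rs a M ⊗ rs a N :=
  ModuleCat.ofHom (R := S₀) (X := (rs a (M ⊗ N) : ModuleCat S₀))
    (Y := (rs a M ⊗ rs a N : ModuleCat S₀)) (rsTensorInvₗ a M N b hab)

lemma rsTensorInv_tmul (m : M) (n : N) :
    (rsTensorInv a M N b hab).hom
      (show rs a (M ⊗ N) from (m ⊗ₜ[T₀] n : (M ⊗ N : ModuleCat T₀))) =
      (show rs a M from m) ⊗ₜ[S₀] (show rs a N from n) := rfl

/-- **restriction of scalars along a ring isomorphism commutes with tensor products.** -/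
noncomputable def rsTensorIso : rs a M ⊗ rs a N ≅ rs a (M ⊗ N) where
  hom := rsTensorHom a M N
  inv := rsTensorInv a M N b hab
  hom_inv_id := ModuleCat.MonoidalCategory.tensor_ext (fun m n => rfl)
  inv_hom_id := by
    ext x
    induction (show (M ⊗ N : ModuleCat T₀) from x) using TensorProduct.induction_on with
    | zero => exact map_zero _
    | tmul m n => rfl
    | add x y hx hy => exact (map_add _ _ _).trans (by rw [hx, hy]; rfl)

end ModuleLevel

section PresheafLevel

variable {C D : Type*} [Category C] [Category D] (F : C ⥤ D)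
  (R : Dᵒᵖ ⥤ CommRingCat.{u}) (S : Cᵒᵖ ⥤ CommRingCat.{u})
  (α : S ⟶ F.op ⋙ R) (β : F.op ⋙ R ⟶ S) (hαβ : β ≫ α = 𝟙 _)

/-- the induced morphism of presheaves of rings. -/
abbrev φr : S ⋙ forget₂ CommRingCat RingCat ⟶ F.op ⋙ (R ⋙ forget₂ CommRingCat RingCat) :=
  Functor.whiskerRight α (forget₂ _ _)

/-- the pushforward of presheaves of modules. -/
noncomputable abbrev RP : PresheafOfModules.{u} (R ⋙ forget₂ _ _) ⥤
    PresheafOfModules.{u} (S ⋙ forget₂ _ _) :=
  PresheafOfModules.pushforward (φr F R S α)

include hαβ in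
lemma α_β_apply (U : Cᵒᵖ) (t : R.obj (F.op.obj U)) : (α.app U).hom ((β.app U).hom t) = t :=
  congr_fun (congrArg (fun (k : _ ⟶ _) => (k.app U).hom) hαβ) t

variable (A B : PresheafOfModules.{u} (R ⋙ forget₂ _ _))

/-- the sectionwise comparison isomorphism. -/
noncomputable def νApp (U : Cᵒᵖ) :
    ((RP F R S α).obj A ⊗ (RP F R S α).obj B).obj U ≅ ((RP F R S α).obj (A ⊗ B)).obj U :=
  rsTensorIso (α.app U).hom (A.obj (F.op.obj U)) (B.obj (F.op.obj U)) (β.app U).hom
    (α_β_apply F R S α β hαβ U)

/-- **the pushforward along a sectionwise bijective morphism of presheaves of commutative rings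
commutes with tensor products.** -/
noncomputable def νIso :
    (RP F R S α).obj A ⊗ (RP F R S α).obj B ≅ (RP F R S α).obj (A ⊗ B) :=
  PresheafOfModules.isoMk (νApp F R S α β hαβ A B) (fun _ _ _ =>
    ModuleCat.MonoidalCategory.tensor_ext (fun _ _ => rfl))

lemma νIso_hom_app (U : Cᵒᵖ) :
    (νIso F R S α β hαβ A B).hom.app U =
      rsTensorHom (α.app U).hom (A.obj (F.op.obj U)) (B.obj (F.op.obj U)) := rfl

variable {A B} in
lemma νIso_hom_naturality {A' B' : PresheafOfModules.{u} (R ⋙ forget₂ _ _)}
    (f : A ⟶ A') (g : B ⟶ B') :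
    ((RP F R S α).map f ⊗ₘ (RP F R S α).map g) ≫ (νIso F R S α β hαβ A' B').hom =
      (νIso F R S α β hαβ A B).hom ≫ (RP F R S α).map (f ⊗ₘ g) := by
  ext1 U
  exact ModuleCat.MonoidalCategory.tensor_ext (fun _ _ => rfl)

end PresheafLevel

end Groth.Agent.Lib.Helper16.RM
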