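import Mathlib
import Groth.Agent.Lib.Helper16.RelAmp1
import Groth.Agent.Lib.Helper16.TorLoc7

/-!
# Helper16 — RelAmp2: stalkwise relative tor amplitude and commutative squares of open immersions
-/

set_option autoImplicit false
universe u
open CategoryTheory CategoryTheory.Limits AlgebraicGeometry DerivedCategory

attribute [local instance] HasDerivedCategory.standard

namespace Groth.Agent.Lib.Helper16.RelAmp

open Groth.Agent.Lib.Helper16.RS Groth.Agent.Lib.Helper16.Stk Groth.Agent.Lib.Helper16.KD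
  Groth.Agent.Lib.Helper16 Groth.Agent.Lib.Helper16.TorLoc ZeroObject

section Square

variable {U X V Y : Scheme.{u}} (f : X ⟶ Y) (f' : U ⟶ V) (j : U ⟶ X) (j' : V ⟶ Y)

/-- pointwise relative tor amplitude in a commutative square of open immersions. -/
theorem hasTorAmplitudeAt_square_iff [IsOpenImmersion j] [IsOpenImmersion j']
    (w : j ≫ f = f' ≫ j') (F : CochainComplex X.Modules ℤ) (m n : ℤ) (x : U) :
    DerSch.HasTorAmplitudeAt f' m n ((RS.RCx j).obj F) x ↔
      DerSch.HasTorAmplitudeAt f m n F (j.base x) := by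
  obtain ⟨α, hα, hsq⟩ := exists_stalk_square f f' j j' w x
  have hαb : Function.Bijective α.hom := ConcreteCategory.bijective_of_isIso α
  have hβb : Function.Bijective (j.stalkMap x).hom := ConcreteCategory.bijective_of_isIso _
  have hsq' : (j.stalkMap x).hom.comp (f.stalkMap (j.base x)).hom =
      (f'.stalkMap x).hom.comp α.hom := by
    rw [← CommRingCat.hom_comp, ← CommRingCat.hom_comp, hsq]
  have e : (DerSch.stalkCxOver f' x).obj ((RS.RCx j).obj F) ≅
      (resCx (f'.stalkMap x).hom).obj
        ((extCx (j.stalkMap x).hom).obj (stkCx (j.base x) F)) :=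
    Groth.Agent.S6188.stalkCxOverIso f' x _ ≪≫ (resCx (f'.stalkMap x).hom).mapIso
      (((stk x).mapHomologicalComplex (ComplexShape.up ℤ)).mapIso ((RS.RCxIsoPullCx j).app F) ≪≫
        pullbackStkCxIso j x F)
  constructor
  · intro h
    have h1 : DRing.HasTorAmplitudeIn (V.presheaf.stalk (f'.base x)) m n
        (DRing.toD ((resCx (f'.stalkMap x).hom).obj
          ((extCx (j.stalkMap x).hom).obj (stkCx (j.base x) F)))) :=
      TorAmp.hasTorAmplitudeIn_of_iso (Q.mapIso e) m n h
    have hcons : ∀ Y' : ModuleCat.{u} (X.presheaf.stalk (j.base x)),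
        (∀ _ : Unit, IsZero ((ModuleCat.extendScalars.{u, u, u} (j.stalkMap x).hom).obj Y')) →
          IsZero Y' := by
      intro Y' hY'
      haveI := isIso_unit_of_bijective (j.stalkMap x).hom hβb
      exact IsZero.of_iso
        ((ModuleCat.restrictScalars.{u} (j.stalkMap x).hom).map_isZero (hY' ()))
        (asIso ((ModuleCat.extendRestrictScalarsAdj.{u} (j.stalkMap x).hom).unit.app Y'))
    have key := torAmp_up (ι := Unit) (f.stalkMap (j.base x)).hom (fun _ => (f'.stalkMap x).hom)
      (fun _ => α.hom) (fun _ => (j.stalkMap x).hom) (fun _ => hsq')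
      (fun _ => RingHom.Flat.of_bijective hαb) (fun _ => RingHom.Flat.of_bijective hβb) hcons
      (stkCx (j.base x) F) m n (fun _ => h1)
    exact TorAmp.hasTorAmplitudeIn_of_iso
      (Q.mapIso (Groth.Agent.S6188.stalkCxOverIso f (j.base x) F)).symm m n key
  · intro hF
    have hW : DRing.HasTorAmplitudeIn (Y.presheaf.stalk (f.base (j.base x))) m n
        (DRing.toD ((resCx (f.stalkMap (j.base x)).hom).obj (stkCx (j.base x) F))) :=
      TorAmp.hasTorAmplitudeIn_of_iso (Q.mapIso (Groth.Agent.S6188.stalkCxOverIso f (j.base x) F))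
        m n hF
    have key := torAmp_down (f.stalkMap (j.base x)).hom (f'.stalkMap x).hom α.hom
      (j.stalkMap x).hom hsq' (RingHom.Flat.of_bijective hαb) (RingHom.Flat.of_bijective hβb)
      (nonempty_ext_res_iso_of_bijective α.hom hαb) (stkCx (j.base x) F) m n hW
    exact TorAmp.hasTorAmplitudeIn_of_iso (Q.mapIso e).symm _ _ key

/-- derived-category version. -/
theorem torAt_square_iff [IsOpenImmersion j] [IsOpenImmersion j']
    (w : j ≫ f = f' ≫ j') (K : DCoh.D X) (m n : ℤ) (x : U) :
    TorAt f' m n ((RD j).obj K) x ↔ TorAt f m n K (j.base x) := by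
  obtain ⟨F, ⟨e⟩⟩ := RS.exists_rep K
  have e' : (RD j).obj K ≅ DCoh.toD U ((RS.RCx j).obj F) := (RD j).mapIso e.symm ≪≫ RDQIso j F
  constructor
  · intro h
    have h1 := (torAt_toD_iff f' m n _ x).1 (torAt_of_iso f' m n e' x h)
    have h2 := (hasTorAmplitudeAt_square_iff f f' j j' w F m n x).1 h1
    exact torAt_of_iso f m n e _ ((torAt_toD_iff f m n F _).2 h2)
  · intro h
    have h1 := (torAt_toD_iff f m n F _).1 (torAt_of_iso f m n e.symm _ h)
    have h2 := (hasTorAmplitudeAt_square_iff f f' j j' w F m n x).2 h1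
    exact torAt_of_iso f' m n e'.symm x ((torAt_toD_iff f' m n _ x).2 h2)

/-- `LocTorAt` restricts along squares of open immersions. -/
theorem locTorAt_RD_of_square [IsOpenImmersion j] [IsOpenImmersion j']
    (w : j ≫ f = f' ≫ j') (K : DCoh.D X) (h : LocTorAt f K) : LocTorAt f' ((RD j).obj K) := by
  intro z
  obtain ⟨W, a, b, hz, hW⟩ := h (j.base z)
  exact ⟨j ⁻¹ᵁ W, a, b, hz, fun z' hz' => (torAt_square_iff f f' j j' w K a b z').2 (hW _ hz')⟩

/-- `LocTorAt` at the points of the image of a chart. -/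
theorem exists_torAt_of_square [IsOpenImmersion j] [IsOpenImmersion j']
    (w : j ≫ f = f' ≫ j') (K : DCoh.D X) (h : LocTorAt f' ((RD j).obj K)) (z : U) :
    ∃ (W : X.Opens) (a b : ℤ), j.base z ∈ W ∧ ∀ x' : X, x' ∈ W → TorAt f a b K x' := by
  obtain ⟨W', a, b, hz, hW'⟩ := h z
  refine ⟨j ''ᵁ W', a, b, ⟨z, hz, rfl⟩, ?_⟩
  rintro x' ⟨z', hz', rfl⟩
  exact (torAt_square_iff f f' j j' w K a b z').1 (hW' z' hz')

end Square

end Groth.Agent.Lib.Helper16.RelAmp
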