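import Mathlib
import Groth.Prelude
import Groth.Agent.Lib.Helper16.RelAmp2
import Groth.Agent.Lib.Helper16.AffRed5
import Groth.Agent.S7264
import Groth.Agent.S0997

/-!
# Helper16 — RelAmp3: `S`-perfect objects and affine charts (S7278)
-/

set_option autoImplicit false
set_option linter.style.haveILetI false
universe u
open CategoryTheory CategoryTheory.Limits AlgebraicGeometry DerivedCategory Opposite

attribute [local instance] HasDerivedCategory.standard

namespace Groth.Agent.Lib.Helper16.RelAmp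

open Groth.Agent.Lib.Helper16.RS Groth.Agent.Lib.Helper16.AffRed Groth.Agent.Lib.Helper1.LocPC

section Chart

variable {X S : Scheme.{u}} (f : X ⟶ S) [Flat f] [LocallyOfFinitePresentation f]
  [inst : ∀ R : CommRingCat.{u}, PreservesFiniteLimits (tilde.functor R)]
  {U : X.Opens} (hU : IsAffineOpen U) {V : S.Opens} (hV : IsAffineOpen V) (hUV : U ≤ f ⁻¹ᵁ V)

include hV in
/-- from `S`-perfectness to relative perfectness of the sections on an affine pair. -/
theorem isRelPerfect_of_chart (E : DCoh.D X) (hpc : ∀ m : ℤ, DCoh.IsPseudoCoherentD m E)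
    (hT : LocTorAt f E) (M : DerivedCategory (ModuleCat.{u} Γ(X, U)))
    (e : (DCoh.tildeD Γ(X, U)).obj M ≅ (RD hU.fromSpec).obj E) :
    @Dual2.IsRelPerfect Γ(S, V) Γ(X, U) _ _ (f.appLE V U hUV).hom.toAlgebra M := by
  letI : Algebra Γ(S, V) Γ(X, U) := (f.appLE V U hUV).hom.toAlgebra
  haveI hfl : Module.Flat Γ(S, V) Γ(X, U) :=
    HasRingHomProperty.appLE (P := @Flat) f inferInstance ⟨V, hV⟩ ⟨U, hU⟩ hUV
  haveI : Algebra.FinitePresentation Γ(S, V) Γ(X, U) :=
    HasRingHomProperty.appLE (P := @LocallyOfFinitePresentation) f inferInstance ⟨V, hV⟩ ⟨U, hU⟩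
      hUV
  have w : hU.fromSpec ≫ f =
      Spec.map (CommRingCat.ofHom (algebraMap Γ(S, V) Γ(X, U))) ≫ hV.fromSpec :=
    (IsAffineOpen.SpecMap_appLE_fromSpec f hV hU hUV).symm
  haveI : Flat (Spec.map (CommRingCat.ofHom (algebraMap Γ(S, V) Γ(X, U)))) :=
    (HasRingHomProperty.Spec_iff (P := @Flat)).2 hfl
  refine (Groth.Agent.S7264.result Γ(S, V) Γ(X, U) M).1 ⟨fun m => ?_, ?_⟩
  · exact isPseudoCoherentD_of_iso e.symm (isPseudoCoherentD_RD hU.fromSpec m E (hpc m))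
  · rw [locHasFiniteRelTorDim_iff]
    exact locTorAt_of_iso _ e.symm (locTorAt_RD_of_square f _ hU.fromSpec hV.fromSpec w E hT)

include hV in
/-- from relative perfectness of the sections on an affine pair to `S`-perfectness on the chart. -/
theorem chart_of_isRelPerfect (E : DCoh.D X) (M : DerivedCategory (ModuleCat.{u} Γ(X, U)))
    (e : (DCoh.tildeD Γ(X, U)).obj M ≅ (RD hU.fromSpec).obj E)
    (h : @Dual2.IsRelPerfect Γ(S, V) Γ(X, U) _ _ (f.appLE V U hUV).hom.toAlgebra M) :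
    (∀ m : ℤ, DCoh.IsPseudoCoherentD m ((RD hU.fromSpec).obj E)) ∧
      ∀ z : Spec Γ(X, U), ∃ (W : X.Opens) (a b : ℤ), hU.fromSpec.base z ∈ W ∧
        ∀ x' : X, x' ∈ W → TorAt f a b E x' := by
  letI : Algebra Γ(S, V) Γ(X, U) := (f.appLE V U hUV).hom.toAlgebra
  haveI hfl : Module.Flat Γ(S, V) Γ(X, U) :=
    HasRingHomProperty.appLE (P := @Flat) f inferInstance ⟨V, hV⟩ ⟨U, hU⟩ hUV
  haveI : Algebra.FinitePresentation Γ(S, V) Γ(X, U) :=
    HasRingHomProperty.appLE (P := @LocallyOfFinitePresentation) f inferInstance ⟨V, hV⟩ ⟨U, hU⟩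
      hUV
  have w : hU.fromSpec ≫ f =
      Spec.map (CommRingCat.ofHom (algebraMap Γ(S, V) Γ(X, U))) ≫ hV.fromSpec :=
    (IsAffineOpen.SpecMap_appLE_fromSpec f hV hU hUV).symm
  haveI : Flat (Spec.map (CommRingCat.ofHom (algebraMap Γ(S, V) Γ(X, U)))) :=
    (HasRingHomProperty.Spec_iff (P := @Flat)).2 hfl
  obtain ⟨h1, h2⟩ := (Groth.Agent.S7264.result Γ(S, V) Γ(X, U) M).2 h
  refine ⟨fun m => isPseudoCoherentD_of_iso e (h1 m), fun z => ?_⟩
  rw [locHasFiniteRelTorDim_iff] at h2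
  exact exists_torAt_of_square f _ hU.fromSpec hV.fromSpec w E (locTorAt_of_iso _ e h2) z

end Chart

section Main

variable {X S : Scheme.{u}} (f : X ⟶ S) [Flat f] [LocallyOfFinitePresentation f]
  [inst : ∀ R : CommRingCat.{u}, PreservesFiniteLimits (tilde.functor R)]
  (E : DCoh.D X)

omit inst in
/-- the two-step restriction to `Spec Γ(X, U)` is the restriction along `fromSpec`. -/
theorem nonempty_restrict_iso {U : X.Opens} (hU : IsAffineOpen U) :
    Nonempty ((DCoh.restrictD hU.isoSpec.inv).obj ((DCoh.restrictD U.ι).obj E) ≅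
      (RD hU.fromSpec).obj E) :=
  nonempty_RD_fac_iso U.ι hU.isoSpec.inv hU.fromSpec rfl E

/-- `S`-perfectness from relative perfectness of sections on a covering family of affine pairs. -/
theorem sperfect_of_cover (hE : DCoh.IsQCohD E) (ι : Type u) (V : ι → S.Opens)
    (hV : ∀ i, IsAffineOpen (V i)) (hVcov : ⨆ i, V i = ⊤)
    (κ : ι → Type u) (U : ∀ i, κ i → X.Opens) (hU : ∀ i j, IsAffineOpen (U i j))
    (hUV : ∀ i j, U i j ≤ f ⁻¹ᵁ V i) (hUcov : ∀ i, ⨆ j, U i j = f ⁻¹ᵁ V i)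
    (h : ∀ (i : ι) (j : κ i) (M : DerivedCategory (ModuleCat.{u} Γ(X, U i j))),
      Nonempty ((DCoh.restrictD (hU i j).isoSpec.inv).obj ((DCoh.restrictD (U i j).ι).obj E) ≅
          (DCoh.tildeD Γ(X, U i j)).obj M) →
        @Dual2.IsRelPerfect Γ(S, V i) Γ(X, U i j) _ _
          (f.appLE (V i) (U i j) (hUV i j)).hom.toAlgebra M) :
    (∀ m : ℤ, DCoh.IsPseudoCoherentD m E) ∧ DCoh.LocHasFiniteRelTorDim f E := by
  have hcov : ∀ x : X, ∃ i j, x ∈ U i j := by
    intro x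
    have h1 : f.base x ∈ (⨆ i, V i : S.Opens) := by rw [hVcov]; trivial
    obtain ⟨i, hi⟩ := TopologicalSpace.Opens.mem_iSup.1 h1
    have h2 : x ∈ (⨆ j, U i j : X.Opens) := by rw [hUcov i]; exact hi
    obtain ⟨j, hj⟩ := TopologicalSpace.Opens.mem_iSup.1 h2
    exact ⟨i, j, hj⟩
  have key : ∀ i j, (∀ m : ℤ, DCoh.IsPseudoCoherentD m ((RD (hU i j).fromSpec).obj E)) ∧
      ∀ z : Spec Γ(X, U i j), ∃ (W : X.Opens) (a b : ℤ), (hU i j).fromSpec.base z ∈ W ∧
        ∀ x' : X, x' ∈ W → TorAt f a b E x' := by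
    intro i j
    obtain ⟨M, ⟨e⟩⟩ := ((Groth.Agent.S0997.result Γ(X, U i j)).2.2 _).1
      (isQCohD_RD (hU i j).fromSpec E hE)
    obtain ⟨e0⟩ := nonempty_restrict_iso E (hU i j)
    exact chart_of_isRelPerfect f (hU i j) (hV i) (hUV i j) E M e (h i j M ⟨e0 ≪≫ e.symm⟩)
  constructor
  · intro m
    apply isPseudoCoherentD_of_cover
    intro x
    obtain ⟨i, j, hx⟩ := hcov x
    refine ⟨_, (hU i j).fromSpec, inferInstance, ?_, (key i j).1 m⟩
    rw [(hU i j).range_fromSpec]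
    exact hx
  · rw [locHasFiniteRelTorDim_iff]
    intro x
    obtain ⟨i, j, hx⟩ := hcov x
    have hxr : x ∈ Set.range (hU i j).fromSpec := by
      rw [(hU i j).range_fromSpec]; exact hx
    obtain ⟨z, rfl⟩ := hxr
    exact (key i j).2 z

/-- `S`-perfectness is relative perfectness of sections on all affine pairs. -/
theorem sperfect_iff_charts (hE : DCoh.IsQCohD E) :
    ((∀ m : ℤ, DCoh.IsPseudoCoherentD m E) ∧ DCoh.LocHasFiniteRelTorDim f E) ↔
      ∀ (U : X.Opens) (hU : IsAffineOpen U) (V : S.Opens) (hV : IsAffineOpen V)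
        (hUV : U ≤ f ⁻¹ᵁ V) (M : DerivedCategory (ModuleCat.{u} Γ(X, U))),
        Nonempty ((DCoh.restrictD hU.isoSpec.inv).obj ((DCoh.restrictD U.ι).obj E) ≅
          (DCoh.tildeD Γ(X, U)).obj M) →
          @Dual2.IsRelPerfect Γ(S, V) Γ(X, U) _ _ (f.appLE V U hUV).hom.toAlgebra M := by
  constructor
  · rintro ⟨hpc, hT⟩ U hU V hV hUV M ⟨e⟩
    rw [locHasFiniteRelTorDim_iff] at hT
    obtain ⟨e0⟩ := nonempty_restrict_iso E hU
    exact isRelPerfect_of_chart f hU hV hUV E hpc hT M (e.symm ≪≫ e0)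
  · intro h
    refine sperfect_of_cover f E hE S.affineOpens (fun V => V.1) (fun V => V.2)
      (iSup_affineOpens_eq_top S)
      (fun V => {U : X.affineOpens // U.1 ≤ f ⁻¹ᵁ V.1}) (fun V U => U.1.1) (fun V U => U.1.2)
      (fun V U => U.2) ?_ ?_
    · intro V
      refine le_antisymm (iSup_le fun U => U.2) ?_
      intro x hx
      obtain ⟨U', hU', hxU', hle⟩ :=
        exists_isAffineOpen_mem_and_subset (x := x) (U := f ⁻¹ᵁ V.1) hx
      exact TopologicalSpace.Opens.mem_iSup.2 ⟨⟨⟨U', hU'⟩, hle⟩, hxU'⟩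
    · intro V U M hM
      exact h _ U.1.2 _ V.2 U.2 M hM

end Main

end Groth.Agent.Lib.Helper16.RelAmp
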