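import Mathlib
import Groth.Agent.Lib.Helper16.RelBC1

/-!
# Helper16 — FlatBC2: `A → R' ⊗_R A` is surjective with nilpotent kernel when `R → R'` is
-/

set_option autoImplicit false
universe u
open TensorProduct

namespace Groth.Agent.Lib.Helper16.RelBC

variable (R A R' : Type u) [CommRing R] [CommRing A] [Algebra R A] [CommRing R'] [Algebra R R']

lemma ι_surjective (hs : Function.Surjective (algebraMap R R')) :
    Function.Surjective (ι R A R') := by
  intro x
  induction x using TensorProduct.induction_on with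
  | zero => exact ⟨0, map_zero _⟩
  | tmul s a =>
    obtain ⟨r, rfl⟩ := hs s
    refine ⟨r • a, ?_⟩
    change (1 : R') ⊗ₜ[R] (r • a) = algebraMap R R' r ⊗ₜ[R] a
    rw [← TensorProduct.smul_tmul, Algebra.algebraMap_eq_smul_one]
  | add x y hx hy =>
    obtain ⟨a, rfl⟩ := hx
    obtain ⟨b, rfl⟩ := hy
    exact ⟨a + b, map_add _ _ _⟩

lemma ker_ι_le (hs : Function.Surjective (algebraMap R R')) :
    RingHom.ker (ι R A R') ≤ (RingHom.ker (algebraMap R R')).map (algebraMap R A) := by
  intro x hx
  have hf : Function.Surjective (Algebra.ofId R R') := hs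
  have h1 := Algebra.TensorProduct.rTensor_ker (R := R) (C := A) (Algebra.ofId R R') hf
  have h2 : ((1 : R) ⊗ₜ[R] x : R ⊗[R] A) ∈
      RingHom.ker (Algebra.TensorProduct.map (Algebra.ofId R R') (AlgHom.id R A)) := by
    rw [RingHom.mem_ker] at hx ⊢
    rw [Algebra.TensorProduct.map_tmul, map_one]
    exact hx
  rw [h1] at h2
  have h3 : Ideal.map (Algebra.TensorProduct.includeLeft : R →ₐ[R] R ⊗[R] A)
      (RingHom.ker (Algebra.ofId R R')) ≤
      Ideal.comap (Algebra.TensorProduct.lid R A).toAlgHom
        ((RingHom.ker (algebraMap R R')).map (algebraMap R A)) := by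
    rw [Ideal.map_le_iff_le_comap]
    intro r hr
    rw [Ideal.mem_comap, Ideal.mem_comap]
    have : (Algebra.TensorProduct.lid R A).toAlgHom
        ((Algebra.TensorProduct.includeLeft : R →ₐ[R] R ⊗[R] A) r) = algebraMap R A r := by
      simp [Algebra.algebraMap_eq_smul_one]
    rw [this]
    exact Ideal.mem_map_of_mem _ hr
  have h4 := h3 h2
  rw [Ideal.mem_comap] at h4
  simpa using h4

lemma isNilpotent_ker_ι (hs : Function.Surjective (algebraMap R R'))
    (hn : IsNilpotent (RingHom.ker (algebraMap R R'))) : IsNilpotent (RingHom.ker (ι R A R')) := by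
  obtain ⟨n, hn⟩ := hn
  refine ⟨n, ?_⟩
  have h1 := Ideal.pow_right_mono (ker_ι_le R A R' hs) n
  rw [← Ideal.map_pow, hn] at h1
  rw [Ideal.zero_eq_bot, Ideal.map_bot] at h1
  exact le_bot_iff.1 h1

end Groth.Agent.Lib.Helper16.RelBC
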