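import Mathlib
import Groth.Agent.Lib.Helper16.RelDesc5
import Groth.Agent.Lib.Helper16.RelTens2

/-!
# Helper16 — RelBCS1: base change and composition for relative pseudo-coherence (chart form) of
objects with quasi-coherent cohomology: ring-level inputs in terms of ring homomorphisms, and the
module complex of a derived pullback on a chart.
-/

set_option autoImplicit false
set_option linter.style.haveILetI false
universe u
open CategoryTheory CategoryTheory.Limits AlgebraicGeometry CategoryTheory.Pretriangulated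

attribute [local instance] HasDerivedCategory.standard

namespace Groth.Agent.Lib.Helper16.RelBCS

open Groth.Agent.Lib.Helper16.RS DerivedCategory Groth.Agent.Lib.Helper1.LocPC
  Groth.Agent.Lib.Helper16.PC Groth.Agent.Lib.Helper16.CIPC Groth.Agent.Lib.Helper16.AffRed
  Groth.Agent.Lib.Helper16.RelPC Scheme.Modules Groth.Agent.Lib.Helper16.CI
  Groth.Agent.Lib.Helper16.FlatBC Groth.Agent.Lib.Helper16.KD Groth.Agent.Lib.Helper16.TIBC
  Groth.Agent.Lib.Helper16.RelDesc

section Chart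

variable {A B : Type u} [CommRing A] [CommRing B] (ρ : A →+* B)

/-- `L(Spec B → Spec A → X)^* E ≅ (ω ⊗^L_A B)~` when `E|_{Spec A} ≅ ω~`. -/
theorem nonempty_Lpull_chart_iso' {X : Scheme.{u}} (E : DCoh.D X)
    (jA : Spec (CommRingCat.of A) ⟶ X) [IsOpenImmersion jA] (ω : Dual.D A)
    (e : (RD jA).obj E ≅ (DCoh.tildeD (CommRingCat.of A)).obj ω)
    [DCoh.HasLpull (Spec.map (CommRingCat.ofHom ρ) ≫ jA)] [DRing.HasLBaseChange ρ] :
    Nonempty ((DCoh.Lpull (Spec.map (CommRingCat.ofHom ρ) ≫ jA)).obj E ≅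
      (DCoh.tildeD (CommRingCat.of B)).obj ((DRing.LBaseChange ρ).obj ω)) := by
  haveI := hasLpull jA
  haveI := hasLpull (Spec.map (CommRingCat.ofHom ρ))
  obtain ⟨e0⟩ := nonempty_Lpull_iso_RD jA E
  obtain ⟨e55⟩ := Groth.Agent.S1055.result ρ
  exact ⟨((LpullCompIso (Spec.map (CommRingCat.ofHom ρ)) jA).app E).symm ≪≫
    (DCoh.Lpull (Spec.map (CommRingCat.ofHom ρ))).mapIso (e0 ≪≫ e) ≪≫
    (e55.app ω).symm⟩

/-- `(Lf^* E)|_{Spec B} ≅ (ω ⊗^L_A B)~` for a chart `Spec B → Spec A` of `f`. -/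
theorem nonempty_RD_Lpull_chart_iso' {X' X : Scheme.{u}} (f : X' ⟶ X) [DCoh.HasLpull f]
    (E : DCoh.D X) (g : Spec (CommRingCat.of B) ⟶ X') [IsOpenImmersion g]
    (jA : Spec (CommRingCat.of A) ⟶ X) [IsOpenImmersion jA]
    (hg : g ≫ f = Spec.map (CommRingCat.ofHom ρ) ≫ jA) (ω : Dual.D A)
    (e : (RD jA).obj E ≅ (DCoh.tildeD (CommRingCat.of A)).obj ω) [DRing.HasLBaseChange ρ] :
    Nonempty ((RD g).obj ((DCoh.Lpull f).obj E) ≅
      (DCoh.tildeD (CommRingCat.of B)).obj ((DRing.LBaseChange ρ).obj ω)) := by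
  haveI := hasLpull g
  haveI := hasLpull (g ≫ f)
  haveI := hasLpull (Spec.map (CommRingCat.ofHom ρ) ≫ jA)
  obtain ⟨e1⟩ := nonempty_Lpull_iso_RD g ((DCoh.Lpull f).obj E)
  obtain ⟨e2⟩ := nonempty_Lpull_chart_iso' ρ E jA ω e
  have key : ∀ (k : Spec (CommRingCat.of B) ⟶ X) [DCoh.HasLpull k],
      k = Spec.map (CommRingCat.ofHom ρ) ≫ jA →
      Nonempty ((DCoh.Lpull k).obj E ≅
        (DCoh.tildeD (CommRingCat.of B)).obj ((DRing.LBaseChange ρ).obj ω)) := by
    intro k _ hk
    subst hk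
    exact ⟨e2⟩
  obtain ⟨e3⟩ := key (g ≫ f) hg
  exact ⟨e1.symm ≪≫ (LpullCompIso g f).app E ≪≫ e3⟩

variable {X : Scheme.{u}}

/-- the module complex of `Lg^* E` on an affine open `U' ⊆ g⁻¹ U`. -/
theorem nonempty_tildeD_iso_KU_Lpull' {X' : Scheme.{u}} (g : X' ⟶ X) [DCoh.HasLpull g]
    (E : DCoh.D X) {U : X.Opens} (hU : IsAffineOpen U) {U' : X'.Opens} (hU' : IsAffineOpen U')
    (hle : U' ≤ g ⁻¹ᵁ U) (M : Dual.D Γ(X, U))
    (eM : (DCoh.tildeD (X.presheaf.obj (Opposite.op U))).obj M ≅ KU hU E)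
    [DRing.HasLBaseChange (g.appLE U U' hle).hom] :
    Nonempty ((DCoh.tildeD (X'.presheaf.obj (Opposite.op U'))).obj
        ((DRing.LBaseChange (g.appLE U U' hle).hom).obj M) ≅
      KU hU' ((DCoh.Lpull g).obj E)) := by
  have hg : hU'.fromSpec ≫ g =
      Spec.map (CommRingCat.ofHom (g.appLE U U' hle).hom) ≫ hU.fromSpec :=
    (IsAffineOpen.SpecMap_appLE_fromSpec g hU hU' hle).symm
  obtain ⟨e⟩ := nonempty_RD_Lpull_chart_iso' (A := Γ(X, U)) (B := Γ(X', U'))
    (g.appLE U U' hle).hom g E hU'.fromSpec hU.fromSpec hg M eM.symm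
  exact ⟨e.symm⟩

end Chart

section Ring

variable {R S R' S' : Type u} [CommRing R] [CommRing S] [CommRing R'] [CommRing S']

open CommRingCat in
/-- flat base change of relative pseudo-coherence in terms of ring homomorphisms. -/
theorem rel_lBaseChange_flat (φRS : R →+* S) (φRR' : R →+* R') (φSS' : S →+* S')
    (φR'S' : R' →+* S')
    (PO : IsPushout (ofHom φRS) (ofHom φRR') (ofHom φSS') (ofHom φR'S'))
    (hfl : φRR'.Flat) [DRing.HasLBaseChange φSS'] (K : Dual.D S) (m : ℤ)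
    (h : letI := φRS.toAlgebra
      DerCA.IsRelPseudoCoherent R S m K) :
    letI := φR'S'.toAlgebra
    DerCA.IsRelPseudoCoherent R' S' m ((DRing.LBaseChange φSS').obj K) := by
  letI aRS : Algebra R S := φRS.toAlgebra
  letI aRR' : Algebra R R' := φRR'.toAlgebra
  letI aSS' : Algebra S S' := φSS'.toAlgebra
  letI aR'S' : Algebra R' S' := φR'S'.toAlgebra
  letI aRS' : Algebra R S' := (φSS'.comp φRS).toAlgebra
  haveI : IsScalarTower R S S' := .of_algebraMap_eq (fun _ => rfl)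
  haveI : IsScalarTower R R' S' := .of_algebraMap_eq (fun x => by
    have := congr(($(PO.w)).hom x)
    exact this)
  haveI : Algebra.IsPushout R S R' S' := CommRingCat.isPushout_iff_isPushout.1 PO
  haveI : Module.Flat R R' := hfl
  exact rel_lBaseChange_of_ti (R := R) (S := S) (R' := R') (S' := S')
    (Groth.Agent.Lib.Helper16.RelTens.tiProp_of_flat R' _) K m h

variable {A B : Type u} [CommRing A] [CommRing B]

/-- relative pseudo-coherence of `K ⊗^L_A B` over `R` for `B` pseudo-coherent relative to `A`, in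
terms of ring homomorphisms. -/
theorem rel_lBaseChange_comp (φRA : R →+* A) (φAB : A →+* B) (φRB : R →+* B)
    (hcomp : φRB = φAB.comp φRA) (hRA : φRA.FiniteType) (hAB : φAB.FiniteType)
    (hB : letI := φAB.toAlgebra
      DerCA.IsRelPseudoCoherentModuleAll A B B)
    [DRing.HasLBaseChange φAB] (K : Dual.D A) (m : ℤ)
    (h : letI := φRA.toAlgebra
      DerCA.IsRelPseudoCoherent R A m K) :
    letI := φRB.toAlgebra
    DerCA.IsRelPseudoCoherent R B m ((DRing.LBaseChange φAB).obj K) := by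
  subst hcomp
  letI aRA : Algebra R A := φRA.toAlgebra
  letI aAB : Algebra A B := φAB.toAlgebra
  letI aRB : Algebra R B := (φAB.comp φRA).toAlgebra
  haveI : IsScalarTower R A B := .of_algebraMap_eq (fun _ => rfl)
  haveI : Algebra.FiniteType R A := hRA
  haveI : Algebra.FiniteType A B := hAB
  exact Groth.Agent.Lib.Helper16.RelTens.rel_lBaseChange_of_relPcAlgebra hB K m h

end Ring

end Groth.Agent.Lib.Helper16.RelBCS
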