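import Mathlib
import Groth.Agent.Lib.Helper16.RelBCS1

/-!
# Helper16 — RelBCS2: flat base change of relative pseudo-coherence (chart form) for objects with
quasi-coherent cohomology.
-/

set_option autoImplicit false
set_option linter.style.haveILetI false
universe u
open CategoryTheory CategoryTheory.Limits AlgebraicGeometry CategoryTheory.Pretriangulated

attribute [local instance] HasDerivedCategory.standard

namespace Groth.Agent.Lib.Helper16.RelBCS

open Groth.Agent.Lib.Helper16.RS DerivedCategory Groth.Agent.Lib.Helper1.LocPC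
  Groth.Agent.Lib.Helper16.PC Groth.Agent.Lib.Helper16.CIPC Groth.Agent.Lib.Helper16.AffRed
  Groth.Agent.Lib.Helper16.RelPC Scheme.Modules Groth.Agent.Lib.Helper16.CI
  Groth.Agent.Lib.Helper16.FlatBC Groth.Agent.Lib.Helper16.KD Groth.Agent.Lib.Helper16.TIBC
  Groth.Agent.Lib.Helper16.RelDesc

variable {X Y Y' : Scheme.{u}}

/-- **flat base change of relative pseudo-coherence** (chart form) for objects with quasi-coherent
cohomology. -/
theorem isPseudoCoherentRel_Lpull_baseChange_of_flat (f : X ⟶ Y) [LocallyOfFiniteType f]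
    (h : Y' ⟶ Y) [Flat h] [DCoh.HasLpull (pullback.fst f h)] (m : ℤ) (E : DCoh.D X)
    (hq : DCoh.IsQCohD E) (hE : DerSch.IsPseudoCoherentRel f m E) :
    DerSch.IsPseudoCoherentRel (pullback.snd f h) m ((DCoh.Lpull (pullback.fst f h)).obj E) := by
  have H : IsPullback (pullback.fst f h) (pullback.snd f h) f h := IsPullback.of_hasPullback f h
  refine ⟨inferInstance,
    {V' : Y'.affineOpens | ∃ V : Y.affineOpens, (V' : Y'.Opens) ≤ h ⁻¹ᵁ (V : Y.Opens)}, ?_,
    fun V' hV' => ?_⟩
  · apply le_antisymm le_top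
    intro y' _
    obtain ⟨V, hV, hyV, -⟩ := exists_isAffineOpen_mem_and_subset (X := Y) (x := h y')
      (U := ⊤) trivial
    obtain ⟨V'', hV'', hyV'', hle⟩ := exists_isAffineOpen_mem_and_subset (X := Y') (x := y')
      (U := h ⁻¹ᵁ V) hyV
    rw [TopologicalSpace.Opens.mem_iSup]
    refine ⟨⟨V'', hV''⟩, ?_⟩
    rw [TopologicalSpace.Opens.mem_iSup]
    exact ⟨⟨⟨V, hV⟩, hle⟩, hyV''⟩
  · obtain ⟨V, hV'V⟩ := hV'
    have hV : IsAffineOpen (V : Y.Opens) := V.2
    have hV'a : IsAffineOpen (V' : Y'.Opens) := V'.2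
    refine ⟨{U' : (pullback f h).affineOpens | ∃ U : X.affineOpens,
        (U : X.Opens) ≤ f ⁻¹ᵁ (V : Y.Opens) ∧
        (U' : (pullback f h).Opens) = (pullback.fst f h) ⁻¹ᵁ (U : X.Opens) ⊓
          (pullback.snd f h) ⁻¹ᵁ (V' : Y'.Opens)}, ?_, ?_⟩
    · apply le_antisymm
      · refine iSup₂_le fun U' hU' => ?_
        obtain ⟨U, -, hU'eq⟩ := hU'
        rw [hU'eq]
        exact inf_le_right
      · intro x' hx'
        have hgx : (pullback.fst f h) x' ∈ f ⁻¹ᵁ (V : Y.Opens) := by
          change f ((pullback.fst f h) x') ∈ (V : Y.Opens)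
          have h1 : f ((pullback.fst f h) x') = h ((pullback.snd f h) x') := by
            have := congr($(H.w) x')
            simpa only [Scheme.Hom.comp_apply] using this
          rw [h1]
          exact hV'V hx'
        obtain ⟨U, hU, hxU, hUle⟩ := exists_isAffineOpen_mem_and_subset (X := X)
          (x := (pullback.fst f h) x') (U := f ⁻¹ᵁ (V : Y.Opens)) hgx
        have hU'a : IsAffineOpen ((pullback.fst f h) ⁻¹ᵁ U ⊓
            (pullback.snd f h) ⁻¹ᵁ (V' : Y'.Opens)) :=
          isAffineOpen_inf_of_isPullback H hV'V hUle hV hV'a hU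
        rw [TopologicalSpace.Opens.mem_iSup]
        refine ⟨⟨_, hU'a⟩, ?_⟩
        rw [TopologicalSpace.Opens.mem_iSup]
        exact ⟨⟨⟨U, hU⟩, hUle, rfl⟩, hxU, hx'⟩
    · intro U' hU'mem hle
      obtain ⟨U'o, hU'a⟩ := U'
      obtain ⟨U, hUV, hU'eq⟩ := hU'mem
      change U'o = _ at hU'eq
      subst hU'eq
      have hU : IsAffineOpen (U : X.Opens) := U.2
      have le1 : (pullback.fst f h) ⁻¹ᵁ (U : X.Opens) ⊓ (pullback.snd f h) ⁻¹ᵁ (V' : Y'.Opens) ≤
          (pullback.fst f h) ⁻¹ᵁ (U : X.Opens) := inf_le_left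
      obtain ⟨k', φ', hφ'⟩ := exists_isChart (pullback.snd f h) hU'a hV'a hle
      refine ⟨k', φ', hφ', ?_⟩
      -- the module complex of `E` on `U`
      have hqU : DCoh.IsQCohD (KU hU E) := isQCohD_RD _ E hq
      obtain ⟨M, ⟨eM⟩⟩ := ((Groth.Agent.S0997.result Γ(X, (U : X.Opens))).2.2 _).1 hqU
      obtain ⟨k, φ, hφ⟩ := exists_isChart f hU hV hUV
      have hc := chartPC_of_isPseudoCoherentRel f m E hE hU hV hUV φ hφ
      have hM := (chartPC_iff_rel_of_tildeD_iso f m E hU hUV φ hφ M eM).1 hc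
      haveI : DRing.HasLBaseChange ((pullback.fst f h).appLE (U : X.Opens) _ le1).hom :=
        Groth.Agent.Lib.Helper16.DRE.hasLBaseChange _
      obtain ⟨eM'⟩ := nonempty_tildeD_iso_KU_Lpull' (pullback.fst f h) E hU hU'a le1 M eM
      rw [chartPC_iff_rel_of_tildeD_iso (pullback.snd f h) m _ hU'a hle φ' hφ' _ eM']
      have PO : IsPushout (f.appLE (V : Y.Opens) (U : X.Opens) hUV)
          (h.appLE (V : Y.Opens) (V' : Y'.Opens) hV'V)
          ((pullback.fst f h).appLE (U : X.Opens) _ le1)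
          ((pullback.snd f h).appLE (V' : Y'.Opens) _ hle) :=
        (isIso_pushoutSection_iff H hV'V hUV rfl).1
          (isIso_pushoutSection_of_isAffineOpen H hV'V hUV rfl hV hV'a hU)
      exact rel_lBaseChange_flat (f.appLE (V : Y.Opens) (U : X.Opens) hUV).hom
        (h.appLE (V : Y.Opens) (V' : Y'.Opens) hV'V).hom
        ((pullback.fst f h).appLE (U : X.Opens) _ le1).hom
        ((pullback.snd f h).appLE (V' : Y'.Opens) _ hle).hom PO
        (Flat.flat_appLE h hV hV'a hV'V) M m hM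

end Groth.Agent.Lib.Helper16.RelBCS
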