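import Mathlib
import Groth.Agent.Lib.Helper16.RelBCS1

/-!
# Helper16 — RelBCS3: relative pseudo-coherence (chart form) of `Lf^* G` relative to `f ≫ g` for a
pseudo-coherent morphism `f` and `G` with quasi-coherent cohomology.
-/

set_option autoImplicit false
set_option linter.style.haveILetI false
universe u
open CategoryTheory CategoryTheory.Limits AlgebraicGeometry CategoryTheory.Pretriangulated

attribute [local instance] HasDerivedCategory.standard

namespace Groth.Agent.Lib.Helper16.RelBCS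

open Groth.Agent.Lib.Helper16.RS DerivedCategory Groth.Agent.Lib.Helper1.LocPC
  Groth.Agent.Lib.Helper16.PC Groth.Agent.Lib.Helper16.CIPC Groth.Agent.Lib.Helper16.AffRed
  Groth.Agent.Lib.Helper16.RelPC Scheme.Modules Groth.Agent.Lib.Helper16.CI
  Groth.Agent.Lib.Helper16.FlatBC Groth.Agent.Lib.Helper16.KD Groth.Agent.Lib.Helper16.TIBC
  Groth.Agent.Lib.Helper16.RelDesc

variable {X Y Z : Scheme.{u}}

/-- the ring maps on affine opens of a pseudo-coherent morphism (chart form) are pseudo-coherent. -/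
theorem relPcModuleAll_of_isPseudoCoherentRelAll (f : X ⟶ Y) [LocallyOfFiniteType f]
    (hf : DerSch.IsPseudoCoherentRelAll f (DCoh.toD X (DerSch.unitCx X))) {U : X.Opens}
    (hU : IsAffineOpen U) {V : Y.Opens} (hV : IsAffineOpen V) (hUV : U ≤ f ⁻¹ᵁ V) :
    letI := (f.appLE V U hUV).hom.toAlgebra
    DerCA.IsRelPseudoCoherentModuleAll Γ(Y, V) Γ(X, U) Γ(X, U) := by
  intro m
  obtain ⟨k, φ, hφ⟩ := exists_isChart f hU hV hUV
  have hc := chartPC_of_isPseudoCoherentRel f m _ (hf m) hU hV hUV φ hφ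
  obtain ⟨eM⟩ := nonempty_tildeD_unit_iso hU
  exact (chartPC_iff_isRelPseudoCoherent f m _ hU hUV φ hφ (DerSch.unitCx X) (Iso.refl _) _ eM).1 hc

/-- **relative pseudo-coherence of a derived pullback along a pseudo-coherent morphism.** -/
theorem isPseudoCoherentRel_Lpull_comp (f : X ⟶ Y) (g : Y ⟶ Z) [LocallyOfFiniteType f]
    [LocallyOfFiniteType g]
    (hf : DerSch.IsPseudoCoherentRelAll f (DCoh.toD X (DerSch.unitCx X))) [DCoh.HasLpull f]
    (m : ℤ) (G : DCoh.D Y) (hq : DCoh.IsQCohD G) (hG : DerSch.IsPseudoCoherentRel g m G) :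
    DerSch.IsPseudoCoherentRel (f ≫ g) m ((DCoh.Lpull f).obj G) := by
  refine ⟨inferInstance, Set.univ, ?_, fun W _ => ?_⟩
  · have := iSup_affineOpens_le (⊤ : Z.Opens)
    simpa using this
  · have hW : IsAffineOpen (W : Z.Opens) := W.2
    refine ⟨{U : X.affineOpens | ∃ V : Y.affineOpens, (V : Y.Opens) ≤ g ⁻¹ᵁ (W : Z.Opens) ∧
        (U : X.Opens) ≤ f ⁻¹ᵁ (V : Y.Opens)}, ?_, ?_⟩
    · apply le_antisymm
      · refine iSup₂_le fun U hU => ?_
        obtain ⟨V, hVW, hUV⟩ := hU
        intro x hx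
        exact hVW (hUV hx)
      · intro x hx
        have hfx : f x ∈ g ⁻¹ᵁ (W : Z.Opens) := hx
        obtain ⟨V, hV, hxV, hVW⟩ := exists_isAffineOpen_mem_and_subset (X := Y) (x := f x)
          (U := g ⁻¹ᵁ (W : Z.Opens)) hfx
        obtain ⟨U, hU, hxU, hUV⟩ := exists_isAffineOpen_mem_and_subset (X := X) (x := x)
          (U := f ⁻¹ᵁ V) hxV
        rw [TopologicalSpace.Opens.mem_iSup]
        refine ⟨⟨U, hU⟩, ?_⟩
        rw [TopologicalSpace.Opens.mem_iSup]
        exact ⟨⟨⟨V, hV⟩, hVW, hUV⟩, hxU⟩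
    · intro U hUmem hle
      obtain ⟨V, hVW, hUV⟩ := hUmem
      have hU : IsAffineOpen (U : X.Opens) := U.2
      have hV : IsAffineOpen (V : Y.Opens) := V.2
      obtain ⟨k, φ, hφ⟩ := exists_isChart (f ≫ g) hU hW hle
      refine ⟨k, φ, hφ, ?_⟩
      -- the module complex of `G` on `V`
      have hqV : DCoh.IsQCohD (KU hV G) := isQCohD_RD _ G hq
      obtain ⟨N, ⟨eN⟩⟩ := ((Groth.Agent.S0997.result Γ(Y, (V : Y.Opens))).2.2 _).1 hqV
      obtain ⟨kg, φg, hφg⟩ := exists_isChart g hV hW hVW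
      have hc := chartPC_of_isPseudoCoherentRel g m G hG hV hW hVW φg hφg
      have hN := (chartPC_iff_rel_of_tildeD_iso g m G hV hVW φg hφg N eN).1 hc
      haveI : DRing.HasLBaseChange (f.appLE (V : Y.Opens) (U : X.Opens) hUV).hom :=
        Groth.Agent.Lib.Helper16.DRE.hasLBaseChange _
      obtain ⟨eN'⟩ := nonempty_tildeD_iso_KU_Lpull' f G hV hU hUV N eN
      rw [chartPC_iff_rel_of_tildeD_iso (f ≫ g) m _ hU hle φ hφ _ eN']
      have hcomp : ((f ≫ g).appLE (W : Z.Opens) (U : X.Opens) hle).hom =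
          (f.appLE (V : Y.Opens) (U : X.Opens) hUV).hom.comp
            (g.appLE (W : Z.Opens) (V : Y.Opens) hVW).hom := by
        have := Scheme.Hom.appLE_comp_appLE f g (W : Z.Opens) (V : Y.Opens) (U : X.Opens) hVW hUV
        exact congr(($this).hom).symm
      exact rel_lBaseChange_comp (g.appLE (W : Z.Opens) (V : Y.Opens) hVW).hom
        (f.appLE (V : Y.Opens) (U : X.Opens) hUV).hom _ hcomp
        (LocallyOfFiniteType.finiteType_appLE g hW hV hVW)
        (LocallyOfFiniteType.finiteType_appLE f hV hU hUV)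
        (relPcModuleAll_of_isPseudoCoherentRelAll f hf hU hV hUV) N m hN

end Groth.Agent.Lib.Helper16.RelBCS
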