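import Mathlib
import Groth.Agent.Lib.Helper16.RelDesc3

/-!
# Helper16 — RelDesc6: the family descent theorem for relative pseudo-coherence at ring level,
without any boundedness hypothesis (boundedness above is part of the conclusion).
-/

open CategoryTheory CategoryTheory.Limits DerivedCategory CategoryTheory.Pretriangulated
open TensorProduct

set_option linter.style.haveILetI false
set_option autoImplicit false

namespace Groth.Agent.Lib.Helper16.RelDesc

open Groth.Agent.Lib.Helper16.PC Groth.Agent.Lib.Helper16.RelPC Groth.Agent.Lib.Helper16.RestrictD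
  Groth.Agent.Lib.Helper16.FlatBC Groth.Agent.Lib.Helper16.LDer

universe u v

attribute [local instance] HasDerivedCategory.standard

section Main

variable {R S : Type u} [CommRing R] [CommRing S] [Algebra R S]
  {ι : Type v} (R' S' : ι → Type u) [∀ i, CommRing (R' i)] [∀ i, CommRing (S' i)]
  [∀ i, Algebra R (R' i)] [∀ i, Algebra R (S' i)] [∀ i, Algebra S (S' i)]
  [∀ i, Algebra (R' i) (S' i)] [∀ i, IsScalarTower R S (S' i)]
  [∀ i, IsScalarTower R (R' i) (S' i)] [∀ i, Algebra.IsPushout R S (R' i) (S' i)]

/-- joint conservativity passes to pushouts. -/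
theorem jSub_pushout (hR' : JSub R R') : JSub S S' := by
  intro N _ _ h
  letI : Module R N := Module.compHom N (algebraMap R S)
  haveI : IsScalarTower R S N := IsScalarTower.of_algebraMap_smul fun _ _ => rfl
  apply hR' N
  intro i
  haveI : Algebra.IsPushout R (R' i) S (S' i) := Algebra.IsPushout.symm inferInstance
  haveI := h i
  exact (Algebra.IsPushout.cancelBaseChange R (R' i) S (S' i) N).symm.toEquiv.subsingleton

variable [Finite ι] [∀ i, Module.Flat R (R' i)]

/-- relatively pseudo-coherent complexes are bounded above. -/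
theorem exists_isLE_of_rel {A B : Type u} [CommRing A] [CommRing B] [Algebra A B] (m : ℤ)
    (K : Dual.D B) (h : DerCA.IsRelPseudoCoherent A B m K) : ∃ b : ℤ, K.IsLE b := by
  obtain ⟨n, α, hα, hK⟩ := id h
  obtain ⟨b, hb⟩ := ((isPseudoCoherent_iff m _).1 hK).exists_isLE
  exact ⟨b, isLE_of_restrict_isLE (α : MvPolynomial (Fin n) A →+* B) K b hb⟩

/-- **descent of relative pseudo-coherence** along a finite jointly faithfully flat family of flat
base changes, no boundedness assumed. -/
theorem rel_of_rel_lBaseChange_family' [Algebra.FiniteType R S] (hR' : JSub R R')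
    [∀ i, DRing.HasLBaseChange (algebraMap S (S' i))] (K : Dual.D S) (m : ℤ)
    (h : ∀ i, DerCA.IsRelPseudoCoherent (R' i) (S' i) m
      ((DRing.LBaseChange (algebraMap S (S' i))).obj K)) :
    DerCA.IsRelPseudoCoherent R S m K := by
  classical
  haveI := Fintype.ofFinite ι
  haveI : ∀ i, Module.Flat S (S' i) := fun i => by
    haveI : Algebra.IsPushout R (R' i) S (S' i) := Algebra.IsPushout.symm inferInstance
    exact Module.Flat.of_linearEquiv
      (Algebra.IsPushout.equiv R S (R' i) (S' i)).symm.toLinearEquiv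
  choose b hb using fun i => exists_isLE_of_rel m _ (h i)
  let B : ℤ := Finset.univ.sum (fun i => |b i|)
  have hbB : ∀ i, b i ≤ B := fun i => by
    have h1 : |b i| ≤ B :=
      Finset.single_le_sum (f := fun i => |b i|) (fun z _ => abs_nonneg _) (Finset.mem_univ i)
    have h2 := le_abs_self (b i)
    omega
  have hKB : K.IsLE B := by
    apply isLE_of_ε_isLE_family S' (jSub_pushout R' S' hR') K B
    intro i
    haveI : FlatHom (algebraMap S (S' i)) := ⟨RingHom.flat_algebraMap_iff.2 inferInstance⟩
    obtain ⟨e⟩ := Groth.Agent.Lib.Helper16.AffRed.nonempty_LBaseChange_iso_ε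
      (algebraMap S (S' i)) K
    haveI := hb i
    haveI : ((DRing.LBaseChange (algebraMap S (S' i))).obj K).IsLE B :=
      (TStructure.t).isLE_of_le _ _ _ (hbB i)
    exact (TStructure.t).isLE_of_iso e B
  exact rel_of_rel_lBaseChange_family R' S' hR' K B hKB m h

end Main

section Unbundled

variable {R S : Type u} [CommRing R] [CommRing S] {ι : Type v} [Finite ι] (R' S' : ι → Type u)
  [∀ i, CommRing (R' i)] [∀ i, CommRing (S' i)]

open CommRingCat in
/-- **descent of relative pseudo-coherence along a finite jointly faithfully flat family** in terms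
of ring homomorphisms, no boundedness assumed. -/
theorem rel_of_family' (φRS : R →+* S) (hft : φRS.FiniteType) (φRR' : ∀ i, R →+* R' i)
    (φSS' : ∀ i, S →+* S' i) (φR'S' : ∀ i, R' i →+* S' i)
    (PO : ∀ i, IsPushout (ofHom φRS) (ofHom (φRR' i)) (ofHom (φSS' i)) (ofHom (φR'S' i)))
    (hfl : ∀ i, (φRR' i).Flat) (hff : (RingHom.pi φRR').FaithfullyFlat)
    [∀ i, DRing.HasLBaseChange (φSS' i)] (K : Dual.D S) (m : ℤ)
    (h : ∀ i, letI := (φR'S' i).toAlgebra
      DerCA.IsRelPseudoCoherent (R' i) (S' i) m ((DRing.LBaseChange (φSS' i)).obj K)) :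
    letI := φRS.toAlgebra
    DerCA.IsRelPseudoCoherent R S m K := by
  letI aRS : Algebra R S := φRS.toAlgebra
  letI aRR' : ∀ i, Algebra R (R' i) := fun i => (φRR' i).toAlgebra
  letI aSS' : ∀ i, Algebra S (S' i) := fun i => (φSS' i).toAlgebra
  letI aR'S' : ∀ i, Algebra (R' i) (S' i) := fun i => (φR'S' i).toAlgebra
  letI aRS' : ∀ i, Algebra R (S' i) := fun i => ((φSS' i).comp φRS).toAlgebra
  haveI : ∀ i, IsScalarTower R S (S' i) := fun i => .of_algebraMap_eq (fun _ => rfl)
  haveI : ∀ i, IsScalarTower R (R' i) (S' i) := fun i => .of_algebraMap_eq (fun x => by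
    have := congr(($((PO i).w)).hom x)
    exact this)
  haveI : ∀ i, Algebra.IsPushout R S (R' i) (S' i) := fun i =>
    CommRingCat.isPushout_iff_isPushout.1 (PO i)
  haveI : ∀ i, Module.Flat R (R' i) := fun i => hfl i
  haveI : Algebra.FiniteType R S := hft
  have hJ : JSub R R' := by
    apply jSub_of_faithfullyFlat_pi
    exact hff
  exact rel_of_rel_lBaseChange_family' R' S' hJ K m h

end Unbundled

end Groth.Agent.Lib.Helper16.RelDesc
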