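import Mathlib
import Groth.Agent.Lib.Helper16.RelDesc5
import Groth.Agent.Lib.Helper16.RelDesc6

/-!
# Helper16 — RelDesc7: descent of relative pseudo-coherence (chart form) along an fppf covering
family of the base, for objects with quasi-coherent cohomology (no boundedness).
-/

set_option autoImplicit false
set_option linter.style.haveILetI false
universe u
open CategoryTheory CategoryTheory.Limits AlgebraicGeometry CategoryTheory.Pretriangulated

attribute [local instance] HasDerivedCategory.standard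

namespace Groth.Agent.Lib.Helper16.RelDesc

open Groth.Agent.Lib.Helper16.RS DerivedCategory Groth.Agent.Lib.Helper1.LocPC
  Groth.Agent.Lib.Helper16.PC Groth.Agent.Lib.Helper16.CIPC Groth.Agent.Lib.Helper16.AffRed
  Groth.Agent.Lib.Helper16.RelPC Scheme.Modules Groth.Agent.Lib.Helper16.CI
  Groth.Agent.Lib.Helper16.FlatBC Groth.Agent.Lib.Helper16.KD Groth.Agent.Lib.Helper16.TIBC
  Groth.Agent.Lib.Helper16.DualSchCM Groth.Agent.Lib.Helper16.TildeTor

section Geom

variable {S : Scheme.{u}} {ι : Type u} (Si : ι → Scheme.{u}) (h : ∀ i, Si i ⟶ S)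
  [∀ i, Flat (h i)] [∀ i, LocallyOfFinitePresentation (h i)]

/-- a finite product of flat algebras is flat. -/
theorem flat_pi_of_finite {R : Type u} [CommRing R] {κ : Type u} [Finite κ] (R' : κ → Type u)
    [∀ k, CommRing (R' k)] [∀ k, Algebra R (R' k)] [∀ k, Module.Flat R (R' k)] :
    Module.Flat R (∀ k, R' k) := by
  classical
  haveI := Fintype.ofFinite κ
  exact Module.Flat.of_linearEquiv (DirectSum.linearEquivFunOnFintype R κ R').symm

/-- over an affine open `V` of the base, an fppf covering family yields finitely many affine opens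
of the members, lying over `V`, whose rings of sections form a faithfully flat product over
`Γ(S, V)`. -/
theorem exists_finite_affine_cover_ff_family
    (hcov : ∀ s : S, ∃ (i : ι) (t : Si i), (h i).base t = s) (V : S.Opens) (hV : IsAffineOpen V) :
    ∃ (κ : Type u) (_ : Finite κ) (idx : κ → ι) (W : ∀ k, (Si (idx k)).Opens)
      (_ : ∀ k, IsAffineOpen (W k)) (hle : ∀ k, W k ≤ (h (idx k)) ⁻¹ᵁ V),
      (RingHom.pi fun k => ((h (idx k)).appLE V (W k) (hle k)).hom).FaithfullyFlat := by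
  -- choices at each point of `V`
  have key : ∀ s : S, s ∈ V → ∃ (i : ι) (W : (Si i).Opens), IsAffineOpen W ∧ W ≤ (h i) ⁻¹ᵁ V ∧
      s ∈ (h i).base '' (W : Set (Si i)) := by
    intro s hs
    obtain ⟨i, t, ht⟩ := hcov s
    have htV : t ∈ (h i) ⁻¹ᵁ V := by
      change (h i).base t ∈ V
      rw [ht]; exact hs
    obtain ⟨W, hW, htW, hWle⟩ :=
      (TopologicalSpace.Opens.isBasis_iff_nbhd.1 (Si i).isBasis_affineOpens) htV
    exact ⟨i, W, hW, hWle, t, htW, ht⟩
  choose i₀ W₀ hW₀ hW₀le hW₀mem using key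
  have hc : IsCompact (V : Set S) := hV.isCompact
  obtain ⟨T, hT⟩ := hc.elim_nhds_subcover'
    (fun s hs => (h (i₀ s hs)).base '' (W₀ s hs : Set (Si (i₀ s hs))))
    (fun s hs => ((h (i₀ s hs)).isOpenMap _ (W₀ s hs).isOpen).mem_nhds (hW₀mem s hs))
  let κ : Type u := T
  let idx : κ → ι := fun k => i₀ k.1.1 k.1.2
  let W : ∀ k : κ, (Si (idx k)).Opens := fun k => W₀ k.1.1 k.1.2
  have hW : ∀ k, IsAffineOpen (W k) := fun k => hW₀ k.1.1 k.1.2
  have hWle : ∀ k, W k ≤ (h (idx k)) ⁻¹ᵁ V := fun k => hW₀le k.1.1 k.1.2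
  refine ⟨κ, inferInstance, idx, W, hW, hWle, ?_⟩
  let R : κ → CommRingCat.{u} := fun k => Γ(Si (idx k), W k)
  let ψi : ∀ k, Γ(S, V) ⟶ R k := fun k => (h (idx k)).appLE V (W k) (hWle k)
  let ψ : Γ(S, V) ⟶ CommRingCat.of (Π k, R k) :=
    CommRingCat.ofHom (RingHom.pi fun k => (ψi k).hom)
  have hψi : ∀ k, ψ ≫ CommRingCat.ofHom (Pi.evalRingHom (fun k => R k) k) = ψi k := fun k => by
    ext x; rfl
  change ψ.hom.FaithfullyFlat
  rw [← flat_and_surjective_SpecMap_iff]
  constructor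
  · rw [HasRingHomProperty.Spec_iff (P := @Flat)]
    letI : ∀ k, Algebra Γ(S, V) (R k) := fun k => (ψi k).hom.toAlgebra
    haveI : ∀ k, Module.Flat Γ(S, V) (R k) := fun k =>
      Flat.flat_appLE (h (idx k)) hV (hW k) (hWle k)
    have := flat_pi_of_finite (R := Γ(S, V)) (fun k => R k)
    exact this
  · constructor
    intro p
    have hpV : hV.fromSpec p ∈ (V : Set S) := by
      rw [← hV.range_fromSpec]; exact Set.mem_range_self p
    obtain ⟨k, hkT, hk⟩ := Set.mem_iUnion₂.1 (hT hpV)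
    obtain ⟨t, htW, ht⟩ := hk
    let k' : κ := ⟨k, hkT⟩
    have htr : t ∈ Set.range (hW k').fromSpec := by
      rw [(hW k').range_fromSpec]; exact htW
    obtain ⟨q, hq⟩ := htr
    refine ⟨(Spec.map (CommRingCat.ofHom (Pi.evalRingHom (fun k => R k) k'))) q, ?_⟩
    apply hV.fromSpec.isOpenEmbedding.injective
    rw [← ht, ← hq]
    change (Spec.map (CommRingCat.ofHom (Pi.evalRingHom (fun k => R k) k')) ≫ Spec.map ψ ≫
      hV.fromSpec) q = ((hW k').fromSpec ≫ h (idx k')) q
    rw [← Category.assoc, ← Spec.map_comp, hψi, IsAffineOpen.SpecMap_appLE_fromSpec]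

end Geom

variable {X S : Scheme.{u}}

/-- **fppf descent of relative pseudo-coherence** (chart form) along a covering family of the
base, for objects with quasi-coherent cohomology. -/
theorem isPseudoCoherentRel_of_Lpull_family (f : X ⟶ S) [LocallyOfFiniteType f] {ι : Type u}
    (Si : ι → Scheme.{u}) (h : ∀ i, Si i ⟶ S) [∀ i, Flat (h i)]
    [∀ i, LocallyOfFinitePresentation (h i)]
    (hcov : ∀ s : S, ∃ (i : ι) (t : Si i), (h i).base t = s)
    [∀ i, DCoh.HasLpull (pullback.fst f (h i))] (n : ℤ) (E : DCoh.D X) (hq : DCoh.IsQCohD E)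
    (hE : ∀ i, DerSch.IsPseudoCoherentRel (pullback.snd f (h i)) n
      ((DCoh.Lpull (pullback.fst f (h i))).obj E)) :
    DerSch.IsPseudoCoherentRel f n E := by
  refine isPseudoCoherentRel_of_forall f n E (fun U V hUV => ?_)
  have hU : IsAffineOpen (U : X.Opens) := U.2
  have hV : IsAffineOpen (V : S.Opens) := V.2
  obtain ⟨k, φ, hφ⟩ := exists_isChart f hU hV hUV
  refine ⟨k, φ, hφ, ?_⟩
  have hqU : DCoh.IsQCohD (KU hU E) := isQCohD_RD _ E hq
  obtain ⟨M, ⟨eM⟩⟩ := ((Groth.Agent.S0997.result Γ(X, (U : X.Opens))).2.2 _).1 hqU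
  rw [chartPC_iff_rel_of_tildeD_iso f n E hU hUV φ hφ M eM]
  obtain ⟨κ, hκ, idx, W, hW, hWle, hff⟩ :=
    exists_finite_affine_cover_ff_family Si h hcov (V : S.Opens) hV
  have H : ∀ i, IsPullback (pullback.fst f (h i)) (pullback.snd f (h i)) f (h i) := fun i =>
    IsPullback.of_hasPullback f (h i)
  let U' : ∀ k : κ, (pullback f (h (idx k))).Opens := fun k =>
    (pullback.fst f (h (idx k))) ⁻¹ᵁ (U : X.Opens) ⊓ (pullback.snd f (h (idx k))) ⁻¹ᵁ (W k)
  have hU' : ∀ k, IsAffineOpen (U' k) := fun k =>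
    isAffineOpen_inf_of_isPullback (H (idx k)) (hWle k) hUV hV (hW k) hU
  have le1 : ∀ k, U' k ≤ (pullback.fst f (h (idx k))) ⁻¹ᵁ (U : X.Opens) := fun k => inf_le_left
  have le2 : ∀ k, U' k ≤ (pullback.snd f (h (idx k))) ⁻¹ᵁ (W k) := fun k => inf_le_right
  have PO : ∀ k, IsPushout (f.appLE (V : S.Opens) (U : X.Opens) hUV)
      ((h (idx k)).appLE (V : S.Opens) (W k) (hWle k))
      ((pullback.fst f (h (idx k))).appLE (U : X.Opens) (U' k) (le1 k))
      ((pullback.snd f (h (idx k))).appLE (W k) (U' k) (le2 k)) := fun k =>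
    (isIso_pushoutSection_iff (H (idx k)) (hWle k) hUV rfl).1
      (isIso_pushoutSection_of_isAffineOpen (H (idx k)) (hWle k) hUV rfl hV (hW k) hU)
  haveI : ∀ k, DRing.HasLBaseChange
      ((pullback.fst f (h (idx k))).appLE (U : X.Opens) (U' k) (le1 k)).hom :=
    fun k => Groth.Agent.Lib.Helper16.DRE.hasLBaseChange _
  have hft : (f.appLE (V : S.Opens) (U : X.Opens) hUV).hom.FiniteType :=
    LocallyOfFiniteType.finiteType_appLE f hV hU hUV
  refine rel_of_family' (fun k => Γ(Si (idx k), W k)) (fun k => Γ(pullback f (h (idx k)), U' k))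
    (f.appLE (V : S.Opens) (U : X.Opens) hUV).hom hft
    (fun k => ((h (idx k)).appLE (V : S.Opens) (W k) (hWle k)).hom)
    (fun k => ((pullback.fst f (h (idx k))).appLE (U : X.Opens) (U' k) (le1 k)).hom)
    (fun k => ((pullback.snd f (h (idx k))).appLE (W k) (U' k) (le2 k)).hom) PO
    (fun k => Flat.flat_appLE (h (idx k)) hV (hW k) (hWle k)) hff M n (fun k => ?_)
  have hfl : ((pullback.fst f (h (idx k))).appLE (U : X.Opens) (U' k) (le1 k)).hom.Flat :=
    Flat.flat_appLE (pullback.fst f (h (idx k))) hU (hU' k) (le1 k)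
  obtain ⟨eM'⟩ := nonempty_tildeD_iso_KU_Lpull (pullback.fst f (h (idx k))) E hU (hU' k) (le1 k)
    hfl M eM
  obtain ⟨k', φ', hφ'⟩ := exists_isChart (pullback.snd f (h (idx k))) (hU' k) (hW k) (le2 k)
  have hc := chartPC_of_isPseudoCoherentRel (pullback.snd f (h (idx k))) n _ (hE (idx k))
    (hU' k) (hW k) (le2 k) φ' hφ'
  exact (chartPC_iff_rel_of_tildeD_iso (pullback.snd f (h (idx k))) n _ (hU' k) (le2 k) φ' hφ'
    _ eM').1 hc

end Groth.Agent.Lib.Helper16.RelDesc
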