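import Mathlib
import Groth.Agent.Lib.Helper16.PC1

/-!
# Helper16 — RelFib1: truncating a good approximation of a bounded below object

If `α : Q P ⟶ K` induces isomorphisms on `H^i` for all `i ≥ a` and `K` is in `D^{≥ a}`, then
`K ≅ Q (τ_{≥ a} P)`.
-/

set_option autoImplicit false
universe w v u
open CategoryTheory CategoryTheory.Limits DerivedCategory

namespace Groth.Agent.Lib.Helper16.RelFib

variable {C : Type u} [Category.{v} C] [Abelian C] [HasDerivedCategory.{w} C]

/-- **truncation of an approximation.** -/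
theorem nonempty_truncGE_iso (P : CochainComplex C ℤ) (K : DerivedCategory C) (a : ℤ)
    (hK : K.IsGE a) (α : Q.obj P ⟶ K)
    (hα : ∀ i : ℤ, a ≤ i → IsIso ((homologyFunctor C i).map α)) :
    Nonempty (Q.obj (P.truncGE a) ≅ K) := by
  let F₀ := Q.objPreimage K
  let e : Q.obj F₀ ≅ K := Q.objObjPreimageIso K
  obtain ⟨F₁, g, s, hs, hfac⟩ := left_fac (α ≫ e.inv)
  haveI := hs
  -- `F₁` is in `D^{≥ a}`
  have hF₁ : (Q.obj F₁).IsGE a :=
    (TStructure.t).isGE_of_iso ((e.symm ≪≫ asIso (Q.map s)) : K ≅ Q.obj F₁) a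
  have hF₁' : F₁.IsGE a := (isGE_Q_obj_iff F₁ a).1 hF₁
  haveI : QuasiIso (F₁.πTruncGE a) := (CochainComplex.quasiIso_πTruncGE_iff F₁ a).2 hF₁'
  haveI : IsIso (Q.map (F₁.πTruncGE a)) := by rw [isIso_Q_map_iff_quasiIso]; infer_instance
  -- `g` is a quasi-isomorphism in degrees `≥ a`
  have hg : Q.map g = α ≫ e.inv ≫ Q.map s := by
    rw [← Category.assoc, hfac, Category.assoc, IsIso.inv_hom_id, Category.comp_id]
  have hgi : ∀ i : ℤ, a ≤ i → QuasiIsoAt g i := by
    intro i hi
    rw [quasiIsoAt_iff_isIso_homologyMap]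
    have h1 : IsIso ((homologyFunctor C i).map (Q.map g)) := by
      rw [hg, Functor.map_comp, Functor.map_comp]
      haveI := hα i hi
      infer_instance
    exact (NatIso.isIso_map_iff (homologyFunctorFactors C i) g).1 h1
  haveI : QuasiIso (CochainComplex.truncGEMap g a) :=
    (CochainComplex.quasiIso_truncGEMap_iff g a).2 hgi
  haveI : IsIso (Q.map (CochainComplex.truncGEMap g a)) := by
    rw [isIso_Q_map_iff_quasiIso]; infer_instance
  exact ⟨asIso (Q.map (CochainComplex.truncGEMap g a)) ≪≫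
    (asIso (Q.map (F₁.πTruncGE a))).symm ≪≫ (asIso (Q.map s)).symm ≪≫ e⟩

end Groth.Agent.Lib.Helper16.RelFib
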