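import Mathlib
import Groth.Prelude.Def_CAlgX
import Groth.Agent.Lib.Helper16.TorLoc3
import Groth.Agent.Lib.Helper16.TorAmp3

/-!
# Helper16 — RelFib2: flatness of a cokernel from exactness modulo the maximal ideal of the base

Module-level consequence of the non-Noetherian form of Stacks 00ME (statement S2107, taken here as
a hypothesis `ZeroME`).
-/

set_option autoImplicit false
universe u
open CategoryTheory

namespace Groth.Agent.Lib.Helper16.RelFib

/-- the statement of S2107 (non-Noetherian Stacks 00ME), as a proposition. -/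
def ZeroME : Prop :=
  ∀ {R S M N : Type u} [CommRing R] [CommRing S] [IsLocalRing R]
    [IsLocalRing S] [Algebra R S] [IsLocalHom (algebraMap R S)]
    (_ : CAlgX.IsEssFinitePresentation R S)
    [AddCommGroup M] [Module S M] [Module R M] [IsScalarTower R S M] [Module.FinitePresentation S M]
    [AddCommGroup N] [Module S N] [Module R N] [IsScalarTower R S N] [Module.FinitePresentation S N]
    [Module.Flat R N] (u : M →ₗ[S] N)
    (_ : ∀ x : M, u x ∈ (IsLocalRing.maximalIdeal R).map (algebraMap R S) • (⊤ : Submodule S N) →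
      x ∈ (IsLocalRing.maximalIdeal R).map (algebraMap R S) • (⊤ : Submodule S M)),
    Function.Injective u ∧ Module.Flat R (N ⧸ LinearMap.range u)

section Mod

variable {R S : Type u} [CommRing R] [CommRing S] [IsLocalRing R] [IsLocalRing S] [Algebra R S]
  [IsLocalHom (algebraMap R S)]
  {F₀ F₁ F₂ : Type u} [AddCommGroup F₀] [Module S F₀] [Module.Finite S F₀]
  [AddCommGroup F₁] [Module S F₁] [Module R F₁] [IsScalarTower R S F₁]
  [Module.Finite S F₁] [Module.Free S F₁]
  [AddCommGroup F₂] [Module S F₂] [Module R F₂] [IsScalarTower R S F₂]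
  [Module.Finite S F₂] [Module.Free S F₂] [Module.Flat R F₂]

/-- **flatness of the cokernel from exactness modulo the maximal ideal.** -/
theorem flat_quot_range_of_exact_mod (h00 : ZeroME.{u})
    (hS : CAlgX.IsEssFinitePresentation R S)
    (d₀ : F₀ →ₗ[S] F₁) (d₁ : F₁ →ₗ[S] F₂) (hd : ∀ w, d₁ (d₀ w) = 0)
    (hex : ∀ x : F₁,
      d₁ x ∈ (IsLocalRing.maximalIdeal R).map (algebraMap R S) • (⊤ : Submodule S F₂) →
      ∃ w : F₀, x - d₀ w ∈
        (IsLocalRing.maximalIdeal R).map (algebraMap R S) • (⊤ : Submodule S F₁)) :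
    Module.Flat R (F₂ ⧸ LinearMap.range d₁) := by
  set I := (IsLocalRing.maximalIdeal R).map (algebraMap R S) with hI
  have hle : LinearMap.range d₀ ≤ LinearMap.ker d₁ := by
    rintro _ ⟨w, rfl⟩
    exact hd w
  let u : (F₁ ⧸ LinearMap.range d₀) →ₗ[S] F₂ := (LinearMap.range d₀).liftQ d₁ hle
  haveI : Module.FinitePresentation S (F₁ ⧸ LinearMap.range d₀) :=
    Module.finitePresentation_of_free_of_surjective (LinearMap.range d₀).mkQ
      (Submodule.mkQ_surjective _) (by
        rw [Submodule.ker_mkQ, LinearMap.range_eq_map]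
        exact Module.Finite.fg_top.map d₀)
  have hu : ∀ x : F₁ ⧸ LinearMap.range d₀, u x ∈ I • (⊤ : Submodule S F₂) →
      x ∈ I • (⊤ : Submodule S (F₁ ⧸ LinearMap.range d₀)) := by
    intro x hx
    obtain ⟨x₁, rfl⟩ := Submodule.mkQ_surjective _ x
    obtain ⟨w, hw⟩ := hex x₁ hx
    have h1 : (LinearMap.range d₀).mkQ (x₁ - d₀ w) ∈
        Submodule.map (LinearMap.range d₀).mkQ (I • (⊤ : Submodule S F₁)) :=
      Submodule.mem_map_of_mem hw
    rw [Submodule.map_smul''] at h1
    have h2 : (LinearMap.range d₀).mkQ (x₁ - d₀ w) = (LinearMap.range d₀).mkQ x₁ := by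
      rw [map_sub, sub_eq_self]
      exact (Submodule.Quotient.mk_eq_zero _).2 ⟨w, rfl⟩
    rw [h2] at h1
    exact Submodule.smul_mono le_rfl le_top h1
  haveI : Module.FinitePresentation S F₂ := Module.finitePresentation_of_projective S F₂
  have key := (h00 hS u hu).2
  have hr : LinearMap.range u = LinearMap.range d₁ := Submodule.range_liftQ _ _ _
  rwa [hr] at key

end Mod

section Tensor

open TensorProduct

variable {B B' : Type u} [CommRing B] [CommRing B'] [Algebra B B']
  {M : Type u} [AddCommGroup M] [Module B M]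

lemma one_tmul_eq_zero_of_mem_smul_top (v : M)
    (hv : v ∈ RingHom.ker (algebraMap B B') • (⊤ : Submodule B M)) :
    (1 : B') ⊗ₜ[B] v = 0 := by
  refine Submodule.smul_induction_on hv (fun c hc n _ => ?_) (fun x y hx hy => ?_)
  · rw [← TensorProduct.smul_tmul, Algebra.smul_def, mul_one, (RingHom.mem_ker).1 hc,
      TensorProduct.zero_tmul]
  · rw [TensorProduct.tmul_add, hx, hy, add_zero]

lemma exists_one_tmul (hsurj : Function.Surjective (algebraMap B B')) (t : B' ⊗[B] M) :
    ∃ w : M, t = (1 : B') ⊗ₜ[B] w := by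
  induction t using TensorProduct.induction_on with
  | zero => exact ⟨0, (TensorProduct.tmul_zero _ _).symm⟩
  | tmul b' m =>
    obtain ⟨b, rfl⟩ := hsurj b'
    refine ⟨b • m, ?_⟩
    rw [← TensorProduct.smul_tmul, Algebra.smul_def, mul_one]
  | add x y hx hy =>
    obtain ⟨w, rfl⟩ := hx
    obtain ⟨w', rfl⟩ := hy
    exact ⟨w + w', (TensorProduct.tmul_add _ _ _).symm⟩

lemma mem_smul_top_of_one_tmul_eq_zero (hsurj : Function.Surjective (algebraMap B B'))
    (v : M) (hv : (1 : B') ⊗ₜ[B] v = 0) :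
    v ∈ RingHom.ker (algebraMap B B') • (⊤ : Submodule B M) := by
  set I := RingHom.ker (algebraMap B B') with hI
  -- the `B`-linear equivalence `B ⧸ I ≃ B'`
  let ℓ : (B ⧸ I) →ₗ[B] B' := Submodule.liftQ I (Algebra.linearMap B B') (fun x hx => by
    rw [LinearMap.mem_ker, Algebra.linearMap_apply]
    exact (RingHom.mem_ker).1 hx)
  have hℓinj : Function.Injective ℓ := by
    rw [← LinearMap.ker_eq_bot]
    refine Submodule.ker_liftQ_eq_bot _ _ _ (fun x hx => ?_)
    rw [LinearMap.mem_ker, Algebra.linearMap_apply] at hx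
    exact (RingHom.mem_ker).2 hx
  have hℓsurj : Function.Surjective ℓ := by
    intro b'
    obtain ⟨b, rfl⟩ := hsurj b'
    exact ⟨Submodule.Quotient.mk b, rfl⟩
  let e : (B ⧸ I) ≃ₗ[B] B' := LinearEquiv.ofBijective ℓ ⟨hℓinj, hℓsurj⟩
  have h1 : (LinearEquiv.rTensor M e) ((Ideal.Quotient.mk I 1) ⊗ₜ[B] v) = (1 : B') ⊗ₜ[B] v := by
    rw [LinearEquiv.rTensor_tmul]
    congr 1
    show ℓ (Submodule.Quotient.mk 1) = 1
    rw [Submodule.liftQ_apply, Algebra.linearMap_apply, map_one]
  have h2 : (Ideal.Quotient.mk I 1) ⊗ₜ[B] v = (0 : (B ⧸ I) ⊗[B] M) := by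
    apply (LinearEquiv.rTensor M e).injective
    rw [h1, hv, map_zero]
  have h3 := congrArg (TensorProduct.quotTensorEquivQuotSMul M I) h2
  rw [TensorProduct.quotTensorEquivQuotSMul_mk_tmul, one_smul, map_zero] at h3
  exact (Submodule.Quotient.mk_eq_zero _).1 h3

end Tensor

section Cx

open Groth.Agent.Lib.Helper16.TorLoc Groth.Agent.Lib.Helper16.TorAmp TensorProduct

variable {A B B' : Type u} [CommRing A] [CommRing B] [CommRing B'] [IsLocalRing A] [IsLocalRing B]
  (φ : A →+* B) [IsLocalHom φ] (χ : B →+* B')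

/-- **flatness over the base of the cokernel of a differential of a complex of finite free modules,
from exactness of the reduction to the closed fibre.** -/
theorem flat_quot_of_exactAt_extCx (h00 : ZeroME.{u})
    (hess : @CAlgX.IsEssFinitePresentation A _ B _ φ.toAlgebra) (hfl : φ.Flat)
    (hχ : Function.Surjective χ)
    (hker : RingHom.ker χ = (IsLocalRing.maximalIdeal A).map φ)
    (F : DRing.Cx B) (hF : DRing.TermwiseFiniteFree F) (a : ℤ)
    (hex : ((extCx χ).obj F).ExactAt (a - 1)) :
    Module.Flat A (((resCx φ).obj F).X a ⧸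
      LinearMap.range (((resCx φ).obj F).d (a - 1) a).hom) := by
  letI algAB : Algebra A B := φ.toAlgebra
  letI algBB' : Algebra B B' := χ.toAlgebra
  haveI : IsLocalHom (algebraMap A B) := ‹IsLocalHom φ›
  haveI hflAB : Module.Flat A B := hfl
  -- the three modules
  letI mA1 : Module A (F.X (a - 1)) := Module.compHom _ φ
  letI mA2 : Module A (F.X a) := Module.compHom _ φ
  haveI : IsScalarTower A B (F.X (a - 1)) := IsScalarTower.of_algebraMap_smul (fun r m => rfl)
  haveI : IsScalarTower A B (F.X a) := IsScalarTower.of_algebraMap_smul (fun r m => rfl)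
  haveI := (hF (a - 1 - 1)).1
  haveI := (hF (a - 1)).1
  haveI := (hF (a - 1)).2
  haveI := (hF a).1
  haveI := (hF a).2
  haveI : Module.Flat B (F.X a) := Module.Flat.of_free
  haveI : Module.Flat A (F.X a) := Module.Flat.trans A B (F.X a)
  have hker' : RingHom.ker (algebraMap B B') =
      (IsLocalRing.maximalIdeal A).map (algebraMap A B) := hker
  have hfe := (exactAt_iff_function_exact ((extCx χ).obj F) (a - 1 - 1) (a - 1) a (by omega)
    (by omega)).1 hex
  have key : Module.Flat A (F.X a ⧸ LinearMap.range (F.d (a - 1) a).hom) := by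
    refine flat_quot_range_of_exact_mod h00 hess (F.d (a - 1 - 1) (a - 1)).hom
      (F.d (a - 1) a).hom (fun w => ?_) (fun x hx => ?_)
    · have := F.d_comp_d (a - 1 - 1) (a - 1) a
      exact congrArg (fun g => g.hom w) this
    · rw [← hker'] at hx ⊢
      have h1 : (1 : B') ⊗ₜ[B] ((F.d (a - 1) a).hom x) = 0 :=
        one_tmul_eq_zero_of_mem_smul_top _ hx
      have h2 : (((extCx χ).obj F).d (a - 1) a).hom ((1 : B') ⊗ₜ[B] x) = 0 := h1
      obtain ⟨t, ht⟩ := (hfe _).1 h2
      obtain ⟨w, rfl⟩ := exists_one_tmul (B := B) (B' := B') (M := F.X (a - 1 - 1)) hχ t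
      refine ⟨w, mem_smul_top_of_one_tmul_eq_zero hχ _ ?_⟩
      have h3 : (((extCx χ).obj F).d (a - 1 - 1) (a - 1)).hom ((1 : B') ⊗ₜ[B] w) =
          (1 : B') ⊗ₜ[B] ((F.d (a - 1 - 1) (a - 1)).hom w) := rfl
      have h4 : (1 : B') ⊗ₜ[B] ((F.d (a - 1 - 1) (a - 1)).hom w) = (1 : B') ⊗ₜ[B] x :=
        h3.symm.trans ht
      rw [TensorProduct.tmul_sub, h4, sub_self]
  -- transfer to the quotient by the `A`-submodule
  have e := Submodule.Quotient.restrictScalarsEquiv A (LinearMap.range (F.d (a - 1) a).hom)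
  exact Module.Flat.of_linearEquiv e

end Cx

end Groth.Agent.Lib.Helper16.RelFib
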