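import Mathlib
import Groth.Agent.Lib.Helper16.LBCpc
import Groth.Agent.Lib.Helper16.RelBC1

/-!
# Helper16 — RelFib3: derived base change preserves good maps out of bounded above complexes of
projectives
-/

open CategoryTheory CategoryTheory.Limits DerivedCategory CategoryTheory.Pretriangulated

attribute [local instance] HasDerivedCategory.standard

namespace Groth.Agent.Lib.Helper16.RelFib

open Groth.Agent.Lib.Helper16.LDer Groth.Agent.Lib.Helper16.PC Groth.Agent.Lib.Helper16.TorAmp
  Groth.Agent.Lib.Helper16.LBCpc

universe u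

variable {A B : Type u} [CommRing A] [CommRing B] (φ : A →+* B) [DRing.HasLBaseChange φ]

/-- the target of a good map from a bounded above complex is bounded above. -/
lemma isLE_of_good {m b : ℤ} {E : DRing.Cx A} {M : Dual.D A}
    (α : Q.obj E ⟶ M) (hα : Good m α) (hE : ∀ i : ℤ, b < i → IsZero (E.X i)) :
    M.IsLE (max b m) := by
  rw [DerivedCategory.isLE_iff]
  intro i hi
  have hi' : b < i ∧ m < i := max_lt_iff.1 hi
  haveI := hα.1 i hi'.2
  have hz : IsZero ((homologyFunctor (ModuleCat.{u} A) i).obj (Q.obj E)) := by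
    refine IsZero.of_iso ?_ ((homologyFunctorFactors (ModuleCat.{u} A) i).app E)
    exact ((HomologicalComplex.exactAt_iff_isZero_homology _ _).1
      (ShortComplex.exact_of_isZero_X₂ _ (hE i hi'.1)))
  exact IsZero.of_iso hz (asIso ((homologyFunctor (ModuleCat.{u} A) i).map α)).symm

/-- **derived base change preserves good maps** out of bounded above complexes of projectives. -/
theorem good_lBaseChange (E : DRing.Cx A) (b₀ : ℤ) (hE : ∀ i : ℤ, b₀ < i → IsZero (E.X i))
    (hEproj : ∀ i, Module.Projective A (E.X i)) [E.IsKProjective] (K : Dual.D A) (m : ℤ)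
    (α : Q.obj E ⟶ K) (hgood : Good m α) :
    Good m ((lBaseChangeIso φ E).inv ≫ (DRing.LBaseChange φ).map α) := by
  have hb : K.IsLE (max b₀ m) := isLE_of_good α hgood hE
  set b := max b₀ m
  obtain ⟨P, hP, hPproj, ⟨e⟩⟩ := exists_projective_model K b hb
  haveI : P.IsKProjective := isKProjective_of_bddAbove_projective P b hP hPproj
  obtain ⟨a, ha⟩ := Groth.Agent.Lib.Helper8.PAmp.exists_Q_map_of_isKProjective E P (α ≫ e.inv)
  have hgood' : Good m (Q.map a) := by
    rw [← ha]
    exact hgood.comp (good_of_isIso m e.inv)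
  have hC : (Q.obj (CochainComplex.mappingCone a)).IsLE (m - 1) :=
    (good_iff_isLE _ (mappingCone_triangle_distinguished a) m (m - 1) (by omega)).1 hgood'
  have hCproj : ∀ i, Module.Projective A ((CochainComplex.mappingCone a).X i) := fun i => by
    have h1 : Projective (E.X (i + 1)) :=
      haveI := hEproj (i + 1)
      ModuleCat.projective_of_categoryTheory_projective _
    have h2 : Projective (P.X i) :=
      haveI := hPproj i
      ModuleCat.projective_of_categoryTheory_projective _
    haveI := Groth.Agent.Lib.Helper8.PAmp.projective_mappingCone_X a i h1 h2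
    exact ModuleCat.projective_of_module_projective _
  have hCb : DRing.VanishesAbove (CochainComplex.mappingCone a) (max b₀ b) := fun i hi =>
    Groth.Agent.Lib.Helper8.DRing2.isZero_mappingCone_X a i
      (hE _ (by have := le_max_left b₀ b; omega))
      (hP i (by have := le_max_right b₀ b; omega))
  haveI : (CochainComplex.mappingCone a).IsKProjective :=
    isKProjective_of_bddAbove_projective _ _ hCb hCproj
  have hCB : (Q.obj ((extCx φ).obj (CochainComplex.mappingCone a))).IsLE (m - 1) :=
    haveI := isLE_lBaseChange_of_isLE φ _ (m - 1) hC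
    (TStructure.t).isLE_of_iso (lBaseChangeIso φ (CochainComplex.mappingCone a)) (m - 1)
  have hTG := (DRing.baseChangeKh φ).map_distinguished _
    (HomotopyCategory.mappingCone_triangleh_distinguished a)
  have hgoodB : Good m (Q.map ((extCx φ).map a)) :=
    (good_iff_isLE _ hTG m (m - 1) (by omega)).2 hCB
  have hα : α = Q.map a ≫ e.hom := by rw [← ha, Category.assoc, Iso.inv_hom_id, Category.comp_id]
  have key : (lBaseChangeIso φ E).inv ≫ (DRing.LBaseChange φ).map α =
      Q.map ((extCx φ).map a) ≫ ((lBaseChangeIso φ P).inv ≫ (DRing.LBaseChange φ).map e.hom) := by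
    rw [hα, Functor.map_comp, Iso.inv_comp_eq, ← Category.assoc, ← Category.assoc,
      ← lBaseChangeIso_naturality, Category.assoc, Category.assoc, Iso.hom_inv_id_assoc]
  rw [key]
  exact hgoodB.comp (good_of_isIso m _)

lemma exactAt_iff_isZero_homology_Q (K : DRing.Cx A) (i : ℤ) :
    K.ExactAt i ↔ IsZero ((homologyFunctor (ModuleCat.{u} A) i).obj (Q.obj K)) := by
  rw [HomologicalComplex.exactAt_iff_isZero_homology]
  exact ⟨fun h => IsZero.of_iso h ((homologyFunctorFactors (ModuleCat.{u} A) i).app K),
    fun h => IsZero.of_iso h ((homologyFunctorFactors (ModuleCat.{u} A) i).app K).symm⟩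

/-- exactness of the base change of an approximation from exactness of the base change of a K-flat
target, in the good range. -/
theorem exactAt_extCx_of_good (E : DRing.Cx A) (b₀ : ℤ) (hE : ∀ i : ℤ, b₀ < i → IsZero (E.X i))
    (hEproj : ∀ i, Module.Projective A (E.X i)) [E.IsKProjective] (P' : DRing.Cx A)
    (hP' : DRing.IsKFlat A P') (m : ℤ) (α : Q.obj E ⟶ Q.obj P') (hgood : Good m α) (i : ℤ)
    (hi : m < i) (hex : ((extCx φ).obj P').ExactAt i) : ((extCx φ).obj E).ExactAt i := by
  have h1 := good_lBaseChange φ E b₀ hE hEproj (Q.obj P') m α hgood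
  have h2 : Good m (((lBaseChangeIso φ E).inv ≫ (DRing.LBaseChange φ).map α) ≫
      (RelBC.lBaseChangeIsoOfKFlat φ P' hP').hom) := h1.comp (good_of_isIso m _)
  haveI := h2.1 i hi
  rw [exactAt_iff_isZero_homology_Q] at hex ⊢
  exact IsZero.of_iso hex (asIso ((homologyFunctor (ModuleCat.{u} B) i).map
    (((lBaseChangeIso φ E).inv ≫ (DRing.LBaseChange φ).map α) ≫
      (RelBC.lBaseChangeIsoOfKFlat φ P' hP').hom)))

end Groth.Agent.Lib.Helper16.RelFib
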