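import Mathlib
import Groth.Agent.Lib.Helper16.RelAmp1
import Groth.Agent.Lib.Helper21.FibreStalkSq

/-!
# Helper16 — RelFib4: a bound below for the derived pullback to a fibre gives exactness of the
reduction of the complex of stalks to the local ring of the fibre
-/

set_option autoImplicit false
universe u
open CategoryTheory CategoryTheory.Limits AlgebraicGeometry DerivedCategory

attribute [local instance] HasDerivedCategory.standard

namespace Groth.Agent.Lib.Helper16.RelFib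

open Groth.Agent.Lib.Helper16.RS Groth.Agent.Lib.Helper16.Stk Groth.Agent.Lib.Helper16.KD
  Groth.Agent.Lib.Helper16 Groth.Agent.Lib.Helper16.TorLoc Groth.Agent.Lib.Helper16.RelAmp
  Groth.Agent.Lib.Helper21.FibreStalk

variable {X S : Scheme.{u}}

/-- the complex of stalks at equal points. -/
noncomputable def stkCxCongr {x' x : X} (h : x' = x) (K : CochainComplex X.Modules ℤ) :
    stkCx x' K ≅
      (extCx (X.presheaf.stalkSpecializes (specializes_of_eq h)).hom).obj (stkCx x K) := by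
  subst h
  exact ((PerfFib.extCxOfEqId _ (by
    rw [TopCat.Presheaf.stalkSpecializes_refl]; rfl)).app _).symm

/-- **from the fibre to the reduction of the complex of stalks.** -/
theorem exactAt_extCx_toFibStalk (f : X ⟶ S) (x : X) (y : f.fiber (f x))
    (hy : f.fiberι (f x) y = x) [DCoh.HasLpull (f.fiberι (f x))]
    (P₀ : CochainComplex X.Modules ℤ) (hP₀ : DCoh.IsKFlat P₀)
    (W : (f.fiber (f x)).Opens) (hyW : y ∈ W) (a₁ : ℤ)
    (h : ((RD W.ι).obj ((DCoh.Lpull (f.fiberι (f x))).obj (Q.obj P₀))).IsGE a₁) (i : ℤ)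
    (hi : i < a₁) :
    ((extCx (toFibStalk f x y hy).hom).obj (stkCx x P₀)).ExactAt i := by
  have e1 : (RD W.ι).obj ((DCoh.Lpull (f.fiberι (f x))).obj (Q.obj P₀)) ≅
      Q.obj ((RCx W.ι).obj ((pullCx (f.fiberι (f x))).obj P₀)) :=
    (RD W.ι).mapIso (LpullIso (f.fiberι (f x)) P₀ hP₀) ≪≫ RDQIso W.ι _
  have h1 : (Q.obj ((RCx W.ι).obj ((pullCx (f.fiberι (f x))).obj P₀))).IsGE a₁ :=
    (TStructure.t).isGE_of_iso e1 a₁
  have h2 : ((RCx W.ι).obj ((pullCx (f.fiberι (f x))).obj P₀)).ExactAt i :=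
    (CochainComplex.isGE_iff _ a₁).1 ((isGE_Q_obj_iff _ a₁).1 h1) i hi
  obtain ⟨y₁, hy₁⟩ : ∃ y₁ : W, W.ι y₁ = y := ⟨⟨y, hyW⟩, rfl⟩
  subst hy₁
  have h3 := (exactAt_iff_forall_stalk _ i).1 h2 y₁
  have h4 := h3.of_iso (PerfFib.stkCxRCxIso W.ι _ y₁)
  have h5 : (stkCx (W.ι y₁) ((pullCx (f.fiberι (f x))).obj P₀)).ExactAt i :=
    ((exactAt_resCx_iff (φs W.ι y₁) _ i).2 h4).of_iso
      (resExtCxIso (φs W.ι y₁) (PerfFib.bijective_φs W.ι y₁) _)
  have h6 := h5.of_iso (pullbackStkCxIso (f.fiberι (f x)) (W.ι y₁) P₀)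
  have h7 := h6.of_iso ((extCx (φs (f.fiberι (f x)) (W.ι y₁))).mapIso (stkCxCongr hy P₀))
  exact h7.of_iso ((extCxCompIso _ _).app _).symm

end Groth.Agent.Lib.Helper16.RelFib
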