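import Mathlib
import Groth.Agent.Lib.Helper16.RelFib2
import Groth.Agent.Lib.Helper16.RelFib3
import Groth.Agent.Lib.Helper16.RelFib4
import Groth.Agent.Lib.Helper21.FlatDescQ4

/-!
# Helper16 — RelFib5: flatness over the base of the cokernel of an approximating strictly perfect
complex, at a point, from exactness on the fibre
-/

set_option autoImplicit false
universe u
open CategoryTheory CategoryTheory.Limits AlgebraicGeometry DerivedCategory

attribute [local instance] HasDerivedCategory.standard

namespace Groth.Agent.Lib.Helper16.RelFib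

open Groth.Agent.Lib.Helper16.RS Groth.Agent.Lib.Helper16.Stk Groth.Agent.Lib.Helper16.KD
  Groth.Agent.Lib.Helper16 Groth.Agent.Lib.Helper16.TorLoc Groth.Agent.Lib.Helper16.RelAmp
  Groth.Agent.Lib.Helper21.FibreStalk Groth.Agent.Lib.Helper16.PC
  Groth.Agent.Lib.Helper1.LocPC Groth.Agent.Lib.Helper16.LocFree

section Ring

variable {A B : Type u} [CommRing A] [CommRing B]

lemma exactAt_extCx_congr {φ φ' : A →+* B} (h : φ = φ') (K : DRing.Cx A) (i : ℤ) :
    ((extCx φ).obj K).ExactAt i ↔ ((extCx φ').obj K).ExactAt i := by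
  subst h; rfl

/-- helper21's `EssFP` in the algebra form of the prelude. -/
lemma isEssFinitePresentation_of_essFP (φ : A →+* B)
    (h : Groth.Agent.Lib.Helper21.FlatDesc.EssFP φ) :
    @CAlgX.IsEssFinitePresentation A _ B _ φ.toAlgebra := by
  obtain ⟨S₀, _, a, b, T, hab, ha, hloc⟩ := h
  letI := φ.toAlgebra
  letI : Algebra A S₀ := a.toAlgebra
  letI : Algebra S₀ B := b.toAlgebra
  haveI : IsScalarTower A S₀ B := IsScalarTower.of_algebraMap_eq (fun r => by
    show φ r = b (a r)
    rw [hab]; rfl)
  exact ⟨S₀, inferInstance, inferInstance, inferInstance, inferInstance, T, ha, hloc⟩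

end Ring

variable {X S U : Scheme.{u}}

lemma φs_comp_θs (j : U ⟶ X) [IsOpenImmersion j] (z : U) :
    (φs j z).comp (PerfFib.θs j z) = RingHom.id _ := by
  have h : inv (j.stalkMap z) ≫ j.stalkMap z = 𝟙 _ := IsIso.inv_hom_id _
  exact congrArg CommRingCat.Hom.hom h

/-- **the heart**: the cokernel `P^a / d P^{a-1}` of a strictly perfect complex approximating a
K-flat complex `P₀` near `j z` is flat over the base at `z`, when the reduction of the complex of
stalks of `P₀` to the local ring of the fibre is exact in degree `a - 1`. -/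
theorem isFlatOverAt_opcycles (h00 : ZeroME.{u}) (f : X ⟶ S) [Flat f]
    [LocallyOfFinitePresentation f] (j : U ⟶ X) [IsOpenImmersion j] (z : U)
    (P : CochainComplex U.Modules ℤ) (hP : DCoh.IsStrictlyPerfect P)
    (P₀ : CochainComplex X.Modules ℤ) (hP₀ : DCoh.IsKFlat P₀) (a : ℤ)
    (α : Q.obj P ⟶ Q.obj ((RCx j).obj P₀)) (hα : Good (a - 2) α)
    (y : f.fiber (f (j z))) (hy : f.fiberι (f (j z)) y = j z)
    (hex : ((extCx (toFibStalk f (j z) y hy).hom).obj (stkCx (j z) P₀)).ExactAt (a - 1)) :
    FlatMod.IsFlatOverAt (j ≫ f) (P.opcycles a) z := by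
  obtain ⟨⟨a', b', hab⟩, -⟩ := id hP
  -- the rings and ring maps
  set ψ := (toFibStalk f (j z) y hy).hom with hψ
  set χ := ψ.comp (PerfFib.θs j z) with hχdef
  have hχφ : χ.comp (φs j z) = ψ := by
    rw [hχdef, RingHom.comp_assoc, PerfFib.θs_comp_φs, RingHom.comp_id]
  -- the good map on stalks
  have hg : Good (a - 2) (((stk z).mapDerivedCategoryFactors.app P).inv ≫
      (stk z).mapDerivedCategory.map α ≫
        ((stk z).mapDerivedCategoryFactors.app ((RCx j).obj P₀)).hom) :=
    (good_of_isIso _ _).comp ((map_good (stk z) α hα).comp (good_of_isIso _ _))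
  -- exactness of the reduction of the stalk of `P₀|_U`
  have hex' : ((extCx χ).obj (stkCx z ((RCx j).obj P₀))).ExactAt (a - 1) := by
    have h1 := (exactAt_extCx_congr hχφ.symm _ (a - 1)).1 hex
    have h2 := h1.of_iso ((extCxCompIso (φs j z) χ).app (stkCx (j z) P₀))
    exact h2.of_iso ((extCx χ).mapIso (PerfFib.stkCxRCxIso j P₀ z)).symm
  -- exactness of the reduction of the stalk of `P`
  have hFfree := termwiseFiniteFree_stkCx P hP z
  have hFproj : ∀ i, Module.Projective (U.presheaf.stalk z) ((stkCx z P).X i) := fun i => by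
    haveI := (hFfree i).2
    infer_instance
  have hFb : ∀ i : ℤ, b' < i → IsZero ((stkCx z P).X i) := fun i hi =>
    (stk z).map_isZero (hab i (Or.inr hi))
  haveI : (stkCx z P).IsKProjective :=
    LDer.isKProjective_of_bddAbove_projective _ b' hFb hFproj
  haveI := DRE.hasLBaseChange χ
  have hKfl : DRing.IsKFlat (U.presheaf.stalk z) (stkCx z ((RCx j).obj P₀)) :=
    stalk_isKFlat_of_isKFlat z _ (isKFlat_RCx j P₀ hP₀)
  have hexF : ((extCx χ).obj (stkCx z P)).ExactAt (a - 1) :=
    exactAt_extCx_of_good χ (stkCx z P) b' hFb hFproj _ hKfl (a - 2) _ hg (a - 1) (by omega) hex'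
  -- the hypotheses on the ring maps
  have hφeq : ((j ≫ f).stalkMap z).hom = (φs j z).comp (f.stalkMap (j z)).hom :=
    StalkTor.stalkMap_comp_hom j f z
  have hess := isEssFinitePresentation_of_essFP _
    (Groth.Agent.Lib.Helper21.FlatDesc.essFP_stalkMap (j ≫ f) z)
  have hfl : ((j ≫ f).stalkMap z).hom.Flat := Flat.stalkMap (j ≫ f) z
  have hχs : Function.Surjective χ := by
    rw [hχdef, RingHom.coe_comp]
    refine (toFibStalk_surjective f (j z) y hy).comp ?_
    intro b
    exact ⟨φs j z b, by
      have := congrArg (fun g => g b) (PerfFib.θs_comp_φs j z)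
      simpa using this⟩
  have hker : RingHom.ker χ = (IsLocalRing.maximalIdeal (S.presheaf.stalk ((j ≫ f) z))).map
      ((j ≫ f).stalkMap z).hom := by
    rw [hχdef, ← RingHom.comap_ker, hψ, ker_toFibStalk' f (j z) y hy, hφeq]
    unfold fibIdeal
    set J := (IsLocalRing.maximalIdeal (S.presheaf.stalk (f (j z)))).map (f.stalkMap (j z)).hom
    have hmm : (IsLocalRing.maximalIdeal (S.presheaf.stalk ((j ≫ f) z))).map
        ((φs j z).comp (f.stalkMap (j z)).hom) = J.map (φs j z) := (Ideal.map_map _ _).symm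
    refine Eq.trans ?_ hmm.symm
    apply le_antisymm
    · intro b hb
      have hb' : PerfFib.θs j z b ∈ J := hb
      have h1 : φs j z (PerfFib.θs j z b) = b := by
        have := congrArg (fun g => g b) (φs_comp_θs j z)
        simpa using this
      rw [← h1]
      exact Ideal.mem_map_of_mem _ hb'
    · rw [Ideal.map_le_iff_le_comap, Ideal.comap_comap, PerfFib.θs_comp_φs, Ideal.comap_id]
  have key := flat_quot_of_exactAt_extCx ((j ≫ f).stalkMap z).hom χ h00 hess hfl hχs hker
    (stkCx z P) hFfree a hexF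
  -- transfer to the opcycles of `P`
  have e1 : ((DerSch.stalkCxOver (j ≫ f) z).obj P).opcycles a ≅
      (DerSch.stalkOver (j ≫ f) z).obj (P.opcycles a) :=
    (P.sc a).mapOpcyclesIso (DerSch.stalkOver (j ≫ f) z)
  have e2 := TorAmp.opcyclesIsoQuotient ((DerSch.stalkCxOver (j ≫ f) z).obj P) (a - 1) a
    (by omega)
  have key' : Module.Flat (S.presheaf.stalk ((j ≫ f) z))
      (((DerSch.stalkCxOver (j ≫ f) z).obj P).X a ⧸
        LinearMap.range (((DerSch.stalkCxOver (j ≫ f) z).obj P).d (a - 1) a).hom) := key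
  have : Module.Flat (S.presheaf.stalk ((j ≫ f) z))
      ((DerSch.stalkOver (j ≫ f) z).obj (P.opcycles a)) :=
    Module.Flat.of_linearEquiv (e1.symm ≪≫ e2).toLinearEquiv
  exact this

end Groth.Agent.Lib.Helper16.RelFib
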