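import Mathlib
import Groth.Agent.Lib.Helper16.RelFib1
import Groth.Agent.Lib.Helper16.RelFib5
import Groth.Agent.Lib.Helper21.FlatDescL
import Groth.Agent.Lib.Helper1.LocPerf5
import Groth.Agent.Lib.Helper16.Fl2
import Groth.Agent.S7248

/-!
# Helper16 — RelFib6: a pseudo-coherent object which is locally bounded below and whose derived
pullbacks to the fibres are locally bounded below is locally of finite tor dimension over the base
(for a flat morphism locally of finite presentation); modulo the statement `ZeroME` (S2107).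
-/

set_option autoImplicit false
universe u
open CategoryTheory CategoryTheory.Limits AlgebraicGeometry DerivedCategory

attribute [local instance] HasDerivedCategory.standard

namespace Groth.Agent.Lib.Helper16.RelFib

open Groth.Agent.Lib.Helper16.RS Groth.Agent.Lib.Helper16.Stk Groth.Agent.Lib.Helper16.KD
  Groth.Agent.Lib.Helper16 Groth.Agent.Lib.Helper16.TorLoc Groth.Agent.Lib.Helper16.RelAmp
  Groth.Agent.Lib.Helper21.FibreStalk Groth.Agent.Lib.Helper16.PC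
  Groth.Agent.Lib.Helper1.LocPC Groth.Agent.Lib.Helper16.LocFree

variable {X S : Scheme.{u}}

/-- pointwise form of `torAt_of_hasRelFlatAmplitudeIn`. -/
theorem torAt_of_rep_at (g : X ⟶ S) (a b : ℤ) (E₀ : CochainComplex X.Modules ℤ)
    (hE₀ : DCoh.VanishesOutside E₀ a b) (x : X)
    (hfl : ∀ i : ℤ, FlatMod.IsFlatOverAt g (E₀.X i) x) : TorAt g a b (DCoh.toD X E₀) x := by
  refine (torAt_toD_iff g a b E₀ x).2 ?_
  exact ⟨(DerSch.stalkCxOver g x).obj E₀, fun i hi => (DerSch.stalkOver g x).map_isZero (hE₀ i hi),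
    fun i => hfl i, ⟨Iso.refl _⟩⟩

lemma isFlatOverAt_of_iso (g : X ⟶ S) {M N : X.Modules} (e : M ≅ N) (x : X)
    (hM : FlatMod.IsFlatOverAt g M x) : FlatMod.IsFlatOverAt g N x := by
  have h1 : Module.Flat (S.presheaf.stalk (g.base x)) ((DerSch.stalkOver g x).obj M) := hM
  have : Module.Flat (S.presheaf.stalk (g.base x)) ((DerSch.stalkOver g x).obj N) :=
    Module.Flat.of_linearEquiv ((DerSch.stalkOver g x).mapIso e).symm.toLinearEquiv
  exact this

/-- **the converse direction of S1101**, modulo `ZeroME`. -/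
theorem locTorAt_of_bounded_on_fibres (h00 : ZeroME.{u}) (f : X ⟶ S) [Flat f]
    [LocallyOfFinitePresentation f] [∀ s : S, DCoh.HasLpull (f.fiberι s)]
    (E : DCoh.D X) (hE : ∀ (m : ℤ) (x : X), PCAt m E x)
    (hb : ∀ x : X, ∃ (V : X.Opens) (a : ℤ), x ∈ V ∧ ((RD V.ι).obj E).IsGE a)
    (hfib : ∀ (s : S) (y : f.fiber s), ∃ (W : (f.fiber s).Opens) (a : ℤ), y ∈ W ∧
      ((RD W.ι).obj ((DCoh.Lpull (f.fiberι s)).obj E)).IsGE a) :
    LocTorAt f E := by
  intro x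
  obtain ⟨V₀, a₀, hx₀, hV₀⟩ := hb x
  obtain ⟨W, a₁, hyW, hW⟩ := hfib (f x) (f.asFiber x)
  set a := min a₀ a₁ with ha
  -- a K-flat representative
  obtain ⟨F₀, ⟨eF₀⟩⟩ := exists_rep E
  obtain ⟨P₀, q, hP₀, -, hq, -⟩ := exists_kFlat_resolution F₀
  haveI := hq
  haveI : IsIso (Q.map q) := by rw [isIso_Q_map_iff_quasiIso]; infer_instance
  let e₀ : Q.obj P₀ ≅ E := asIso (Q.map q) ≪≫ eF₀
  -- the approximation
  obtain ⟨V₁, hx₁, hV₁⟩ := hE (a - 2) x
  obtain ⟨V, hVV₁, hVV₀, hxV⟩ : ∃ V : X.Opens, V ≤ V₁ ∧ V ≤ V₀ ∧ x ∈ V :=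
    ⟨V₁ ⊓ V₀, inf_le_left, inf_le_right, ⟨hx₁, hx₀⟩⟩
  obtain ⟨P, α, hP, hα⟩ := hV₁.of_le_opens hVV₁
  -- bounded below on `V`
  have hGE : ((RD V.ι).obj E).IsGE a := by
    obtain ⟨e⟩ := nonempty_RD_fac_iso V₀.ι (X.homOfLE hVV₀) V.ι
      (X.homOfLE_ι _) E
    have h1 : ((RD (X.homOfLE hVV₀)).obj ((RD V₀.ι).obj E)).IsGE a₀ :=
      Groth.Agent.Lib.Helper1.LocPerf.map_isGE _ _ a₀ hV₀
    have h2 : ((RD V.ι).obj E).IsGE a₀ := (TStructure.t).isGE_of_iso e a₀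
    exact (TStructure.t).isGE_of_ge _ a a₀ (min_le_left _ _)
  -- the truncation
  obtain ⟨eT⟩ := nonempty_truncGE_iso P ((RD V.ι).obj E) a hGE α
    (fun i hi => hα.1 i (by omega))
  obtain ⟨⟨a', b', hab⟩, hfree⟩ := id hP
  -- the good map to the restriction of `P₀`
  have hα' : Good (a - 2) (α ≫ ((RD V.ι).mapIso e₀.symm ≪≫ RDQIso V.ι P₀).hom) :=
    good_comp_iso _ hα
  -- exactness on the fibre
  have hW' : ((RD W.ι).obj ((DCoh.Lpull (f.fiberι (f x))).obj (Q.obj P₀))).IsGE a₁ :=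
    (TStructure.t).isGE_of_iso
      ((RD W.ι).mapIso ((DCoh.Lpull (f.fiberι (f x))).mapIso e₀.symm)) a₁
  obtain ⟨z, hz⟩ : ∃ z : V, V.ι z = x := ⟨⟨x, hxV⟩, rfl⟩
  subst hz
  have hex := exactAt_extCx_toFibStalk f (V.ι z) (f.asFiber (V.ι z)) (f.fiberι_asFiber (V.ι z))
    P₀ hP₀ W hyW a₁ hW' (a - 1) (by have := min_le_right a₀ a₁; omega)
  have hflz := isFlatOverAt_opcycles h00 f V.ι z P hP P₀ hP₀ a _ hα' (f.asFiber (V.ι z))
    (f.fiberι_asFiber (V.ι z)) hex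
  -- openness of the flat locus
  haveI := Groth.Agent.Lib.Helper1.LocPerf.isFinitePresentation_opcycles P hfree a
  have hopen := Groth.Agent.Lib.Helper21.FlatDesc.isOpen_isFlatOverAt (V.ι ≫ f) (P.opcycles a)
  let V' : (V : Scheme.{u}).Opens := ⟨_, hopen⟩
  have hzV' : z ∈ V' := hflz
  refine ⟨V.ι ''ᵁ V', a, max b' a, ⟨z, hzV', rfl⟩, ?_⟩
  rintro x' ⟨z', hz', rfl⟩
  have hflz' : FlatMod.IsFlatOverAt (V.ι ≫ f) (P.opcycles a) z' := hz'
  -- the truncated complex at `z'`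
  have hT : TorAt (V.ι ≫ f) a (max b' a) (DCoh.toD _ (P.truncGE a)) z' := by
    refine torAt_of_rep_at (V.ι ≫ f) a (max b' a) (P.truncGE a) (fun i hi => ?_) z' (fun i => ?_)
    · rcases hi with hi | hi
      · exact (P.truncGE a).isZero_of_isStrictlyGE a i hi
      · exact IsZero.of_iso (hab i (Or.inr (by have := le_max_left b' a; omega)))
          (P.truncGEXIso a i (by have := le_max_right b' a; omega))
    · rcases lt_trichotomy i a with h' | h' | h'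
      · exact isFlatOver_of_isZero (V.ι ≫ f) _ ((P.truncGE a).isZero_of_isStrictlyGE a i h') z'
      · rw [h']
        exact isFlatOverAt_of_iso (V.ι ≫ f) (P.truncGEXIsoOpcycles a).symm z' hflz'
      · exact isFlatOverAt_of_iso (V.ι ≫ f) (P.truncGEXIso a i h').symm z'
          (Groth.Agent.S7248.isFlatOver_of_isFinLocFree (V.ι ≫ f) _ (hfree i) z')
  have hT' : TorAt (V.ι ≫ f) a (max b' a) (DCoh.toD _ ((RCx V.ι).obj P₀)) z' :=
    torAt_of_iso (V.ι ≫ f) a (max b' a)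
      (eT ≪≫ (RD V.ι).mapIso e₀.symm ≪≫ RDQIso V.ι P₀) z' hT
  have h3 := (hasTorAmplitudeAt_RCx_iff f V.ι P₀ z' a (max b' a)).1
    ((torAt_toD_iff (V.ι ≫ f) a (max b' a) _ z').1 hT')
  exact torAt_of_iso f a (max b' a) e₀ _ ((torAt_toD_iff f a (max b' a) P₀ _).2 h3)

/-- **the direct direction of S1101, part (a)**: an object locally of finite tor dimension over
the base is locally bounded below. -/
theorem bounded_of_locHasFiniteRelTorDim (f : X ⟶ S) (E : DCoh.D X)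
    (h : DCoh.LocHasFiniteRelTorDim f E) (x : X) :
    ∃ (V : X.Opens) (a : ℤ), x ∈ V ∧ ((RD V.ι).obj E).IsGE a := by
  obtain ⟨V, a, b, hx, hV⟩ := h x
  obtain ⟨F₀, ⟨e₀⟩⟩ := exists_rep E
  obtain ⟨E₀, hE₀, -, ⟨e⟩⟩ := hV F₀ ⟨e₀⟩
  refine ⟨V, a, hx, ?_⟩
  have e1 : Q.obj E₀ ≅ (RD V.ι).obj E := e ≪≫ (RDQIso V.ι F₀).symm ≪≫ (RD V.ι).mapIso e₀
  haveI : E₀.IsStrictlyGE a :=
    (CochainComplex.isStrictlyGE_iff _ _).2 (fun i hi => hE₀ i (Or.inl hi))
  have : (Q.obj E₀).IsGE a := (isGE_Q_obj_iff E₀ a).2 inferInstance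
  exact (TStructure.t).isGE_of_iso e1 a

end Groth.Agent.Lib.Helper16.RelFib
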