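import Mathlib.CategoryTheory.Abelian.Refinements
import Mathlib.Algebra.Homology.ShortComplex.ShortExact
import Mathlib.CategoryTheory.Abelian.Exact

namespace Groth.Agent.Lib.Helper16.ResD

open CategoryTheory CategoryTheory.Limits

universe v u
variable {C : Type u} [Category.{v} C] [Abelian C]

/-- kernel–epi short exact sequence -/
lemma shortExact_kernel {L A : C} (π : L ⟶ A) [Epi π] :
    (ShortComplex.mk (kernel.ι π) π (kernel.condition π)).ShortExact :=
  ShortComplex.ShortExact.mk' (ShortComplex.exact_kernel π) inferInstance inferInstance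

section Beta
variable {M L A : C} (f : M ⟶ L) (g : L ⟶ A) (fg : M ⟶ A) (h : f ≫ g = fg)

noncomputable def β₁ : kernel f ⟶ kernel fg :=
  kernel.lift fg (kernel.ι f) (by rw [← h, kernel.condition_assoc, zero_comp])

noncomputable def β₂ : kernel fg ⟶ kernel g :=
  kernel.lift g (kernel.ι fg ≫ f) (by rw [Category.assoc, h, kernel.condition])

lemma β_zero : β₁ f g fg h ≫ β₂ f g fg h = 0 := by
  ext; simp [β₁, β₂]

lemma β_shortExact [Epi f] :
    (ShortComplex.mk (β₁ f g fg h) (β₂ f g fg h) (β_zero f g fg h)).ShortExact := by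
  have hm : Mono (β₁ f g fg h) := by
    have : β₁ f g fg h ≫ kernel.ι fg = kernel.ι f := by simp [β₁]
    exact mono_of_mono_fac this
  have he : Epi (β₂ f g fg h) := by
    rw [epi_iff_surjective_up_to_refinements]
    intro T y
    obtain ⟨T', π, hπ, x, hx⟩ := surjective_up_to_refinements_of_epi f (y ≫ kernel.ι g)
    have hx0 : x ≫ fg = 0 := by
      rw [← h, ← Category.assoc, ← hx]; simp
    refine ⟨T', π, hπ, kernel.lift fg x hx0, ?_⟩
    rw [← cancel_mono (kernel.ι g)]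
    simp [β₂, hx]
  refine ShortComplex.ShortExact.mk' ?_ hm he
  rw [ShortComplex.exact_iff_exact_up_to_refinements]
  intro T x₂ hx₂
  dsimp at x₂ hx₂
  have h0 : (x₂ ≫ kernel.ι fg) ≫ f = 0 := by
    have := hx₂ =≫ kernel.ι g
    simpa [β₂] using this
  refine ⟨T, 𝟙 T, inferInstance, kernel.lift f (x₂ ≫ kernel.ι fg) h0, ?_⟩
  dsimp
  rw [← cancel_mono (kernel.ι fg)]
  simp [β₁]

end Beta

section Delta
variable (S : ShortComplex C) {LX M : C} (πX : LX ⟶ S.X₁)
  (m : M ⟶ S.X₂) (ρ : M ⟶ S.X₃) (hρ : m ≫ S.g = ρ)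

noncomputable def πY : LX ⊞ M ⟶ S.X₂ := biprod.desc (πX ≫ S.f) m

include hρ in
lemma πY_g : πY S πX m ≫ S.g = biprod.snd ≫ ρ := by
  ext <;> simp [πY, hρ]

include hρ in
lemma epi_πY (hS : S.ShortExact) [Epi πX] [Epi ρ] : Epi (πY S πX m) := by
  have := hS.mono_f
  rw [epi_iff_surjective_up_to_refinements]
  intro T y
  obtain ⟨T', π₁, hπ₁, x, hx⟩ := surjective_up_to_refinements_of_epi ρ (y ≫ S.g)
  have h0 : (π₁ ≫ y - x ≫ m) ≫ S.g = 0 := by
    rw [Preadditive.sub_comp, Category.assoc, Category.assoc, hρ, hx, sub_self]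
  obtain ⟨w, hw⟩ := hS.exact.lift' _ h0
  obtain ⟨T'', π₂, hπ₂, v, hv⟩ := surjective_up_to_refinements_of_epi πX w
  refine ⟨T'', π₂ ≫ π₁, inferInstance, biprod.lift v (π₂ ≫ x), ?_⟩
  have : biprod.lift v (π₂ ≫ x) ≫ πY S πX m = v ≫ πX ≫ S.f + π₂ ≫ x ≫ m := by
    simp [πY, biprod.lift_desc]
  rw [this, ← Category.assoc v, ← hv, Category.assoc π₂ w, hw]
  simp

noncomputable def δ₁ : kernel πX ⟶ kernel (πY S πX m) :=
  kernel.lift _ (kernel.ι πX ≫ biprod.inl) (by simp [πY])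

noncomputable def δ₂ : kernel (πY S πX m) ⟶ kernel ρ :=
  kernel.lift _ (kernel.ι _ ≫ biprod.snd)
    (by rw [Category.assoc, ← πY_g S πX m ρ hρ, kernel.condition_assoc, zero_comp])

lemma δ_zero : δ₁ S πX m ≫ δ₂ S πX m ρ hρ = 0 := by
  ext; simp [δ₁, δ₂]

lemma δ_shortExact (hS : S.ShortExact) [Epi πX] [Epi ρ] :
    (ShortComplex.mk (δ₁ S πX m) (δ₂ S πX m ρ hρ) (δ_zero S πX m ρ hρ)).ShortExact := by
  have := hS.mono_f
  have hm : Mono (δ₁ S πX m) := by
    have : δ₁ S πX m ≫ kernel.ι _ = kernel.ι πX ≫ biprod.inl := by simp [δ₁]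
    exact mono_of_mono_fac this
  have he : Epi (δ₂ S πX m ρ hρ) := by
    rw [epi_iff_surjective_up_to_refinements]
    intro T y
    have h0 : (y ≫ kernel.ι ρ ≫ m) ≫ S.g = 0 := by
      rw [Category.assoc, Category.assoc, hρ, kernel.condition, comp_zero]
    obtain ⟨w, hw⟩ := hS.exact.lift' _ h0
    obtain ⟨T', π₁, hπ₁, v, hv⟩ := surjective_up_to_refinements_of_epi πX w
    have hs : biprod.lift (-v) (π₁ ≫ y ≫ kernel.ι ρ) ≫ πY S πX m = 0 := by
      have : biprod.lift (-v) (π₁ ≫ y ≫ kernel.ι ρ) ≫ πY S πX m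
          = (-v) ≫ πX ≫ S.f + (π₁ ≫ y ≫ kernel.ι ρ) ≫ m := by
        simp [πY, biprod.lift_desc]
      rw [this, Preadditive.neg_comp, ← Category.assoc v, ← hv, Category.assoc, hw]
      simp
    refine ⟨T', π₁, hπ₁, kernel.lift _ _ hs, ?_⟩
    rw [← cancel_mono (kernel.ι ρ)]
    simp [δ₂]
  refine ShortComplex.ShortExact.mk' ?_ hm he
  rw [ShortComplex.exact_iff_exact_up_to_refinements]
  intro T t ht
  dsimp at t ht
  have h1 : (t ≫ kernel.ι _) ≫ (biprod.snd : LX ⊞ M ⟶ M) = 0 := by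
    have := ht =≫ kernel.ι ρ
    simpa [δ₂] using this
  have h2 : t ≫ kernel.ι _ = ((t ≫ kernel.ι _) ≫ (biprod.fst : LX ⊞ M ⟶ LX)) ≫ biprod.inl := by
    apply biprod.hom_ext
    · simp
    · simp only [Category.assoc] at h1 ⊢
      rw [h1]; simp
  have h3 : ((t ≫ kernel.ι _) ≫ (biprod.fst : LX ⊞ M ⟶ LX)) ≫ πX = 0 := by
    rw [← cancel_mono S.f, zero_comp]
    have := kernel.condition (πY S πX m)
    have h4 : t ≫ kernel.ι _ ≫ πY S πX m = 0 := by rw [this, comp_zero]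
    rw [← Category.assoc, h2] at h4
    simpa [πY] using h4
  refine ⟨T, 𝟙 T, inferInstance, kernel.lift πX _ h3, ?_⟩
  dsimp
  rw [← cancel_mono (kernel.ι (πY S πX m)), Category.id_comp]
  refine h2.trans ?_
  simp [δ₁]

end Delta

section Biprod
variable (X Y : C)

lemma biprod_shortExact :
    (ShortComplex.mk (biprod.inl : X ⟶ X ⊞ Y) (biprod.snd : X ⊞ Y ⟶ Y) (by simp)).ShortExact :=
  (ShortComplex.Splitting.ofHasBinaryBiproduct X Y).shortExact

end Biprod

end Groth.Agent.Lib.Helper16.ResD
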