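import Groth.Agent.Lib.Helper16.ResK0
import Mathlib.Algebra.Homology.ShortComplex.HomologicalComplex
import Mathlib.CategoryTheory.ObjectProperty.ClosedUnderIsomorphisms

namespace Groth.Agent.Lib.Helper16.ResK

open CategoryTheory CategoryTheory.Limits KZero
open Groth.Agent.Lib.Helper16.ResD

universe v u
variable {C : Type u} [Category.{v} C] [Abelian C] {P₀ P₁ : ObjectProperty C}

section Exist
variable (H : Hyp P₀ P₁)

include H in
lemma exists_cover (B : C) : ∃ (L : C) (π : L ⟶ B), Epi π ∧ (P₁ B → P₀ L) := by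
  by_cases hB : P₁ B
  · obtain ⟨L, u', v', hL, hu', _⟩ := H.h2 B B B (𝟙 B) (𝟙 B) inferInstance hB hB hB
    exact ⟨L, u', hu', fun _ => hL⟩
  · exact ⟨B, 𝟙 B, inferInstance, fun h => absurd h hB⟩

noncomputable def cover (B : C) : C := (exists_cover H B).choose

noncomputable def coverπ (B : C) : cover H B ⟶ B := (exists_cover H B).choose_spec.choose

instance epi_coverπ (B : C) : Epi (coverπ H B) := (exists_cover H B).choose_spec.choose_spec.1

lemma cover_mem {B : C} (hB : P₁ B) : P₀ (cover H B) :=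
  (exists_cover H B).choose_spec.choose_spec.2 hB

noncomputable def kseq (A : C) : ℕ → C
  | 0 => A
  | n+1 => kernel (coverπ H (kseq A n))

lemma kseq_mem {A : C} (hA : P₁ A) : ∀ n, P₁ (kseq H A n)
  | 0 => hA
  | n+1 => H.ker₁ (coverπ H _) (H.hle _ (cover_mem H (kseq_mem hA n))) (kseq_mem hA n)

noncomputable def kι (A : C) (n : ℕ) : kseq H A (n+1) ⟶ cover H (kseq H A n) :=
  kernel.ι (coverπ H (kseq H A n))

instance mono_kι (A : C) (n : ℕ) : Mono (kι H A n) :=
  inferInstanceAs (Mono (kernel.ι (coverπ H (kseq H A n))))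

@[reassoc (attr := simp)]
lemma kι_comp (A : C) (n : ℕ) : kι H A n ≫ coverπ H (kseq H A n) = 0 := kernel.condition _

noncomputable def kιIsKernel (A : C) (n : ℕ) :
    IsLimit (KernelFork.ofι (kι H A n) (kι_comp H A n)) := kernelIsKernel _

noncomputable abbrev resol (A : C) : ChainComplex C ℕ :=
  ChainComplex.of (fun n => cover H (kseq H A n))
    (fun n => coverπ H (kseq H A (n+1)) ≫ kι H A n)
    (fun n => by simp)

lemma resol_d (A : C) (n : ℕ) :
    (resol H A).d (n+1) n = coverπ H (kseq H A (n+1)) ≫ kι H A n := by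
  simp [resol]

lemma resol_d_cover (A : C) : (resol H A).d 1 0 ≫ coverπ H (kseq H A 0) = 0 := by
  rw [resol_d, Category.assoc, kι_comp, comp_zero]

lemma kι_resol_d (A : C) (d : ℕ) : kι H A (d+1) ≫ (resol H A).d (d+1) d = 0 := by
  rw [resol_d, ← Category.assoc, kι_comp, zero_comp]

lemma resol_exact (A : C) (i : ℕ) (hi : 1 ≤ i) : (resol H A).ExactAt i := by
  obtain ⟨j, rfl⟩ := Nat.exists_eq_add_of_le' hi
  rw [HomologicalComplex.exactAt_iff' _ (j+1+1) (j+1) j (by simp) (by simp)]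
  rw [ShortComplex.exact_iff_exact_up_to_refinements]
  intro T x₂ hx₂
  change T ⟶ cover H (kseq H A (j+1)) at x₂
  change x₂ ≫ (resol H A).d (j+1) j = 0 at hx₂
  rw [resol_d] at hx₂
  have h0 : x₂ ≫ coverπ H (kseq H A (j+1)) = 0 := by
    rw [← cancel_mono (kι H A j), Category.assoc, hx₂, zero_comp]
  let l : T ⟶ kseq H A (j+1+1) := (kιIsKernel H A (j+1)).lift (KernelFork.ofι x₂ h0)
  have hl : l ≫ kι H A (j+1) = x₂ := (kιIsKernel H A (j+1)).fac _ WalkingParallelPair.zero
  obtain ⟨T', π, hπ, x₁, hx₁⟩ := surjective_up_to_refinements_of_epi (coverπ H (kseq H A (j+1+1))) l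
  refine ⟨T', π, hπ, x₁, ?_⟩
  change π ≫ x₂ = x₁ ≫ (resol H A).d (j+1+1) (j+1)
  rw [resol_d, ← hl, ← Category.assoc, hx₁, Category.assoc]

lemma resol_H0 (A : C) : Nonempty ((resol H A).homology 0 ≅ A) := by
  refine ⟨(resol H A).isoHomologyι₀ ≪≫ ?_⟩
  have hc := (resol H A).opcyclesIsCokernel 1 0 (by simp)
  have hc' : IsColimit (CokernelCofork.ofπ (f := (resol H A).d 1 0) (coverπ H (kseq H A 0))
      (resol_d_cover H A)) :=
    isCokernelEpiComp (Abelian.epiIsCokernelOfKernel _ (kιIsKernel H A 0))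
      (coverπ H (kseq H A 1)) (hg := epi_coverπ H _) (resol_d H A 0)
  exact IsColimit.coconePointUniqueUpToIso hc hc'

lemma resol_cycles (A : C) (d : ℕ) : Nonempty ((resol H A).cycles (d+1) ≅ kseq H A (d+1+1)) := by
  have hk := (resol H A).cyclesIsKernel (d+1) d (by simp)
  have hk' : IsLimit (KernelFork.ofι (f := (resol H A).d (d+1) d) (kι H A (d+1))
      (kι_resol_d H A d)) :=
    isKernelCompMono (kιIsKernel H A (d+1)) (kι H A d) (resol_d H A d)
  exact ⟨IsLimit.conePointUniqueUpToIso hk hk'⟩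

lemma Res_kseq (A : C) (hA : P₁ A) : ∀ (k j : ℕ), P₀ (kseq H A (j + k)) →
    ∃ x, Res P₀ k (kseq H A j) x
  | 0, j, h => ⟨_, h, rfl⟩
  | k+1, j, h => by
      have h' : P₀ (kseq H A (j + 1 + k)) := by
        have : j + 1 + k = j + (k + 1) := by omega
        rw [this]; exact h
      obtain ⟨y, hy⟩ := Res_kseq A hA k (j+1) h'
      exact ⟨_, cover H (kseq H A j), cover_mem H (kseq_mem H hA j), coverπ H (kseq H A j),
        inferInstance, y, hy, rfl⟩

include H in
theorem exists_Res [P₀.IsClosedUnderIsomorphisms]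
    (h3 : ∀ A : C, P₁ A → ∃ d : ℕ, ∀ L : ChainComplex C ℕ, (∀ i, P₀ (L.X i)) →
      (∀ i, 1 ≤ i → L.ExactAt i) → Nonempty (L.homology 0 ≅ A) → P₀ (L.cycles (d + 1)))
    (A : C) (hA : P₁ A) : ∃ n x, Res P₀ n A x := by
  obtain ⟨d, hd⟩ := h3 A hA
  have h := hd (resol H A) (fun i => cover_mem H (kseq_mem H hA i)) (resol_exact H A) (resol_H0 H A)
  obtain ⟨e⟩ := resol_cycles H A d
  have hk : P₀ (kseq H A (0 + (d+1+1))) := by
    rw [Nat.zero_add]
    exact P₀.prop_of_iso e h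
  exact ⟨d+1+1, Res_kseq H A hA (d+1+1) 0 hk⟩

end Exist

end Groth.Agent.Lib.Helper16.ResK
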