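import Groth.Prelude.Def_KZero
import Groth.Agent.Lib.Helper16.ResDiag

namespace Groth.Agent.Lib.Helper16.ResK

open CategoryTheory CategoryTheory.Limits KZero
open Groth.Agent.Lib.Helper16.ResD

universe v u
variable {C : Type u} [Category.{v} C] [Abelian C]

/-- class of an object of `P` in `K0sub P` -/
def cl (P : ObjectProperty C) (A : C) (h : P A) : K0sub P :=
  QuotientAddGroup.mk (FreeAbelianGroup.of ⟨A, h⟩)

lemma cl_rel (P : ObjectProperty C) (S : ShortComplex C) (hS : S.ShortExact)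
    (h₁ : P S.X₁) (h₂ : P S.X₂) (h₃ : P S.X₃) :
    cl P S.X₂ h₂ = cl P S.X₁ h₁ + cl P S.X₃ h₃ := by
  have hmem : FreeAbelianGroup.of (⟨S.X₂, h₂⟩ : Subtype P) - FreeAbelianGroup.of ⟨S.X₁, h₁⟩
      - FreeAbelianGroup.of ⟨S.X₃, h₃⟩ ∈ relSub P :=
    AddSubgroup.subset_closure ⟨S, h₁, h₂, h₃, hS, rfl⟩
  have h := (QuotientAddGroup.eq_zero_iff _).2 hmem
  rw [QuotientAddGroup.mk_sub, QuotientAddGroup.mk_sub, sub_sub, sub_eq_zero] at h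
  exact h

/-- `Res n A x`: `A` has a resolution of length `n` by objects of `P₀` with Euler characteristic `x`. -/
def Res (P₀ : ObjectProperty C) : ℕ → C → K0sub P₀ → Prop
  | 0, A, x => ∃ h : P₀ A, x = cl P₀ A h
  | n+1, A, x => ∃ (L : C) (hL : P₀ L) (π : L ⟶ A) (_ : Epi π) (y : K0sub P₀),
      Res P₀ n (kernel π) y ∧ x = cl P₀ L hL - y

structure Hyp (P₀ P₁ : ObjectProperty C) : Prop where
  hle : ∀ X, P₀ X → P₁ X
  hext₀ : ∀ S : ShortComplex C, S.ShortExact → P₀ S.X₁ → P₀ S.X₃ → P₀ S.X₂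
  hext₁ : ∀ S : ShortComplex C, S.ShortExact → P₁ S.X₁ → P₁ S.X₃ → P₁ S.X₂
  h1₀ : ∀ S : ShortComplex C, S.ShortExact → P₀ S.X₂ → P₀ S.X₃ → P₀ S.X₁
  h1₁ : ∀ S : ShortComplex C, S.ShortExact → P₁ S.X₂ → P₁ S.X₃ → P₁ S.X₁
  h2 : ∀ (A B D : C) (u : A ⟶ B) (v : D ⟶ B), Epi u → P₁ A → P₁ B → P₁ D →
      ∃ (L : C) (u' : L ⟶ D) (v' : L ⟶ A), P₀ L ∧ Epi u' ∧ u' ≫ v = v' ≫ u

variable {P₀ P₁ : ObjectProperty C}

lemma Hyp.ker₀ (H : Hyp P₀ P₁) {L A : C} (π : L ⟶ A) [Epi π] (hL : P₀ L) (hA : P₀ A) :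
    P₀ (kernel π) := H.h1₀ _ (shortExact_kernel π) hL hA

lemma Hyp.ker₁ (H : Hyp P₀ P₁) {L A : C} (π : L ⟶ A) [Epi π] (hL : P₁ L) (hA : P₁ A) :
    P₁ (kernel π) := H.h1₁ _ (shortExact_kernel π) hL hA

lemma cl_ker (H : Hyp P₀ P₁) {L A : C} (π : L ⟶ A) [Epi π] (hL : P₀ L) (hA : P₀ A) :
    cl P₀ L hL = cl P₀ (kernel π) (H.ker₀ π hL hA) + cl P₀ A hA :=
  cl_rel P₀ _ (shortExact_kernel π) (H.ker₀ π hL hA) hL hA

lemma Res_succ (H : Hyp P₀ P₁) : ∀ (n : ℕ) (A : C) (x : K0sub P₀), Res P₀ n A x → Res P₀ (n+1) A x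
  | 0, A, x, ⟨h, hx⟩ => by
      refine ⟨A, h, 𝟙 A, inferInstance, cl P₀ (kernel (𝟙 A)) (H.ker₀ _ h h), ⟨H.ker₀ _ h h, rfl⟩, ?_⟩
      have := cl_ker H (𝟙 A) h h
      rw [hx]
      have h2 : cl P₀ (kernel (𝟙 A)) (H.ker₀ _ h h) = 0 := by
        have h3 : cl P₀ A h + 0 = cl P₀ (kernel (𝟙 A)) (H.ker₀ _ h h) + cl P₀ A h := by
          rw [add_zero]; exact this
        rw [add_comm (cl P₀ (kernel (𝟙 A)) _)] at h3
        exact (add_left_cancel h3).symm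
      rw [h2, sub_zero]
  | n+1, A, x, ⟨L, hL, π, hπ, y, hy, hx⟩ =>
      ⟨L, hL, π, hπ, y, Res_succ H n _ y hy, hx⟩

lemma Res_of_P₀ (H : Hyp P₀ P₁) (A : C) (h : P₀ A) : ∀ n, Res P₀ n A (cl P₀ A h)
  | 0 => ⟨h, rfl⟩
  | n+1 => Res_succ H n A _ (Res_of_P₀ H A h n)

lemma Res_le (H : Hyp P₀ P₁) {n m : ℕ} (hnm : n ≤ m) (A : C) (x : K0sub P₀) (h : Res P₀ n A x) :
    Res P₀ m A x := by
  induction hnm with
  | refl => exact h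
  | step _ ih => exact Res_succ H _ A x ih

theorem Res_ext (H : Hyp P₀ P₁) : ∀ (n : ℕ) (S : ShortComplex C), S.ShortExact → P₁ S.X₁ → P₁ S.X₃ →
    ∀ a c, Res P₀ n S.X₁ a → Res P₀ n S.X₃ c → Res P₀ n S.X₂ (a + c)
  | 0, S, hS, _, _, a, c, ⟨h₁, ha⟩, ⟨h₃, hc⟩ => by
      refine ⟨H.hext₀ S hS h₁ h₃, ?_⟩
      rw [ha, hc]
      exact (cl_rel P₀ S hS h₁ _ h₃).symm
  | n+1, S, hS, hX, hZ, a, c, ⟨LX, hLX, πX, hπX, a', ha', ha⟩, ⟨LZ, hLZ, πZ, hπZ, c', hc', hc⟩ => by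
      have hY : P₁ S.X₂ := H.hext₁ S hS hX hZ
      have := hS.epi_g
      obtain ⟨M, u', v', hM, hu', hcomm⟩ := H.h2 S.X₂ S.X₃ LZ S.g πZ inferInstance hY hZ (H.hle _ hLZ)
      have hρ : v' ≫ S.g = u' ≫ πZ := hcomm.symm
      have hEπ : Epi (πY S πX v') := epi_πY S πX v' (u' ≫ πZ) hρ hS
      have ses1 := δ_shortExact S πX v' (u' ≫ πZ) hρ hS
      have ses2 := β_shortExact u' πZ (u' ≫ πZ) rfl
      have hN : P₀ (kernel u') := H.ker₀ u' hM hLZ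
      have hKZ : P₁ (kernel πZ) := H.ker₁ πZ (H.hle _ hLZ) hZ
      have hKX : P₁ (kernel πX) := H.ker₁ πX (H.hle _ hLX) hX
      have hR : P₁ (kernel (u' ≫ πZ)) := H.hext₁ _ ses2 (H.hle _ hN) hKZ
      have r1 := Res_ext H n _ ses2 (H.hle _ hN) hKZ _ _ (Res_of_P₀ H _ hN n) hc'
      have r2 := Res_ext H n _ ses1 hKX hR _ _ ha' r1
      have hLY : P₀ (LX ⊞ M) := H.hext₀ _ (biprod_shortExact LX M) hLX hM
      refine ⟨LX ⊞ M, hLY, πY S πX v', hEπ, _, r2, ?_⟩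
      have e1 : cl P₀ (LX ⊞ M) hLY = cl P₀ LX hLX + cl P₀ M hM :=
        cl_rel P₀ _ (biprod_shortExact LX M) hLX hLY hM
      have e2 := cl_ker H u' hM hLZ
      rw [ha, hc, e1, e2]
      abel

theorem Res_unique (H : Hyp P₀ P₁) : ∀ (n : ℕ) (A : C), P₁ A →
    ∀ x x', Res P₀ n A x → Res P₀ n A x' → x = x'
  | 0, A, _, x, x', ⟨h, hx⟩, ⟨h', hx'⟩ => by rw [hx, hx']
  | n+1, A, hA, x, x', ⟨L, hL, π, hπ, y, hy, hx⟩, ⟨L', hL', π', hπ', y', hy', hx'⟩ => by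
      obtain ⟨M₁, u₁, v₁, hM₁, hu₁, hc₁⟩ := H.h2 L A L' π π' hπ (H.hle _ hL) hA (H.hle _ hL')
      obtain ⟨M₂, u₂, v₂, hM₂, hu₂, hc₂⟩ := H.h2 L' A L π' π hπ' (H.hle _ hL') hA (H.hle _ hL)
      -- u₁ : M₁ ↠ L', v₁ : M₁ ⟶ L, u₁ ≫ π' = v₁ ≫ π ; u₂ : M₂ ↠ L, v₂ : M₂ ⟶ L', u₂ ≫ π = v₂ ≫ π'
      have hM : P₀ (M₁ ⊞ M₂) := H.hext₀ _ (biprod_shortExact M₁ M₂) hM₁ hM₂
      let f : M₁ ⊞ M₂ ⟶ L := biprod.desc v₁ u₂
      let f' : M₁ ⊞ M₂ ⟶ L' := biprod.desc u₁ v₂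
      have hf : Epi f := epi_of_epi_fac (biprod.inr_desc v₁ u₂)
      have hf' : Epi f' := epi_of_epi_fac (biprod.inl_desc u₁ v₂)
      have hff : f' ≫ π' = f ≫ π := by
        apply biprod.hom_ext' <;> simp [f, f', hc₁, hc₂]
      have ses := β_shortExact f π (f ≫ π) rfl
      have ses' := β_shortExact f' π' (f ≫ π) hff
      have hN : P₀ (kernel f) := H.ker₀ f hM hL
      have hN' : P₀ (kernel f') := H.ker₀ f' hM hL'
      have hK : P₁ (kernel π) := H.ker₁ π (H.hle _ hL) hA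
      have hK' : P₁ (kernel π') := H.ker₁ π' (H.hle _ hL') hA
      have r := Res_ext H n _ ses (H.hle _ hN) hK _ _ (Res_of_P₀ H _ hN n) hy
      have r' := Res_ext H n _ ses' (H.hle _ hN') hK' _ _ (Res_of_P₀ H _ hN' n) hy'
      have hR : P₁ (kernel (f ≫ π)) := H.hext₁ _ ses (H.hle _ hN) hK
      have e := Res_unique H n _ hR _ _ r r'
      have e1 := cl_ker H f hM hL
      have e2 := cl_ker H f' hM hL'
      rw [hx, hx']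
      have e3 : cl P₀ (kernel f) hN + cl P₀ L hL = cl P₀ (kernel f') hN' + cl P₀ L' hL' := by
        rw [← e1, ← e2]
      -- [L] - y = [L'] - y'
      have : cl P₀ L hL - y = (cl P₀ (kernel f) hN + cl P₀ L hL) - (cl P₀ (kernel f) hN + y) := by abel
      rw [this, e, e3]
      abel

end Groth.Agent.Lib.Helper16.ResK
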