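import Mathlib
import Groth.Agent.Lib.Helper16.RestrictD3
import Groth.Agent.Lib.Helper16.PerfSummand
import Groth.Agent.Lib.Helper8.Perf3

/-!
# Helper16 — RestrictD4: perfect complexes and restriction of scalars along `A → B` with `B` perfect
over `A` (S6956).
-/

open CategoryTheory CategoryTheory.Limits DerivedCategory CategoryTheory.Pretriangulated

namespace Groth.Agent.Lib.Helper16.RestrictD

open Groth.Agent.Lib.Helper16.PC Groth.Agent.Lib.Helper8.Perf Groth.Agent.Lib.Helper16.PerfSummand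

universe u

attribute [local instance] HasDerivedCategory.standard

section

variable {R : Type u} [CommRing R]

lemma isPerfect_of_iso {K K' : Dual.D R} (h : DRing.IsPerfect R K) (e : K ≅ K') :
    DRing.IsPerfect R K' := by
  rw [isPerfect_iff] at h ⊢
  exact h.of_iso e

/-- a retract of a perfect object is perfect. -/
theorem isPerfect_of_retract {L S : Dual.D R} (r : L ⟶ S) (s : S ⟶ L) (hrs : r ≫ s = 𝟙 L)
    (hS : DRing.IsPerfect R S) : DRing.IsPerfect R L := by
  obtain ⟨K', g, w, hT⟩ := distinguished_cocone_triangle r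
  have hw : w = 0 := by
    have h1 : w ≫ r⟦(1 : ℤ)⟧' = 0 := comp_distTriang_mor_zero₃₁ _ hT
    have h2 : r⟦(1 : ℤ)⟧' ≫ s⟦(1 : ℤ)⟧' = 𝟙 _ := by
      rw [← Functor.map_comp, hrs, CategoryTheory.Functor.map_id]
    calc w = w ≫ r⟦(1 : ℤ)⟧' ≫ s⟦(1 : ℤ)⟧' := by rw [h2, Category.comp_id]
      _ = 0 := by rw [reassoc_of% h1, zero_comp]
  obtain ⟨e, -⟩ := exists_iso_binaryBiproduct_of_distTriang _ hT hw
  exact (isPerfect_of_biprod L K' (isPerfect_of_iso hS e)).1

lemma isPerfect_biprod (K L : Dual.D R) (hK : DRing.IsPerfect R K) (hL : DRing.IsPerfect R L) :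
    DRing.IsPerfect R (K ⊞ L) :=
  (isPerfect_two_of_three _ (binaryBiproductTriangle_distinguished K L)).2.1 hK hL

end

variable {A B : Type u} [CommRing A] [CommRing B] (φ : A →+* B)

attribute [local instance] preservesBinaryBiproducts_of_preservesBiproducts in
lemma perfect_G_pi (hB : DRing.IsPerfect A ((G φ).obj (ModuleCat.of B B))) :
    ∀ k : ℕ, DRing.IsPerfect A ((G φ).obj (ModuleCat.of B (Fin k → B))) := by
  intro k
  induction k with
  | zero =>
    have hz : IsZero ((G φ).obj (ModuleCat.of B (Fin 0 → B))) :=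
      Functor.map_isZero _ (ModuleCat.isZero_of_subsingleton _)
    rw [isPerfect_iff]
    exact bddRep_of_isZero finProj_of_isZero _ hz
  | succ k ih =>
    have e1 : ModuleCat.of B (Fin (k + 1) → B) ≅ ModuleCat.of B B ⊞ ModuleCat.of B (Fin k → B) :=
      (Fin.consLinearEquiv B (fun _ : Fin (k + 1) => B)).symm.toModuleIso ≪≫
        (ModuleCat.biprodIsoProd (ModuleCat.of B B) (ModuleCat.of B (Fin k → B))).symm
    have e2 := (G φ).mapIso e1 ≪≫ (G φ).mapBiprod _ _
    exact isPerfect_of_iso (isPerfect_biprod _ _ hB ih) e2.symm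

lemma perfect_G_finProj (hB : DRing.IsPerfect A ((G φ).obj (ModuleCat.of B B)))
    (X : ModuleCat.{u} B) (hX : FinProj X) : DRing.IsPerfect A ((G φ).obj X) := by
  have := hX.1
  have := hX.2
  obtain ⟨n, f, g, -, -, hfg⟩ := Module.Finite.exists_comp_eq_id_of_projective B X
  have hrs : ModuleCat.ofHom g ≫ ModuleCat.ofHom f = 𝟙 X := by
    rw [← ModuleCat.ofHom_comp, hfg]
    rfl
  refine isPerfect_of_retract ((G φ).map (ModuleCat.ofHom g)) ((G φ).map (ModuleCat.ofHom f)) ?_
    (perfect_G_pi φ hB n)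
  rw [← Functor.map_comp, hrs, CategoryTheory.Functor.map_id]

/-- S6956 -/
theorem isPerfect_restrict [Algebra A B] (hB : DRing.IsPerfectModule A B) (K : Dual.D B)
    (hK : DRing.IsPerfect B K) :
    DRing.IsPerfect A ((DRing.restrictD (algebraMap A B)).obj K) := by
  have hB' : DRing.IsPerfect A ((G (algebraMap A B)).obj (ModuleCat.of B B)) :=
    isPerfect_of_iso hB ((singleFunctor (ModuleCat.{u} A) 0).mapIso ofIsoRestrict)
  obtain ⟨E, a, b, hE, hfp, ⟨e⟩⟩ := hK
  refine isPerfect_of_iso ?_ ((restrictQIso (algebraMap A B) E).symm ≪≫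
    (DRing.restrictD (algebraMap A B)).mapIso e)
  refine isPerfect_of_bounded_termwise_perfectModule _ a b (fun i hi => ?_) (fun i => ?_)
  · exact Functor.map_isZero (ModuleCat.restrictScalars.{u} (algebraMap A B)) (hE i hi)
  · exact perfect_G_finProj (algebraMap A B) hB' (E.X i) (hfp i)

end Groth.Agent.Lib.Helper16.RestrictD
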