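import Mathlib
import Groth.Agent.S8804
import Groth.Agent.Lib.Helper5.ComplKaehler

set_option autoImplicit false
universe u

namespace Groth.Agent.Lib.Helper16.RigCl

/-- rig-closed prime w.r.t. the ideal `J` -/
def RC {R : Type u} [CommRing R] (J : Ideal R) (q : PrimeSpectrum R) : Prop :=
  ¬ J ≤ q.asIdeal ∧ ∀ y : PrimeSpectrum R, q ≤ y → ¬ J ≤ y.asIdeal → y = q

section basic

variable {A : Type u} [CommRing A] [IsNoetherianRing A] (I : Ideal A) [IsAdicComplete I A]

lemma dim_eq_one {q : PrimeSpectrum A} (hq : RC I q) : ringKrullDim (A ⧸ q.asIdeal) = 1 := by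
  have h := (Groth.Agent.S8804.result A I q).out 0 1
  exact (h.mp hq).1

lemma le_of_isMaximal (m : Ideal A) [hm : m.IsMaximal] : I ≤ m := by
  refine le_trans (IsAdicComplete.le_jacobson_bot I) ?_
  exact sInf_le ⟨bot_le, hm⟩

/-- a prime strictly containing a rig-closed prime is maximal -/
lemma isMaximal_of_lt {q : PrimeSpectrum A} (hq : RC I q) (P : Ideal A) [hP : P.IsPrime]
    (hlt : q.asIdeal < P) : P.IsMaximal := by
  have hdim := dim_eq_one I hq
  haveI : Ring.KrullDimLE 1 (A ⧸ q.asIdeal) := by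
    rw [Ring.KrullDimLE, Order.krullDimLE_iff]
    exact hdim.le
  have hPq : (P.map (Ideal.Quotient.mk q.asIdeal)).IsPrime :=
    Ideal.map_isPrime_of_surjective Ideal.Quotient.mk_surjective (by simpa using hlt.le)
  have hne : P.map (Ideal.Quotient.mk q.asIdeal) ≠ ⊥ := by
    intro h
    rw [Ideal.map_eq_bot_iff_le_ker, Ideal.mk_ker] at h
    exact absurd hlt (not_lt_of_ge h)
  have hmax := hPq.isMaximal_of_ne_bot hne
  have := Ideal.comap_isMaximal_of_surjective (Ideal.Quotient.mk q.asIdeal)
    Ideal.Quotient.mk_surjective (K := P.map (Ideal.Quotient.mk q.asIdeal))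
  rwa [Ideal.comap_map_of_surjective _ Ideal.Quotient.mk_surjective, ← RingHom.ker_eq_comap_bot,
    Ideal.mk_ker, sup_eq_left.mpr hlt.le] at this

end basic

section rel

variable {A : Type u} [CommRing A] [IsNoetherianRing A] (I : Ideal A) [IsAdicComplete I A]
  {B : Type u} [CommRing B] [Algebra A B] [IsNoetherianRing B]
  [IsAdicComplete (I.map (algebraMap A B)) B]

/-- a maximal ideal of `B` whose contraction to `A` is maximal has residue field finite over `A`,
when `B/IB` is of finite type over `A`. -/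
lemma finite_quotient_of_comap_isMaximal
    (hft : Algebra.FiniteType A (B ⧸ (I.map (algebraMap A B))))
    (m : Ideal B) [hm : m.IsMaximal] (hmA : (m.comap (algebraMap A B)).IsMaximal) :
    Module.Finite A (B ⧸ m) := by
  have hIm : I.map (algebraMap A B) ≤ m := le_of_isMaximal (I.map (algebraMap A B)) m
  have hft' : Algebra.FiniteType A (B ⧸ m) :=
    Algebra.FiniteType.of_surjective (Ideal.Quotient.factorₐ A hIm)
      (Ideal.Quotient.factor_surjective hIm)
  letI : Field (A ⧸ m.comap (algebraMap A B)) := Ideal.Quotient.field _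
  letI : Field (B ⧸ m) := Ideal.Quotient.field _
  have hft'' : Algebra.FiniteType (A ⧸ m.comap (algebraMap A B)) (B ⧸ m) :=
    Algebra.FiniteType.of_restrictScalars_finiteType A _ _
  have hfin : Module.Finite (A ⧸ m.comap (algebraMap A B)) (B ⧸ m) :=
    finite_of_finite_type_of_isJacobsonRing _ _
  exact Module.Finite.trans (A ⧸ m.comap (algebraMap A B)) (B ⧸ m)

lemma two_imp_one (hft : Algebra.FiniteType A (B ⧸ (I.map (algebraMap A B))))
    (q : PrimeSpectrum B) (hp : RC I (PrimeSpectrum.comap (algebraMap A B) q))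
    (m : Ideal B) (hm : m.IsMaximal) (hqm : q.asIdeal ≤ m) : Module.Finite A (B ⧸ m) := by
  have hIm : I.map (algebraMap A B) ≤ m := le_of_isMaximal (I.map (algebraMap A B)) m
  have hIm' : I ≤ m.comap (algebraMap A B) := Ideal.map_le_iff_le_comap.mp hIm
  haveI : (m.comap (algebraMap A B)).IsPrime := Ideal.comap_isPrime _ _
  have hle : (PrimeSpectrum.comap (algebraMap A B) q).asIdeal ≤ m.comap (algebraMap A B) :=
    Ideal.comap_mono hqm
  have hlt : (PrimeSpectrum.comap (algebraMap A B) q).asIdeal < m.comap (algebraMap A B) := by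
    refine lt_of_le_of_ne hle ?_
    intro h
    exact hp.1 (h ▸ hIm')
  have hmax := isMaximal_of_lt I hp _ hlt
  exact finite_quotient_of_comap_isMaximal I hft m hmax

omit [IsNoetherianRing A] [IsAdicComplete I A] [IsNoetherianRing B]
  [IsAdicComplete (I.map (algebraMap A B)) B] in
lemma three_imp_two (q : PrimeSpectrum B) (hq : RC (I.map (algebraMap A B)) q)
    (h3 : Module.Finite A (B ⧸ q.asIdeal)) : RC I (PrimeSpectrum.comap (algebraMap A B) q) := by
  refine ⟨fun h => hq.1 (Ideal.map_le_iff_le_comap.mpr h), ?_⟩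
  intro y hy hIy
  haveI : Algebra.IsIntegral A (B ⧸ q.asIdeal) := Algebra.IsIntegral.of_finite A _
  have hker : RingHom.ker (algebraMap A (B ⧸ q.asIdeal)) ≤ y.asIdeal := by
    intro a ha
    apply hy
    change algebraMap A B a ∈ q.asIdeal
    rw [RingHom.mem_ker, IsScalarTower.algebraMap_apply A B (B ⧸ q.asIdeal),
      Ideal.Quotient.algebraMap_eq, Ideal.Quotient.eq_zero_iff_mem] at ha
    exact ha
  obtain ⟨Q, hQp, hQ⟩ := Ideal.exists_ideal_over_prime_of_isIntegral_of_isDomain
    (S := B ⧸ q.asIdeal) y.asIdeal hker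
  let q' : PrimeSpectrum B := ⟨Q.comap (Ideal.Quotient.mk q.asIdeal), Ideal.comap_isPrime _ _⟩
  have hqq' : q ≤ q' := by
    intro b hb
    change Ideal.Quotient.mk q.asIdeal b ∈ Q
    rw [Ideal.Quotient.eq_zero_iff_mem.mpr hb]
    exact Q.zero_mem
  have hcomap : q'.asIdeal.comap (algebraMap A B) = y.asIdeal := by
    rw [← hQ]
    change (Q.comap (Ideal.Quotient.mk q.asIdeal)).comap (algebraMap A B) = _
    rw [Ideal.comap_comap]
    rfl
  have hIq' : ¬ I.map (algebraMap A B) ≤ q'.asIdeal := by
    intro h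
    apply hIy
    rw [← hcomap]
    exact Ideal.map_le_iff_le_comap.mp h
  have := hq.2 q' hqq' hIq'
  apply PrimeSpectrum.ext
  rw [← hcomap, this]
  rfl

omit [IsNoetherianRing A] [IsAdicComplete I A] [IsNoetherianRing B]
  [IsAdicComplete (I.map (algebraMap A B)) B] in
/-- A semisimple quotient `E` of `B` is finite over `A` if all residue fields of `B` at maximal
ideals containing `q` are and the quotient map kills `q`. -/
lemma finite_of_semisimple (q : Ideal B) {E : Type u} [CommRing E] [Algebra A E]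
    [IsSemisimpleRing E] (ψ : B →ₐ[A] E) (hψ : Function.Surjective ψ)
    (hqψ : q ≤ RingHom.ker ψ.toRingHom)
    (h1 : ∀ m : Ideal B, m.IsMaximal → q ≤ m → Module.Finite A (B ⧸ m)) :
    Module.Finite A E := by
  have key : ∀ J : MaximalSpectrum E, Module.Finite A (E ⧸ J.asIdeal) := by
    intro J
    have hmax : (J.asIdeal.comap ψ).IsMaximal :=
      Ideal.comap_isMaximal_of_surjective ψ hψ
    have hq : q ≤ J.asIdeal.comap ψ := by
      intro b hb
      have : ψ b = 0 := hqψ hb
      rw [Ideal.mem_comap, this]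
      exact J.asIdeal.zero_mem
    haveI := h1 _ hmax hq
    refine Module.Finite.of_surjective
      (Ideal.quotientMapₐ (I := J.asIdeal.comap ψ) J.asIdeal ψ (le_refl _)).toLinearMap ?_
    exact Ideal.quotientMap_surjective (H := le_refl _) hψ
  exact .equiv ((IsArtinianRing.equivPi E).restrictScalars A).toLinearEquiv.symm

omit [IsAdicComplete I A] in
lemma finite_quot_sup (q : PrimeSpectrum B) (hq : RC (I.map (algebraMap A B)) q)
    (h1 : ∀ m : Ideal B, m.IsMaximal → q.asIdeal ≤ m → Module.Finite A (B ⧸ m)) :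
    Module.Finite A (B ⧸ (q.asIdeal ⊔ I.map (algebraMap A B))) := by
  set K : Ideal B := q.asIdeal ⊔ I.map (algebraMap A B) with hK
  -- all primes of `D = B/K` are maximal
  have hdim : Ring.KrullDimLE 0 (B ⧸ K) := by
    rw [Ring.krullDimLE_zero_iff]
    intro P' hP'
    have hPprime : (P'.comap (Ideal.Quotient.mk K)).IsPrime := Ideal.comap_isPrime _ _
    have hKP : K ≤ P'.comap (Ideal.Quotient.mk K) := by
      intro b hb
      rw [Ideal.mem_comap, Ideal.Quotient.eq_zero_iff_mem.mpr hb]
      exact P'.zero_mem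
    have hlt : q.asIdeal < P'.comap (Ideal.Quotient.mk K) := by
      refine lt_of_le_of_ne (le_trans le_sup_left hKP) ?_
      intro h
      exact hq.1 (h ▸ le_trans le_sup_right hKP)
    have hmax := isMaximal_of_lt (I.map (algebraMap A B)) hq _ hlt
    have := Ideal.map_eq_top_or_isMaximal_of_surjective (Ideal.Quotient.mk K)
      Ideal.Quotient.mk_surjective hmax
    rw [Ideal.map_comap_of_surjective _ Ideal.Quotient.mk_surjective] at this
    exact this.resolve_left hP'.ne_top
  haveI : IsArtinianRing (B ⧸ K) :=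
    isArtinianRing_iff_isNoetherianRing_krullDimLE_zero.mpr ⟨inferInstance, hdim⟩
  haveI : Module.Finite A ((B ⧸ K) ⧸ Ring.jacobson (B ⧸ K)) := by
    refine finite_of_semisimple q.asIdeal
      ((Ideal.Quotient.mkₐ A (Ring.jacobson (B ⧸ K))).comp (Ideal.Quotient.mkₐ A K)) ?_ ?_ h1
    · exact (Ideal.Quotient.mkₐ_surjective A _).comp (Ideal.Quotient.mkₐ_surjective A K)
    · intro b hb
      rw [RingHom.mem_ker]
      change Ideal.Quotient.mk _ (Ideal.Quotient.mk K b) = 0
      rw [Ideal.Quotient.eq_zero_iff_mem.mpr (show b ∈ K from le_sup_left (a := q.asIdeal) hb)]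
      simp
  exact IsSemiprimaryRing.finite_of_isArtinian A (B ⧸ K) (B ⧸ K)

omit [IsNoetherianRing A] [IsAdicComplete I A] [IsNoetherianRing B]
  [IsAdicComplete (I.map (algebraMap A B)) B] in
lemma finite_quot_smul_top (q : Ideal B)
    (h : Module.Finite A (B ⧸ (q ⊔ I.map (algebraMap A B)))) :
    Module.Finite A ((B ⧸ q) ⧸ (I • ⊤ : Submodule A (B ⧸ q))) := by
  set K : Ideal B := q ⊔ I.map (algebraMap A B) with hK
  let g : B →ₗ[A] (B ⧸ q) ⧸ (I • ⊤ : Submodule A (B ⧸ q)) :=
    (I • ⊤ : Submodule A (B ⧸ q)).mkQ ∘ₗ (Ideal.Quotient.mkₐ A q).toLinearMap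
  have hg : Function.Surjective g :=
    (Submodule.mkQ_surjective _).comp (Ideal.Quotient.mkₐ_surjective A q)
  have hker : K.restrictScalars A ≤ LinearMap.ker g := by
    intro b hb
    rw [Submodule.restrictScalars_mem, hK, Submodule.mem_sup] at hb
    obtain ⟨x, hx, y, hy, rfl⟩ := hb
    rw [LinearMap.mem_ker, map_add]
    have h1 : g x = 0 := by
      change (I • ⊤ : Submodule A (B ⧸ q)).mkQ (Ideal.Quotient.mk q x) = 0
      rw [Ideal.Quotient.eq_zero_iff_mem.mpr hx, map_zero]
    have h2 : g y = 0 := by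
      change (I • ⊤ : Submodule A (B ⧸ q)).mkQ (Ideal.Quotient.mk q y) = 0
      rw [Submodule.mkQ_apply, Submodule.Quotient.mk_eq_zero]
      refine Submodule.span_induction (p := fun y _ => Ideal.Quotient.mk q y ∈
        (I • ⊤ : Submodule A (B ⧸ q))) ?_ ?_ ?_ ?_ hy
      · rintro _ ⟨a, ha, rfl⟩
        have : Ideal.Quotient.mk q (algebraMap A B a) = a • (1 : B ⧸ q) := by
          rw [Algebra.smul_def, mul_one]; rfl
        rw [this]
        exact Submodule.smul_mem_smul ha trivial
      · simp
      · intro x y _ _ hx hy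
        rw [map_add]; exact Submodule.add_mem _ hx hy
      · intro c x _ hx
        rw [smul_eq_mul, map_mul]
        -- (I • ⊤) is stable under multiplication by elements of B ⧸ q
        refine Submodule.smul_induction_on hx ?_ ?_
        · intro a ha z _
          rw [mul_smul_comm]
          exact Submodule.smul_mem_smul ha trivial
        · intro u v hu hv
          rw [mul_add]; exact Submodule.add_mem _ hu hv
    rw [h1, h2, add_zero]
  let g' : (B ⧸ K) →ₗ[A] (B ⧸ q) ⧸ (I • ⊤ : Submodule A (B ⧸ q)) :=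
    ((K.restrictScalars A).liftQ g hker) ∘ₗ
      (Submodule.Quotient.restrictScalarsEquiv A K).symm.toLinearMap
  refine Module.Finite.of_surjective g' ?_
  intro z
  obtain ⟨b, rfl⟩ := hg z
  refine ⟨Ideal.Quotient.mk K b, ?_⟩
  change (K.restrictScalars A).liftQ g hker
    ((Submodule.Quotient.restrictScalarsEquiv A K).symm (Submodule.Quotient.mk b)) = g b
  rw [Submodule.Quotient.restrictScalarsEquiv_symm_mk, Submodule.liftQ_apply]

omit [IsNoetherianRing A] [IsAdicComplete I A] in
lemma isHausdorff_quot (q : Ideal B) [hqp : q.IsPrime] : IsHausdorff I (B ⧸ q) := by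
  set K' : Ideal (B ⧸ q) := I.map (algebraMap A (B ⧸ q)) with hK'
  have hK'top : K' ≠ ⊤ := by
    obtain ⟨n, hn⟩ := Ideal.exists_maximal (B ⧸ q)
    have hmax : (n.comap (Ideal.Quotient.mk q)).IsMaximal :=
      Ideal.comap_isMaximal_of_surjective _ Ideal.Quotient.mk_surjective
    have hIm := le_of_isMaximal (I.map (algebraMap A B)) (n.comap (Ideal.Quotient.mk q))
    have : K' ≤ n := by
      rw [hK', Ideal.map_le_iff_le_comap]
      intro a ha
      have := hIm (Ideal.mem_map_of_mem _ ha)
      exact this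
    intro h
    exact hn.ne_top (top_le_iff.mp (h ▸ this))
  have hle : ∀ k : ℕ, ((I ^ k • ⊤ : Submodule A (B ⧸ q)) : Set (B ⧸ q)) ⊆ (K' ^ k : Ideal (B ⧸ q)) := by
    intro k x hx
    refine Submodule.smul_induction_on hx ?_ ?_
    · intro a ha z _
      rw [Algebra.smul_def]
      refine Ideal.mul_mem_right _ _ ?_
      rw [hK', ← Ideal.map_pow]
      exact Ideal.mem_map_of_mem _ ha
    · intro u v hu hv
      exact Ideal.add_mem _ hu hv
  refine ⟨fun x hx => ?_⟩
  have hmem : x ∈ (⨅ k, K' ^ k : Ideal (B ⧸ q)) := by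
    rw [Ideal.mem_iInf]
    intro k
    have := hx k
    rw [SModEq.zero] at this
    exact hle k this
  rw [Ideal.iInf_pow_eq_bot_of_isDomain K' hK'top] at hmem
  exact hmem

theorem one_imp_three (q : PrimeSpectrum B) (hq : RC (I.map (algebraMap A B)) q)
    (h1 : ∀ m : Ideal B, m.IsMaximal → q.asIdeal ≤ m → Module.Finite A (B ⧸ m)) :
    Module.Finite A (B ⧸ q.asIdeal) := by
  haveI := isHausdorff_quot I q.asIdeal
  exact Groth.Agent.Lib.Helper5.ComplKaehler.finite_of_finite_quotient I
    (finite_quot_smul_top I q.asIdeal (finite_quot_sup I q hq h1))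

end rel

end Groth.Agent.Lib.Helper16.RigCl
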