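import Mathlib
import Groth.Agent.Lib.Helper16.RigCl1

set_option autoImplicit false
universe u

namespace Groth.Agent.Lib.Helper16.RigCl4

open Groth.Agent.Lib.Helper16.RigCl TensorProduct

section basic

variable {A : Type u} [CommRing A] [IsNoetherianRing A] (I : Ideal A) [IsAdicComplete I A]

/-- For a rig-closed prime `p`, the ring `A/(p+I)` is Artinian. -/
lemma isArtinianRing_quot_sup {p : PrimeSpectrum A} (hp : RC I p) :
    IsArtinianRing (A ⧸ (p.asIdeal ⊔ I)) := by
  set K : Ideal A := p.asIdeal ⊔ I with hK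
  have hdim : Ring.KrullDimLE 0 (A ⧸ K) := by
    rw [Ring.krullDimLE_zero_iff]
    intro P' hP'
    have hPprime : (P'.comap (Ideal.Quotient.mk K)).IsPrime := Ideal.comap_isPrime _ _
    have hKP : K ≤ P'.comap (Ideal.Quotient.mk K) := by
      intro b hb
      rw [Ideal.mem_comap, Ideal.Quotient.eq_zero_iff_mem.mpr hb]
      exact P'.zero_mem
    have hlt : p.asIdeal < P'.comap (Ideal.Quotient.mk K) := by
      refine lt_of_le_of_ne (le_trans le_sup_left hKP) ?_
      intro h
      exact hp.1 (h ▸ le_trans le_sup_right hKP)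
    have hmax := isMaximal_of_lt I hp _ hlt
    have := Ideal.map_eq_top_or_isMaximal_of_surjective (Ideal.Quotient.mk K)
      Ideal.Quotient.mk_surjective hmax
    rw [Ideal.map_comap_of_surjective _ Ideal.Quotient.mk_surjective] at this
    exact this.resolve_left hP'.ne_top
  exact isArtinianRing_iff_isNoetherianRing_krullDimLE_zero.mpr ⟨inferInstance, hdim⟩

end basic

section rel

variable {A : Type u} [CommRing A] [IsNoetherianRing A] (I : Ideal A) [IsAdicComplete I A]
  {B : Type u} [CommRing B] [Algebra A B] [IsNoetherianRing B]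
  [IsAdicComplete (I.map (algebraMap A B)) B]

omit [IsNoetherianRing A] [IsAdicComplete I A] in
/-- any quotient of `B` is `I`-adically separated -/
lemma isHausdorff_quot' (K : Ideal B) : IsHausdorff I (B ⧸ K) := by
  set K' : Ideal (B ⧸ K) := I.map (algebraMap A (B ⧸ K)) with hK'
  have hjac : K' ≤ Ideal.jacobson ⊥ := by
    refine le_sInf ?_
    rintro n ⟨-, hn⟩
    have hmax : (n.comap (Ideal.Quotient.mk K)).IsMaximal :=
      Ideal.comap_isMaximal_of_surjective _ Ideal.Quotient.mk_surjective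
    have hIm := le_of_isMaximal (I.map (algebraMap A B)) (n.comap (Ideal.Quotient.mk K))
    rw [hK', Ideal.map_le_iff_le_comap]
    intro a ha
    have := hIm (Ideal.mem_map_of_mem _ ha)
    exact this
  have hle : ∀ k : ℕ, ((I ^ k • ⊤ : Submodule A (B ⧸ K)) : Set (B ⧸ K)) ⊆ (K' ^ k : Ideal (B ⧸ K)) := by
    intro k x hx
    refine Submodule.smul_induction_on hx ?_ ?_
    · intro a ha z _
      rw [Algebra.smul_def]
      refine Ideal.mul_mem_right _ _ ?_
      rw [hK', ← Ideal.map_pow]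
      exact Ideal.mem_map_of_mem _ ha
    · intro u v hu hv
      exact Ideal.add_mem _ hu hv
  have hbot : (⨅ k : ℕ, K' ^ k : Ideal (B ⧸ K)) = ⊥ := by
    have := Ideal.iInf_pow_smul_eq_bot_of_le_jacobson (M := B ⧸ K) K' hjac
    simpa using this
  refine ⟨fun x hx => ?_⟩
  have hmem : x ∈ (⨅ k, K' ^ k : Ideal (B ⧸ K)) := by
    rw [Ideal.mem_iInf]
    intro k
    have := hx k
    rw [SModEq.zero] at this
    exact hle k this
  rw [hbot] at hmem
  exact hmem

variable [Algebra.Etale (A ⧸ I) (B ⧸ (I.map (algebraMap A B)))]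

/-- `B/(p+I)B` is finite over `A` when `A/I → B/IB` is étale and `p` is rig-closed. -/
lemma finite_quot_map_sup {p : PrimeSpectrum A} (hp : RC I p) :
    Module.Finite A (B ⧸ (p.asIdeal ⊔ I).map (algebraMap A B)) := by
  haveI := isArtinianRing_quot_sup I hp
  haveI : Algebra.QuasiFinite A (B ⧸ (I.map (algebraMap A B))) :=
    Algebra.QuasiFinite.trans A (A ⧸ I) _
  have hle : I.map (algebraMap A B) ≤ (p.asIdeal ⊔ I).map (algebraMap A B) :=
    Ideal.map_mono le_sup_right
  haveI : Algebra.QuasiFinite A (B ⧸ (p.asIdeal ⊔ I).map (algebraMap A B)) :=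
    Algebra.QuasiFinite.of_surjective_algHom (Ideal.Quotient.factorₐ A hle)
      (Ideal.Quotient.factor_surjective hle)
  haveI : Algebra.QuasiFinite (A ⧸ (p.asIdeal ⊔ I)) (B ⧸ (p.asIdeal ⊔ I).map (algebraMap A B)) :=
    Algebra.QuasiFinite.of_restrictScalars A _ _
  haveI : Module.Finite (A ⧸ (p.asIdeal ⊔ I)) (B ⧸ (p.asIdeal ⊔ I).map (algebraMap A B)) :=
    Module.Finite.of_quasiFinite
  exact Module.Finite.trans (A ⧸ (p.asIdeal ⊔ I)) _

/-- `B/pB` is finite over `A`. -/
lemma finite_quot_map {p : PrimeSpectrum A} (hp : RC I p) :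
    Module.Finite A (B ⧸ p.asIdeal.map (algebraMap A B)) := by
  haveI := isHausdorff_quot' I (p.asIdeal.map (algebraMap A B))
  have h1 := finite_quot_map_sup (B := B) I hp
  have h2 : Module.Finite A
      (B ⧸ (p.asIdeal.map (algebraMap A B) ⊔ I.map (algebraMap A B))) :=
    Module.Finite.equiv (Ideal.quotientEquivAlgOfEq A (Ideal.map_sup _ _ _)).toLinearEquiv
  exact Groth.Agent.Lib.Helper5.ComplKaehler.finite_of_finite_quotient I
    (finite_quot_smul_top I _ h2)

/-- `B/pB` is unramified over `A`. -/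
lemma formallyUnramified_quot_map {p : PrimeSpectrum A} (hp : RC I p) :
    Algebra.FormallyUnramified A (B ⧸ p.asIdeal.map (algebraMap A B)) := by
  haveI hfin := finite_quot_map (B := B) I hp
  set pB : Ideal B := p.asIdeal.map (algebraMap A B) with hpB
  -- the ring `T = B₀ / I B₀`
  haveI : Algebra.FormallyUnramified A (B ⧸ (I.map (algebraMap A B))) :=
    Algebra.FormallyUnramified.comp A (A ⧸ I) _
  have hker : ∀ x ∈ I.map (algebraMap A B),
      ((Ideal.Quotient.mkₐ A (I.map (algebraMap A (B ⧸ pB)))).comp (Ideal.Quotient.mkₐ A pB)) x = 0 := by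
    intro x hx
    change Ideal.Quotient.mk _ (Ideal.Quotient.mk pB x) = 0
    rw [Ideal.Quotient.eq_zero_iff_mem]
    have h1 : Ideal.Quotient.mk pB x ∈ (I.map (algebraMap A B)).map (Ideal.Quotient.mk pB) :=
      Ideal.mem_map_of_mem _ hx
    rw [Ideal.map_map] at h1
    exact h1
  let f : (B ⧸ (I.map (algebraMap A B))) →ₐ[A] ((B ⧸ pB) ⧸ I.map (algebraMap A (B ⧸ pB))) :=
    Ideal.Quotient.liftₐ (I.map (algebraMap A B))
      ((Ideal.Quotient.mkₐ A (I.map (algebraMap A (B ⧸ pB)))).comp (Ideal.Quotient.mkₐ A pB)) hker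
  have hf : Function.Surjective f := by
    intro z
    obtain ⟨y, rfl⟩ := Ideal.Quotient.mk_surjective z
    obtain ⟨b, rfl⟩ := Ideal.Quotient.mk_surjective y
    exact ⟨Ideal.Quotient.mk _ b, rfl⟩
  haveI : Algebra.FormallyUnramified A ((B ⧸ pB) ⧸ I.map (algebraMap A (B ⧸ pB))) :=
    Algebra.FormallyUnramified.of_surjective f hf
  haveI : Algebra.FormallyUnramified (A ⧸ I) ((B ⧸ pB) ⧸ I.map (algebraMap A (B ⧸ pB))) :=
    Algebra.FormallyUnramified.of_restrictScalars A _ _
  haveI : Algebra.FormallyUnramified (A ⧸ I) ((A ⧸ I) ⊗[A] (B ⧸ pB)) :=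
    Algebra.FormallyUnramified.of_equiv (Algebra.TensorProduct.quotIdealMapEquivQuotTensor (B ⧸ pB) I)
  haveI : Subsingleton (Ω[((A ⧸ I) ⊗[A] (B ⧸ pB))⁄(A ⧸ I)]) :=
    Algebra.FormallyUnramified.subsingleton_kaehlerDifferential
  letI : Algebra (B ⧸ pB) ((A ⧸ I) ⊗[A] (B ⧸ pB)) := Algebra.TensorProduct.rightAlgebra
  haveI : Subsingleton ((A ⧸ I) ⊗[A] Ω[(B ⧸ pB)⁄A]) :=
    (KaehlerDifferential.tensorKaehlerEquivBase A (A ⧸ I) (B ⧸ pB) ((A ⧸ I) ⊗[A] (B ⧸ pB))).subsingleton
  haveI : Subsingleton (Ω[(B ⧸ pB)⁄A] ⧸ (I • ⊤ : Submodule A Ω[(B ⧸ pB)⁄A])) :=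
    (TensorProduct.quotTensorEquivQuotSMul Ω[(B ⧸ pB)⁄A] I).symm.subsingleton
  have htop : (I • ⊤ : Submodule A Ω[(B ⧸ pB)⁄A]) = ⊤ :=
    Submodule.Quotient.subsingleton_iff.mp inferInstance
  haveI : Module.Finite A Ω[(B ⧸ pB)⁄A] := Module.Finite.trans (B ⧸ pB) _
  have hbot : (⊤ : Submodule A Ω[(B ⧸ pB)⁄A]) = ⊥ :=
    Submodule.eq_bot_of_le_smul_of_le_jacobson_bot I ⊤ Module.Finite.fg_top
      (le_of_eq htop.symm) (IsAdicComplete.le_jacobson_bot I)
  refine ⟨?_⟩
  rw [← Submodule.subsingleton_iff A, ← subsingleton_iff_bot_eq_top]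
  exact hbot.symm

/-- `p B_q = q B_q` -/
theorem main (q : PrimeSpectrum B)
    (hp : RC I (PrimeSpectrum.comap (algebraMap A B) q)) :
    ((PrimeSpectrum.comap (algebraMap A B) q).asIdeal.map (algebraMap A B)).map
        (algebraMap B (Localization.AtPrime q.asIdeal)) =
      IsLocalRing.maximalIdeal (Localization.AtPrime q.asIdeal) := by
  set p : PrimeSpectrum A := PrimeSpectrum.comap (algebraMap A B) q with hpdef
  set pB : Ideal B := p.asIdeal.map (algebraMap A B) with hpB
  haveI hfin : Module.Finite A (B ⧸ pB) := finite_quot_map (B := B) I hp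
  haveI hunr : Algebra.FormallyUnramified A (B ⧸ pB) := formallyUnramified_quot_map (B := B) I hp
  have hpBq : pB ≤ q.asIdeal := by
    rw [hpB, Ideal.map_le_iff_le_comap]
    exact le_refl _
  have hkerq : RingHom.ker (Ideal.Quotient.mk pB) ≤ q.asIdeal := by
    rw [Ideal.mk_ker]; exact hpBq
  haveI hq₀ : (q.asIdeal.map (Ideal.Quotient.mk pB)).IsPrime :=
    Ideal.map_isPrime_of_surjective Ideal.Quotient.mk_surjective hkerq
  set q₀ : Ideal (B ⧸ pB) := q.asIdeal.map (Ideal.Quotient.mk pB) with hq₀def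
  have hcomap : q₀.comap (Ideal.Quotient.mk pB) = q.asIdeal := by
    rw [hq₀def, Ideal.comap_map_of_surjective' _ Ideal.Quotient.mk_surjective]
    exact sup_eq_left.mpr hkerq
  letI := Localization.AtPrime.algebraOfLiesOver (q₀.under A) q₀
  have hmax := ((Algebra.isUnramifiedAt_iff_map_eq A (q₀.under A) q₀).mp inferInstance).2
  have hbot : IsLocalRing.maximalIdeal (Localization.AtPrime q₀) = ⊥ := by
    rw [← hmax, Ideal.map_eq_bot_iff_le_ker]
    intro a ha
    rw [RingHom.mem_ker]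
    have ha' : algebraMap A B a ∈ q.asIdeal := by
      rw [← hcomap, Ideal.mem_comap]
      exact ha
    have ha'' : algebraMap A B a ∈ pB := Ideal.mem_map_of_mem _ ha'
    rw [IsScalarTower.algebraMap_apply A (B ⧸ pB) (Localization.AtPrime q₀),
      IsScalarTower.algebraMap_apply A B (B ⧸ pB), Ideal.Quotient.algebraMap_eq,
      Ideal.Quotient.eq_zero_iff_mem.mpr ha'', map_zero]
  apply le_antisymm
  · rw [← Localization.AtPrime.map_eq_maximalIdeal]
    exact Ideal.map_mono hpBq
  · rw [← Localization.AtPrime.map_eq_maximalIdeal, Ideal.map_le_iff_le_comap]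
    intro x hx
    rw [Ideal.mem_comap]
    have hx₀ : Ideal.Quotient.mk pB x ∈ q₀ := Ideal.mem_map_of_mem _ hx
    have h0 : algebraMap (B ⧸ pB) (Localization.AtPrime q₀) (Ideal.Quotient.mk pB x) = 0 := by
      have : algebraMap (B ⧸ pB) (Localization.AtPrime q₀) (Ideal.Quotient.mk pB x) ∈
          IsLocalRing.maximalIdeal (Localization.AtPrime q₀) := by
        rw [← Localization.AtPrime.map_eq_maximalIdeal]
        exact Ideal.mem_map_of_mem _ hx₀
      rw [hbot] at this
      exact this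
    obtain ⟨⟨s₀, hs₀⟩, hs⟩ := (IsLocalization.map_eq_zero_iff q₀.primeCompl _ _).mp h0
    obtain ⟨s, rfl⟩ := Ideal.Quotient.mk_surjective s₀
    have hsq : s ∉ q.asIdeal := fun h => hs₀ (Ideal.mem_map_of_mem _ h)
    have hsx : s * x ∈ pB := by
      rw [← Ideal.Quotient.eq_zero_iff_mem, map_mul]
      exact hs
    have hunit : IsUnit (algebraMap B (Localization.AtPrime q.asIdeal) s) :=
      IsLocalization.map_units (M := q.asIdeal.primeCompl) _ ⟨s, hsq⟩
    have := Ideal.mem_map_of_mem (algebraMap B (Localization.AtPrime q.asIdeal)) hsx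
    rw [map_mul] at this
    exact (Ideal.unit_mul_mem_iff_mem _ hunit).mp this

end rel

end Groth.Agent.Lib.Helper16.RigCl4
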