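import Mathlib
import Groth.Agent.S3866

set_option autoImplicit false
universe u
open TensorProduct

namespace Groth.Agent.Lib.Helper16.RigCl2

/-- vanishing of `x ⊗ 1` in `S ⊗ (R/P)` -/
lemma tmul_one_eq_zero_iff {R : Type*} [CommRing R] (P : Ideal R) {S : Type*} [CommRing S]
    [Algebra R S] (x : S) :
    x ⊗ₜ[R] (1 : R ⧸ P) = 0 ↔ x ∈ P.map (algebraMap R S) := by
  have h1 : x ⊗ₜ[R] (1 : R ⧸ P) = 0 ↔ x ∈ (P • ⊤ : Submodule R S) := by
    rw [← (TensorProduct.tensorQuotEquivQuotSMul S P).map_eq_zero_iff,
      ← map_one (Ideal.Quotient.mk P), TensorProduct.tensorQuotEquivQuotSMul_tmul_mk, one_smul,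
      Submodule.Quotient.mk_eq_zero]
  rw [h1, Ideal.smul_top_eq_map, Submodule.restrictScalars_mem]

section

variable {A : Type u} [CommRing A] (p : Ideal A) [hp : p.IsPrime] (f : A)
  (hf : IsUnit (Ideal.Quotient.mk p f))

include hf in
lemma not_mem : f ∉ p := by
  intro h
  rw [Ideal.Quotient.eq_zero_iff_mem.mpr h] at hf
  haveI : Nontrivial (A ⧸ p) := Ideal.Quotient.nontrivial_iff.mpr hp.ne_top
  exact not_isUnit_zero hf

include hf in
/-- F2 -/
lemma mem_of_algebraMap_eq_zero (a : A)
    (h : algebraMap A (Localization.Away f ⧸ p.map (algebraMap A (Localization.Away f))) a = 0) :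
    a ∈ p := by
  rw [IsScalarTower.algebraMap_apply A (Localization.Away f), Ideal.Quotient.algebraMap_eq,
    Ideal.Quotient.eq_zero_iff_mem,
    IsLocalization.algebraMap_mem_map_algebraMap_iff (Submonoid.powers f)] at h
  obtain ⟨m, ⟨k, rfl⟩, hk⟩ := h
  rcases hp.mem_or_mem hk with h1 | h1
  · exact absurd (hp.mem_of_pow_mem k h1) (not_mem p f hf)
  · exact h1

include hf in
omit hp in
/-- F1 -/
lemma algebraMap_surjective :
    Function.Surjective
      (algebraMap A (Localization.Away f ⧸ p.map (algebraMap A (Localization.Away f)))) := by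
  intro x
  obtain ⟨r, rfl⟩ := Ideal.Quotient.mk_surjective x
  obtain ⟨a, ⟨_, ⟨k, rfl⟩⟩, rfl⟩ := IsLocalization.exists_mk'_eq (Submonoid.powers f) r
  obtain ⟨g', hg'⟩ := hf.exists_right_inv
  obtain ⟨g, rfl⟩ := Ideal.Quotient.mk_surjective g'
  refine ⟨a * g ^ k, ?_⟩
  rw [IsScalarTower.algebraMap_apply A (Localization.Away f), Ideal.Quotient.algebraMap_eq,
    eq_comm, ← sub_eq_zero, ← map_sub, Ideal.Quotient.eq_zero_iff_mem]
  have hfg : 1 - (f * g) ^ k ∈ p := by
    rw [← Ideal.Quotient.eq_zero_iff_mem, map_sub, map_one, map_pow, map_mul, hg', one_pow,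
      sub_self]
  have : IsLocalization.mk' (Localization.Away f) a (⟨f ^ k, ⟨k, rfl⟩⟩ : Submonoid.powers f)
      - algebraMap A (Localization.Away f) (a * g ^ k)
      = IsLocalization.mk' (Localization.Away f) (a * (1 - (f * g) ^ k))
        (⟨f ^ k, ⟨k, rfl⟩⟩ : Submonoid.powers f) := by
    rw [eq_comm, IsLocalization.mk'_eq_iff_eq_mul, sub_mul, IsLocalization.mk'_spec]
    simp only [map_mul, map_sub, map_pow, map_one]
    ring
  rw [this, IsLocalization.mk'_mem_map_algebraMap_iff]
  exact ⟨1, Submonoid.one_mem _, by rw [one_mul]; exact Ideal.mul_mem_left _ _ hfg⟩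

end

section main

variable {A : Type u} [CommRing A] [IsNoetherianRing A] (I : Ideal A) [IsAdicComplete I A]
  (p : Ideal A) [hp : p.IsPrime] (f : A) (hf : IsUnit (Ideal.Quotient.mk p f))

include hf in
omit hp in
lemma isAdicComplete_quot : IsAdicComplete (I.map (algebraMap A (Localization.Away f)))
    (Localization.Away f ⧸ p.map (algebraMap A (Localization.Away f))) := by
  haveI : Module.Finite A (Localization.Away f ⧸ p.map (algebraMap A (Localization.Away f))) :=
    Module.Finite.of_surjective (Algebra.linearMap A _) (algebraMap_surjective p f hf)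
  rw [IsAdicComplete.map_algebraMap_iff]
  exact Groth.Agent.S3866.result A I _

lemma algebraMap_tmul_one {R : Type*} [CommRing R] (P : Ideal R) {S : Type*} [CommRing S]
    [Algebra R S] (r : R) :
    (algebraMap R S r) ⊗ₜ[R] (1 : R ⧸ P) = (1 : S) ⊗ₜ[R] (Ideal.Quotient.mk P r) := by
  rw [Algebra.algebraMap_eq_smul_one, TensorProduct.smul_tmul, Algebra.smul_def, mul_one]
  rfl

include hf in
theorem quotientMap_bijective :
    Function.Bijective (Ideal.quotientMap
      (p.map (algebraMap A (AdicCompletion (I.map (algebraMap A (Localization.Away f)))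
        (Localization.Away f))))
      (algebraMap A (AdicCompletion (I.map (algebraMap A (Localization.Away f)))
        (Localization.Away f))) Ideal.le_comap_map) := by
  haveI := isAdicComplete_quot I p f hf
  have hmap : p.map (algebraMap A (AdicCompletion (I.map (algebraMap A (Localization.Away f)))
        (Localization.Away f))) = (p.map (algebraMap A (Localization.Away f))).map
        (algebraMap (Localization.Away f) (AdicCompletion (I.map (algebraMap A (Localization.Away f)))
        (Localization.Away f))) := by
    rw [Ideal.map_map, ← IsScalarTower.algebraMap_eq]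
  have hbij := AdicCompletion.ofTensorProduct_bijective_of_finite_of_isNoetherian
    (I.map (algebraMap A (Localization.Away f)))
    (Localization.Away f ⧸ p.map (algebraMap A (Localization.Away f)))
  have hof : ∀ r : Localization.Away f,
      AdicCompletion.ofTensorProduct (I.map (algebraMap A (Localization.Away f)))
        (Localization.Away f ⧸ p.map (algebraMap A (Localization.Away f)))
        ((algebraMap (Localization.Away f) (AdicCompletion (I.map (algebraMap A (Localization.Away f)))
        (Localization.Away f)) r) ⊗ₜ 1) = AdicCompletion.of _ _ (Ideal.Quotient.mk _ r) := by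
    intro r
    rw [algebraMap_tmul_one, AdicCompletion.ofTensorProduct_tmul, one_smul]
  constructor
  · rw [injective_iff_map_eq_zero]
    intro x' hx'
    obtain ⟨a, rfl⟩ := Ideal.Quotient.mk_surjective x'
    rw [Ideal.quotientMap_mk, Ideal.Quotient.eq_zero_iff_mem, hmap,
      ← tmul_one_eq_zero_iff, IsScalarTower.algebraMap_apply A (Localization.Away f)] at hx'
    have h2 := congrArg (AdicCompletion.ofTensorProduct (I.map (algebraMap A (Localization.Away f)))
        (Localization.Away f ⧸ p.map (algebraMap A (Localization.Away f)))) hx'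
    rw [hof, map_zero] at h2
    have h3 : Ideal.Quotient.mk (p.map (algebraMap A (Localization.Away f)))
        (algebraMap A (Localization.Away f) a) = 0 := by
      apply AdicCompletion.of_injective (I := I.map (algebraMap A (Localization.Away f)))
      rw [h2, map_zero]
    rw [Ideal.Quotient.eq_zero_iff_mem]
    apply mem_of_algebraMap_eq_zero p f hf a
    rw [IsScalarTower.algebraMap_apply A (Localization.Away f), Ideal.Quotient.algebraMap_eq]
    exact h3
  · intro x'
    obtain ⟨x, rfl⟩ := Ideal.Quotient.mk_surjective x'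
    obtain ⟨m, hm⟩ := AdicCompletion.of_surjective (I.map (algebraMap A (Localization.Away f)))
      (Localization.Away f ⧸ p.map (algebraMap A (Localization.Away f)))
      (AdicCompletion.ofTensorProduct (I.map (algebraMap A (Localization.Away f)))
        (Localization.Away f ⧸ p.map (algebraMap A (Localization.Away f))) (x ⊗ₜ 1))
    obtain ⟨a, rfl⟩ := algebraMap_surjective p f hf m
    refine ⟨Ideal.Quotient.mk p a, ?_⟩
    rw [Ideal.quotientMap_mk, eq_comm, ← sub_eq_zero, ← map_sub, Ideal.Quotient.eq_zero_iff_mem,
      hmap, ← tmul_one_eq_zero_iff, TensorProduct.sub_tmul, sub_eq_zero]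
    apply hbij.1
    rw [← hm, IsScalarTower.algebraMap_apply A (Localization.Away f) (AdicCompletion _ _), hof,
      IsScalarTower.algebraMap_apply A (Localization.Away f) (Localization.Away f ⧸ _),
      Ideal.Quotient.algebraMap_eq]

end main

end Groth.Agent.Lib.Helper16.RigCl2
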