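import Mathlib
import Groth.Agent.Lib.Helper16.RigCl1
import Groth.Agent.Lib.Helper16.RigCl2
import Groth.Agent.Lib.helper19.CompletionNoetherian

set_option autoImplicit false
universe u

namespace Groth.Agent.Lib.Helper16.RigCl3

open Groth.Agent.Lib.Helper16.RigCl

/-- A field `L` of finite type over a domain `R₀ ⊆ L` is algebraic over it. -/
lemma isAlgebraic_of_finiteType_field {R₀ L : Type*} [CommRing R₀] [Field L] [Algebra R₀ L]
    [FaithfulSMul R₀ L] [Algebra.FiniteType R₀ L] : Algebra.IsAlgebraic R₀ L := by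
  haveI := IsDomain.of_faithfulSMul R₀ L
  letI := FractionRing.liftAlgebra R₀ L
  haveI : Algebra.FiniteType (FractionRing R₀) L :=
    Algebra.FiniteType.of_restrictScalars_finiteType R₀ _ _
  haveI : Module.Finite (FractionRing R₀) L := finite_of_finite_type_of_isJacobsonRing _ _
  haveI : Algebra.IsAlgebraic (FractionRing R₀) L := Algebra.IsAlgebraic.of_finite _ _
  exact (IsFractionRing.comap_isAlgebraic_iff (K := FractionRing R₀)).mpr inferInstance

/-- choice of `f`: a field `L` of finite type over `A` becomes "finite after inverting some `f`" -/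
lemma exists_loc_finite {A L : Type*} [CommRing A] [Field L] [Algebra A L]
    [Algebra.FiniteType A L] :
    ∃ f : A, algebraMap A L f ≠ 0 ∧ ∃ T : Submodule A L, T.FG ∧
      ∀ x : L, ∃ k : ℕ, f ^ k • x ∈ T := by
  classical
  let R₀ : Subalgebra A L := (Algebra.ofId A L).range
  haveI : Algebra.FiniteType R₀ L := Algebra.FiniteType.of_restrictScalars_finiteType A _ _
  haveI : Algebra.IsAlgebraic R₀ L := isAlgebraic_of_finiteType_field
  obtain ⟨s, hs⟩ := (inferInstance : Algebra.FiniteType A L).out
  obtain ⟨y, hy0, hy⟩ := Algebra.IsAlgebraic.exists_integral_multiples R₀ s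
  obtain ⟨f, hf⟩ := y.2
  have hf' : algebraMap A L f = (y : L) := hf
  refine ⟨f, ?_, ?_⟩
  · rw [hf']
    intro h
    exact hy0 (Subtype.ext h)
  -- the integral elements `f • z`
  let S' : Set L := (fun z => f • z) '' (s : Set L)
  have hS'int : ∀ x ∈ S', IsIntegral A x := by
    rintro _ ⟨z, hz, rfl⟩
    have h1 : IsIntegral R₀ (y • z) := hy z hz
    have h2 : y • z = f • z := by
      rw [Algebra.smul_def, Algebra.smul_def, hf']; rfl
    rw [h2] at h1
    -- R₀ is integral over A (it is a quotient of A)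
    have hR₀ : Algebra.IsIntegral A R₀ := by
      refine ⟨fun r => ?_⟩
      obtain ⟨a, ha⟩ := r.2
      have : r = algebraMap A R₀ a := Subtype.ext ha.symm
      rw [this]
      exact isIntegral_algebraMap
    exact isIntegral_trans (R := A) (A := R₀) _ h1
  refine ⟨(Algebra.adjoin A S').toSubmodule,
    fg_adjoin_of_finite ((Finset.finite_toSet s).image _) hS'int, ?_⟩
  intro x
  have hx : x ∈ Algebra.adjoin A (s : Set L) := by rw [hs]; trivial
  refine Algebra.adjoin_induction (p := fun x _ => ∃ k : ℕ, f ^ k • x ∈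
    (Algebra.adjoin A S').toSubmodule) ?_ ?_ ?_ ?_ hx
  · intro z hz
    exact ⟨1, by rw [pow_one]; exact Algebra.subset_adjoin ⟨z, hz, rfl⟩⟩
  · intro a
    exact ⟨0, by rw [pow_zero, one_smul]; exact Subalgebra.algebraMap_mem _ a⟩
  · rintro u v _ _ ⟨k1, h1⟩ ⟨k2, h2⟩
    refine ⟨k1 + k2, ?_⟩
    rw [smul_add]
    refine Submodule.add_mem _ ?_ ?_
    · rw [add_comm, pow_add, mul_smul]
      exact Submodule.smul_mem _ _ h1
    · rw [pow_add, mul_smul]
      exact Submodule.smul_mem _ _ h2
  · rintro u v _ _ ⟨k1, h1⟩ ⟨k2, h2⟩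
    refine ⟨k1 + k2, ?_⟩
    have : f ^ (k1 + k2) • (u * v) = (f ^ k1 • u) * (f ^ k2 • v) := by
      rw [pow_add, smul_mul_smul_comm]
    rw [this]
    exact Subalgebra.mul_mem _ h1 h2

section uniq

variable {B : Type u} [CommRing B] [IsNoetherianRing B] (J : Ideal B) [IsAdicComplete J B]

lemma map_mk_eq_radical {q : PrimeSpectrum B} (hq : RC J q) (m : Ideal B) [hm : m.IsMaximal]
    (hqm : q.asIdeal ≤ m) :
    m.map (Ideal.Quotient.mk q.asIdeal) = (J.map (Ideal.Quotient.mk q.asIdeal)).radical := by
  have h := (Groth.Agent.S8804.result B J q).out 0 2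
  have h3 := (h.mp hq).2.1
  apply h3
  have := Ideal.map_eq_top_or_isMaximal_of_surjective (Ideal.Quotient.mk q.asIdeal)
    Ideal.Quotient.mk_surjective hm
  refine this.resolve_left ?_
  intro htop
  have h2 := congrArg (Ideal.comap (Ideal.Quotient.mk q.asIdeal)) htop
  rw [Ideal.comap_map_of_surjective _ Ideal.Quotient.mk_surjective, ← RingHom.ker_eq_comap_bot,
    Ideal.mk_ker, sup_eq_left.mpr hqm, Ideal.comap_top] at h2
  exact hm.ne_top h2

lemma eq_of_isMaximal_of_le {q : PrimeSpectrum B} (hq : RC J q) (m₁ m₂ : Ideal B)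
    [hm₁ : m₁.IsMaximal] [hm₂ : m₂.IsMaximal] (h₁ : q.asIdeal ≤ m₁) (h₂ : q.asIdeal ≤ m₂) :
    m₁ = m₂ := by
  have e : m₁.map (Ideal.Quotient.mk q.asIdeal) = m₂.map (Ideal.Quotient.mk q.asIdeal) := by
    rw [map_mk_eq_radical J hq m₁ h₁, map_mk_eq_radical J hq m₂ h₂]
  have h2 := congrArg (Ideal.comap (Ideal.Quotient.mk q.asIdeal)) e
  rwa [Ideal.comap_map_of_surjective _ Ideal.Quotient.mk_surjective,
    Ideal.comap_map_of_surjective _ Ideal.Quotient.mk_surjective, ← RingHom.ker_eq_comap_bot,
    Ideal.mk_ker, sup_eq_left.mpr h₁, sup_eq_left.mpr h₂] at h2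

lemma isUnit_mk_of_notMem {q : PrimeSpectrum B} (hq : RC J q) (m : Ideal B) [hm : m.IsMaximal]
    (hqm : q.asIdeal ≤ m) (g : B) (hg : g ∉ m) : IsUnit (Ideal.Quotient.mk q.asIdeal g) := by
  by_contra hnu
  obtain ⟨n, hn, hxn⟩ := exists_max_ideal_of_mem_nonunits hnu
  have hnmax : (n.comap (Ideal.Quotient.mk q.asIdeal)).IsMaximal :=
    Ideal.comap_isMaximal_of_surjective _ Ideal.Quotient.mk_surjective
  have hqn : q.asIdeal ≤ n.comap (Ideal.Quotient.mk q.asIdeal) := by
    intro b hb
    rw [Ideal.mem_comap, Ideal.Quotient.eq_zero_iff_mem.mpr hb]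
    exact n.zero_mem
  have := eq_of_isMaximal_of_le J hq m _ hqm hqn
  apply hg
  rw [this]
  exact hxn

end uniq

section Bside

variable {B : Type u} [CommRing B] [IsNoetherianRing B] (J : Ideal B) [IsAdicComplete J B]
  (q : PrimeSpectrum B) (g : B) (hunit : IsUnit (Ideal.Quotient.mk q.asIdeal g))

local notation "B'" => AdicCompletion (J.map (algebraMap B (Localization.Away g)))
  (Localization.Away g)

include hunit in
lemma isPrime_map : (q.asIdeal.map (algebraMap B B')).IsPrime := by
  have hb := Groth.Agent.Lib.Helper16.RigCl2.quotientMap_bijective J q.asIdeal g hunit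
  rw [← Ideal.Quotient.isDomain_iff_prime]
  exact (RingEquiv.ofBijective _ hb).symm.toMulEquiv.isDomain (B ⧸ q.asIdeal)

include hunit in
/-- elements of `B'` are congruent mod `qB'` to elements of `B` -/
lemma exists_sub_mem (x : B') : ∃ b : B, x - algebraMap B B' b ∈ q.asIdeal.map (algebraMap B B') := by
  have hb := Groth.Agent.Lib.Helper16.RigCl2.quotientMap_bijective J q.asIdeal g hunit
  obtain ⟨b', hb'⟩ := hb.2 (Ideal.Quotient.mk _ x)
  obtain ⟨b, rfl⟩ := Ideal.Quotient.mk_surjective b'
  refine ⟨b, ?_⟩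
  rw [Ideal.quotientMap_mk, eq_comm, Ideal.Quotient.mk_eq_mk_iff_sub_mem] at hb'
  exact hb'

include hunit in
lemma mem_of_algebraMap_mem (b : B) (h : algebraMap B B' b ∈ q.asIdeal.map (algebraMap B B')) :
    b ∈ q.asIdeal := by
  have hb := Groth.Agent.Lib.Helper16.RigCl2.quotientMap_bijective J q.asIdeal g hunit
  rw [← Ideal.Quotient.eq_zero_iff_mem]
  apply hb.1
  rw [Ideal.quotientMap_mk, map_zero, Ideal.Quotient.eq_zero_iff_mem]
  exact h

include hunit in
lemma rc_map (hq : RC J q) :
    RC (J.map (algebraMap B B')) ⟨q.asIdeal.map (algebraMap B B'), isPrime_map J q g hunit⟩ := by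
  refine ⟨?_, ?_⟩
  · intro h
    apply hq.1
    intro a ha
    exact mem_of_algebraMap_mem J q g hunit a (h (Ideal.mem_map_of_mem _ ha))
  · intro y hy hJy
    have hy0 : q ≤ PrimeSpectrum.comap (algebraMap B B') y := by
      intro b hb
      exact hy (Ideal.mem_map_of_mem _ hb)
    have hJy0 : ¬ J ≤ (PrimeSpectrum.comap (algebraMap B B') y).asIdeal := by
      intro h
      exact hJy (Ideal.map_le_iff_le_comap.mpr h)
    have heq := hq.2 _ hy0 hJy0
    apply PrimeSpectrum.ext
    refine le_antisymm ?_ hy
    intro z hz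
    obtain ⟨b, hb⟩ := exists_sub_mem J q g hunit z
    have hbz : algebraMap B B' b ∈ y.asIdeal := by
      have := y.asIdeal.sub_mem hz (hy hb)
      rwa [sub_sub_cancel] at this
    have hbq : b ∈ q.asIdeal := by
      have : b ∈ (PrimeSpectrum.comap (algebraMap B B') y).asIdeal := hbz
      rwa [heq] at this
    have := Ideal.add_mem _ hb (Ideal.mem_map_of_mem (algebraMap B B') hbq)
    rwa [sub_add_cancel] at this

end Bside

section core

variable {A : Type u} [CommRing A] [IsNoetherianRing A] (I : Ideal A) [IsAdicComplete I A]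
  {B : Type u} [CommRing B] [Algebra A B] [IsNoetherianRing B]
  [IsAdicComplete (I.map (algebraMap A B)) B]
  (q : PrimeSpectrum B) (hq : RC (I.map (algebraMap A B)) q) (f : A)
  (hunit : IsUnit (Ideal.Quotient.mk q.asIdeal (algebraMap A B f)))
  (m : Ideal B) [hm : m.IsMaximal] (hqm : q.asIdeal ≤ m)
  (T : Submodule A (B ⧸ m)) (hT : T.FG) (hTf : ∀ x : B ⧸ m, ∃ k : ℕ, f ^ k • x ∈ T)

local notation "A'" => AdicCompletion (Ideal.map (algebraMap A (Localization.Away f)) I)
  (Localization.Away f)
local notation "B'" => AdicCompletion (Ideal.map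
  (algebraMap B (Localization.Away (algebraMap A B f))) (Ideal.map (algebraMap A B) I))
  (Localization.Away (algebraMap A B f))

omit [IsNoetherianRing A] [IsAdicComplete I A] [IsNoetherianRing B]
  [IsAdicComplete (I.map (algebraMap A B)) B] in
lemma compat (ψ : A' →+* B')
    (hψ : ψ.comp (algebraMap (Localization.Away f) A') =
      (algebraMap (Localization.Away (algebraMap A B f)) B').comp
        (Localization.awayMap (algebraMap A B) f)) (a : A) :
    ψ (algebraMap A A' a) = algebraMap B B' (algebraMap A B a) := by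
  rw [IsScalarTower.algebraMap_apply A (Localization.Away f) A']
  have := RingHom.congr_fun hψ (algebraMap A (Localization.Away f) a)
  rw [RingHom.comp_apply, RingHom.comp_apply] at this
  rw [this, Localization.awayMap, IsLocalization.Away.map, IsLocalization.map_eq,
    ← IsScalarTower.algebraMap_apply B (Localization.Away (algebraMap A B f)) B']

include hq hunit hqm hT hTf in
omit [IsNoetherianRing A] [IsAdicComplete I A] in
lemma finite_quot (ψ : A' →+* B')
    (hψ : ψ.comp (algebraMap (Localization.Away f) A') =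
      (algebraMap (Localization.Away (algebraMap A B f)) B').comp
        (Localization.awayMap (algebraMap A B) f))
    (m' : Ideal B') (hm' : m'.IsMaximal) (hQm' : q.asIdeal.map (algebraMap B B') ≤ m') :
    ((Ideal.Quotient.mk m').comp ψ).Finite := by
  letI : Algebra A' B' := ψ.toAlgebra
  change (algebraMap A' (B' ⧸ m')).Finite
  rw [RingHom.finite_algebraMap]
  have hcompat := compat I f ψ hψ
  -- τ : B → B'/m' is surjective
  let τ : B →+* B' ⧸ m' := (Ideal.Quotient.mk m').comp (algebraMap B B')
  have hτ : Function.Surjective τ := by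
    intro z
    obtain ⟨x, rfl⟩ := Ideal.Quotient.mk_surjective z
    obtain ⟨b, hb⟩ := exists_sub_mem (I.map (algebraMap A B)) q (algebraMap A B f) hunit x
    refine ⟨b, ?_⟩
    change Ideal.Quotient.mk m' (algebraMap B B' b) = Ideal.Quotient.mk m' x
    rw [eq_comm, Ideal.Quotient.mk_eq_mk_iff_sub_mem]
    exact hQm' hb
  -- its kernel is `m`
  have hker : m'.comap (algebraMap B B') = m := by
    letI : Field (B' ⧸ m') := Ideal.Quotient.field m'
    have h1 : (Ideal.comap τ ⊥).IsMaximal := Ideal.comap_isMaximal_of_surjective τ hτ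
    have h2 : Ideal.comap τ ⊥ = m'.comap (algebraMap B B') := by
      rw [← Ideal.comap_comap, ← RingHom.ker_eq_comap_bot, Ideal.mk_ker]
    rw [h2] at h1
    haveI := h1
    refine eq_of_isMaximal_of_le (I.map (algebraMap A B)) hq _ m ?_ hqm
    intro b hb
    exact hQm' (Ideal.mem_map_of_mem _ hb)
  let θ : B ⧸ m →+* B' ⧸ m' := Ideal.Quotient.lift m τ (by
    intro b hb
    rw [← hker] at hb
    exact Ideal.Quotient.eq_zero_iff_mem.mpr hb)
  have hθ : Function.Surjective θ := Ideal.Quotient.lift_surjective_of_surjective _ _ hτ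
  -- semilinearity
  have hsmul : ∀ (a : A) (t : B ⧸ m), θ (a • t) = (algebraMap A A' a) • θ t := by
    intro a t
    obtain ⟨b, rfl⟩ := Ideal.Quotient.mk_surjective t
    rw [Algebra.smul_def, Algebra.smul_def, map_mul]
    congr 1
    change τ (algebraMap A B a) = Ideal.Quotient.mk m' (ψ (algebraMap A A' a))
    rw [hcompat]
    rfl
  obtain ⟨S, hS⟩ := hT
  classical
  refine Module.finite_def.mpr ⟨S.image θ, ?_⟩
  rw [eq_top_iff]
  rintro z -
  obtain ⟨x, rfl⟩ := hθ z
  obtain ⟨k, hk⟩ := hTf x
  have hspan : ∀ t ∈ T, θ t ∈ Submodule.span A' ((S.image θ : Finset (B' ⧸ m')) : Set (B' ⧸ m')) := by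
    intro t ht
    rw [← hS] at ht
    refine Submodule.span_induction (p := fun t _ => θ t ∈
      Submodule.span A' ((S.image θ : Finset (B' ⧸ m')) : Set (B' ⧸ m'))) ?_ ?_ ?_ ?_ ht
    · intro s hs
      apply Submodule.subset_span
      rw [Finset.coe_image]
      exact ⟨s, hs, rfl⟩
    · rw [θ.map_zero]; exact Submodule.zero_mem _
    · intro u v _ _ hu hv
      rw [θ.map_add]; exact Submodule.add_mem _ hu hv
    · intro a u _ hu
      rw [hsmul a u]; exact Submodule.smul_mem _ _ hu
  have h3 := hspan _ hk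
  rw [hsmul (f ^ k) x, (algebraMap A A').map_pow] at h3
  have hu : IsUnit (algebraMap A A' f) := by
    rw [IsScalarTower.algebraMap_apply A (Localization.Away f) A']
    exact (IsLocalization.Away.algebraMap_isUnit f).map _
  obtain ⟨v, hv⟩ := (hu.pow k).exists_left_inv
  have : θ x = v • ((algebraMap A A' f) ^ k • θ x) := by
    rw [← mul_smul v ((algebraMap A A' f) ^ k) (θ x), hv, one_smul]
  rw [this]
  exact Submodule.smul_mem _ _ h3

include hq hunit hqm hT hTf in
theorem core (ψ : A' →+* B')
    (hψ : ψ.comp (algebraMap (Localization.Away f) A') =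
      (algebraMap (Localization.Away (algebraMap A B f)) B').comp
        (Localization.awayMap (algebraMap A B) f)) :
    ((q.asIdeal.map (algebraMap B B')).comap ψ).IsPrime ∧
    ¬ I.map (algebraMap A A') ≤ (q.asIdeal.map (algebraMap B B')).comap ψ ∧
    ∀ y : PrimeSpectrum A', (q.asIdeal.map (algebraMap B B')).comap ψ ≤ y.asIdeal →
      ¬ I.map (algebraMap A A') ≤ y.asIdeal →
      y.asIdeal = (q.asIdeal.map (algebraMap B B')).comap ψ := by
  letI : Algebra A' B' := ψ.toAlgebra
  have hcompat := compat I f ψ hψ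
  haveI hA'N : IsNoetherianRing A' := Groth.Agent.Lib.helper19.isNoetherianRing_adicCompletion _ _
  haveI hB'N : IsNoetherianRing B' := Groth.Agent.Lib.helper19.isNoetherianRing_adicCompletion _ _
  have hIA : I.map (algebraMap A A') =
      (I.map (algebraMap A (Localization.Away f))).map (algebraMap (Localization.Away f) A') := by
    refine Eq.trans ?_ (Ideal.map_map _ _).symm
    exact congrArg (fun φ => Ideal.map φ I) (IsScalarTower.algebraMap_eq A (Localization.Away f) A')
  haveI hA'c : IsAdicComplete (I.map (algebraMap A A')) A' := by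
    have h0 : IsAdicComplete ((I.map (algebraMap A (Localization.Away f))).map
        (algebraMap (Localization.Away f) A')) A' :=
      (IsAdicComplete.map_algebraMap_iff _ _).mpr
        (AdicCompletion.isAdicComplete (IsNoetherian.noetherian _))
    exact (congrArg (fun K : Ideal A' => IsAdicComplete K A') hIA).mpr h0
  have hIB : (I.map (algebraMap A A')).map (algebraMap A' B') =
      (I.map (algebraMap A B)).map (algebraMap B B') := by
    refine (Ideal.map_map _ _).trans (Eq.trans ?_ (Ideal.map_map _ _).symm)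
    refine congrArg (fun φ => Ideal.map φ I) ?_
    exact RingHom.ext fun a => hcompat a
  have hIB2 : (I.map (algebraMap A B)).map (algebraMap B B') =
      ((I.map (algebraMap A B)).map (algebraMap B (Localization.Away (algebraMap A B f)))).map
        (algebraMap (Localization.Away (algebraMap A B f)) B') := by
    refine Eq.trans ?_ (Ideal.map_map _ _).symm
    exact congrArg (fun φ => Ideal.map φ (I.map (algebraMap A B)))
      (IsScalarTower.algebraMap_eq B (Localization.Away (algebraMap A B f)) B')
  haveI hB'c : IsAdicComplete ((I.map (algebraMap A A')).map (algebraMap A' B')) B' := by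
    have h0 : IsAdicComplete (((I.map (algebraMap A B)).map
        (algebraMap B (Localization.Away (algebraMap A B f)))).map
        (algebraMap (Localization.Away (algebraMap A B f)) B')) B' :=
      (IsAdicComplete.map_algebraMap_iff _ _).mpr
        (AdicCompletion.isAdicComplete (IsNoetherian.noetherian _))
    exact (congrArg (fun K : Ideal B' => IsAdicComplete K B') (hIB.trans hIB2)).mpr h0
  let q'' : PrimeSpectrum B' := ⟨q.asIdeal.map (algebraMap B B'),
    isPrime_map (I.map (algebraMap A B)) q (algebraMap A B f) hunit⟩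
  have hq'' : RC ((I.map (algebraMap A A')).map (algebraMap A' B')) q'' :=
    (congrArg (fun K : Ideal B' => RC K q'') hIB).mpr
      (rc_map (I.map (algebraMap A B)) q (algebraMap A B f) hunit hq)
  have h1 : ∀ m' : Ideal B', m'.IsMaximal → q''.asIdeal ≤ m' → Module.Finite A' (B' ⧸ m') := by
    intro m' hm' hQm'
    have := finite_quot I q hq f hunit m hqm T hT hTf ψ hψ m' hm' hQm'
    exact RingHom.finite_algebraMap.mp this
  have hRC : RC (I.map (algebraMap A A')) (PrimeSpectrum.comap (algebraMap A' B') q'') :=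
    three_imp_two _ q'' hq'' (one_imp_three _ q'' hq'' h1)
  refine ⟨(PrimeSpectrum.comap (algebraMap A' B') q'').isPrime, hRC.1, ?_⟩
  intro y hy hIy
  exact congrArg PrimeSpectrum.asIdeal (hRC.2 y hy hIy)

end core

end Groth.Agent.Lib.Helper16.RigCl3
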