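import Mathlib
import Groth.Agent.Lib.Helper16.RigCl1
import Groth.Agent.Lib.Helper16.RigCl2
import Groth.Agent.Lib.helper19.CompletionNoetherian

set_option autoImplicit false
universe u

namespace Groth.Agent.Lib.Helper16.RigCl5

open Groth.Agent.Lib.Helper16.RigCl TensorProduct

section general

variable {R : Type u} [CommRing R] [IsNoetherianRing R] (J : Ideal R)

/-- If `R/K` is `J`-adically (pre)complete, then `R → R̂/K R̂` is surjective. -/
lemma exists_sub_mem_map (K : Ideal R) [IsPrecomplete J (R ⧸ K)] (b : AdicCompletion J R) :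
    ∃ r : R, b - algebraMap R (AdicCompletion J R) r ∈ K.map (algebraMap R (AdicCompletion J R)) := by
  have hbij := AdicCompletion.ofTensorProduct_bijective_of_finite_of_isNoetherian J (R ⧸ K)
  have hof : ∀ r : R, AdicCompletion.ofTensorProduct J (R ⧸ K)
      ((algebraMap R (AdicCompletion J R) r) ⊗ₜ 1) = AdicCompletion.of _ _ (Ideal.Quotient.mk _ r) := by
    intro r
    rw [Groth.Agent.Lib.Helper16.RigCl2.algebraMap_tmul_one, AdicCompletion.ofTensorProduct_tmul,
      one_smul]
  obtain ⟨m, hm⟩ := AdicCompletion.of_surjective J (R ⧸ K)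
    (AdicCompletion.ofTensorProduct J (R ⧸ K) (b ⊗ₜ 1))
  obtain ⟨r, rfl⟩ := Ideal.Quotient.mk_surjective m
  refine ⟨r, ?_⟩
  rw [← Groth.Agent.Lib.Helper16.RigCl2.tmul_one_eq_zero_iff, TensorProduct.sub_tmul, sub_eq_zero]
  apply hbij.1
  rw [← hm, hof]

/-- density of `R` in its completion modulo `J R̂`. -/
lemma exists_sub_mem_map_self (b : AdicCompletion J R) :
    ∃ r : R, b - algebraMap R (AdicCompletion J R) r ∈ J.map (algebraMap R (AdicCompletion J R)) := by
  obtain ⟨r, hr⟩ := Ideal.Quotient.mk_surjective (AdicCompletion.evalOneₐ J b)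
  refine ⟨r, ?_⟩
  rw [← AdicCompletion.ker_evalOneₐ_eq_map J (IsNoetherian.noetherian _), RingHom.mem_ker]
  change AdicCompletion.evalOneₐ J (b - algebraMap R (AdicCompletion J R) r) = 0
  rw [map_sub, sub_eq_zero, ← hr]
  rfl

end general

section adic

variable {A : Type u} [CommRing A] [IsNoetherianRing A] (I : Ideal A) [IsAdicComplete I A]
  (R : Type u) [CommRing R] [Algebra A R] [IsNoetherianRing R]

local notation "J" => I.map (algebraMap A R)
local notation "R'" => AdicCompletion (I.map (algebraMap A R)) R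

omit [IsNoetherianRing A] [IsAdicComplete I A] [IsNoetherianRing R] in
lemma map_eq : I.map (algebraMap A R') = (J).map (algebraMap R R') := by
  refine Eq.trans ?_ (Ideal.map_map _ _).symm
  exact congrArg (fun φ => Ideal.map φ I) (IsScalarTower.algebraMap_eq A R R')

omit [IsNoetherianRing A] [IsAdicComplete I A] in
lemma isAdicComplete_compl : IsAdicComplete (I.map (algebraMap A R')) R' := by
  have h0 : IsAdicComplete ((J).map (algebraMap R R')) R' :=
    (IsAdicComplete.map_algebraMap_iff _ _).mpr
      (AdicCompletion.isAdicComplete (IsNoetherian.noetherian _))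
  exact (congrArg (fun K : Ideal R' => IsAdicComplete K R') (map_eq I R)).mpr h0

omit [IsNoetherianRing A] [IsAdicComplete I A] in
lemma finiteType_quot [Algebra.FiniteType A R] :
    Algebra.FiniteType A (R' ⧸ I.map (algebraMap A R')) := by
  refine Algebra.FiniteType.of_surjective
    ((Ideal.Quotient.mkₐ A (I.map (algebraMap A R'))).comp (IsScalarTower.toAlgHom A R R')) ?_
  intro z
  obtain ⟨b, rfl⟩ := Ideal.Quotient.mk_surjective z
  obtain ⟨r, hr⟩ := exists_sub_mem_map_self (J) b
  refine ⟨r, ?_⟩
  change Ideal.Quotient.mk _ (algebraMap R R' r) = Ideal.Quotient.mk _ b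
  rw [eq_comm, Ideal.Quotient.eq, map_eq I R]
  exact hr

end adic

section main

variable {A : Type u} [CommRing A] [IsNoetherianRing A] (I : Ideal A) [IsAdicComplete I A]
  (R : Type u) [CommRing R] [Algebra A R] [IsNoetherianRing R] [Algebra.FiniteType A R]

local notation "J" => I.map (algebraMap A R)
local notation "R'" => AdicCompletion (I.map (algebraMap A R)) R


lemma finite_quot_q (q : PrimeSpectrum R') (hq : RC (I.map (algebraMap A R')) q)
    (hp : RC I (PrimeSpectrum.comap (algebraMap A R') q)) : Module.Finite A (R' ⧸ q.asIdeal) := by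
  haveI := Groth.Agent.Lib.helper19.isNoetherianRing_adicCompletion R (J)
  haveI := isAdicComplete_compl I R
  have hft := finiteType_quot I R
  exact one_imp_three I q hq (fun m hm hqm => two_imp_one I hft q hp m hm hqm)

lemma finite_quot_q' (q : PrimeSpectrum R') (hq : RC (I.map (algebraMap A R')) q)
    (hp : RC I (PrimeSpectrum.comap (algebraMap A R') q)) : Module.Finite A (R ⧸ (PrimeSpectrum.comap (algebraMap R R') q).asIdeal) := by
  haveI := finite_quot_q I R q hq hp
  let ψ : (R ⧸ (PrimeSpectrum.comap (algebraMap R R') q).asIdeal) →ₐ[A] (R' ⧸ q.asIdeal) :=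
    Ideal.quotientMapₐ q.asIdeal (IsScalarTower.toAlgHom A R R') (le_refl _)
  have hψ : Function.Injective ψ := by
    rw [injective_iff_map_eq_zero]
    intro x hx
    obtain ⟨r, rfl⟩ := Ideal.Quotient.mk_surjective x
    have : Ideal.Quotient.mk q.asIdeal (algebraMap R R' r) = 0 := hx
    rw [Ideal.Quotient.eq_zero_iff_mem] at this ⊢
    exact this
  haveI : IsNoetherian A (R' ⧸ q.asIdeal) := isNoetherian_of_isNoetherianRing_of_finite A _
  exact Module.Finite.of_injective ψ.toLinearMap hψ

lemma isAdicComplete_quot_q' (q : PrimeSpectrum R') (hq : RC (I.map (algebraMap A R')) q)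
    (hp : RC I (PrimeSpectrum.comap (algebraMap A R') q)) :
    IsAdicComplete (J) (R ⧸ (PrimeSpectrum.comap (algebraMap R R') q).asIdeal) := by
  haveI := finite_quot_q' I R q hq hp
  rw [IsAdicComplete.map_algebraMap_iff]
  exact Groth.Agent.S3866.result A I _

lemma exists_sub_mem_q' (q : PrimeSpectrum R') (hq : RC (I.map (algebraMap A R')) q)
    (hp : RC I (PrimeSpectrum.comap (algebraMap A R') q)) (b : R') :
    ∃ r : R, b - algebraMap R R' r ∈ ((PrimeSpectrum.comap (algebraMap R R') q).asIdeal).map (algebraMap R R') := by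
  haveI := isAdicComplete_quot_q' I R q hq hp
  exact exists_sub_mem_map (J) _ b

lemma map_comap_eq (q : PrimeSpectrum R') (hq : RC (I.map (algebraMap A R')) q)
    (hp : RC I (PrimeSpectrum.comap (algebraMap A R') q)) : ((PrimeSpectrum.comap (algebraMap R R') q).asIdeal).map (algebraMap R R') = q.asIdeal := by
  apply le_antisymm
  · exact Ideal.map_comap_le
  · intro b hb
    obtain ⟨r, hr⟩ := exists_sub_mem_q' I R q hq hp b
    have h1 : b - algebraMap R R' r ∈ q.asIdeal := Ideal.map_comap_le hr
    have h2 : algebraMap R R' r ∈ q.asIdeal := by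
      have := q.asIdeal.sub_mem hb h1
      rwa [sub_sub_cancel] at this
    have h3 : algebraMap R R' r ∈ ((PrimeSpectrum.comap (algebraMap R R') q).asIdeal).map (algebraMap R R') :=
      Ideal.mem_map_of_mem _ h2
    have := Ideal.add_mem _ hr h3
    rwa [sub_add_cancel] at this

lemma exists_sub_mem_pow (q : PrimeSpectrum R') (hq : RC (I.map (algebraMap A R')) q)
    (hp : RC I (PrimeSpectrum.comap (algebraMap A R') q)) (m : ℕ) (b : R') :
    ∃ r : R, b - algebraMap R R' r ∈ q.asIdeal ^ m := by
  have hF := map_comap_eq I R q hq hp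
  induction m generalizing b with
  | zero => exact ⟨0, by rw [pow_zero, Ideal.one_eq_top]; trivial⟩
  | succ m ih =>
    obtain ⟨r, hr⟩ := ih b
    have key : ∀ c ∈ ((PrimeSpectrum.comap (algebraMap R R') q).asIdeal ^ m).map (algebraMap R R'),
        ∃ t ∈ (PrimeSpectrum.comap (algebraMap R R') q).asIdeal ^ m,
          c - algebraMap R R' t ∈ q.asIdeal ^ (m + 1) := by
      intro c hc
      refine Submodule.span_induction (p := fun c _ =>
        ∃ t ∈ (PrimeSpectrum.comap (algebraMap R R') q).asIdeal ^ m,
          c - algebraMap R R' t ∈ q.asIdeal ^ (m + 1)) ?_ ?_ ?_ ?_ hc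
      · rintro _ ⟨t, ht, rfl⟩
        exact ⟨t, ht, by rw [sub_self]; exact Ideal.zero_mem _⟩
      · exact ⟨0, Ideal.zero_mem _, by rw [map_zero, sub_self]; exact Ideal.zero_mem _⟩
      · rintro c₁ c₂ - - ⟨t₁, ht₁, h₁⟩ ⟨t₂, ht₂, h₂⟩
        refine ⟨t₁ + t₂, Ideal.add_mem _ ht₁ ht₂, ?_⟩
        have : c₁ + c₂ - algebraMap R R' (t₁ + t₂) =
            (c₁ - algebraMap R R' t₁) + (c₂ - algebraMap R R' t₂) := by
          rw [map_add]; ring
        rw [this]
        exact Ideal.add_mem _ h₁ h₂
      · rintro b' c' - ⟨t', ht', h'⟩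
        obtain ⟨r', hr'⟩ := exists_sub_mem_q' I R q hq hp b'
        rw [hF] at hr'
        refine ⟨r' * t', Ideal.mul_mem_left _ _ ht', ?_⟩
        have ht'q : algebraMap R R' t' ∈ q.asIdeal ^ m := by
          rw [← hF, ← Ideal.map_pow]
          exact Ideal.mem_map_of_mem _ ht'
        have : b' • c' - algebraMap R R' (r' * t') =
            b' * (c' - algebraMap R R' t') + (b' - algebraMap R R' r') * algebraMap R R' t' := by
          rw [map_mul, smul_eq_mul]; ring
        rw [this]
        refine Ideal.add_mem _ (Ideal.mul_mem_left _ _ h') ?_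
        rw [pow_succ']
        exact Ideal.mul_mem_mul hr' ht'q
    have hr' : b - algebraMap R R' r ∈
        ((PrimeSpectrum.comap (algebraMap R R') q).asIdeal ^ m).map (algebraMap R R') := by
      rw [Ideal.map_pow, hF]
      exact hr
    obtain ⟨t, -, ht⟩ := key _ hr'
    refine ⟨r + t, ?_⟩
    have : b - algebraMap R R' (r + t) = b - algebraMap R R' r - algebraMap R R' t := by
      rw [map_add]; ring
    rw [this]
    exact ht

/-- surjectivity modulo powers of the maximal ideals -/
theorem surj_mod_pow (q : PrimeSpectrum R') (hq : RC (I.map (algebraMap A R')) q)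
    (hp : RC I (PrimeSpectrum.comap (algebraMap A R') q)) (m : ℕ) (hm : 1 ≤ m)
    (y : Localization.AtPrime q.asIdeal) :
    ∃ x : Localization.AtPrime (PrimeSpectrum.comap (algebraMap R R') q).asIdeal,
      y - Localization.localRingHom (PrimeSpectrum.comap (algebraMap R R') q).asIdeal q.asIdeal
        (algebraMap R R') rfl x ∈ IsLocalRing.maximalIdeal (Localization.AtPrime q.asIdeal) ^ m := by
  obtain ⟨b, s, rfl⟩ := IsLocalization.exists_mk'_eq q.asIdeal.primeCompl y
  obtain ⟨rs, hrs⟩ := exists_sub_mem_pow I R q hq hp m (s : R')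
  obtain ⟨rb, hrb⟩ := exists_sub_mem_pow I R q hq hp m b
  have hmq : q.asIdeal ^ m ≤ q.asIdeal := Ideal.pow_le_self (by omega)
  have hrsq : rs ∈ (PrimeSpectrum.comap (algebraMap R R') q).asIdeal.primeCompl := by
    intro h
    have h1 : algebraMap R R' rs ∈ q.asIdeal := h
    have := Ideal.add_mem _ (hmq hrs) h1
    rw [sub_add_cancel] at this
    exact s.2 this
  refine ⟨IsLocalization.mk' _ rb ⟨rs, hrsq⟩, ?_⟩
  have hloc := Localization.localRingHom_mk' (PrimeSpectrum.comap (algebraMap R R') q).asIdeal q.asIdeal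
    (algebraMap R R') rfl rb ⟨rs, hrsq⟩
  rw [hloc, ← Localization.AtPrime.map_eq_maximalIdeal, ← Ideal.map_pow]
  have hu : IsUnit (algebraMap R' (Localization.AtPrime q.asIdeal) ((s : R') * algebraMap R R' rs)) := by
    have hmem : (s : R') * algebraMap R R' rs ∈ q.asIdeal.primeCompl :=
      q.asIdeal.primeCompl.mul_mem s.2 hrsq
    exact IsLocalization.map_units (M := q.asIdeal.primeCompl) _ ⟨_, hmem⟩
  rw [← Ideal.unit_mul_mem_iff_mem _ hu]
  have hrsq' : algebraMap R R' rs ∈ q.asIdeal.primeCompl := hrsq
  have hcalc : algebraMap R' (Localization.AtPrime q.asIdeal) ((s : R') * algebraMap R R' rs) *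
      (IsLocalization.mk' (Localization.AtPrime q.asIdeal) b s -
        IsLocalization.mk' (Localization.AtPrime q.asIdeal) (algebraMap R R' rb)
          (⟨algebraMap R R' rs, hrsq'⟩ : q.asIdeal.primeCompl)) =
      algebraMap R' (Localization.AtPrime q.asIdeal)
        (b * algebraMap R R' rs - (s : R') * algebraMap R R' rb) := by
    rw [mul_sub, map_mul, map_sub, map_mul, map_mul]
    congr 1
    · rw [mul_comm (algebraMap R' (Localization.AtPrime q.asIdeal) (s : R')), mul_assoc,
        IsLocalization.mk'_spec'_mk, mul_comm]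
    · rw [mul_assoc, IsLocalization.mk'_spec'_mk]
  change algebraMap R' (Localization.AtPrime q.asIdeal) ((s : R') * algebraMap R R' rs) *
      (IsLocalization.mk' (Localization.AtPrime q.asIdeal) b s -
        IsLocalization.mk' (Localization.AtPrime q.asIdeal) (algebraMap R R' rb)
          (⟨algebraMap R R' rs, hrsq'⟩ : q.asIdeal.primeCompl)) ∈ _
  rw [hcalc]
  apply Ideal.mem_map_of_mem
  have : b * algebraMap R R' rs - (s : R') * algebraMap R R' rb =
      (s : R') * (b - algebraMap R R' rb) - b * ((s : R') - algebraMap R R' rs) := by ring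
  rw [this]
  exact Ideal.sub_mem _ (Ideal.mul_mem_left _ _ hrb) (Ideal.mul_mem_left _ _ hrs)

/-- injectivity modulo powers of the maximal ideals -/
theorem inj_mod_pow (q : PrimeSpectrum R') (hq : RC (I.map (algebraMap A R')) q)
    (hp : RC I (PrimeSpectrum.comap (algebraMap A R') q)) (m : ℕ)
    (x : Localization.AtPrime (PrimeSpectrum.comap (algebraMap R R') q).asIdeal)
    (hx : Localization.localRingHom (PrimeSpectrum.comap (algebraMap R R') q).asIdeal q.asIdeal
        (algebraMap R R') rfl x ∈ IsLocalRing.maximalIdeal (Localization.AtPrime q.asIdeal) ^ m) :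
    x ∈ IsLocalRing.maximalIdeal
      (Localization.AtPrime (PrimeSpectrum.comap (algebraMap R R') q).asIdeal) ^ m := by
  have hF := map_comap_eq I R q hq hp
  haveI hlo : q.asIdeal.LiesOver (PrimeSpectrum.comap (algebraMap R R') q).asIdeal := ⟨rfl⟩
  letI := Localization.AtPrime.algebraOfLiesOver
    (PrimeSpectrum.comap (algebraMap R R') q).asIdeal q.asIdeal
  haveI : IsLocalHom (algebraMap
      (Localization.AtPrime (PrimeSpectrum.comap (algebraMap R R') q).asIdeal)
      (Localization.AtPrime q.asIdeal)) :=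
    Localization.isLocalHom_localRingHom _ _ _ _
  haveI : Module.FaithfullyFlat
      (Localization.AtPrime (PrimeSpectrum.comap (algebraMap R R') q).asIdeal)
      (Localization.AtPrime q.asIdeal) := Module.FaithfullyFlat.of_flat_of_isLocalHom
  have hmap : (IsLocalRing.maximalIdeal
      (Localization.AtPrime (PrimeSpectrum.comap (algebraMap R R') q).asIdeal)).map
      (algebraMap (Localization.AtPrime (PrimeSpectrum.comap (algebraMap R R') q).asIdeal)
        (Localization.AtPrime q.asIdeal)) =
      IsLocalRing.maximalIdeal (Localization.AtPrime q.asIdeal) := by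
    rw [← Localization.AtPrime.map_eq_maximalIdeal, ← Localization.AtPrime.map_eq_maximalIdeal,
      Ideal.map_map, ← IsScalarTower.algebraMap_eq,
      IsScalarTower.algebraMap_eq R R' (Localization.AtPrime q.asIdeal), ← Ideal.map_map, hF]
  have hcm := Ideal.comap_map_eq_self_of_faithfullyFlat
    (B := Localization.AtPrime q.asIdeal)
    (IsLocalRing.maximalIdeal
      (Localization.AtPrime (PrimeSpectrum.comap (algebraMap R R') q).asIdeal) ^ m)
  rw [← hcm, Ideal.mem_comap, Ideal.map_pow, hmap]
  exact hx

end main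

end Groth.Agent.Lib.Helper16.RigCl5
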