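import Mathlib
import Groth.Agent.Lib.Helper16.RigCl1
import Groth.Agent.Lib.Helper16.RigCl2
import Groth.Agent.Lib.Helper16.RigCl3
import Groth.Agent.Lib.Helper16.RigCl5
import Groth.Agent.Lib.Helper2.LocalCrit
import Groth.Agent.Lib.Helper2.FlatSquare

set_option autoImplicit false
universe u

namespace Groth.Agent.Lib.Helper16.RigCl6

open Groth.Agent.Lib.Helper16.RigCl TensorProduct

section rel

variable {A : Type u} [CommRing A] [IsNoetherianRing A] (I : Ideal A) [IsAdicComplete I A]
  {B : Type u} [CommRing B] [Algebra A B] [IsNoetherianRing B]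
  [IsAdicComplete (I.map (algebraMap A B)) B]

omit [IsNoetherianRing A] [IsAdicComplete I A] in
/-- Residue fields at maximal ideals are finite over `A` when `A/I` is Jacobson. -/
lemma finite_quotient_of_isJacobson
    (hft : Algebra.FiniteType A (B ⧸ (I.map (algebraMap A B))))
    (hJ : IsJacobsonRing (A ⧸ I)) (m : Ideal B) [hm : m.IsMaximal] :
    Module.Finite A (B ⧸ m) := by
  have hIm : I.map (algebraMap A B) ≤ m := le_of_isMaximal (I.map (algebraMap A B)) m
  have hft' : Algebra.FiniteType A (B ⧸ m) :=
    Algebra.FiniteType.of_surjective (Ideal.Quotient.factorₐ A hIm)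
      (Ideal.Quotient.factor_surjective hIm)
  letI : Field (B ⧸ m) := Ideal.Quotient.field m
  have hker : ∀ a ∈ I, algebraMap A (B ⧸ m) a = 0 := by
    intro a ha
    rw [IsScalarTower.algebraMap_apply A B (B ⧸ m), Ideal.Quotient.algebraMap_eq,
      Ideal.Quotient.eq_zero_iff_mem]
    exact hIm (Ideal.mem_map_of_mem _ ha)
  let φ : A ⧸ I →+* B ⧸ m := Ideal.Quotient.lift I (algebraMap A (B ⧸ m)) hker
  have hφ : φ.comp (Ideal.Quotient.mk I) = algebraMap A (B ⧸ m) := Ideal.Quotient.lift_comp_mk _ _ _
  have h1 : φ.FiniteType := by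
    apply RingHom.FiniteType.of_comp_finiteType (f := Ideal.Quotient.mk I)
    rw [hφ]
    exact RingHom.finiteType_algebraMap.mpr hft'
  have h2 : φ.Finite := RingHom.finite_iff_finiteType_of_isJacobsonRing.mpr h1
  have h3 : (algebraMap A (B ⧸ m)).Finite := by
    rw [← hφ]
    exact h2.comp (RingHom.Finite.of_surjective _ Ideal.Quotient.mk_surjective)
  exact RingHom.finite_algebraMap.mp h3

omit [IsAdicComplete I A] [IsNoetherianRing B] [IsAdicComplete (I.map (algebraMap A B)) B] in
/-- converse to `three_imp_two`: if `B/q` is finite over `A` and `q ∩ A` is rig-closed then `q`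
is rig-closed. -/
lemma rc_of_finite (q : PrimeSpectrum B) (hfin : Module.Finite A (B ⧸ q.asIdeal))
    (hp : RC I (PrimeSpectrum.comap (algebraMap A B) q)) : RC (I.map (algebraMap A B)) q := by
  refine ⟨fun h => hp.1 (Ideal.map_le_iff_le_comap.mp h), ?_⟩
  intro y hy hIy
  have hqy : q.asIdeal ≤ y.asIdeal := hy
  have hy' : ¬ I ≤ (PrimeSpectrum.comap (algebraMap A B) y).asIdeal :=
    fun h => hIy (Ideal.map_le_iff_le_comap.mpr h)
  have hle : PrimeSpectrum.comap (algebraMap A B) q ≤ PrimeSpectrum.comap (algebraMap A B) y := by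
    intro a ha
    exact hqy ha
  have heq := hp.2 _ hle hy'
  -- work in `B/q`
  have hkery : RingHom.ker (Ideal.Quotient.mk q.asIdeal) ≤ y.asIdeal := by
    rw [Ideal.mk_ker]; exact hqy
  haveI hyprime : (y.asIdeal.map (Ideal.Quotient.mk q.asIdeal)).IsPrime :=
    Ideal.map_isPrime_of_surjective Ideal.Quotient.mk_surjective hkery
  haveI : IsDomain (B ⧸ q.asIdeal) := Ideal.Quotient.isDomain q.asIdeal
  haveI : (⊥ : Ideal (B ⧸ q.asIdeal)).IsPrime := Ideal.isPrime_bot
  have hunder : Ideal.under A (⊥ : Ideal (B ⧸ q.asIdeal)) =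
      Ideal.under A (y.asIdeal.map (Ideal.Quotient.mk q.asIdeal)) := by
    ext a
    simp only [Ideal.under_def, Ideal.mem_comap, Ideal.mem_bot]
    rw [IsScalarTower.algebraMap_apply A B (B ⧸ q.asIdeal), Ideal.Quotient.algebraMap_eq]
    constructor
    · intro h; rw [h]; exact Ideal.zero_mem _
    · intro h
      have h1 : algebraMap A B a ∈ (y.asIdeal.map (Ideal.Quotient.mk q.asIdeal)).comap
          (Ideal.Quotient.mk q.asIdeal) := h
      rw [Ideal.comap_map_of_surjective' _ Ideal.Quotient.mk_surjective,
        sup_eq_left.mpr hkery] at h1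
      have h2 : a ∈ (PrimeSpectrum.comap (algebraMap A B) y).asIdeal := h1
      rw [heq] at h2
      exact Ideal.Quotient.eq_zero_iff_mem.mpr h2
  have hbot := Algebra.QuasiFinite.eq_of_le_of_under_eq (R := A)
    (⊥ : Ideal (B ⧸ q.asIdeal)) (y.asIdeal.map (Ideal.Quotient.mk q.asIdeal)) bot_le hunder
  apply PrimeSpectrum.ext
  apply le_antisymm _ hqy
  intro b hb
  have : Ideal.Quotient.mk q.asIdeal b ∈ y.asIdeal.map (Ideal.Quotient.mk q.asIdeal) :=
    Ideal.mem_map_of_mem _ hb
  rw [← hbot] at this
  exact Ideal.Quotient.eq_zero_iff_mem.mp this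

end rel

section cloc

variable {A : Type u} [CommRing A] (I : Ideal A)
  {B : Type u} [CommRing B] [Algebra A B] [IsNoetherianRing B] (g : B)

local notation "B₁" => Localization.Away g
local notation "B'" => AdicCompletion (Ideal.map
  (algebraMap B (Localization.Away g)) (Ideal.map (algebraMap A B) I)) (Localization.Away g)

omit [IsNoetherianRing B] in
lemma map_eq' : I.map (algebraMap A B') =
    ((I.map (algebraMap A B)).map (algebraMap B B₁)).map (algebraMap B₁ B') := by
  refine Eq.trans ?_ (Ideal.map_map _ _).symm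
  refine Eq.trans ?_ (Ideal.map_map _ _).symm
  refine congrArg (fun φ => Ideal.map φ I) ?_
  refine RingHom.ext fun a => ?_
  rw [IsScalarTower.algebraMap_apply A B B', IsScalarTower.algebraMap_apply B B₁ B']
  rfl

lemma isNoetherianRing' : IsNoetherianRing B' :=
  Groth.Agent.Lib.helper19.isNoetherianRing_adicCompletion _ _

lemma isAdicComplete' : IsAdicComplete (I.map (algebraMap A B')) B' := by
  have h0 : IsAdicComplete (((I.map (algebraMap A B)).map (algebraMap B B₁)).map
      (algebraMap B₁ B')) B' :=
    (IsAdicComplete.map_algebraMap_iff _ _).mpr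
      (AdicCompletion.isAdicComplete (IsNoetherian.noetherian _))
  exact (congrArg (fun K : Ideal B' => IsAdicComplete K B') (map_eq' I g)).mpr h0

omit [IsNoetherianRing B] in
lemma isUnit_g : IsUnit (algebraMap B B' g) := by
  rw [IsScalarTower.algebraMap_apply B B₁ B']
  exact (IsLocalization.Away.algebraMap_isUnit g).map _

lemma flat' : Module.Flat B B' := Module.Flat.trans B B₁ B'

lemma finiteType' (hft : Algebra.FiniteType A (B ⧸ (I.map (algebraMap A B)))) :
    Algebra.FiniteType A (B' ⧸ I.map (algebraMap A B')) := by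
  set K : Ideal B' := I.map (algebraMap A B') with hK
  let c₀ : B →ₐ[A] B' ⧸ K := (Ideal.Quotient.mkₐ A K).comp (IsScalarTower.toAlgHom A B B')
  have hc₀ : ∀ x ∈ I.map (algebraMap A B), c₀ x = 0 := by
    intro x hx
    change Ideal.Quotient.mk K (algebraMap B B' x) = 0
    rw [Ideal.Quotient.eq_zero_iff_mem]
    have : algebraMap B B' x ∈ (I.map (algebraMap A B)).map (algebraMap B B') :=
      Ideal.mem_map_of_mem _ hx
    have e : (I.map (algebraMap A B)).map (algebraMap B B') = K :=
      (Ideal.map_map _ _).trans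
        (congrArg (fun φ => Ideal.map φ I) (IsScalarTower.algebraMap_eq A B B').symm)
    rw [← e]
    exact this
  let c : (B ⧸ I.map (algebraMap A B)) →ₐ[A] B' ⧸ K :=
    Ideal.Quotient.liftₐ (I.map (algebraMap A B)) c₀ hc₀
  have hu : IsUnit (c₀ g) := (isUnit_g I g).map (Ideal.Quotient.mk K)
  obtain ⟨v, hv⟩ := hu.exists_right_inv
  let e : Polynomial (B ⧸ I.map (algebraMap A B)) →ₐ[A] B' ⧸ K :=
    Polynomial.aevalTower c v
  have he : Function.Surjective e := by
    intro z
    obtain ⟨y, rfl⟩ := Ideal.Quotient.mk_surjective z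
    obtain ⟨b₁, hb₁⟩ := Groth.Agent.Lib.Helper16.RigCl5.exists_sub_mem_map_self
      ((I.map (algebraMap A B)).map (algebraMap B B₁)) y
    rw [← map_eq' I g] at hb₁
    obtain ⟨b, ⟨_, ⟨k, rfl⟩⟩, rfl⟩ := IsLocalization.exists_mk'_eq (Submonoid.powers g) b₁
    refine ⟨Polynomial.C (Ideal.Quotient.mk _ b) * Polynomial.X ^ k, ?_⟩
    have h1 : e (Polynomial.C (Ideal.Quotient.mk _ b) * Polynomial.X ^ k) = c₀ b * v ^ k := by
      rw [map_mul, map_pow, Polynomial.aevalTower_C, Polynomial.aevalTower_X]
      rfl
    rw [h1]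
    have h2 : Ideal.Quotient.mk K y = Ideal.Quotient.mk K (algebraMap B₁ B'
        (IsLocalization.mk' B₁ b (⟨g ^ k, ⟨k, rfl⟩⟩ : Submonoid.powers g))) :=
      (Ideal.Quotient.mk_eq_mk_iff_sub_mem _ _).mpr hb₁
    rw [h2]
    -- multiply by the unit `c₀ g ^ k`
    have hunit : IsUnit (c₀ g ^ k) := hu.pow k
    apply hunit.mul_right_cancel
    rw [mul_assoc, ← mul_pow, mul_comm v, hv, one_pow, mul_one]
    change Ideal.Quotient.mk K (algebraMap B B' b) =
      Ideal.Quotient.mk K _ * (Ideal.Quotient.mk K (algebraMap B B' g)) ^ k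
    rw [← map_pow, ← map_mul, ← map_pow, IsScalarTower.algebraMap_apply B B₁ B' (g ^ k),
      ← map_mul]
    have := IsLocalization.mk'_spec B₁ b (⟨g ^ k, ⟨k, rfl⟩⟩ : Submonoid.powers g)
    rw [this, ← IsScalarTower.algebraMap_apply B B₁ B']
  exact Algebra.FiniteType.of_surjective e he

end cloc

section flatquot

variable {A A' : Type*} [CommRing A] [CommRing A'] [Algebra A A'] (p : Ideal A)
  (N : Type*) [AddCommGroup N] [Module A N] [Module A' N] [IsScalarTower A A' N]

lemma tmul_smul_eq_zero (d : A') (hd : d ∈ p.map (algebraMap A A'))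
    (m : A' ⧸ p.map (algebraMap A A')) (n : N) : m ⊗ₜ[A] (d • n) = 0 := by
  revert n
  refine Submodule.span_induction (p := fun d _ => ∀ n : N, m ⊗ₜ[A] (d • n) = 0) ?_ ?_ ?_ ?_ hd
  · rintro _ ⟨π, hπ, rfl⟩ n
    rw [algebraMap_smul, ← TensorProduct.smul_tmul]
    have : π • m = 0 := by
      rw [Algebra.smul_def, IsScalarTower.algebraMap_apply A A' (A' ⧸ p.map (algebraMap A A')),
        Ideal.Quotient.algebraMap_eq,
        Ideal.Quotient.eq_zero_iff_mem.mpr (Ideal.mem_map_of_mem _ hπ), zero_mul]
    rw [this, TensorProduct.zero_tmul]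
  · intro n; rw [zero_smul, TensorProduct.tmul_zero]
  · intro x y _ _ hx hy n
    rw [add_smul, TensorProduct.tmul_add, hx, hy, add_zero]
  · intro a x _ hx n
    rw [smul_eq_mul, mul_comm, mul_smul]
    exact hx _

lemma compatibleSMul
    (hsurj : Function.Surjective (algebraMap A (A' ⧸ p.map (algebraMap A A')))) :
    TensorProduct.CompatibleSMul A A' (A' ⧸ p.map (algebraMap A A')) N := by
  refine ⟨fun r m n => ?_⟩
  obtain ⟨c, hc⟩ := hsurj (Ideal.Quotient.mk _ r)
  have hd : r - algebraMap A A' c ∈ p.map (algebraMap A A') := by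
    rw [← Ideal.Quotient.eq, ← hc, IsScalarTower.algebraMap_apply A A' (A' ⧸ p.map (algebraMap A A')),
      Ideal.Quotient.algebraMap_eq]
  have h1 : r • m = c • m := by
    rw [Algebra.smul_def, Algebra.smul_def, Ideal.Quotient.algebraMap_eq, hc]
  have h2 : r • n = c • n + (r - algebraMap A A' c) • n := by
    rw [sub_smul, algebraMap_smul]; abel
  rw [h1, h2, TensorProduct.tmul_add, tmul_smul_eq_zero p N _ hd, add_zero, TensorProduct.smul_tmul]

lemma flat_quot_tensor [Module.Flat A N]
    (hsurj : Function.Surjective (algebraMap A (A' ⧸ p.map (algebraMap A A')))) :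
    Module.Flat (A' ⧸ p.map (algebraMap A A')) ((A' ⧸ p.map (algebraMap A A')) ⊗[A'] N) := by
  haveI := compatibleSMul p N hsurj
  exact Module.Flat.of_linearEquiv
    (TensorProduct.equivOfCompatibleSMul A A' (A' ⧸ p.map (algebraMap A A'))
      (A' ⧸ p.map (algebraMap A A')) N)

end flatquot

section main

variable {A : Type u} [CommRing A] [IsNoetherianRing A] (I : Ideal A) [IsAdicComplete I A]
  {B : Type u} [CommRing B] [Algebra A B] [IsNoetherianRing B]
  [IsAdicComplete (I.map (algebraMap A B)) B]

theorem main (hft : Algebra.FiniteType A (B ⧸ (I.map (algebraMap A B))))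
    (hJ : IsJacobsonRing (A ⧸ I))
    (hnaive : ∀ q : PrimeSpectrum B, RC (I.map (algebraMap A B)) q →
      (algebraMap A (Localization.AtPrime q.asIdeal)).Flat)
    (f : A)
    (ψ : (AdicCompletion (I.map (algebraMap A (Localization.Away f))) (Localization.Away f)) →+*
      (AdicCompletion ((I.map (algebraMap A B)).map
        (algebraMap B (Localization.Away (algebraMap A B f))))
        (Localization.Away (algebraMap A B f))))
    (hψ : ψ.comp (algebraMap (Localization.Away f)
        (AdicCompletion (I.map (algebraMap A (Localization.Away f))) (Localization.Away f))) =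
      (algebraMap (Localization.Away (algebraMap A B f))
        (AdicCompletion ((I.map (algebraMap A B)).map
          (algebraMap B (Localization.Away (algebraMap A B f))))
          (Localization.Away (algebraMap A B f)))).comp
        (Localization.awayMap (algebraMap A B) f))
    (q' : PrimeSpectrum (AdicCompletion ((I.map (algebraMap A B)).map
        (algebraMap B (Localization.Away (algebraMap A B f))))
        (Localization.Away (algebraMap A B f))))
    (hq' : RC ((((I.map (algebraMap A B))).map
        (algebraMap B (Localization.Away (algebraMap A B f)))).map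
        (algebraMap (Localization.Away (algebraMap A B f))
          (AdicCompletion ((I.map (algebraMap A B)).map
            (algebraMap B (Localization.Away (algebraMap A B f))))
            (Localization.Away (algebraMap A B f))))) q') :
    ((algebraMap (AdicCompletion ((I.map (algebraMap A B)).map
        (algebraMap B (Localization.Away (algebraMap A B f))))
        (Localization.Away (algebraMap A B f)))
      (Localization.AtPrime q'.asIdeal)).comp ψ).Flat := by
  -- abbreviations
  let A' := AdicCompletion (I.map (algebraMap A (Localization.Away f))) (Localization.Away f)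
  let B' := AdicCompletion ((I.map (algebraMap A B)).map
        (algebraMap B (Localization.Away (algebraMap A B f))))
        (Localization.Away (algebraMap A B f))
  let N := Localization.AtPrime q'.asIdeal
  haveI hB'N : IsNoetherianRing B' := isNoetherianRing' I (algebraMap A B f)
  haveI hA'N : IsNoetherianRing A' := Groth.Agent.Lib.helper19.isNoetherianRing_adicCompletion _ _
  haveI hB'c : IsAdicComplete (I.map (algebraMap A B')) B' := isAdicComplete' I (algebraMap A B f)
  have hft' : Algebra.FiniteType A (B' ⧸ I.map (algebraMap A B')) :=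
    finiteType' I (algebraMap A B f) hft
  have hq'' : RC (I.map (algebraMap A B')) q' :=
    (congrArg (fun K : Ideal B' => RC K q') (map_eq' I (algebraMap A B f))).mpr hq'
  have hcompat := Groth.Agent.Lib.Helper16.RigCl3.compat I f ψ hψ
  -- (1) finiteness
  have h1 : ∀ m' : Ideal B', m'.IsMaximal → q'.asIdeal ≤ m' → Module.Finite A (B' ⧸ m') :=
    fun m' hm' _ => finite_quotient_of_isJacobson I hft' hJ m'
  have hfin' : Module.Finite A (B' ⧸ q'.asIdeal) := one_imp_three I q' hq'' h1
  have hp : RC I (PrimeSpectrum.comap (algebraMap A B') q') := three_imp_two I q' hq'' hfin'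
  -- (3) the prime `q`
  let q : PrimeSpectrum B := PrimeSpectrum.comap (algebraMap B B') q'
  have hpq : PrimeSpectrum.comap (algebraMap A B) q = PrimeSpectrum.comap (algebraMap A B') q' := by
    apply PrimeSpectrum.ext
    ext a
    change algebraMap B B' (algebraMap A B a) ∈ q'.asIdeal ↔ algebraMap A B' a ∈ q'.asIdeal
    rw [← IsScalarTower.algebraMap_apply A B B']
  have hfinq : Module.Finite A (B ⧸ q.asIdeal) := by
    let θ : (B ⧸ q.asIdeal) →ₐ[A] (B' ⧸ q'.asIdeal) :=
      Ideal.quotientMapₐ q'.asIdeal (IsScalarTower.toAlgHom A B B') (le_refl _)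
    have hθ : Function.Injective θ := by
      rw [injective_iff_map_eq_zero]
      intro x hx
      obtain ⟨b, rfl⟩ := Ideal.Quotient.mk_surjective x
      have : Ideal.Quotient.mk q'.asIdeal (algebraMap B B' b) = 0 := hx
      rw [Ideal.Quotient.eq_zero_iff_mem] at this ⊢
      exact this
    haveI : IsNoetherian A (B' ⧸ q'.asIdeal) := isNoetherian_of_isNoetherianRing_of_finite A _
    exact Module.Finite.of_injective θ.toLinearMap hθ
  have hq : RC (I.map (algebraMap A B)) q := rc_of_finite I q hfinq (hpq ▸ hp)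
  have hflatq := hnaive q hq
  rw [RingHom.flat_algebraMap_iff] at hflatq
  -- (5) `N` is flat over `A`
  haveI : Module.Flat B B' := flat' I (algebraMap A B f)
  haveI : q'.asIdeal.LiesOver q.asIdeal := ⟨rfl⟩
  letI := Localization.AtPrime.algebraOfLiesOver q.asIdeal q'.asIdeal
  haveI hNflat : Module.Flat A N := Module.Flat.trans A (Localization.AtPrime q.asIdeal) N
  -- (6) the `A'`-algebra structure on `N`
  letI algA'N : Algebra A' N := ((algebraMap B' N).comp ψ).toAlgebra
  haveI : IsScalarTower A A' N := IsScalarTower.of_algebraMap_eq (fun a => by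
    change algebraMap A N a = algebraMap B' N (ψ (algebraMap A A' a))
    rw [hcompat, ← IsScalarTower.algebraMap_apply A B B', ← IsScalarTower.algebraMap_apply A B' N])
  change Module.Flat A' N
  -- (7) `f` is a unit modulo `p`
  obtain ⟨m', hm', hqm'⟩ := Ideal.exists_le_maximal q'.asIdeal q'.isPrime.ne_top
  haveI := h1 m' hm' hqm'
  letI : Field (B' ⧸ m') := Ideal.Quotient.field m'
  have hnmax : (m'.comap (algebraMap A B')).IsMaximal := by
    have hint : (algebraMap A (B' ⧸ m')).IsIntegral :=
      (RingHom.finite_algebraMap.mpr inferInstance).to_isIntegral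
    have := Ideal.isMaximal_comap_of_isIntegral_of_isMaximal' (algebraMap A (B' ⧸ m')) hint ⊥
    have e : Ideal.comap (algebraMap A (B' ⧸ m')) ⊥ = m'.comap (algebraMap A B') := by
      ext a
      rw [Ideal.mem_comap, Ideal.mem_comap, Ideal.mem_bot,
        IsScalarTower.algebraMap_apply A B' (B' ⧸ m'), Ideal.Quotient.algebraMap_eq,
        Ideal.Quotient.eq_zero_iff_mem]
    rwa [e] at this
  have hp𝔫 : (PrimeSpectrum.comap (algebraMap A B') q').asIdeal ≤ m'.comap (algebraMap A B') :=
    fun a ha => hqm' ha
  have hf𝔫 : f ∉ m'.comap (algebraMap A B') := by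
    intro h
    have h' : algebraMap B B' (algebraMap A B f) ∈ m' := by
      rw [← IsScalarTower.algebraMap_apply A B B']; exact h
    exact hm'.ne_top (Ideal.eq_top_of_isUnit_mem _ h' (isUnit_g I (algebraMap A B f)))
  have hunit : IsUnit (Ideal.Quotient.mk (PrimeSpectrum.comap (algebraMap A B') q').asIdeal f) :=
    Groth.Agent.Lib.Helper16.RigCl3.isUnit_mk_of_notMem I hp _ hp𝔫 f hf𝔫
  -- (8) surjectivity of `A → A'/pA'`
  set p : Ideal A := (PrimeSpectrum.comap (algebraMap A B') q').asIdeal with hpdef
  have hbij := Groth.Agent.Lib.Helper16.RigCl2.quotientMap_bijective I p f hunit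
  have hsurj : Function.Surjective (algebraMap A (A' ⧸ p.map (algebraMap A A'))) := by
    intro z
    obtain ⟨x, hx⟩ := hbij.2 z
    obtain ⟨a, rfl⟩ := Ideal.Quotient.mk_surjective x
    refine ⟨a, ?_⟩
    rw [IsScalarTower.algebraMap_apply A A' (A' ⧸ p.map (algebraMap A A')),
      Ideal.Quotient.algebraMap_eq]
    exact hx
  -- (9) local criterion
  haveI := flat_quot_tensor p N hsurj
  have hJac : (p.map (algebraMap A A')).map (algebraMap A' N) ≤ Ideal.jacobson ⊥ := by
    rw [IsLocalRing.jacobson_eq_maximalIdeal ⊥ bot_ne_top]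
    refine Ideal.map_le_iff_le_comap.mpr (Ideal.map_le_iff_le_comap.mpr fun a ha => ?_)
    change algebraMap B' N (ψ (algebraMap A A' a)) ∈ IsLocalRing.maximalIdeal N
    rw [hcompat, ← IsScalarTower.algebraMap_apply A B B',
      ← Localization.AtPrime.map_eq_maximalIdeal]
    exact Ideal.mem_map_of_mem _ ha
  exact Groth.Agent.Lib.Helper2.LocalCrit.flat_of_injective_of_flat_quotient (R := A') (S := N)
    (M := N) (p.map (algebraMap A A')) hJac
    (Groth.Agent.Lib.Helper2.FlatSquare.lTensor_map_subtype_injective p)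

end main

end Groth.Agent.Lib.Helper16.RigCl6
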