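import Mathlib
import Groth.Agent.Lib.Helper16.RigCl1
import Groth.Agent.Lib.Helper12.FComplA
import Groth.Agent.Lib.helper19.CompletionNoetherian

set_option autoImplicit false
universe u

namespace Groth.Agent.Lib.Helper16.RigCl7

open Groth.Agent.Lib.Helper16.RigCl TensorProduct

section uniq

variable {R : Type u} [CommRing R] (J : Ideal R) {T : Type u} [CommRing T] (K : Ideal T)
  [IsHausdorff K T]

/-- A ring map out of an adic completion into a separated ring is determined by its restriction
to `R` (automatic continuity when `J` is finitely generated). -/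
lemma ringHom_ext (fg : J.FG) (ψ₁ ψ₂ : AdicCompletion J R →+* T)
    (h₁ : J.map (ψ₁.comp (algebraMap R (AdicCompletion J R))) ≤ K)
    (h : ψ₁.comp (algebraMap R (AdicCompletion J R)) = ψ₂.comp (algebraMap R (AdicCompletion J R))) :
    ψ₁ = ψ₂ := by
  have h₂ : J.map (ψ₂.comp (algebraMap R (AdicCompletion J R))) ≤ K := h ▸ h₁
  have key : ∀ (ψ : AdicCompletion J R →+* T),
      J.map (ψ.comp (algebraMap R (AdicCompletion J R))) ≤ K → ∀ (n : ℕ) (y : AdicCompletion J R),
      y ∈ (J.map (algebraMap R (AdicCompletion J R))) ^ n → ψ y ∈ K ^ n := by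
    intro ψ hψ n y hy
    have : (J.map (algebraMap R (AdicCompletion J R)) ^ n).map ψ ≤ K ^ n := by
      rw [Ideal.map_pow, Ideal.map_map]
      exact Ideal.pow_right_mono hψ n
    exact this (Ideal.mem_map_of_mem _ hy)
  refine RingHom.ext fun x => ?_
  rw [← sub_eq_zero]
  apply IsHausdorff.haus (I := K) ‹_›
  intro n
  rw [SModEq.zero, smul_eq_mul, Ideal.mul_top]
  obtain ⟨a, ha⟩ := Groth.Agent.Lib.Helper12.FComplA.exists_sub_algebraMap_mem J fg n x
  have e : ψ₁ x - ψ₂ x = ψ₁ (x - algebraMap R _ a) - ψ₂ (x - algebraMap R _ a) := by
    have := RingHom.congr_fun h a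
    simp only [RingHom.comp_apply] at this
    rw [map_sub, map_sub, this]; ring
  rw [e]
  exact Ideal.sub_mem _ (key ψ₁ h₁ n _ ha) (key ψ₂ h₂ n _ ha)

end uniq

section gen

variable {R : Type u} [CommRing R] [IsNoetherianRing R] (K : Ideal R)

/-- every prime not containing `K` is contained in a rig-closed prime -/
lemma exists_rc_ge (r : Ideal R) [hr : r.IsPrime] (hKr : ¬ K ≤ r) :
    ∃ r₁ : PrimeSpectrum R, RC K r₁ ∧ r ≤ r₁.asIdeal := by
  let 𝒮 : Set (Ideal R) := {P | P.IsPrime ∧ r ≤ P ∧ ¬ K ≤ P}
  have hne : 𝒮.Nonempty := ⟨r, hr, le_refl _, hKr⟩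
  obtain ⟨M, ⟨hMp, hrM, hKM⟩, hmax⟩ := set_has_maximal_iff_noetherian.mpr inferInstance 𝒮 hne
  refine ⟨⟨M, hMp⟩, ⟨hKM, ?_⟩, hrM⟩
  intro y hy hKy
  have hMy : M ≤ y.asIdeal := hy
  have hyS : y.asIdeal ∈ 𝒮 := ⟨y.isPrime, hrM.trans hMy, hKy⟩
  apply PrimeSpectrum.ext
  by_contra hne'
  exact hmax _ hyS (lt_of_le_of_ne hMy (fun h => hne' h.symm))

variable {A' : Type u} [CommRing A'] [Algebra A' R]

omit [IsNoetherianRing R] in
/-- flatness generises -/
lemma flat_of_le (r r₁ : Ideal R) [r.IsPrime] [r₁.IsPrime] (hle : r ≤ r₁)
    [Module.Flat A' (Localization.AtPrime r₁)] : Module.Flat A' (Localization.AtPrime r) := by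
  have hM : r₁.primeCompl ≤ r.primeCompl := fun x hx hxr => hx (hle hxr)
  letI := IsLocalization.localizationAlgebraOfSubmonoidLe (Localization.AtPrime r₁)
    (Localization.AtPrime r) r₁.primeCompl r.primeCompl hM
  haveI := IsLocalization.localization_isScalarTower_of_submonoid_le (Localization.AtPrime r₁)
    (Localization.AtPrime r) r₁.primeCompl r.primeCompl hM
  haveI := IsLocalization.isLocalization_of_submonoid_le (Localization.AtPrime r₁)
    (Localization.AtPrime r) r₁.primeCompl r.primeCompl hM
  haveI : Module.Flat (Localization.AtPrime r₁) (Localization.AtPrime r) :=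
    IsLocalization.flat (Localization.AtPrime r)
      (r.primeCompl.map (algebraMap R (Localization.AtPrime r₁)))
  haveI : IsScalarTower A' (Localization.AtPrime r₁) (Localization.AtPrime r) :=
    IsScalarTower.of_algebraMap_eq (fun x => by
      rw [IsScalarTower.algebraMap_apply A' R (Localization.AtPrime r),
        IsScalarTower.algebraMap_apply A' R (Localization.AtPrime r₁),
        ← IsScalarTower.algebraMap_apply R (Localization.AtPrime r₁) (Localization.AtPrime r)])
  exact Module.Flat.trans A' (Localization.AtPrime r₁) (Localization.AtPrime r)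

lemma flat_of_forall_rc
    (h : ∀ r₁ : PrimeSpectrum R, RC K r₁ → Module.Flat A' (Localization.AtPrime r₁.asIdeal))
    (r : Ideal R) [hr : r.IsPrime] (hKr : ¬ K ≤ r) : Module.Flat A' (Localization.AtPrime r) := by
  obtain ⟨r₁, hr₁, hle⟩ := exists_rc_ge K r hKr
  haveI := h r₁ hr₁
  exact flat_of_le r r₁.asIdeal hle

end gen

section comp

variable {A' B' C' : Type u} [CommRing A'] [CommRing B'] [CommRing C'] [IsNoetherianRing B']
  (K_B : Ideal B') (K_C : Ideal C') (ψ_AB : A' →+* B') (ψ_BC : B' →+* C')

lemma flat_comp_abstract (hK : K_C ≤ K_B.map ψ_BC)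
    (hAB : ∀ r₁ : PrimeSpectrum B', RC K_B r₁ →
      ((algebraMap B' (Localization.AtPrime r₁.asIdeal)).comp ψ_AB).Flat)
    (q : PrimeSpectrum C') (hq : ¬ K_C ≤ q.asIdeal)
    (hBC : ((algebraMap C' (Localization.AtPrime q.asIdeal)).comp ψ_BC).Flat) :
    ((algebraMap C' (Localization.AtPrime q.asIdeal)).comp (ψ_BC.comp ψ_AB)).Flat := by
  letI algAB : Algebra A' B' := ψ_AB.toAlgebra
  letI algBC : Algebra B' C' := ψ_BC.toAlgebra
  let r : Ideal B' := q.asIdeal.comap ψ_BC
  haveI hrp : r.IsPrime := Ideal.comap_isPrime _ _
  have hKr : ¬ K_B ≤ r := by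
    intro h
    apply hq
    refine hK.trans ?_
    rw [Ideal.map_le_iff_le_comap]
    exact h
  -- flatness of `B'_r` over `A'`
  haveI hflat_r : Module.Flat A' (Localization.AtPrime r) := by
    apply flat_of_forall_rc K_B _ r hKr
    intro r₁ hr₁
    have := hAB r₁ hr₁
    have e : (algebraMap B' (Localization.AtPrime r₁.asIdeal)).comp ψ_AB =
        algebraMap A' (Localization.AtPrime r₁.asIdeal) :=
      (IsScalarTower.algebraMap_eq A' B' (Localization.AtPrime r₁.asIdeal)).symm
    rw [e, RingHom.flat_algebraMap_iff] at this
    exact this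
  -- flatness of `C'_q` over `B'`
  haveI hflat_q : Module.Flat B' (Localization.AtPrime q.asIdeal) := by
    have e : (algebraMap C' (Localization.AtPrime q.asIdeal)).comp ψ_BC =
        algebraMap B' (Localization.AtPrime q.asIdeal) :=
      (IsScalarTower.algebraMap_eq B' C' (Localization.AtPrime q.asIdeal)).symm
    rw [e, RingHom.flat_algebraMap_iff] at hBC
    exact hBC
  haveI : q.asIdeal.LiesOver r := ⟨rfl⟩
  letI := Localization.AtPrime.algebraOfLiesOver r q.asIdeal
  haveI : Module.Flat (Localization.AtPrime r) (Localization.AtPrime q.asIdeal) :=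
    (Module.flat_iff_of_isLocalization (Localization.AtPrime r) r.primeCompl _).mpr hflat_q
  letI algAC : Algebra A' (Localization.AtPrime q.asIdeal) :=
    ((algebraMap C' (Localization.AtPrime q.asIdeal)).comp (ψ_BC.comp ψ_AB)).toAlgebra
  haveI : IsScalarTower A' (Localization.AtPrime r) (Localization.AtPrime q.asIdeal) :=
    IsScalarTower.of_algebraMap_eq (fun x => by
      change algebraMap C' (Localization.AtPrime q.asIdeal) (ψ_BC (ψ_AB x)) =
        Localization.localRingHom r q.asIdeal (algebraMap B' C') _
          (algebraMap A' (Localization.AtPrime r) x)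
      rw [IsScalarTower.algebraMap_apply A' B' (Localization.AtPrime r),
        Localization.localRingHom_to_map]
      rfl)
  change Module.Flat A' (Localization.AtPrime q.asIdeal)
  exact Module.Flat.trans A' (Localization.AtPrime r) (Localization.AtPrime q.asIdeal)

end comp

section concrete

variable {A : Type u} [CommRing A] [IsNoetherianRing A] (I : Ideal A)
  {B : Type u} [CommRing B] [Algebra A B] [IsNoetherianRing B]
  {C : Type u} [CommRing C] [Algebra A C] [Algebra B C] [IsScalarTower A B C] [IsNoetherianRing C]

/-- the completed localisation `R_{x}` with respect to the ideal `K` -/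
local notation "CL" K:max x:max => AdicCompletion (Ideal.map (algebraMap _ (Localization.Away x)) K)
  (Localization.Away x)

omit [IsNoetherianRing A] [IsNoetherianRing B] [IsNoetherianRing C] in
lemma map_awayMap_eq {R S : Type u} [CommRing R] [CommRing S] (φ : R →+* S) (K : Ideal R) (x : R) :
    (K.map (algebraMap R (Localization.Away x))).map (Localization.awayMap φ x) =
      (K.map φ).map (algebraMap S (Localization.Away (φ x))) := by
  refine (Ideal.map_map _ _).trans (Eq.trans ?_ (Ideal.map_map _ _).symm)
  refine congrArg (fun χ => Ideal.map χ K) ?_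
  exact IsLocalization.map_comp _

theorem comp_core
    (hAB : ∀ f : A, ∀ ψf : (CL I f) →+* (CL (I.map (algebraMap A B)) (algebraMap A B f)),
      ψf.comp (algebraMap (Localization.Away f) (CL I f)) =
        (algebraMap (Localization.Away (algebraMap A B f))
          (CL (I.map (algebraMap A B)) (algebraMap A B f))).comp
          (Localization.awayMap (algebraMap A B) f) →
      ∀ qf : PrimeSpectrum (CL (I.map (algebraMap A B)) (algebraMap A B f)),
        RC (((I.map (algebraMap A B)).map
          (algebraMap B (Localization.Away (algebraMap A B f)))).map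
          (algebraMap (Localization.Away (algebraMap A B f))
            (CL (I.map (algebraMap A B)) (algebraMap A B f)))) qf →
        ((algebraMap (CL (I.map (algebraMap A B)) (algebraMap A B f))
          (Localization.AtPrime qf.asIdeal)).comp ψf).Flat)
    (hBC : ∀ g : B, ∀ ψg : (CL (I.map (algebraMap A B)) g) →+*
        (CL ((I.map (algebraMap A B)).map (algebraMap B C)) (algebraMap B C g)),
      ψg.comp (algebraMap (Localization.Away g) (CL (I.map (algebraMap A B)) g)) =
        (algebraMap (Localization.Away (algebraMap B C g))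
          (CL ((I.map (algebraMap A B)).map (algebraMap B C)) (algebraMap B C g))).comp
          (Localization.awayMap (algebraMap B C) g) →
      ∀ qg : PrimeSpectrum (CL ((I.map (algebraMap A B)).map (algebraMap B C)) (algebraMap B C g)),
        RC ((((I.map (algebraMap A B)).map (algebraMap B C)).map
          (algebraMap C (Localization.Away (algebraMap B C g)))).map
          (algebraMap (Localization.Away (algebraMap B C g))
            (CL ((I.map (algebraMap A B)).map (algebraMap B C)) (algebraMap B C g)))) qg →
        ((algebraMap (CL ((I.map (algebraMap A B)).map (algebraMap B C)) (algebraMap B C g))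
          (Localization.AtPrime qg.asIdeal)).comp ψg).Flat)
    (f : A) (c : C) (hc : algebraMap B C (algebraMap A B f) = c)
    (K : Ideal C) (hK : (I.map (algebraMap A B)).map (algebraMap B C) = K)
    (φ : Localization.Away f →+* Localization.Away c)
    (hφ : φ.comp (algebraMap A (Localization.Away f)) =
      (algebraMap C (Localization.Away c)).comp (algebraMap A C))
    (ψ : (CL I f) →+* (CL K c))
    (hψ : ψ.comp (algebraMap (Localization.Away f) (CL I f)) =
      (algebraMap (Localization.Away c) (CL K c)).comp φ)
    (q : PrimeSpectrum (CL K c))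
    (hq : RC ((K.map (algebraMap C (Localization.Away c))).map
      (algebraMap (Localization.Away c) (CL K c))) q) :
    ((algebraMap (CL K c) (Localization.AtPrime q.asIdeal)).comp ψ).Flat := by
  subst hc
  subst hK
  have h₁ := map_awayMap_eq (algebraMap A B) I f
  have h₂ := map_awayMap_eq (algebraMap B C) (I.map (algebraMap A B)) (algebraMap A B f)
  let ψ_AB := FSch.complMap _ _ (Localization.awayMap (algebraMap A B) f) h₁.le
  let ψ_BC := FSch.complMap _ _ (Localization.awayMap (algebraMap B C) (algebraMap A B f)) h₂.le
  have compat_AB : ψ_AB.comp (algebraMap (Localization.Away f) (CL I f)) =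
      (algebraMap (Localization.Away (algebraMap A B f))
        (CL (I.map (algebraMap A B)) (algebraMap A B f))).comp
        (Localization.awayMap (algebraMap A B) f) :=
    RingHom.ext fun x => Groth.Agent.Lib.Helper12.FComplA.complMap_algebraMap _ _ _ h₁.le x
  have compat_BC : ψ_BC.comp (algebraMap (Localization.Away (algebraMap A B f))
        (CL (I.map (algebraMap A B)) (algebraMap A B f))) =
      (algebraMap (Localization.Away (algebraMap B C (algebraMap A B f)))
        (CL ((I.map (algebraMap A B)).map (algebraMap B C))
          (algebraMap B C (algebraMap A B f)))).comp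
        (Localization.awayMap (algebraMap B C) (algebraMap A B f)) :=
    RingHom.ext fun x => Groth.Agent.Lib.Helper12.FComplA.complMap_algebraMap _ _ _ h₂.le x
  -- `φ` is the composite of the two localisation maps
  have hφeq : φ = (Localization.awayMap (algebraMap B C) (algebraMap A B f)).comp
      (Localization.awayMap (algebraMap A B) f) := by
    apply IsLocalization.ringHom_ext (Submonoid.powers f)
    rw [hφ, RingHom.comp_assoc]
    have e1 : (Localization.awayMap (algebraMap A B) f).comp (algebraMap A (Localization.Away f)) =
        (algebraMap B (Localization.Away (algebraMap A B f))).comp (algebraMap A B) :=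
      IsLocalization.map_comp _
    have e2 : (Localization.awayMap (algebraMap B C) (algebraMap A B f)).comp
        (algebraMap B (Localization.Away (algebraMap A B f))) =
        (algebraMap C (Localization.Away (algebraMap B C (algebraMap A B f)))).comp
          (algebraMap B C) := IsLocalization.map_comp _
    rw [e1, ← RingHom.comp_assoc, e2, RingHom.comp_assoc, ← IsScalarTower.algebraMap_eq A B C]
  haveI : IsNoetherianRing (CL (I.map (algebraMap A B)) (algebraMap A B f)) :=
    Groth.Agent.Lib.helper19.isNoetherianRing_adicCompletion _ _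
  haveI : IsHausdorff ((((I.map (algebraMap A B)).map (algebraMap B C)).map
      (algebraMap C (Localization.Away (algebraMap B C (algebraMap A B f))))).map
      (algebraMap (Localization.Away (algebraMap B C (algebraMap A B f)))
        (CL ((I.map (algebraMap A B)).map (algebraMap B C)) (algebraMap B C (algebraMap A B f)))))
      (CL ((I.map (algebraMap A B)).map (algebraMap B C)) (algebraMap B C (algebraMap A B f))) :=
    IsHausdorff.map_algebraMap_iff.mpr inferInstance
  have hcomp : ψ.comp (algebraMap (Localization.Away f) (CL I f)) =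
      (ψ_BC.comp ψ_AB).comp (algebraMap (Localization.Away f) (CL I f)) := by
    rw [hψ, RingHom.comp_assoc, compat_AB, ← RingHom.comp_assoc, compat_BC, RingHom.comp_assoc,
      ← hφeq]
  have hψeq : ψ = ψ_BC.comp ψ_AB := by
    refine ringHom_ext (I.map (algebraMap A (Localization.Away f)))
      (K := (((I.map (algebraMap A B)).map (algebraMap B C)).map
        (algebraMap C (Localization.Away (algebraMap B C (algebraMap A B f))))).map
        (algebraMap (Localization.Away (algebraMap B C (algebraMap A B f)))
          (CL ((I.map (algebraMap A B)).map (algebraMap B C))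
            (algebraMap B C (algebraMap A B f)))))
      (IsNoetherian.noetherian _) ψ (ψ_BC.comp ψ_AB) ?_ hcomp
    rw [hψ]
    refine (Ideal.map_map _ _).symm.le.trans ?_
    refine Ideal.map_mono ?_
    rw [hφeq]
    refine (Ideal.map_map _ _).symm.le.trans ?_
    exact (congrArg (Ideal.map _) h₁).le.trans h₂.le
  subst hψeq
  refine flat_comp_abstract _ _ ψ_AB ψ_BC ?_ (fun r₁ hr₁ => hAB f ψ_AB compat_AB r₁ hr₁) q hq.1
    (hBC (algebraMap A B f) ψ_BC compat_BC q hq)
  have e : ((((I.map (algebraMap A B)).map
      (algebraMap B (Localization.Away (algebraMap A B f))))).map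
      (algebraMap (Localization.Away (algebraMap A B f))
        (CL (I.map (algebraMap A B)) (algebraMap A B f)))).map ψ_BC =
      (((I.map (algebraMap A B)).map (algebraMap B C)).map
        (algebraMap C (Localization.Away (algebraMap B C (algebraMap A B f))))).map
        (algebraMap (Localization.Away (algebraMap B C (algebraMap A B f)))
          (CL ((I.map (algebraMap A B)).map (algebraMap B C))
            (algebraMap B C (algebraMap A B f)))) := by
    refine (Ideal.map_map _ _).trans ?_
    rw [compat_BC]
    refine (Ideal.map_map _ _).symm.trans ?_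
    exact congrArg (Ideal.map _) h₂
  exact e.ge

end concrete

end Groth.Agent.Lib.Helper16.RigCl7
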