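import Mathlib
import Groth.Agent.Lib.Helper16.RigCl1
import Groth.Agent.Lib.Helper16.RigCl5
import Groth.Agent.Lib.Helper16.RigCl6
import Groth.Agent.Lib.Helper16.RigCl7
import Groth.Agent.Lib.Helper7.FlatDescentFF

set_option autoImplicit false
universe u

namespace Groth.Agent.Lib.Helper16.RigCl8

open Groth.Agent.Lib.Helper16.RigCl TensorProduct

section flatcompl

variable {R S : Type u} [CommRing R] [CommRing S] [IsNoetherianRing R] [IsNoetherianRing S]
  (J : Ideal R) (K : Ideal S) (φ : R →+* S) (h : J.map φ ≤ K)

/-- The completion of a flat map of Noetherian rings is flat. -/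
theorem flat_complMap (hφ : φ.Flat) : (FSch.complMap J K φ h).Flat := by
  letI algRS : Algebra R S := φ.toAlgebra
  haveI : Module.Flat R S := hφ
  letI algR'S' : Algebra (AdicCompletion J R) (AdicCompletion K S) :=
    (FSch.complMap J K φ h).toAlgebra
  haveI : IsScalarTower R (AdicCompletion J R) (AdicCompletion K S) :=
    IsScalarTower.of_algebraMap_eq (fun r => by
      change algebraMap R (AdicCompletion K S) r =
        FSch.complMap J K φ h (algebraMap R (AdicCompletion J R) r)
      rw [Groth.Agent.Lib.Helper12.FComplA.complMap_algebraMap,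
        IsScalarTower.algebraMap_apply R S (AdicCompletion K S)]
      rfl)
  haveI : Module.Flat R (AdicCompletion K S) := Module.Flat.trans R S (AdicCompletion K S)
  haveI : IsNoetherianRing (AdicCompletion J R) :=
    Groth.Agent.Lib.helper19.isNoetherianRing_adicCompletion _ _
  haveI : IsNoetherianRing (AdicCompletion K S) :=
    Groth.Agent.Lib.helper19.isNoetherianRing_adicCompletion _ _
  change Module.Flat (AdicCompletion J R) (AdicCompletion K S)
  have hsurj : Function.Surjective (algebraMap R
      (AdicCompletion J R ⧸ J.map (algebraMap R (AdicCompletion J R)))) := by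
    intro z
    obtain ⟨b, rfl⟩ := Ideal.Quotient.mk_surjective z
    obtain ⟨r, hr⟩ := Groth.Agent.Lib.Helper16.RigCl5.exists_sub_mem_map_self J b
    refine ⟨r, ?_⟩
    rw [IsScalarTower.algebraMap_apply R (AdicCompletion J R) _, Ideal.Quotient.algebraMap_eq,
      eq_comm, Ideal.Quotient.eq]
    exact hr
  haveI := Groth.Agent.Lib.Helper16.RigCl6.flat_quot_tensor J (AdicCompletion K S) hsurj
  haveI hcompl : IsAdicComplete (K.map (algebraMap S (AdicCompletion K S))) (AdicCompletion K S) :=
    (IsAdicComplete.map_algebraMap_iff _ _).mpr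
      (AdicCompletion.isAdicComplete (IsNoetherian.noetherian _))
  have hJac : (J.map (algebraMap R (AdicCompletion J R))).map
      (algebraMap (AdicCompletion J R) (AdicCompletion K S)) ≤ Ideal.jacobson ⊥ := by
    refine le_trans ?_ (IsAdicComplete.le_jacobson_bot (K.map (algebraMap S (AdicCompletion K S))))
    refine Ideal.map_le_iff_le_comap.mpr (Ideal.map_le_iff_le_comap.mpr fun a ha => ?_)
    change FSch.complMap J K φ h (algebraMap R (AdicCompletion J R) a) ∈
      K.map (algebraMap S (AdicCompletion K S))
    rw [Groth.Agent.Lib.Helper12.FComplA.complMap_algebraMap]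
    exact Ideal.mem_map_of_mem _ (h (Ideal.mem_map_of_mem _ ha))
  exact Groth.Agent.Lib.Helper2.LocalCrit.flat_of_injective_of_flat_quotient
    (R := AdicCompletion J R) (S := AdicCompletion K S) (M := AdicCompletion K S)
    (J.map (algebraMap R (AdicCompletion J R))) hJac
    (Groth.Agent.Lib.Helper2.FlatSquare.lTensor_map_subtype_injective J)

end flatcompl

section descent

variable {A₀ B₀ A₁ B₁ : Type u} [CommRing A₀] [CommRing B₀] [CommRing A₁] [CommRing B₁]
  [IsNoetherianRing B₁]
  (K_B : Ideal B₀) (K_B' : Ideal B₁)
  (ψ : A₀ →+* B₀) (α : A₀ →+* A₁) (β : B₀ →+* B₁) (ψ' : A₁ →+* B₁)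

/-- abstract descent of rig-flatness at one rig-closed prime admitting a prime above it -/
lemma flat_descent_abstract (hsq : β.comp ψ = ψ'.comp α) (hK : K_B.map β = K_B')
    (hα : α.Flat) (hβ : β.Flat)
    (h' : ∀ r₁ : PrimeSpectrum B₁, RC K_B' r₁ →
      ((algebraMap B₁ (Localization.AtPrime r₁.asIdeal)).comp ψ').Flat)
    (q : PrimeSpectrum B₀) (hq : RC K_B q)
    (hLO : ∃ q'' : Ideal B₁, q''.IsPrime ∧ q''.comap β = q.asIdeal) :
    ((algebraMap B₀ (Localization.AtPrime q.asIdeal)).comp ψ).Flat := by
  obtain ⟨q'', hq''p, hq''⟩ := hLO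
  have hKq'' : ¬ K_B' ≤ q'' := by
    intro hle
    apply hq.1
    rw [← hq'', ← Ideal.map_le_iff_le_comap, hK]
    exact hle
  obtain ⟨q', hq', hle⟩ := Groth.Agent.Lib.Helper16.RigCl7.exists_rc_ge K_B' q'' hKq''
  -- the contraction of `q'` is `q`
  have hcontr : q'.asIdeal.comap β = q.asIdeal := by
    let y : PrimeSpectrum B₀ := ⟨q'.asIdeal.comap β, Ideal.comap_isPrime _ _⟩
    have hqy : q ≤ y := by
      change q.asIdeal ≤ q'.asIdeal.comap β
      rw [← hq'']
      exact Ideal.comap_mono hle
    have hKy : ¬ K_B ≤ y.asIdeal := by
      intro hle'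
      apply hq'.1
      rw [← hK, Ideal.map_le_iff_le_comap]
      exact hle'
    have := hq.2 y hqy hKy
    exact congrArg PrimeSpectrum.asIdeal this
  letI algB : Algebra B₀ B₁ := β.toAlgebra
  haveI : Module.Flat B₀ B₁ := hβ
  haveI hlo : q'.asIdeal.LiesOver q.asIdeal := ⟨hcontr.symm⟩
  letI := Localization.AtPrime.algebraOfLiesOver q.asIdeal q'.asIdeal
  haveI : IsLocalHom (algebraMap (Localization.AtPrime q.asIdeal)
      (Localization.AtPrime q'.asIdeal)) := Localization.isLocalHom_localRingHom _ _ _ _
  haveI : Module.FaithfullyFlat (Localization.AtPrime q.asIdeal)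
      (Localization.AtPrime q'.asIdeal) := Module.FaithfullyFlat.of_flat_of_isLocalHom
  -- algebra structures over `A₀`
  letI algA0B0q : Algebra A₀ (Localization.AtPrime q.asIdeal) :=
    ((algebraMap B₀ (Localization.AtPrime q.asIdeal)).comp ψ).toAlgebra
  letI algA0B1q : Algebra A₀ (Localization.AtPrime q'.asIdeal) :=
    (((algebraMap B₁ (Localization.AtPrime q'.asIdeal)).comp ψ').comp α).toAlgebra
  haveI : IsScalarTower A₀ (Localization.AtPrime q.asIdeal) (Localization.AtPrime q'.asIdeal) :=
    IsScalarTower.of_algebraMap_eq (fun x => by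
      change algebraMap B₁ (Localization.AtPrime q'.asIdeal) (ψ' (α x)) =
        Localization.localRingHom q.asIdeal q'.asIdeal (algebraMap B₀ B₁) _
          (algebraMap B₀ (Localization.AtPrime q.asIdeal) (ψ x))
      rw [Localization.localRingHom_to_map]
      have := RingHom.congr_fun hsq x
      simp only [RingHom.comp_apply] at this
      rw [← this]
      rfl)
  haveI : Module.Flat A₀ (Localization.AtPrime q'.asIdeal) := by
    have h1 := h' q' hq'
    exact RingHom.Flat.comp hα h1
  change Module.Flat A₀ (Localization.AtPrime q.asIdeal)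
  exact Groth.Agent.Lib.Helper7.FlatDescentFF.flat_of_flat_of_faithfullyFlat A₀
    (Localization.AtPrime q.asIdeal) (Localization.AtPrime q'.asIdeal)

end descent

section openprimes

variable {R : Type u} [CommRing R] [IsNoetherianRing R] (J : Ideal R)

/-- open ideals of the completion are determined by their contraction -/
lemma eq_of_comap_eq (P₁ P₂ : Ideal (AdicCompletion J R))
    (h₁ : J.map (algebraMap R (AdicCompletion J R)) ≤ P₁)
    (h₂ : J.map (algebraMap R (AdicCompletion J R)) ≤ P₂)
    (h : P₁.comap (algebraMap R (AdicCompletion J R)) =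
      P₂.comap (algebraMap R (AdicCompletion J R))) : P₁ = P₂ := by
  have key : ∀ (Q₁ Q₂ : Ideal (AdicCompletion J R)),
      J.map (algebraMap R (AdicCompletion J R)) ≤ Q₁ →
      J.map (algebraMap R (AdicCompletion J R)) ≤ Q₂ →
      Q₁.comap (algebraMap R (AdicCompletion J R)) ≤
        Q₂.comap (algebraMap R (AdicCompletion J R)) → Q₁ ≤ Q₂ := by
    intro Q₁ Q₂ hQ₁ hQ₂ hle x hx
    obtain ⟨r, hr⟩ := Groth.Agent.Lib.Helper16.RigCl5.exists_sub_mem_map_self J x
    have h1 : algebraMap R (AdicCompletion J R) r ∈ Q₁ := by
      have := Q₁.sub_mem hx (hQ₁ hr)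
      rwa [sub_sub_cancel] at this
    have h2 : algebraMap R (AdicCompletion J R) r ∈ Q₂ := hle h1
    have := Q₂.add_mem (hQ₂ hr) h2
    rwa [sub_add_cancel] at this
  exact le_antisymm (key P₁ P₂ h₁ h₂ h.le) (key P₂ P₁ h₂ h₁ h.ge)

/-- every open prime of `R` is the contraction of an open prime of the completion -/
lemma exists_prime_comap_eq (P₀ : Ideal R) [hP₀ : P₀.IsPrime] (hJ : J ≤ P₀) :
    ∃ M : Ideal (AdicCompletion J R), M.IsPrime ∧
      J.map (algebraMap R (AdicCompletion J R)) ≤ M ∧
      M.comap (algebraMap R (AdicCompletion J R)) = P₀ := by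
  have hker : RingHom.ker (Ideal.Quotient.mk J) ≤ P₀ := by rw [Ideal.mk_ker]; exact hJ
  haveI hpr : (P₀.map (Ideal.Quotient.mk J)).IsPrime :=
    Ideal.map_isPrime_of_surjective Ideal.Quotient.mk_surjective hker
  refine ⟨Ideal.comap (AdicCompletion.evalOneₐ J).toRingHom (P₀.map (Ideal.Quotient.mk J)),
    Ideal.comap_isPrime _ _, ?_, ?_⟩
  · rw [← AdicCompletion.ker_evalOneₐ_eq_map J (IsNoetherian.noetherian _)]
    intro x hx
    rw [Ideal.mem_comap, RingHom.mem_ker.mp hx]
    exact Ideal.zero_mem _
  · rw [Ideal.comap_comap, AdicCompletion.evalOneₐ_comp_algebraMap_eq_mk,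
      Ideal.comap_map_of_surjective' _ Ideal.Quotient.mk_surjective]
    exact sup_eq_left.mpr hker

end openprimes

section lyingover

variable {R S : Type u} [CommRing R] [CommRing S] [IsNoetherianRing R] [IsNoetherianRing S]
  (J : Ideal R) (K : Ideal S) (φ : R →+* S) (h : J.map φ ≤ K)

/-- lying over for the completion of a flat map, provided open primes lift -/
lemma exists_prime_comap_complMap_eq (hφ : φ.Flat)
    (H : ∀ P₀ : Ideal R, P₀.IsPrime → J ≤ P₀ → ∃ Q₀ : Ideal S, Q₀.IsPrime ∧ K ≤ Q₀ ∧
      Q₀.comap φ = P₀)
    (q : Ideal (AdicCompletion J R)) [hq : q.IsPrime] :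
    ∃ q'' : Ideal (AdicCompletion K S), q''.IsPrime ∧ q''.comap (FSch.complMap J K φ h) = q := by
  obtain ⟨m, hm, hqm⟩ := Ideal.exists_le_maximal q hq.ne_top
  haveI hcomplR : IsAdicComplete (J.map (algebraMap R (AdicCompletion J R))) (AdicCompletion J R) :=
    (IsAdicComplete.map_algebraMap_iff _ _).mpr
      (AdicCompletion.isAdicComplete (IsNoetherian.noetherian _))
  haveI : IsNoetherianRing (AdicCompletion J R) :=
    Groth.Agent.Lib.helper19.isNoetherianRing_adicCompletion _ _
  have hJm : J.map (algebraMap R (AdicCompletion J R)) ≤ m :=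
    le_of_isMaximal (J.map (algebraMap R (AdicCompletion J R))) m
  haveI hP₀ : (m.comap (algebraMap R (AdicCompletion J R))).IsPrime := Ideal.comap_isPrime _ _
  obtain ⟨Q₀, hQ₀p, hKQ₀, hQ₀⟩ := H (m.comap (algebraMap R (AdicCompletion J R))) hP₀
    (Ideal.map_le_iff_le_comap.mp hJm)
  obtain ⟨M'', hM''p, hKM'', hM''⟩ := exists_prime_comap_eq K Q₀ hKQ₀
  have hcompat : (FSch.complMap J K φ h).comp (algebraMap R (AdicCompletion J R)) =
      (algebraMap S (AdicCompletion K S)).comp φ :=
    RingHom.ext fun x => Groth.Agent.Lib.Helper12.FComplA.complMap_algebraMap J K φ h x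
  have hMm : M''.comap (FSch.complMap J K φ h) = m := by
    refine eq_of_comap_eq J _ _ ?_ hJm ?_
    · rw [Ideal.map_le_iff_le_comap, Ideal.comap_comap, hcompat, ← Ideal.comap_comap,
        ← Ideal.map_le_iff_le_comap]
      refine le_trans ?_ (Ideal.map_le_iff_le_comap.mp hKM'')
      exact h
    · rw [Ideal.comap_comap, hcompat, ← Ideal.comap_comap, hM'', hQ₀]
  letI alg : Algebra (AdicCompletion J R) (AdicCompletion K S) :=
    (FSch.complMap J K φ h).toAlgebra
  haveI : Module.Flat (AdicCompletion J R) (AdicCompletion K S) := flat_complMap J K φ h hφ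
  haveI : M''.LiesOver m := ⟨hMm.symm⟩
  obtain ⟨P, -, hPp, hPlo⟩ := Ideal.exists_ideal_le_liesOver_of_le (p := q) (q := m) M'' hqm
  exact ⟨P, hPp, hPlo.over.symm⟩

end lyingover

section locflat

/-- the localisation of a flat map is flat -/
lemma flat_of_isLocalization_map {R S : Type u} [CommRing R] [CommRing S] [Algebra R S]
    [Module.Flat R S] (x : R) (y : S)
    (φ : Localization.Away x →+* Localization.Away y)
    (hφ : φ.comp (algebraMap R (Localization.Away x)) =
      (algebraMap S (Localization.Away y)).comp (algebraMap R S)) : φ.Flat := by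
  letI alg : Algebra (Localization.Away x) (Localization.Away y) := φ.toAlgebra
  haveI : IsScalarTower R (Localization.Away x) (Localization.Away y) :=
    IsScalarTower.of_algebraMap_eq (fun r => by
      have := RingHom.congr_fun hφ r
      simp only [RingHom.comp_apply] at this
      change algebraMap R (Localization.Away y) r = φ (algebraMap R (Localization.Away x) r)
      rw [this, ← IsScalarTower.algebraMap_apply R S (Localization.Away y)])
  change Module.Flat (Localization.Away x) (Localization.Away y)
  rw [Module.flat_iff_of_isLocalization (Localization.Away x) (Submonoid.powers x)]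
  exact Module.Flat.trans R S (Localization.Away y)

end locflat

section concrete

variable {A : Type u} [CommRing A] [IsNoetherianRing A] (I : Ideal A)
  {B : Type u} [CommRing B] [Algebra A B] [IsNoetherianRing B]
  {A' : Type u} [CommRing A'] [Algebra A A'] [IsNoetherianRing A']
  {B' : Type u} [CommRing B'] [Algebra A B'] [Algebra B B'] [Algebra A' B']
  [IsScalarTower A B B'] [IsScalarTower A A' B'] [IsNoetherianRing B']

/-- the completed localisation `R_{x}` with respect to the ideal `K` -/
local notation "CL" K:max x:max => AdicCompletion (Ideal.map (algebraMap _ (Localization.Away x)) K)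
  (Localization.Away x)

omit [IsNoetherianRing A] [IsNoetherianRing B] [IsNoetherianRing A'] [IsNoetherianRing B'] in
lemma algebraMap_eq_aux (f : A) :
    algebraMap B B' (algebraMap A B f) = algebraMap A' B' (algebraMap A A' f) := by
  rw [← IsScalarTower.algebraMap_apply A B B', ← IsScalarTower.algebraMap_apply A A' B']

/-- open primes of `B_g` lift to open primes of `B'_{g'}` when `B → B'` is faithfully flat -/
lemma open_primes_lift {B B' : Type u} [CommRing B] [CommRing B'] [Algebra B B']
    [Module.FaithfullyFlat B B'] (K₀ : Ideal B) (K₀' : Ideal B')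
    (hK : K₀' ≤ K₀.map (algebraMap B B')) (g : B) (g'' : B') (hgg : algebraMap B B' g = g'')
    (φ : Localization.Away g →+* Localization.Away g'')
    (hφ : φ.comp (algebraMap B (Localization.Away g)) =
      (algebraMap B' (Localization.Away g'')).comp (algebraMap B B'))
    (P₀ : Ideal (Localization.Away g)) (hP₀ : P₀.IsPrime)
    (hJ : K₀.map (algebraMap B (Localization.Away g)) ≤ P₀) :
    ∃ Q₀ : Ideal (Localization.Away g''), Q₀.IsPrime ∧
      K₀'.map (algebraMap B' (Localization.Away g'')) ≤ Q₀ ∧ Q₀.comap φ = P₀ := by
  let m₀ : Ideal B := P₀.comap (algebraMap B (Localization.Away g))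
  haveI hm₀ : m₀.IsPrime := Ideal.comap_isPrime _ _
  obtain ⟨m₀', hm₀'p, hm₀'lo⟩ := Ideal.exists_isPrime_liesOver_of_faithfullyFlat (B := B') m₀
  have hm₀' : m₀'.comap (algebraMap B B') = m₀ := hm₀'lo.over.symm
  -- `g ∉ m₀`
  have hgm₀ : g ∉ m₀ := by
    intro hmem
    have h1 : algebraMap B (Localization.Away g) g ∈ P₀ := hmem
    exact hP₀.ne_top (Ideal.eq_top_of_isUnit_mem _ h1 (IsLocalization.Away.algebraMap_isUnit g))
  have hdisj : Disjoint (Submonoid.powers g'' : Set B') (m₀' : Set B') := by
    rw [Set.disjoint_left]
    rintro _ ⟨k, rfl⟩ hmem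
    have h1 : g'' ∈ m₀' := hm₀'p.mem_of_pow_mem k hmem
    apply hgm₀
    rw [← hm₀', Ideal.mem_comap, hgg]
    exact h1
  have hQ₀p : (m₀'.map (algebraMap B' (Localization.Away g''))).IsPrime :=
    IsLocalization.isPrime_of_isPrime_disjoint (Submonoid.powers g'') _ m₀' hm₀'p hdisj
  have hQ₀c : (m₀'.map (algebraMap B' (Localization.Away g''))).comap
      (algebraMap B' (Localization.Away g'')) = m₀' :=
    IsLocalization.comap_map_of_isPrime_disjoint (Submonoid.powers g'') _ hm₀'p hdisj
  refine ⟨m₀'.map (algebraMap B' (Localization.Away g'')), hQ₀p, ?_, ?_⟩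
  · refine Ideal.map_mono (hK.trans ?_)
    rw [Ideal.map_le_iff_le_comap, hm₀']
    exact Ideal.map_le_iff_le_comap.mp hJ
  · -- compare contractions to `B`
    have h1 : ((m₀'.map (algebraMap B' (Localization.Away g''))).comap φ).comap
        (algebraMap B (Localization.Away g)) = m₀ := by
      rw [Ideal.comap_comap, hφ, ← Ideal.comap_comap, hQ₀c, hm₀']
    have e1 : m₀.map (algebraMap B (Localization.Away g)) =
        (m₀'.map (algebraMap B' (Localization.Away g''))).comap φ := by
      rw [← h1]
      exact IsLocalization.map_comap (Submonoid.powers g) (Localization.Away g)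
        ((m₀'.map (algebraMap B' (Localization.Away g''))).comap φ)
    have e2 : m₀.map (algebraMap B (Localization.Away g)) = P₀ :=
      IsLocalization.map_comap (Submonoid.powers g) (Localization.Away g) P₀
    exact e1.symm.trans e2

theorem descent_core [Module.Flat A A'] [Module.FaithfullyFlat B B']
    (hA'B' : ∀ f' : A', ∀ ψf' : (CL (I.map (algebraMap A A')) f') →+*
        (CL ((I.map (algebraMap A A')).map (algebraMap A' B')) (algebraMap A' B' f')),
      ψf'.comp (algebraMap (Localization.Away f') (CL (I.map (algebraMap A A')) f')) =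
        (algebraMap (Localization.Away (algebraMap A' B' f'))
          (CL ((I.map (algebraMap A A')).map (algebraMap A' B')) (algebraMap A' B' f'))).comp
          (Localization.awayMap (algebraMap A' B') f') →
      ∀ qf' : PrimeSpectrum (CL ((I.map (algebraMap A A')).map (algebraMap A' B'))
          (algebraMap A' B' f')),
        RC ((((I.map (algebraMap A A')).map (algebraMap A' B')).map
          (algebraMap B' (Localization.Away (algebraMap A' B' f')))).map
          (algebraMap (Localization.Away (algebraMap A' B' f'))
            (CL ((I.map (algebraMap A A')).map (algebraMap A' B')) (algebraMap A' B' f')))) qf' →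
        ((algebraMap (CL ((I.map (algebraMap A A')).map (algebraMap A' B')) (algebraMap A' B' f'))
          (Localization.AtPrime qf'.asIdeal)).comp ψf').Flat)
    (f : A) (ψ : (CL I f) →+* (CL (I.map (algebraMap A B)) (algebraMap A B f)))
    (hψ : ψ.comp (algebraMap (Localization.Away f) (CL I f)) =
      (algebraMap (Localization.Away (algebraMap A B f))
        (CL (I.map (algebraMap A B)) (algebraMap A B f))).comp
        (Localization.awayMap (algebraMap A B) f))
    (q : PrimeSpectrum (CL (I.map (algebraMap A B)) (algebraMap A B f)))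
    (hq : RC (((I.map (algebraMap A B)).map
      (algebraMap B (Localization.Away (algebraMap A B f)))).map
      (algebraMap (Localization.Away (algebraMap A B f))
        (CL (I.map (algebraMap A B)) (algebraMap A B f)))) q) :
    ((algebraMap (CL (I.map (algebraMap A B)) (algebraMap A B f))
      (Localization.AtPrime q.asIdeal)).comp ψ).Flat := by
  -- the localisation-level maps
  have hpow : Submonoid.powers (algebraMap A B f) ≤
      (Submonoid.powers (algebraMap A' B' (algebraMap A A' f))).comap (algebraMap B B') := by
    rintro _ ⟨k, rfl⟩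
    exact ⟨k, by rw [map_pow, algebraMap_eq_aux (B := B) (A' := A') (B' := B') f]⟩
  let φ_BB' : Localization.Away (algebraMap A B f) →+*
      Localization.Away (algebraMap A' B' (algebraMap A A' f)) :=
    IsLocalization.map (Localization.Away (algebraMap A' B' (algebraMap A A' f)))
      (algebraMap B B') hpow
  have hφ_BB' : φ_BB'.comp (algebraMap B (Localization.Away (algebraMap A B f))) =
      (algebraMap B' (Localization.Away (algebraMap A' B' (algebraMap A A' f)))).comp
        (algebraMap B B') := IsLocalization.map_comp _
  have hAB := Groth.Agent.Lib.Helper16.RigCl7.map_awayMap_eq (algebraMap A B) I f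
  have hAA' := Groth.Agent.Lib.Helper16.RigCl7.map_awayMap_eq (algebraMap A A') I f
  have hA'B'' := Groth.Agent.Lib.Helper16.RigCl7.map_awayMap_eq (algebraMap A' B')
    (I.map (algebraMap A A')) (algebraMap A A' f)
  have hIB' : (I.map (algebraMap A B)).map (algebraMap B B') =
      (I.map (algebraMap A A')).map (algebraMap A' B') := by
    refine (Ideal.map_map _ _).trans (Eq.trans ?_ (Ideal.map_map _ _).symm)
    refine congrArg (fun χ => Ideal.map χ I) ?_
    rw [← IsScalarTower.algebraMap_eq A B B', ← IsScalarTower.algebraMap_eq A A' B']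
  have hBB' : ((I.map (algebraMap A B)).map
      (algebraMap B (Localization.Away (algebraMap A B f)))).map φ_BB' =
      ((I.map (algebraMap A A')).map (algebraMap A' B')).map
        (algebraMap B' (Localization.Away (algebraMap A' B' (algebraMap A A' f)))) := by
    refine (Ideal.map_map _ _).trans ?_
    rw [hφ_BB']
    refine (Ideal.map_map _ _).symm.trans ?_
    exact congrArg (Ideal.map _) hIB'
  -- the square of localisations commutes
  have hsq₁ : φ_BB'.comp (Localization.awayMap (algebraMap A B) f) =
      (Localization.awayMap (algebraMap A' B') (algebraMap A A' f)).comp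
        (Localization.awayMap (algebraMap A A') f) := by
    apply IsLocalization.ringHom_ext (Submonoid.powers f)
    have e1 : (Localization.awayMap (algebraMap A B) f).comp (algebraMap A (Localization.Away f)) =
        (algebraMap B (Localization.Away (algebraMap A B f))).comp (algebraMap A B) :=
      IsLocalization.map_comp _
    have e2 : (Localization.awayMap (algebraMap A A') f).comp
        (algebraMap A (Localization.Away f)) =
        (algebraMap A' (Localization.Away (algebraMap A A' f))).comp (algebraMap A A') :=
      IsLocalization.map_comp _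
    have e3 : (Localization.awayMap (algebraMap A' B') (algebraMap A A' f)).comp
        (algebraMap A' (Localization.Away (algebraMap A A' f))) =
        (algebraMap B' (Localization.Away (algebraMap A' B' (algebraMap A A' f)))).comp
          (algebraMap A' B') := IsLocalization.map_comp _
    have hL : (φ_BB'.comp (Localization.awayMap (algebraMap A B) f)).comp
        (algebraMap A (Localization.Away f)) =
        (algebraMap B' (Localization.Away (algebraMap A' B' (algebraMap A A' f)))).comp
          (algebraMap A B') := by
      rw [RingHom.comp_assoc, e1, ← RingHom.comp_assoc, hφ_BB', RingHom.comp_assoc,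
        ← IsScalarTower.algebraMap_eq A B B']
    have hR : ((Localization.awayMap (algebraMap A' B') (algebraMap A A' f)).comp
        (Localization.awayMap (algebraMap A A') f)).comp (algebraMap A (Localization.Away f)) =
        (algebraMap B' (Localization.Away (algebraMap A' B' (algebraMap A A' f)))).comp
          (algebraMap A B') := by
      rw [RingHom.comp_assoc, e2, ← RingHom.comp_assoc, e3, RingHom.comp_assoc,
        ← IsScalarTower.algebraMap_eq A A' B']
    exact hL.trans hR.symm
  -- completed maps
  let α := FSch.complMap _ _ (Localization.awayMap (algebraMap A A') f) hAA'.le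
  let β := FSch.complMap _ _ φ_BB' hBB'.le
  let ψ' := FSch.complMap _ _ (Localization.awayMap (algebraMap A' B') (algebraMap A A' f))
    hA'B''.le
  have compat_α : α.comp (algebraMap (Localization.Away f) (CL I f)) =
      (algebraMap (Localization.Away (algebraMap A A' f))
        (CL (I.map (algebraMap A A')) (algebraMap A A' f))).comp
        (Localization.awayMap (algebraMap A A') f) :=
    RingHom.ext fun x => Groth.Agent.Lib.Helper12.FComplA.complMap_algebraMap _ _ _ hAA'.le x
  have compat_β : β.comp (algebraMap (Localization.Away (algebraMap A B f))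
        (CL (I.map (algebraMap A B)) (algebraMap A B f))) =
      (algebraMap (Localization.Away (algebraMap A' B' (algebraMap A A' f)))
        (CL ((I.map (algebraMap A A')).map (algebraMap A' B'))
          (algebraMap A' B' (algebraMap A A' f)))).comp φ_BB' :=
    RingHom.ext fun x => Groth.Agent.Lib.Helper12.FComplA.complMap_algebraMap _ _ _ hBB'.le x
  have compat_ψ' : ψ'.comp (algebraMap (Localization.Away (algebraMap A A' f))
        (CL (I.map (algebraMap A A')) (algebraMap A A' f))) =
      (algebraMap (Localization.Away (algebraMap A' B' (algebraMap A A' f)))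
        (CL ((I.map (algebraMap A A')).map (algebraMap A' B'))
          (algebraMap A' B' (algebraMap A A' f)))).comp
        (Localization.awayMap (algebraMap A' B') (algebraMap A A' f)) :=
    RingHom.ext fun x => Groth.Agent.Lib.Helper12.FComplA.complMap_algebraMap _ _ _ hA'B''.le x
  haveI : IsNoetherianRing (CL ((I.map (algebraMap A A')).map (algebraMap A' B'))
      (algebraMap A' B' (algebraMap A A' f))) :=
    Groth.Agent.Lib.helper19.isNoetherianRing_adicCompletion _ _
  haveI : IsHausdorff ((((I.map (algebraMap A A')).map (algebraMap A' B')).map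
      (algebraMap B' (Localization.Away (algebraMap A' B' (algebraMap A A' f))))).map
      (algebraMap (Localization.Away (algebraMap A' B' (algebraMap A A' f)))
        (CL ((I.map (algebraMap A A')).map (algebraMap A' B'))
          (algebraMap A' B' (algebraMap A A' f)))))
      (CL ((I.map (algebraMap A A')).map (algebraMap A' B'))
        (algebraMap A' B' (algebraMap A A' f))) :=
    IsHausdorff.map_algebraMap_iff.mpr inferInstance
  -- the square of completions commutes
  have hcomp : (β.comp ψ).comp (algebraMap (Localization.Away f) (CL I f)) =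
      (ψ'.comp α).comp (algebraMap (Localization.Away f) (CL I f)) := by
    have hL : (β.comp ψ).comp (algebraMap (Localization.Away f) (CL I f)) =
        (algebraMap (Localization.Away (algebraMap A' B' (algebraMap A A' f)))
          (CL ((I.map (algebraMap A A')).map (algebraMap A' B'))
            (algebraMap A' B' (algebraMap A A' f)))).comp
          (φ_BB'.comp (Localization.awayMap (algebraMap A B) f)) := by
      rw [RingHom.comp_assoc, hψ, ← RingHom.comp_assoc, compat_β, RingHom.comp_assoc]
    have hR : (ψ'.comp α).comp (algebraMap (Localization.Away f) (CL I f)) =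
        (algebraMap (Localization.Away (algebraMap A' B' (algebraMap A A' f)))
          (CL ((I.map (algebraMap A A')).map (algebraMap A' B'))
            (algebraMap A' B' (algebraMap A A' f)))).comp
          ((Localization.awayMap (algebraMap A' B') (algebraMap A A' f)).comp
            (Localization.awayMap (algebraMap A A') f)) := by
      rw [RingHom.comp_assoc, compat_α, ← RingHom.comp_assoc, compat_ψ', RingHom.comp_assoc]
    rw [hL, hR, hsq₁]
  have hsq : β.comp ψ = ψ'.comp α := by
    refine Groth.Agent.Lib.Helper16.RigCl7.ringHom_ext (I.map (algebraMap A (Localization.Away f)))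
      (K := (((I.map (algebraMap A A')).map (algebraMap A' B')).map
        (algebraMap B' (Localization.Away (algebraMap A' B' (algebraMap A A' f))))).map
        (algebraMap (Localization.Away (algebraMap A' B' (algebraMap A A' f)))
          (CL ((I.map (algebraMap A A')).map (algebraMap A' B'))
            (algebraMap A' B' (algebraMap A A' f)))))
      (IsNoetherian.noetherian _) (β.comp ψ) (ψ'.comp α) ?_ hcomp
    rw [RingHom.comp_assoc, hψ, ← RingHom.comp_assoc, compat_β, RingHom.comp_assoc]
    refine (Ideal.map_map _ _).symm.le.trans ?_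
    refine Ideal.map_mono ?_
    refine (Ideal.map_map _ _).symm.le.trans ?_
    exact (congrArg (Ideal.map _) hAB).le.trans hBB'.le
  -- flatness
  have hα : α.Flat := flat_complMap _ _ _ hAA'.le
    (flat_of_isLocalization_map f (algebraMap A A' f) _ (IsLocalization.map_comp _))
  have hφflat : φ_BB'.Flat := flat_of_isLocalization_map (algebraMap A B f)
    (algebraMap A' B' (algebraMap A A' f)) φ_BB' hφ_BB'
  have hβ : β.Flat := flat_complMap _ _ _ hBB'.le hφflat
  -- lying over
  have hLO := exists_prime_comap_complMap_eq _ _ φ_BB' hBB'.le hφflat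
    (fun P₀ hP₀ hJ => open_primes_lift (I.map (algebraMap A B))
      ((I.map (algebraMap A A')).map (algebraMap A' B')) hIB'.ge (algebraMap A B f)
      (algebraMap A' B' (algebraMap A A' f)) (algebraMap_eq_aux f) φ_BB' hφ_BB' P₀ hP₀ hJ)
    q.asIdeal
  have hK : ((((I.map (algebraMap A B)).map
      (algebraMap B (Localization.Away (algebraMap A B f)))).map
      (algebraMap (Localization.Away (algebraMap A B f))
        (CL (I.map (algebraMap A B)) (algebraMap A B f))))).map β =
      (((I.map (algebraMap A A')).map (algebraMap A' B')).map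
        (algebraMap B' (Localization.Away (algebraMap A' B' (algebraMap A A' f))))).map
        (algebraMap (Localization.Away (algebraMap A' B' (algebraMap A A' f)))
          (CL ((I.map (algebraMap A A')).map (algebraMap A' B'))
            (algebraMap A' B' (algebraMap A A' f)))) := by
    refine (Ideal.map_map _ _).trans ?_
    rw [compat_β]
    refine (Ideal.map_map _ _).symm.trans ?_
    exact congrArg (Ideal.map _) hBB'
  exact flat_descent_abstract _ _ ψ α β ψ' hsq hK hα hβ
    (fun r₁ hr₁ => hA'B' (algebraMap A A' f) ψ' compat_ψ' r₁ hr₁) q hq hLO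

end concrete

end Groth.Agent.Lib.Helper16.RigCl8
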