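import Mathlib
import Groth.Agent.Lib.Helper16.RigCl1
import Groth.Agent.Lib.Helper16.RigCl4
import Groth.Agent.Lib.Helper16.RigCl6
import Groth.Agent.Lib.Helper16.RigCl7
import Groth.Agent.Lib.Helper16.RigCl8
import Groth.Agent.Lib.Helper2.LocalCrit
import Groth.Agent.Lib.Helper2.FlatSquare
import Groth.Agent.Lib.Helper7.FlatDescentFF

set_option autoImplicit false
universe u

namespace Groth.Agent.Lib.Helper16.RigCl9

open Groth.Agent.Lib.Helper16.RigCl TensorProduct

section rel

variable {A : Type u} [CommRing A] [IsNoetherianRing A] (I : Ideal A) [IsAdicComplete I A]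
  {B : Type u} [CommRing B] [Algebra A B] [IsNoetherianRing B]
  [IsAdicComplete (I.map (algebraMap A B)) B]
  [Algebra.QuasiFinite A (B ⧸ (I.map (algebraMap A B)))]
  [Algebra.FormallyUnramified A (B ⧸ (I.map (algebraMap A B)))]

omit [IsNoetherianRing B] [IsAdicComplete (I.map (algebraMap A B)) B]
  [Algebra.FormallyUnramified A (B ⧸ (I.map (algebraMap A B)))] in
/-- `B/(p+I)B` is finite over `A` when `B/IB` is quasi-finite over `A` and `p` is rig-closed. -/
lemma finite_quot_map_sup {p : PrimeSpectrum A} (hp : RC I p) :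
    Module.Finite A (B ⧸ (p.asIdeal ⊔ I).map (algebraMap A B)) := by
  haveI := Groth.Agent.Lib.Helper16.RigCl4.isArtinianRing_quot_sup I hp
  have hle : I.map (algebraMap A B) ≤ (p.asIdeal ⊔ I).map (algebraMap A B) :=
    Ideal.map_mono le_sup_right
  haveI : Algebra.QuasiFinite A (B ⧸ (p.asIdeal ⊔ I).map (algebraMap A B)) :=
    Algebra.QuasiFinite.of_surjective_algHom (Ideal.Quotient.factorₐ A hle)
      (Ideal.Quotient.factor_surjective hle)
  haveI : Algebra.QuasiFinite (A ⧸ (p.asIdeal ⊔ I)) (B ⧸ (p.asIdeal ⊔ I).map (algebraMap A B)) :=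
    Algebra.QuasiFinite.of_restrictScalars A _ _
  haveI : Module.Finite (A ⧸ (p.asIdeal ⊔ I)) (B ⧸ (p.asIdeal ⊔ I).map (algebraMap A B)) :=
    Module.Finite.of_quasiFinite
  exact Module.Finite.trans (A ⧸ (p.asIdeal ⊔ I)) _

omit [Algebra.FormallyUnramified A (B ⧸ (I.map (algebraMap A B)))] in
/-- `B/pB` is finite over `A`. -/
lemma finite_quot_map {p : PrimeSpectrum A} (hp : RC I p) :
    Module.Finite A (B ⧸ p.asIdeal.map (algebraMap A B)) := by
  haveI := Groth.Agent.Lib.Helper16.RigCl4.isHausdorff_quot' I (p.asIdeal.map (algebraMap A B))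
  have h1 := finite_quot_map_sup (B := B) I hp
  have h2 : Module.Finite A
      (B ⧸ (p.asIdeal.map (algebraMap A B) ⊔ I.map (algebraMap A B))) :=
    Module.Finite.equiv (Ideal.quotientEquivAlgOfEq A (Ideal.map_sup _ _ _)).toLinearEquiv
  exact Groth.Agent.Lib.Helper5.ComplKaehler.finite_of_finite_quotient I
    (finite_quot_smul_top I _ h2)

/-- `B/pB` is unramified over `A`. -/
lemma formallyUnramified_quot_map {p : PrimeSpectrum A} (hp : RC I p) :
    Algebra.FormallyUnramified A (B ⧸ p.asIdeal.map (algebraMap A B)) := by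
  haveI hfin := finite_quot_map (B := B) I hp
  set pB : Ideal B := p.asIdeal.map (algebraMap A B) with hpB
  have hker : ∀ x ∈ I.map (algebraMap A B),
      ((Ideal.Quotient.mkₐ A (I.map (algebraMap A (B ⧸ pB)))).comp (Ideal.Quotient.mkₐ A pB)) x = 0 := by
    intro x hx
    change Ideal.Quotient.mk _ (Ideal.Quotient.mk pB x) = 0
    rw [Ideal.Quotient.eq_zero_iff_mem]
    have h1 : Ideal.Quotient.mk pB x ∈ (I.map (algebraMap A B)).map (Ideal.Quotient.mk pB) :=
      Ideal.mem_map_of_mem _ hx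
    rw [Ideal.map_map] at h1
    exact h1
  let f : (B ⧸ (I.map (algebraMap A B))) →ₐ[A] ((B ⧸ pB) ⧸ I.map (algebraMap A (B ⧸ pB))) :=
    Ideal.Quotient.liftₐ (I.map (algebraMap A B))
      ((Ideal.Quotient.mkₐ A (I.map (algebraMap A (B ⧸ pB)))).comp (Ideal.Quotient.mkₐ A pB)) hker
  have hf : Function.Surjective f := by
    intro z
    obtain ⟨y, rfl⟩ := Ideal.Quotient.mk_surjective z
    obtain ⟨b, rfl⟩ := Ideal.Quotient.mk_surjective y
    exact ⟨Ideal.Quotient.mk _ b, rfl⟩
  haveI : Algebra.FormallyUnramified A ((B ⧸ pB) ⧸ I.map (algebraMap A (B ⧸ pB))) :=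
    Algebra.FormallyUnramified.of_surjective f hf
  haveI : Algebra.FormallyUnramified (A ⧸ I) ((B ⧸ pB) ⧸ I.map (algebraMap A (B ⧸ pB))) :=
    Algebra.FormallyUnramified.of_restrictScalars A _ _
  haveI : Algebra.FormallyUnramified (A ⧸ I) ((A ⧸ I) ⊗[A] (B ⧸ pB)) :=
    Algebra.FormallyUnramified.of_equiv (Algebra.TensorProduct.quotIdealMapEquivQuotTensor (B ⧸ pB) I)
  haveI : Subsingleton (Ω[((A ⧸ I) ⊗[A] (B ⧸ pB))⁄(A ⧸ I)]) :=
    Algebra.FormallyUnramified.subsingleton_kaehlerDifferential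
  letI : Algebra (B ⧸ pB) ((A ⧸ I) ⊗[A] (B ⧸ pB)) := Algebra.TensorProduct.rightAlgebra
  haveI : Subsingleton ((A ⧸ I) ⊗[A] Ω[(B ⧸ pB)⁄A]) :=
    (KaehlerDifferential.tensorKaehlerEquivBase A (A ⧸ I) (B ⧸ pB) ((A ⧸ I) ⊗[A] (B ⧸ pB))).subsingleton
  haveI : Subsingleton (Ω[(B ⧸ pB)⁄A] ⧸ (I • ⊤ : Submodule A Ω[(B ⧸ pB)⁄A])) :=
    (TensorProduct.quotTensorEquivQuotSMul Ω[(B ⧸ pB)⁄A] I).symm.subsingleton
  have htop : (I • ⊤ : Submodule A Ω[(B ⧸ pB)⁄A]) = ⊤ :=
    Submodule.Quotient.subsingleton_iff.mp inferInstance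
  haveI : Module.Finite A Ω[(B ⧸ pB)⁄A] := Module.Finite.trans (B ⧸ pB) _
  have hbot : (⊤ : Submodule A Ω[(B ⧸ pB)⁄A]) = ⊥ :=
    Submodule.eq_bot_of_le_smul_of_le_jacobson_bot I ⊤ Module.Finite.fg_top
      (le_of_eq htop.symm) (IsAdicComplete.le_jacobson_bot I)
  refine ⟨?_⟩
  rw [← Submodule.subsingleton_iff A, ← subsingleton_iff_bot_eq_top]
  exact hbot.symm

/-- `p B_q = q B_q` -/
theorem main (q : PrimeSpectrum B)
    (hp : RC I (PrimeSpectrum.comap (algebraMap A B) q)) :
    ((PrimeSpectrum.comap (algebraMap A B) q).asIdeal.map (algebraMap A B)).map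
        (algebraMap B (Localization.AtPrime q.asIdeal)) =
      IsLocalRing.maximalIdeal (Localization.AtPrime q.asIdeal) := by
  set p : PrimeSpectrum A := PrimeSpectrum.comap (algebraMap A B) q with hpdef
  set pB : Ideal B := p.asIdeal.map (algebraMap A B) with hpB
  haveI hfin : Module.Finite A (B ⧸ pB) := finite_quot_map (B := B) I hp
  haveI hunr : Algebra.FormallyUnramified A (B ⧸ pB) := formallyUnramified_quot_map (B := B) I hp
  have hpBq : pB ≤ q.asIdeal := by
    rw [hpB, Ideal.map_le_iff_le_comap]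
    exact le_refl _
  have hkerq : RingHom.ker (Ideal.Quotient.mk pB) ≤ q.asIdeal := by
    rw [Ideal.mk_ker]; exact hpBq
  haveI hq₀ : (q.asIdeal.map (Ideal.Quotient.mk pB)).IsPrime :=
    Ideal.map_isPrime_of_surjective Ideal.Quotient.mk_surjective hkerq
  set q₀ : Ideal (B ⧸ pB) := q.asIdeal.map (Ideal.Quotient.mk pB) with hq₀def
  have hcomap : q₀.comap (Ideal.Quotient.mk pB) = q.asIdeal := by
    rw [hq₀def, Ideal.comap_map_of_surjective' _ Ideal.Quotient.mk_surjective]
    exact sup_eq_left.mpr hkerq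
  letI := Localization.AtPrime.algebraOfLiesOver (q₀.under A) q₀
  have hmax := ((Algebra.isUnramifiedAt_iff_map_eq A (q₀.under A) q₀).mp inferInstance).2
  have hbot : IsLocalRing.maximalIdeal (Localization.AtPrime q₀) = ⊥ := by
    rw [← hmax, Ideal.map_eq_bot_iff_le_ker]
    intro a ha
    rw [RingHom.mem_ker]
    have ha' : algebraMap A B a ∈ q.asIdeal := by
      rw [← hcomap, Ideal.mem_comap]
      exact ha
    have ha'' : algebraMap A B a ∈ pB := Ideal.mem_map_of_mem _ ha'
    rw [IsScalarTower.algebraMap_apply A (B ⧸ pB) (Localization.AtPrime q₀),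
      IsScalarTower.algebraMap_apply A B (B ⧸ pB), Ideal.Quotient.algebraMap_eq,
      Ideal.Quotient.eq_zero_iff_mem.mpr ha'', map_zero]
  apply le_antisymm
  · rw [← Localization.AtPrime.map_eq_maximalIdeal]
    exact Ideal.map_mono hpBq
  · rw [← Localization.AtPrime.map_eq_maximalIdeal, Ideal.map_le_iff_le_comap]
    intro x hx
    rw [Ideal.mem_comap]
    have hx₀ : Ideal.Quotient.mk pB x ∈ q₀ := Ideal.mem_map_of_mem _ hx
    have h0 : algebraMap (B ⧸ pB) (Localization.AtPrime q₀) (Ideal.Quotient.mk pB x) = 0 := by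
      have : algebraMap (B ⧸ pB) (Localization.AtPrime q₀) (Ideal.Quotient.mk pB x) ∈
          IsLocalRing.maximalIdeal (Localization.AtPrime q₀) := by
        rw [← Localization.AtPrime.map_eq_maximalIdeal]
        exact Ideal.mem_map_of_mem _ hx₀
      rw [hbot] at this
      exact this
    obtain ⟨⟨s₀, hs₀⟩, hs⟩ := (IsLocalization.map_eq_zero_iff q₀.primeCompl _ _).mp h0
    obtain ⟨s, rfl⟩ := Ideal.Quotient.mk_surjective s₀
    have hsq : s ∉ q.asIdeal := fun h => hs₀ (Ideal.mem_map_of_mem _ h)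
    have hsx : s * x ∈ pB := by
      rw [← Ideal.Quotient.eq_zero_iff_mem, map_mul]
      exact hs
    have hunit : IsUnit (algebraMap B (Localization.AtPrime q.asIdeal) s) :=
      IsLocalization.map_units (M := q.asIdeal.primeCompl) _ ⟨s, hsq⟩
    have := Ideal.mem_map_of_mem (algebraMap B (Localization.AtPrime q.asIdeal)) hsx
    rw [map_mul] at this
    exact (Ideal.unit_mul_mem_iff_mem _ hunit).mp this

/-- **Core lemma.** A Noetherian local `B`-algebra `N` which is flat over `A` is flat over `B`,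
when `B/IB` is quasi-finite and unramified over `A` and the contraction to `A` of the maximal ideal
of `N` is rig-closed. -/
theorem flat_of_unram (N : Type u) [CommRing N] [IsLocalRing N] [IsNoetherianRing N]
    [Algebra A N] [Algebra B N] [IsScalarTower A B N] [Module.Flat A N]
    (hp : RC I ⟨(IsLocalRing.maximalIdeal N).comap (algebraMap A N), Ideal.comap_isPrime _ _⟩) :
    Module.Flat B N := by
  let q : PrimeSpectrum B := ⟨(IsLocalRing.maximalIdeal N).comap (algebraMap B N),
    Ideal.comap_isPrime _ _⟩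
  have hqp : PrimeSpectrum.comap (algebraMap A B) q =
      ⟨(IsLocalRing.maximalIdeal N).comap (algebraMap A N), Ideal.comap_isPrime _ _⟩ := by
    apply PrimeSpectrum.ext
    ext a
    change algebraMap B N (algebraMap A B a) ∈ IsLocalRing.maximalIdeal N ↔
      algebraMap A N a ∈ IsLocalRing.maximalIdeal N
    rw [← IsScalarTower.algebraMap_apply A B N]
  have hp' : RC I (PrimeSpectrum.comap (algebraMap A B) q) := hqp ▸ hp
  have hmain := main I q hp'
  let R := Localization.AtPrime q.asIdeal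
  haveI : IsNoetherianRing R := IsLocalization.isNoetherianRing q.asIdeal.primeCompl R inferInstance
  have hunits : ∀ y : q.asIdeal.primeCompl, IsUnit (algebraMap B N y) := by
    rintro ⟨y, hy⟩
    by_contra hnu
    exact hy ((IsLocalRing.mem_maximalIdeal _).mpr hnu)
  letI algRN : Algebra R N := (IsLocalization.lift (M := q.asIdeal.primeCompl) hunits).toAlgebra
  haveI towBRN : IsScalarTower B R N := IsScalarTower.of_algebraMap_eq (fun b =>
    (IsLocalization.lift_eq (M := q.asIdeal.primeCompl) hunits b).symm)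
  haveI towARN : IsScalarTower A R N := IsScalarTower.of_algebraMap_eq (fun a => by
    rw [IsScalarTower.algebraMap_apply A B R, ← IsScalarTower.algebraMap_apply B R N,
      ← IsScalarTower.algebraMap_apply A B N])
  set p : Ideal A := (PrimeSpectrum.comap (algebraMap A B) q).asIdeal with hpdef
  set J : Ideal R := p.map (algebraMap A R) with hJdef
  have hJ : J = IsLocalRing.maximalIdeal R := by
    rw [← hmain, hJdef]
    refine Eq.trans ?_ (Ideal.map_map _ _).symm
    exact congrArg (fun φ => Ideal.map φ p) (IsScalarTower.algebraMap_eq A B R)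
  have hJac : J.map (algebraMap R N) ≤ Ideal.jacobson ⊥ := by
    rw [IsLocalRing.jacobson_eq_maximalIdeal ⊥ bot_ne_top]
    refine Ideal.map_le_iff_le_comap.mpr (Ideal.map_le_iff_le_comap.mpr fun a ha => ?_)
    change algebraMap R N (algebraMap A R a) ∈ IsLocalRing.maximalIdeal N
    rw [← IsScalarTower.algebraMap_apply A R N, IsScalarTower.algebraMap_apply A B N]
    exact ha
  haveI hJmax : J.IsMaximal := hJ ▸ IsLocalRing.maximalIdeal.isMaximal R
  haveI : Module.Flat (R ⧸ J) ((R ⧸ J) ⊗[R] N) := by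
    letI : Field (R ⧸ J) := Ideal.Quotient.field J
    haveI : Module.Free (R ⧸ J) ((R ⧸ J) ⊗[R] N) := Module.Free.of_divisionRing _ _
    exact Module.Flat.of_free
  haveI : Module.Flat R N :=
    Groth.Agent.Lib.Helper2.LocalCrit.flat_of_injective_of_flat_quotient (R := R) (S := N)
      (M := N) J hJac
      (Groth.Agent.Lib.Helper2.FlatSquare.lTensor_map_subtype_injective p)
  exact Module.Flat.trans B R N

end rel

section descent

variable {A₀ B₀ A₁ B₁ : Type u} [CommRing A₀] [CommRing B₀] [CommRing A₁] [CommRing B₁]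
  (ψ : A₀ →+* B₀) (α : A₀ →+* A₁) (β : B₀ →+* B₁) (ψ' : A₁ →+* B₁)

/-- descent of flatness of a local ring along a flat local extension -/
lemma flat_descent_one (hsq : β.comp ψ = ψ'.comp α)
    (hα : α.Flat) (hβ : β.Flat)
    (q : PrimeSpectrum B₀) (q' : PrimeSpectrum B₁) (hcontr : q'.asIdeal.comap β = q.asIdeal)
    (h' : ((algebraMap B₁ (Localization.AtPrime q'.asIdeal)).comp ψ').Flat) :
    ((algebraMap B₀ (Localization.AtPrime q.asIdeal)).comp ψ).Flat := by
  letI algB : Algebra B₀ B₁ := β.toAlgebra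
  haveI : Module.Flat B₀ B₁ := hβ
  haveI hlo : q'.asIdeal.LiesOver q.asIdeal := ⟨hcontr.symm⟩
  letI := Localization.AtPrime.algebraOfLiesOver q.asIdeal q'.asIdeal
  haveI : IsLocalHom (algebraMap (Localization.AtPrime q.asIdeal)
      (Localization.AtPrime q'.asIdeal)) := Localization.isLocalHom_localRingHom _ _ _ _
  haveI : Module.FaithfullyFlat (Localization.AtPrime q.asIdeal)
      (Localization.AtPrime q'.asIdeal) := Module.FaithfullyFlat.of_flat_of_isLocalHom
  letI algA0B0q : Algebra A₀ (Localization.AtPrime q.asIdeal) :=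
    ((algebraMap B₀ (Localization.AtPrime q.asIdeal)).comp ψ).toAlgebra
  letI algA0B1q : Algebra A₀ (Localization.AtPrime q'.asIdeal) :=
    (((algebraMap B₁ (Localization.AtPrime q'.asIdeal)).comp ψ').comp α).toAlgebra
  haveI : IsScalarTower A₀ (Localization.AtPrime q.asIdeal) (Localization.AtPrime q'.asIdeal) :=
    IsScalarTower.of_algebraMap_eq (fun x => by
      change algebraMap B₁ (Localization.AtPrime q'.asIdeal) (ψ' (α x)) =
        Localization.localRingHom q.asIdeal q'.asIdeal (algebraMap B₀ B₁) _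
          (algebraMap B₀ (Localization.AtPrime q.asIdeal) (ψ x))
      rw [Localization.localRingHom_to_map]
      have := RingHom.congr_fun hsq x
      simp only [RingHom.comp_apply] at this
      rw [← this]
      rfl)
  haveI : Module.Flat A₀ (Localization.AtPrime q'.asIdeal) := RingHom.Flat.comp hα h'
  change Module.Flat A₀ (Localization.AtPrime q.asIdeal)
  exact Groth.Agent.Lib.Helper7.FlatDescentFF.flat_of_flat_of_faithfullyFlat A₀
    (Localization.AtPrime q.asIdeal) (Localization.AtPrime q'.asIdeal)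

end descent

end Groth.Agent.Lib.Helper16.RigCl9
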