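import Mathlib
import Groth.Agent.Lib.Helper16.RigCl9

set_option autoImplicit false
universe u

namespace Groth.Agent.Lib.Helper16.RigCl10

open Groth.Agent.Lib.Helper16.RigCl TensorProduct

/-- the completed localisation `R_{x}` with respect to the ideal `K` -/
local notation "CL" K:max x:max => AdicCompletion (Ideal.map (algebraMap _ (Localization.Away x)) K)
  (Localization.Away x)

section cmap

variable {R S : Type u} [CommRing R] [CommRing S] (φ : R →+* S) (J : Ideal R) (K : Ideal S)
  (hJK : J.map φ ≤ K) (x : R) (y : S) (hy : φ x = y)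

/-- the localised map `R[1/x] → S[1/y]` -/
noncomputable def lmap : Localization.Away x →+* Localization.Away y :=
  IsLocalization.Away.lift x (g := (algebraMap S (Localization.Away y)).comp φ)
    (by rw [RingHom.comp_apply, hy]; exact IsLocalization.Away.algebraMap_isUnit y)

lemma lmap_algebraMap (r : R) :
    lmap φ x y hy (algebraMap R (Localization.Away x) r) =
      algebraMap S (Localization.Away y) (φ r) :=
  IsLocalization.Away.lift_eq _ _ _

lemma lmap_comp : (lmap φ x y hy).comp (algebraMap R (Localization.Away x)) =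
    (algebraMap S (Localization.Away y)).comp φ :=
  RingHom.ext fun r => lmap_algebraMap φ x y hy r

include hJK in
lemma map_lmap_le : (J.map (algebraMap R (Localization.Away x))).map (lmap φ x y hy) ≤
    K.map (algebraMap S (Localization.Away y)) := by
  refine (Ideal.map_map _ _).le.trans ?_
  rw [lmap_comp]
  refine (Ideal.map_map _ _).symm.le.trans ?_
  exact Ideal.map_mono hJK

/-- the completed localised map `R_{x} → S_{y}` -/
noncomputable def cmap : CL J x →+* CL K y :=
  FSch.complMap _ _ (lmap φ x y hy) (map_lmap_le φ J K hJK x y hy)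

lemma cmap_algebraMap₁ (r : Localization.Away x) :
    cmap φ J K hJK x y hy (algebraMap (Localization.Away x) (CL J x) r) =
      algebraMap (Localization.Away y) (CL K y) (lmap φ x y hy r) :=
  Groth.Agent.Lib.Helper12.FComplA.complMap_algebraMap _ _ _ _ r

lemma cmap_algebraMap (r : R) :
    cmap φ J K hJK x y hy (algebraMap R (CL J x) r) = algebraMap S (CL K y) (φ r) := by
  rw [IsScalarTower.algebraMap_apply R (Localization.Away x) (CL J x), cmap_algebraMap₁,
    lmap_algebraMap, ← IsScalarTower.algebraMap_apply S (Localization.Away y) (CL K y)]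

lemma lmap_eq_awayMap : lmap φ x (φ x) rfl = Localization.awayMap φ x := by
  apply IsLocalization.ringHom_ext (Submonoid.powers x)
  ext r
  rw [RingHom.comp_apply, RingHom.comp_apply, lmap_algebraMap, Localization.awayMap,
    IsLocalization.Away.map, IsLocalization.map_eq]

lemma cmap_compat : (cmap φ J K hJK x (φ x) rfl).comp
      (algebraMap (Localization.Away x) (CL J x)) =
    (algebraMap (Localization.Away (φ x)) (CL K (φ x))).comp (Localization.awayMap φ x) := by
  ext r
  rw [RingHom.comp_apply, RingHom.comp_apply, cmap_algebraMap₁, lmap_eq_awayMap]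

lemma lmap_flat (hφ : φ.Flat) : (lmap φ x y hy).Flat := by
  letI : Algebra R S := φ.toAlgebra
  haveI : Module.Flat R S := hφ
  exact Groth.Agent.Lib.Helper16.RigCl8.flat_of_isLocalization_map x y _ (lmap_comp φ x y hy)

lemma cmap_flat [IsNoetherianRing R] [IsNoetherianRing S] (hφ : φ.Flat) :
    (cmap φ J K hJK x y hy).Flat := by
  haveI : IsNoetherianRing (Localization.Away x) :=
    IsLocalization.isNoetherianRing (Submonoid.powers x) _ inferInstance
  haveI : IsNoetherianRing (Localization.Away y) :=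
    IsLocalization.isNoetherianRing (Submonoid.powers y) _ inferInstance
  exact Groth.Agent.Lib.Helper16.RigCl8.flat_complMap _ _ _ _ (lmap_flat φ x y hy hφ)

/-- ring maps out of a completed localisation into a separated ring are determined on `R` -/
lemma cl_ringHom_ext [IsNoetherianRing R] {T : Type u} [CommRing T] (K_T : Ideal T)
    [IsHausdorff K_T T] (ψ₁ ψ₂ : CL J x →+* T)
    (h₁ : J.map (ψ₁.comp (algebraMap R (CL J x))) ≤ K_T)
    (h : ψ₁.comp (algebraMap R (CL J x)) = ψ₂.comp (algebraMap R (CL J x))) : ψ₁ = ψ₂ := by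
  haveI : IsNoetherianRing (Localization.Away x) :=
    IsLocalization.isNoetherianRing (Submonoid.powers x) _ inferInstance
  have e : ∀ ψ : CL J x →+* T, ψ.comp (algebraMap R (CL J x)) =
      (ψ.comp (algebraMap (Localization.Away x) (CL J x))).comp
        (algebraMap R (Localization.Away x)) := by
    intro ψ
    rw [RingHom.comp_assoc, ← IsScalarTower.algebraMap_eq R (Localization.Away x) (CL J x)]
  refine Groth.Agent.Lib.Helper16.RigCl7.ringHom_ext (J.map (algebraMap R (Localization.Away x)))
    K_T (IsNoetherian.noetherian _) ψ₁ ψ₂ ?_ ?_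
  · refine (Ideal.map_map _ _).le.trans ?_
    rw [← e]
    exact h₁
  · apply IsLocalization.ringHom_ext (Submonoid.powers x)
    rw [← e, ← e]
    exact h

end cmap

section cloc

variable {A : Type u} [CommRing A] (I : Ideal A)
  {B : Type u} [CommRing B] [Algebra A B] [IsNoetherianRing B] (g : B)

local notation "B₁" => Localization.Away g
local notation "B'" => AdicCompletion (Ideal.map
  (algebraMap B (Localization.Away g)) (Ideal.map (algebraMap A B) I)) (Localization.Away g)

/-- `B_{g}/I B_{g}` is a quotient of the localisation `(B/IB)[1/g]`, as `A`-algebras. -/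
lemma exists_surj_away :
    ∃ e : Localization.Away (Ideal.Quotient.mk (I.map (algebraMap A B)) g) →ₐ[A]
      (B' ⧸ I.map (algebraMap A B')), Function.Surjective e := by
  set K : Ideal B' := I.map (algebraMap A B') with hK
  let c₀ : B →ₐ[A] B' ⧸ K := (Ideal.Quotient.mkₐ A K).comp (IsScalarTower.toAlgHom A B B')
  have hc₀ : ∀ x ∈ I.map (algebraMap A B), c₀ x = 0 := by
    intro x hx
    change Ideal.Quotient.mk K (algebraMap B B' x) = 0
    rw [Ideal.Quotient.eq_zero_iff_mem]
    have : algebraMap B B' x ∈ (I.map (algebraMap A B)).map (algebraMap B B') :=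
      Ideal.mem_map_of_mem _ hx
    have e : (I.map (algebraMap A B)).map (algebraMap B B') = K :=
      (Ideal.map_map _ _).trans
        (congrArg (fun φ => Ideal.map φ I) (IsScalarTower.algebraMap_eq A B B').symm)
    rw [← e]
    exact this
  let c : (B ⧸ I.map (algebraMap A B)) →ₐ[A] B' ⧸ K :=
    Ideal.Quotient.liftₐ (I.map (algebraMap A B)) c₀ hc₀
  have hcmk : ∀ b : B, c (Ideal.Quotient.mk _ b) = c₀ b := fun b => rfl
  have hu : IsUnit (c₀ g) :=
    (Groth.Agent.Lib.Helper16.RigCl6.isUnit_g I g).map (Ideal.Quotient.mk K)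
  have hunits : ∀ y : Submonoid.powers (Ideal.Quotient.mk (I.map (algebraMap A B)) g),
      IsUnit (c y) := by
    rintro ⟨_, ⟨k, rfl⟩⟩
    rw [map_pow, hcmk]
    exact hu.pow k
  let e : Localization.Away (Ideal.Quotient.mk (I.map (algebraMap A B)) g) →ₐ[A] B' ⧸ K :=
    IsLocalization.liftAlgHom (M := Submonoid.powers (Ideal.Quotient.mk (I.map (algebraMap A B)) g))
      (f := c) hunits
  have he_alg : ∀ z : B ⧸ I.map (algebraMap A B), e (algebraMap _ _ z) = c z := fun z =>
    IsLocalization.lift_eq _ z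
  refine ⟨e, ?_⟩
  intro z
  obtain ⟨y, rfl⟩ := Ideal.Quotient.mk_surjective z
  obtain ⟨b₁, hb₁⟩ := Groth.Agent.Lib.Helper16.RigCl5.exists_sub_mem_map_self
    ((I.map (algebraMap A B)).map (algebraMap B B₁)) y
  rw [← Groth.Agent.Lib.Helper16.RigCl6.map_eq' I g] at hb₁
  obtain ⟨b, ⟨_, ⟨k, rfl⟩⟩, rfl⟩ := IsLocalization.exists_mk'_eq (Submonoid.powers g) b₁
  let gk : Submonoid.powers (Ideal.Quotient.mk (I.map (algebraMap A B)) g) :=
    ⟨(Ideal.Quotient.mk (I.map (algebraMap A B)) g) ^ k, ⟨k, rfl⟩⟩
  refine ⟨IsLocalization.mk' _ (Ideal.Quotient.mk (I.map (algebraMap A B)) b) gk, ?_⟩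
  have h2 : Ideal.Quotient.mk K y = Ideal.Quotient.mk K (algebraMap B₁ B'
      (IsLocalization.mk' B₁ b (⟨g ^ k, ⟨k, rfl⟩⟩ : Submonoid.powers g))) :=
    (Ideal.Quotient.mk_eq_mk_iff_sub_mem _ _).mpr hb₁
  rw [h2]
  have hunit : IsUnit (c₀ g ^ k) := hu.pow k
  apply hunit.mul_right_cancel
  have hspec := IsLocalization.mk'_spec
    (Localization.Away (Ideal.Quotient.mk (I.map (algebraMap A B)) g))
    (Ideal.Quotient.mk (I.map (algebraMap A B)) b) gk
  have hL : e (IsLocalization.mk' _ (Ideal.Quotient.mk (I.map (algebraMap A B)) b) gk) *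
      c₀ g ^ k = c₀ b := by
    have := congrArg e hspec
    rw [map_mul, he_alg, he_alg, map_pow, hcmk, hcmk] at this
    exact this
  rw [hL]
  change Ideal.Quotient.mk K (algebraMap B B' b) =
    Ideal.Quotient.mk K _ * (Ideal.Quotient.mk K (algebraMap B B' g)) ^ k
  rw [← map_pow, ← map_mul, ← map_pow, IsScalarTower.algebraMap_apply B B₁ B' (g ^ k),
    ← map_mul]
  have := IsLocalization.mk'_spec B₁ b (⟨g ^ k, ⟨k, rfl⟩⟩ : Submonoid.powers g)
  rw [this, ← IsScalarTower.algebraMap_apply B B₁ B']

lemma quasiFinite' [Algebra.QuasiFinite A (B ⧸ (I.map (algebraMap A B)))] :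
    Algebra.QuasiFinite A (B' ⧸ I.map (algebraMap A B')) := by
  obtain ⟨e, he⟩ := exists_surj_away I g
  haveI : Algebra.QuasiFinite A
      (Localization.Away (Ideal.Quotient.mk (I.map (algebraMap A B)) g)) :=
    inferInstanceAs (Algebra.QuasiFinite A (Localization _))
  exact Algebra.QuasiFinite.of_surjective_algHom e he

lemma formallyUnramified' [Algebra.FormallyUnramified A (B ⧸ (I.map (algebraMap A B)))] :
    Algebra.FormallyUnramified A (B' ⧸ I.map (algebraMap A B')) := by
  obtain ⟨e, he⟩ := exists_surj_away I g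
  haveI : Algebra.FormallyUnramified (B ⧸ (I.map (algebraMap A B)))
      (Localization.Away (Ideal.Quotient.mk (I.map (algebraMap A B)) g)) :=
    Algebra.FormallyUnramified.of_isLocalization
      (Submonoid.powers (Ideal.Quotient.mk (I.map (algebraMap A B)) g))
  haveI : Algebra.FormallyUnramified A
      (Localization.Away (Ideal.Quotient.mk (I.map (algebraMap A B)) g)) :=
    Algebra.FormallyUnramified.comp A (B ⧸ (I.map (algebraMap A B))) _
  exact Algebra.FormallyUnramified.of_surjective e he

end cloc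

section fttrans

variable {A : Type u} [CommRing A] (I : Ideal A) {A' : Type u} [CommRing A'] [Algebra A A']
  {C : Type u} [CommRing C] [Algebra A C] [Algebra A' C] [IsScalarTower A A' C]

lemma finiteType_trans_quot
    (h₁ : Algebra.FiniteType A (A' ⧸ I.map (algebraMap A A')))
    (h₂ : Algebra.FiniteType A' (C ⧸ I.map (algebraMap A C))) :
    Algebra.FiniteType A (C ⧸ I.map (algebraMap A C)) := by
  set K : Ideal C := I.map (algebraMap A C) with hK
  have hle : I.map (algebraMap A A') ≤ K.comap (algebraMap A' C) := by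
    rw [Ideal.map_le_iff_le_comap]
    intro a ha
    change algebraMap A' C (algebraMap A A' a) ∈ K
    rw [← IsScalarTower.algebraMap_apply A A' C]
    exact Ideal.mem_map_of_mem _ ha
  let φ : A' ⧸ I.map (algebraMap A A') →+* C ⧸ K := Ideal.quotientMap K (algebraMap A' C) hle
  have hφ : φ.comp (Ideal.Quotient.mk _) = algebraMap A' (C ⧸ K) := by
    ext a'
    rfl
  have h1 : φ.FiniteType := by
    apply RingHom.FiniteType.of_comp_finiteType (f := Ideal.Quotient.mk (I.map (algebraMap A A')))
    rw [hφ]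
    exact RingHom.finiteType_algebraMap.mpr h₂
  have h3 : (algebraMap A (C ⧸ K)) = φ.comp (algebraMap A (A' ⧸ I.map (algebraMap A A'))) := by
    ext a
    change Ideal.Quotient.mk K (algebraMap A C a) = Ideal.Quotient.mk K (algebraMap A' C _)
    rw [← IsScalarTower.algebraMap_apply A A' C]
  rw [← RingHom.finiteType_algebraMap, h3]
  exact h1.comp (RingHom.finiteType_algebraMap.mpr h₁)

end fttrans

section abstractE

variable {Ab Bh Cb Et At Bt : Type u} [CommRing Ab] [CommRing Bh] [CommRing Cb] [CommRing Et]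
  [CommRing At] [CommRing Bt]
  [IsNoetherianRing Ab] [IsNoetherianRing Bh] [IsNoetherianRing Cb] [IsNoetherianRing Et]
  (IAb : Ideal Ab) [IsAdicComplete IAb Ab]
  [Algebra Ab Et] [IsAdicComplete (IAb.map (algebraMap Ab Et)) Et]
  [Algebra.QuasiFinite Ab (Et ⧸ IAb.map (algebraMap Ab Et))]
  [Algebra.FormallyUnramified Ab (Et ⧸ IAb.map (algebraMap Ab Et))]
  (K_B : Ideal Bh) (K_C : Ideal Cb)
  (ψ_h : Ab →+* Bh) (γ : Bh →+* Cb) (χ : Et →+* Cb) (ψ' : At →+* Bt) (α : At →+* Et)
  (β : Bt →+* Cb)

theorem abstract_core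
    (hAB : ∀ r₁ : PrimeSpectrum Bh, RC K_B r₁ →
      ((algebraMap Bh (Localization.AtPrime r₁.asIdeal)).comp ψ_h).Flat)
    (hγ : γ.Flat) (hK : K_C ≤ K_B.map γ)
    (hχ : χ.comp (algebraMap Ab Et) = γ.comp ψ_h)
    (hsq : β.comp ψ' = χ.comp α) (hα : α.Flat) (hβ : β.Flat)
    (q' : PrimeSpectrum Bt) (qb : PrimeSpectrum Cb) (hcontr : qb.asIdeal.comap β = q'.asIdeal)
    (hKq : ¬ K_C ≤ qb.asIdeal)
    (hrc : RC IAb ⟨qb.asIdeal.comap (γ.comp ψ_h), Ideal.comap_isPrime _ _⟩) :
    ((algebraMap Bt (Localization.AtPrime q'.asIdeal)).comp ψ').Flat := by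
  have hloc : (algebraMap Cb (Localization.AtPrime qb.asIdeal)).Flat :=
    RingHom.flat_algebraMap_iff.mpr
      (IsLocalization.flat (Localization.AtPrime qb.asIdeal) qb.asIdeal.primeCompl)
  have h1 : ((algebraMap Cb (Localization.AtPrime qb.asIdeal)).comp (γ.comp ψ_h)).Flat :=
    Groth.Agent.Lib.Helper16.RigCl7.flat_comp_abstract K_B K_C ψ_h γ hK hAB qb hKq
      (RingHom.Flat.comp hγ hloc)
  letI algAbN : Algebra Ab (Localization.AtPrime qb.asIdeal) :=
    ((algebraMap Cb (Localization.AtPrime qb.asIdeal)).comp (γ.comp ψ_h)).toAlgebra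
  letI algEtN : Algebra Et (Localization.AtPrime qb.asIdeal) :=
    ((algebraMap Cb (Localization.AtPrime qb.asIdeal)).comp χ).toAlgebra
  haveI : IsScalarTower Ab Et (Localization.AtPrime qb.asIdeal) :=
    IsScalarTower.of_algebraMap_eq (fun a => by
      change algebraMap Cb (Localization.AtPrime qb.asIdeal) (γ (ψ_h a)) =
        algebraMap Cb (Localization.AtPrime qb.asIdeal) (χ (algebraMap Ab Et a))
      have := RingHom.congr_fun hχ a
      simp only [RingHom.comp_apply] at this
      rw [this])
  haveI : Module.Flat Ab (Localization.AtPrime qb.asIdeal) := h1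
  haveI : IsNoetherianRing (Localization.AtPrime qb.asIdeal) :=
    IsLocalization.isNoetherianRing qb.asIdeal.primeCompl _ inferInstance
  have hide : (IsLocalRing.maximalIdeal (Localization.AtPrime qb.asIdeal)).comap
      (algebraMap Ab (Localization.AtPrime qb.asIdeal)) = qb.asIdeal.comap (γ.comp ψ_h) := by
    ext a
    change algebraMap Cb (Localization.AtPrime qb.asIdeal) (γ (ψ_h a)) ∈
      IsLocalRing.maximalIdeal (Localization.AtPrime qb.asIdeal) ↔ γ (ψ_h a) ∈ qb.asIdeal
    exact IsLocalization.AtPrime.to_map_mem_maximal_iff _ qb.asIdeal _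
  have hpe : (⟨(IsLocalRing.maximalIdeal (Localization.AtPrime qb.asIdeal)).comap
      (algebraMap Ab (Localization.AtPrime qb.asIdeal)), Ideal.comap_isPrime _ _⟩ :
        PrimeSpectrum Ab) = ⟨qb.asIdeal.comap (γ.comp ψ_h), Ideal.comap_isPrime _ _⟩ :=
    PrimeSpectrum.ext hide
  have hp : RC IAb ⟨(IsLocalRing.maximalIdeal (Localization.AtPrime qb.asIdeal)).comap
      (algebraMap Ab (Localization.AtPrime qb.asIdeal)), Ideal.comap_isPrime _ _⟩ := by
    rw [hpe]; exact hrc
  have h2 : Module.Flat Et (Localization.AtPrime qb.asIdeal) :=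
    Groth.Agent.Lib.Helper16.RigCl9.flat_of_unram IAb (Localization.AtPrime qb.asIdeal) hp
  exact Groth.Agent.Lib.Helper16.RigCl9.flat_descent_one ψ' α β χ hsq hα hβ q' qb hcontr h2

end abstractE

end Groth.Agent.Lib.Helper16.RigCl10
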