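import Mathlib
import Groth.Agent.Lib.Helper16.RigCl10
import Groth.Agent.S8840

set_option autoImplicit false
universe u

namespace Groth.Agent.Lib.Helper16.RigCl11

open Groth.Agent.Lib.Helper16.RigCl Groth.Agent.Lib.Helper16.RigCl10 TensorProduct

/-- the completed localisation `R_{x}` with respect to the ideal `K` -/
local notation "CL" K:max x:max => AdicCompletion (Ideal.map (algebraMap _ (Localization.Away x)) K)
  (Localization.Away x)

section aux

variable {A : Type u} [CommRing A] [IsNoetherianRing A] (I : Ideal A) [IsAdicComplete I A]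
  {B : Type u} [CommRing B] [Algebra A B] [IsNoetherianRing B]
  {A' : Type u} [CommRing A'] [Algebra A A'] [IsNoetherianRing A']
  {B' : Type u} [CommRing B'] [Algebra A B'] [Algebra B B'] [Algebra A' B']
  [IsScalarTower A B B'] [IsScalarTower A A' B'] [IsNoetherianRing B']
  [Module.Flat B B']
  [Algebra.QuasiFinite A (A' ⧸ (I.map (algebraMap A A')))]
  [Algebra.FormallyUnramified A (A' ⧸ (I.map (algebraMap A A')))]
  (f' : A') (h : A)

local notation "I'" => Ideal.map (algebraMap A A') I
local notation "At" => CL I' f'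
local notation "Bt" => CL (Ideal.map (algebraMap A' B') I') (algebraMap A' B' f')
local notation "Ab" => CL I h
local notation "Bh" => CL (Ideal.map (algebraMap A B) I) (algebraMap A B h)
local notation "Cb" => CL (Ideal.map (algebraMap A Bt) I) (algebraMap A Bt h)
local notation "Et" => CL (Ideal.map (algebraMap A At) I) (algebraMap A At h)

set_option maxHeartbeats 4000000 in
theorem aux
    (hAB : ∀ f : A, ∀ ψf : (CL I f) →+* (CL (I.map (algebraMap A B)) (algebraMap A B f)),
      ψf.comp (algebraMap (Localization.Away f) (CL I f)) =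
        (algebraMap (Localization.Away (algebraMap A B f))
          (CL (I.map (algebraMap A B)) (algebraMap A B f))).comp
          (Localization.awayMap (algebraMap A B) f) →
      ∀ qf : PrimeSpectrum (CL (I.map (algebraMap A B)) (algebraMap A B f)),
        RC (((I.map (algebraMap A B)).map
          (algebraMap B (Localization.Away (algebraMap A B f)))).map
          (algebraMap (Localization.Away (algebraMap A B f))
            (CL (I.map (algebraMap A B)) (algebraMap A B f)))) qf →
        ((algebraMap (CL (I.map (algebraMap A B)) (algebraMap A B f))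
          (Localization.AtPrime qf.asIdeal)).comp ψf).Flat)
    (ψ' : At →+* Bt)
    (hψ' : ψ'.comp (algebraMap (Localization.Away f') At) =
      (algebraMap (Localization.Away (algebraMap A' B' f')) Bt).comp
        (Localization.awayMap (algebraMap A' B') f'))
    (q' : PrimeSpectrum Bt)
    (hq'A : RC (I.map (algebraMap A Bt)) q')
    [hBtc : IsAdicComplete (I.map (algebraMap A Bt)) Bt]
    (hunit : IsUnit (Ideal.Quotient.mk q'.asIdeal (algebraMap A Bt h)))
    (hS : ∀ ψ : Ab →+* Cb, ψ.comp (algebraMap (Localization.Away h) Ab) =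
        (algebraMap (Localization.Away (algebraMap A Bt h)) Cb).comp
          (Localization.awayMap (algebraMap A Bt) h) →
      ((q'.asIdeal.map (algebraMap Bt Cb)).comap ψ).IsPrime ∧
      ¬ (I.map (algebraMap A Ab)) ≤ (q'.asIdeal.map (algebraMap Bt Cb)).comap ψ ∧
      ∀ y : PrimeSpectrum Ab, (q'.asIdeal.map (algebraMap Bt Cb)).comap ψ ≤ y.asIdeal →
        ¬ (I.map (algebraMap A Ab)) ≤ y.asIdeal →
        y.asIdeal = (q'.asIdeal.map (algebraMap Bt Cb)).comap ψ) :
    ((algebraMap Bt (Localization.AtPrime q'.asIdeal)).comp ψ').Flat := by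
  haveI hAtN : IsNoetherianRing At := Groth.Agent.Lib.Helper16.RigCl6.isNoetherianRing' I f'
  haveI hBtN : IsNoetherianRing Bt :=
    Groth.Agent.Lib.Helper16.RigCl6.isNoetherianRing' I' (algebraMap A' B' f')
  haveI hAbN : IsNoetherianRing Ab :=
    Groth.Agent.Lib.helper19.isNoetherianRing_adicCompletion _ _
  haveI hBhN : IsNoetherianRing Bh :=
    Groth.Agent.Lib.Helper16.RigCl6.isNoetherianRing' I (algebraMap A B h)
  haveI hCbN : IsNoetherianRing Cb :=
    Groth.Agent.Lib.Helper16.RigCl6.isNoetherianRing' I (algebraMap A Bt h)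
  haveI hEtN : IsNoetherianRing Et :=
    Groth.Agent.Lib.Helper16.RigCl6.isNoetherianRing' I (algebraMap A At h)
  haveI hCbc : IsAdicComplete (I.map (algebraMap A Cb)) Cb :=
    Groth.Agent.Lib.Helper16.RigCl6.isAdicComplete' I (algebraMap A Bt h)
  haveI hEtc : IsAdicComplete (I.map (algebraMap A Et)) Et :=
    Groth.Agent.Lib.Helper16.RigCl6.isAdicComplete' I (algebraMap A At h)
  -- `Ab` is complete
  have hIAb : I.map (algebraMap A Ab) = (I.map (algebraMap A (Localization.Away h))).map
      (algebraMap (Localization.Away h) Ab) := by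
    refine Eq.trans ?_ (Ideal.map_map _ _).symm
    exact congrArg (fun φ => Ideal.map φ I) (IsScalarTower.algebraMap_eq A (Localization.Away h) Ab)
  haveI hAbc : IsAdicComplete (I.map (algebraMap A Ab)) Ab := by
    have h0 : IsAdicComplete ((I.map (algebraMap A (Localization.Away h))).map
        (algebraMap (Localization.Away h) Ab)) Ab :=
      (IsAdicComplete.map_algebraMap_iff _ _).mpr
        (AdicCompletion.isAdicComplete (IsNoetherian.noetherian _))
    exact (congrArg (fun K : Ideal Ab => IsAdicComplete K Ab) hIAb).mpr h0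
  -- quasi-finite, unramified
  haveI hqfAt : Algebra.QuasiFinite A (At ⧸ I.map (algebraMap A At)) := quasiFinite' I f'
  haveI hfuAt : Algebra.FormallyUnramified A (At ⧸ I.map (algebraMap A At)) :=
    formallyUnramified' I f'
  have hqfEt : Algebra.QuasiFinite A (Et ⧸ I.map (algebraMap A Et)) :=
    quasiFinite' I (algebraMap A At h)
  have hfuEt : Algebra.FormallyUnramified A (Et ⧸ I.map (algebraMap A Et)) :=
    formallyUnramified' I (algebraMap A At h)
  -- flatness
  haveI : Module.Flat B' Bt := Groth.Agent.Lib.Helper16.RigCl6.flat' I' (algebraMap A' B' f')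
  haveI : Module.Flat B Bt := Module.Flat.trans B B' Bt
  -- compatibility of `ψ'`
  have hψ'A' : ∀ a' : A', ψ' (algebraMap A' At a') = algebraMap B' Bt (algebraMap A' B' a') :=
    Groth.Agent.Lib.Helper16.RigCl3.compat I' f' ψ' hψ'
  have hψ'A : ∀ a : A, ψ' (algebraMap A At a) = algebraMap A Bt a := by
    intro a
    rw [IsScalarTower.algebraMap_apply A A' At, hψ'A', ← IsScalarTower.algebraMap_apply A' B' Bt,
      ← IsScalarTower.algebraMap_apply A A' Bt]
  -- the maps
  have hle1 : (I.map (algebraMap A B)).map (algebraMap B Bt) ≤ I.map (algebraMap A Bt) := by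
    refine (Ideal.map_map _ _).le.trans ?_
    rw [← IsScalarTower.algebraMap_eq A B Bt]
  have hy1 : algebraMap B Bt (algebraMap A B h) = algebraMap A Bt h :=
    (IsScalarTower.algebraMap_apply A B Bt h).symm
  have hle2 : (I.map (algebraMap A At)).map ψ' ≤ I.map (algebraMap A Bt) := by
    refine (Ideal.map_map _ _).le.trans ?_
    refine (congrArg (fun φ => Ideal.map φ I) ?_).le
    exact RingHom.ext hψ'A
  -- tower identities
  have tABBt : ∀ a : A, algebraMap B Bt (algebraMap A B a) = algebraMap A Bt a :=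
    fun a => (IsScalarTower.algebraMap_apply A B Bt a).symm
  have tABtCb : ∀ a : A, algebraMap Bt Cb (algebraMap A Bt a) = algebraMap A Cb a :=
    fun a => (IsScalarTower.algebraMap_apply A Bt Cb a).symm
  have tAAtEt : ∀ a : A, algebraMap At Et (algebraMap A At a) = algebraMap A Et a :=
    fun a => (IsScalarTower.algebraMap_apply A At Et a).symm
  obtain ⟨ψ_h, eψh, hcompat_h⟩ : ∃ ψ_h : Ab →+* Bh,
      (∀ a : A, ψ_h (algebraMap A Ab a) = algebraMap B Bh (algebraMap A B a)) ∧
      ψ_h.comp (algebraMap (Localization.Away h) Ab) =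
        (algebraMap (Localization.Away (algebraMap A B h)) Bh).comp
          (Localization.awayMap (algebraMap A B) h) :=
    ⟨cmap (algebraMap A B) I (I.map (algebraMap A B)) le_rfl h (algebraMap A B h) rfl,
      fun a => cmap_algebraMap (algebraMap A B) I (I.map (algebraMap A B)) le_rfl h
        (algebraMap A B h) rfl a,
      cmap_compat (algebraMap A B) I (I.map (algebraMap A B)) le_rfl h⟩
  obtain ⟨γ, eγ, hγ⟩ : ∃ γ : Bh →+* Cb,
      (∀ b : B, γ (algebraMap B Bh b) = algebraMap Bt Cb (algebraMap B Bt b)) ∧ γ.Flat :=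
    ⟨cmap (algebraMap B Bt) (I.map (algebraMap A B)) (I.map (algebraMap A Bt))
        hle1 (algebraMap A B h) (algebraMap A Bt h) hy1,
      fun b => cmap_algebraMap (algebraMap B Bt) (I.map (algebraMap A B))
        (I.map (algebraMap A Bt)) hle1 (algebraMap A B h) (algebraMap A Bt h) hy1 b,
      cmap_flat (algebraMap B Bt) (I.map (algebraMap A B))
        (I.map (algebraMap A Bt)) hle1 (algebraMap A B h) (algebraMap A Bt h) hy1
        (RingHom.flat_algebraMap_iff.mpr inferInstance)⟩
  obtain ⟨ψ_E, eψE⟩ : ∃ ψ_E : Ab →+* Et,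
      (∀ a : A, ψ_E (algebraMap A Ab a) = algebraMap At Et (algebraMap A At a)) :=
    ⟨cmap (algebraMap A At) I (I.map (algebraMap A At)) le_rfl h (algebraMap A At h) rfl,
      fun a => cmap_algebraMap (algebraMap A At) I (I.map (algebraMap A At)) le_rfl h
        (algebraMap A At h) rfl a⟩
  obtain ⟨χ, eχ⟩ : ∃ χ : Et →+* Cb,
      (∀ x : At, χ (algebraMap At Et x) = algebraMap Bt Cb (ψ' x)) :=
    ⟨cmap ψ' (I.map (algebraMap A At)) (I.map (algebraMap A Bt)) hle2
        (algebraMap A At h) (algebraMap A Bt h) (hψ'A h),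
      fun x => cmap_algebraMap ψ' (I.map (algebraMap A At)) (I.map (algebraMap A Bt)) hle2
        (algebraMap A At h) (algebraMap A Bt h) (hψ'A h) x⟩
  obtain ⟨ψb, eψb, hcompat_b⟩ : ∃ ψb : Ab →+* Cb,
      (∀ a : A, ψb (algebraMap A Ab a) = algebraMap Bt Cb (algebraMap A Bt a)) ∧
      ψb.comp (algebraMap (Localization.Away h) Ab) =
        (algebraMap (Localization.Away (algebraMap A Bt h)) Cb).comp
          (Localization.awayMap (algebraMap A Bt) h) :=
    ⟨cmap (algebraMap A Bt) I (I.map (algebraMap A Bt)) le_rfl h (algebraMap A Bt h) rfl,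
      fun a => cmap_algebraMap (algebraMap A Bt) I (I.map (algebraMap A Bt)) le_rfl h
        (algebraMap A Bt h) rfl a,
      cmap_compat (algebraMap A Bt) I (I.map (algebraMap A Bt)) le_rfl h⟩
  -- uniqueness
  have hcompb : ψb.comp (algebraMap A Ab) = algebraMap A Cb := RingHom.ext fun a => by
    exact (eψb a).trans (tABtCb a)
  have hψb1 : ψb = γ.comp ψ_h := by
    refine cl_ringHom_ext I h (I.map (algebraMap A Cb)) ψb (γ.comp ψ_h) ?_ ?_
    · rw [hcompb]
    · rw [hcompb]
      refine RingHom.ext fun a => ?_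
      exact ((congrArg γ (eψh a)).trans ((eγ _).trans
        ((congrArg (algebraMap Bt Cb) (tABBt a)).trans (tABtCb a)))).symm
  have hψb2 : ψb = χ.comp ψ_E := by
    refine cl_ringHom_ext I h (I.map (algebraMap A Cb)) ψb (χ.comp ψ_E) ?_ ?_
    · rw [hcompb]
    · rw [hcompb]
      refine RingHom.ext fun a => ?_
      exact ((congrArg χ (eψE a)).trans ((eχ _).trans
        ((congrArg (algebraMap Bt Cb) (hψ'A a)).trans (tABtCb a)))).symm
  -- the rig-closed prime downstairs
  obtain ⟨hprime, hnot, hmax⟩ := hS ψb hcompat_b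
  let qb : PrimeSpectrum Cb := ⟨q'.asIdeal.map (algebraMap Bt Cb),
    Groth.Agent.Lib.Helper16.RigCl3.isPrime_map (I.map (algebraMap A Bt)) q'
      (algebraMap A Bt h) hunit⟩
  have hcontr : qb.asIdeal.comap (algebraMap Bt Cb) = q'.asIdeal :=
    le_antisymm (fun b hb => Groth.Agent.Lib.Helper16.RigCl3.mem_of_algebraMap_mem
      (I.map (algebraMap A Bt)) q' (algebraMap A Bt h) hunit b hb) Ideal.le_comap_map
  have hKq : ¬ I.map (algebraMap A Cb) ≤ qb.asIdeal := by
    intro hle
    apply hq'A.1
    rw [Ideal.map_le_iff_le_comap]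
    intro a ha
    apply Groth.Agent.Lib.Helper16.RigCl3.mem_of_algebraMap_mem
      (I.map (algebraMap A Bt)) q' (algebraMap A Bt h) hunit
    rw [tABtCb]
    exact hle (Ideal.mem_map_of_mem _ ha)
  haveI hqbp : qb.asIdeal.IsPrime := qb.isPrime
  have hrc' : RC (I.map (algebraMap A Ab)) ⟨qb.asIdeal.comap ψb, hprime⟩ :=
    ⟨hnot, fun y hy hIy => PrimeSpectrum.ext (hmax y hy hIy)⟩
  have hpe : (⟨qb.asIdeal.comap ψb, hprime⟩ : PrimeSpectrum Ab) =
      ⟨qb.asIdeal.comap (γ.comp ψ_h), Ideal.comap_isPrime _ _⟩ :=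
    PrimeSpectrum.ext (congrArg (fun φ => Ideal.comap φ qb.asIdeal) hψb1)
  have hrc : RC (I.map (algebraMap A Ab))
      ⟨qb.asIdeal.comap (γ.comp ψ_h), Ideal.comap_isPrime _ _⟩ := hpe ▸ hrc'
  have tBBh : ∀ b : B, algebraMap (Localization.Away (algebraMap A B h)) Bh
      (algebraMap B (Localization.Away (algebraMap A B h)) b) = algebraMap B Bh b :=
    fun b => (IsScalarTower.algebraMap_apply B (Localization.Away (algebraMap A B h)) Bh b).symm
  have hfoo : algebraMap A Cb = γ.comp ((algebraMap (Localization.Away (algebraMap A B h)) Bh).comp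
      ((algebraMap B (Localization.Away (algebraMap A B h))).comp (algebraMap A B))) :=
    RingHom.ext fun a => ((congrArg γ (tBBh _)).trans ((eγ _).trans
      ((congrArg (algebraMap Bt Cb) (tABBt a)).trans (tABtCb a)))).symm
  have hK : I.map (algebraMap A Cb) ≤ (((I.map (algebraMap A B)).map
      (algebraMap B (Localization.Away (algebraMap A B h)))).map
      (algebraMap (Localization.Away (algebraMap A B h)) Bh)).map γ := by
    refine (congrArg (fun φ => Ideal.map φ I) hfoo).le.trans ?_
    refine (Ideal.map_map _ _).symm.le.trans ?_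
    refine Ideal.map_mono ?_
    refine (Ideal.map_map _ _).symm.le.trans ?_
    refine Ideal.map_mono ?_
    exact (Ideal.map_map _ _).symm.le
  -- the algebra structure `Ab → Et`
  letI algAbEt : Algebra Ab Et := ψ_E.toAlgebra
  haveI towAAbEt : IsScalarTower A Ab Et := IsScalarTower.of_algebraMap_eq (fun a =>
    ((eψE a).trans (tAAtEt a)).symm)
  have hIEt : (I.map (algebraMap A Ab)).map (algebraMap Ab Et) = I.map (algebraMap A Et) :=
    (Ideal.map_map _ _).trans
      (congrArg (fun φ => Ideal.map φ I) (IsScalarTower.algebraMap_eq A Ab Et).symm)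
  haveI : IsAdicComplete ((I.map (algebraMap A Ab)).map (algebraMap Ab Et)) Et :=
    (congrArg (fun K : Ideal Et => IsAdicComplete K Et) hIEt).mpr hEtc
  haveI : Algebra.QuasiFinite Ab (Et ⧸ (I.map (algebraMap A Ab)).map (algebraMap Ab Et)) := by
    haveI : Algebra.QuasiFinite A (Et ⧸ (I.map (algebraMap A Ab)).map (algebraMap Ab Et)) :=
      (congrArg (fun K : Ideal Et => Algebra.QuasiFinite A (Et ⧸ K)) hIEt).mpr hqfEt
    exact Algebra.QuasiFinite.of_restrictScalars A Ab _
  haveI : Algebra.FormallyUnramified Ab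
      (Et ⧸ (I.map (algebraMap A Ab)).map (algebraMap Ab Et)) := by
    haveI : Algebra.FormallyUnramified A (Et ⧸ (I.map (algebraMap A Ab)).map (algebraMap Ab Et)) :=
      (congrArg (fun K : Ideal Et => Algebra.FormallyUnramified A (Et ⧸ K)) hIEt).mpr hfuEt
    exact Algebra.FormallyUnramified.of_restrictScalars A Ab _
  have hχ : χ.comp (algebraMap Ab Et) = γ.comp ψ_h := hψb2.symm.trans hψb1
  have hsq : (algebraMap Bt Cb).comp ψ' = χ.comp (algebraMap At Et) :=
    RingHom.ext fun x => (eχ x).symm
  have hα : (algebraMap At Et).Flat :=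
    RingHom.flat_algebraMap_iff.mpr (Groth.Agent.Lib.Helper16.RigCl6.flat' I (algebraMap A At h))
  have hβ : (algebraMap Bt Cb).Flat :=
    RingHom.flat_algebraMap_iff.mpr (Groth.Agent.Lib.Helper16.RigCl6.flat' I (algebraMap A Bt h))
  exact abstract_core (I.map (algebraMap A Ab)) _ (I.map (algebraMap A Cb)) ψ_h γ χ ψ'
    (algebraMap At Et) (algebraMap Bt Cb)
    (fun r₁ hr₁ => hAB h ψ_h hcompat_h r₁ hr₁)
    hγ hK hχ hsq hα hβ q' qb hcontr hKq hrc

end aux

end Groth.Agent.Lib.Helper16.RigCl11
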