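import Mathlib
import Groth.Agent.Lib.Helper16.RigCl11

set_option autoImplicit false
universe u

namespace Groth.Agent.Lib.Helper16.RigCl12

open Groth.Agent.Lib.Helper16.RigCl Groth.Agent.Lib.Helper16.RigCl10 TensorProduct

/-- the completed localisation `R_{x}` with respect to the ideal `K` -/
local notation "CL" K:max x:max => AdicCompletion (Ideal.map (algebraMap _ (Localization.Away x)) K)
  (Localization.Away x)

section core

variable (A : Type u) [CommRing A] [IsNoetherianRing A] (I : Ideal A) [IsAdicComplete I A]
  (B : Type u) [CommRing B] [Algebra A B] [IsNoetherianRing B]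
  (A' : Type u) [CommRing A'] [Algebra A A'] [IsNoetherianRing A']
  (hftA' : Algebra.FiniteType A (A' ⧸ (I.map (algebraMap A A'))))
  (B' : Type u) [CommRing B'] [Algebra A B'] [Algebra B B'] [Algebra A' B']
  [IsScalarTower A B B'] [IsScalarTower A A' B'] [IsNoetherianRing B']
  (hftB'A' : Algebra.FiniteType A' (B' ⧸ (I.map (algebraMap A B'))))
  [Module.Flat B B'] [Algebra.Etale (A ⧸ I) (A' ⧸ (I.map (algebraMap A A')))]
  (f' : A')

local notation "I'" => Ideal.map (algebraMap A A') I
local notation "At" => CL I' f'
local notation "Bt" => CL (Ideal.map (algebraMap A' B') I') (algebraMap A' B' f')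

include hftA' hftB'A' in
theorem core
    (hAB : ∀ f : A, ∀ ψf : (CL I f) →+* (CL (I.map (algebraMap A B)) (algebraMap A B f)),
      ψf.comp (algebraMap (Localization.Away f) (CL I f)) =
        (algebraMap (Localization.Away (algebraMap A B f))
          (CL (I.map (algebraMap A B)) (algebraMap A B f))).comp
          (Localization.awayMap (algebraMap A B) f) →
      ∀ qf : PrimeSpectrum (CL (I.map (algebraMap A B)) (algebraMap A B f)),
        RC (((I.map (algebraMap A B)).map
          (algebraMap B (Localization.Away (algebraMap A B f)))).map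
          (algebraMap (Localization.Away (algebraMap A B f))
            (CL (I.map (algebraMap A B)) (algebraMap A B f)))) qf →
        ((algebraMap (CL (I.map (algebraMap A B)) (algebraMap A B f))
          (Localization.AtPrime qf.asIdeal)).comp ψf).Flat)
    (ψ' : At →+* Bt)
    (hψ' : ψ'.comp (algebraMap (Localization.Away f') At) =
      (algebraMap (Localization.Away (algebraMap A' B' f')) Bt).comp
        (Localization.awayMap (algebraMap A' B') f'))
    (q' : PrimeSpectrum Bt)
    (hq' : RC ((((I.map (algebraMap A A')).map (algebraMap A' B')).map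
      (algebraMap B' (Localization.Away (algebraMap A' B' f')))).map
      (algebraMap (Localization.Away (algebraMap A' B' f')) Bt)) q') :
    ((algebraMap Bt (Localization.AtPrime q'.asIdeal)).comp ψ').Flat := by
  haveI : Algebra.QuasiFinite A (A' ⧸ (I.map (algebraMap A A'))) :=
    Algebra.QuasiFinite.trans A (A ⧸ I) _
  haveI : Algebra.FormallyUnramified A (A' ⧸ (I.map (algebraMap A A'))) :=
    Algebra.FormallyUnramified.comp A (A ⧸ I) _
  haveI hBtN : IsNoetherianRing Bt :=
    Groth.Agent.Lib.Helper16.RigCl6.isNoetherianRing' I' (algebraMap A' B' f')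
  have hIBt : I.map (algebraMap A Bt) = (I').map (algebraMap A' Bt) :=
    ((Ideal.map_map _ _).trans
      (congrArg (fun φ => Ideal.map φ I) (IsScalarTower.algebraMap_eq A A' Bt).symm)).symm
  haveI hBtc : IsAdicComplete (I.map (algebraMap A Bt)) Bt :=
    (congrArg (fun K : Ideal Bt => IsAdicComplete K Bt) hIBt).mpr
      (Groth.Agent.Lib.Helper16.RigCl6.isAdicComplete' I' (algebraMap A' B' f'))
  -- finite type
  have hIB' : I.map (algebraMap A B') = (I').map (algebraMap A' B') :=
    ((Ideal.map_map _ _).trans
      (congrArg (fun φ => Ideal.map φ I) (IsScalarTower.algebraMap_eq A A' B').symm)).symm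
  have hft1 : Algebra.FiniteType A' (B' ⧸ (I').map (algebraMap A' B')) :=
    (congrArg (fun K : Ideal B' => Algebra.FiniteType A' (B' ⧸ K)) hIB').mp hftB'A'
  have hft2 : Algebra.FiniteType A' (Bt ⧸ (I').map (algebraMap A' Bt)) :=
    Groth.Agent.Lib.Helper16.RigCl6.finiteType' I' (algebraMap A' B' f') hft1
  have hft3 : Algebra.FiniteType A' (Bt ⧸ I.map (algebraMap A Bt)) :=
    (congrArg (fun K : Ideal Bt => Algebra.FiniteType A' (Bt ⧸ K)) hIBt).mpr hft2
  have hftBt : Algebra.FiniteType A (Bt ⧸ I.map (algebraMap A Bt)) :=
    finiteType_trans_quot I hftA' hft3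
  -- rig-closedness with respect to `I Bt`
  have hideal : (((I.map (algebraMap A A')).map (algebraMap A' B')).map
      (algebraMap B' (Localization.Away (algebraMap A' B' f')))).map
      (algebraMap (Localization.Away (algebraMap A' B' f')) Bt) = I.map (algebraMap A Bt) :=
    (Groth.Agent.Lib.Helper16.RigCl6.map_eq' I' (algebraMap A' B' f')).symm.trans hIBt.symm
  have hq'A : RC (I.map (algebraMap A Bt)) q' :=
    (congrArg (fun K : Ideal Bt => RC K q') hideal).mp hq'
  obtain ⟨h, hunit, hS⟩ := Groth.Agent.S8840.result A I Bt hftBt q' hq'A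
  exact Groth.Agent.Lib.Helper16.RigCl11.aux I f' h hAB ψ' hψ' q' hq'A hunit hS

end core

end Groth.Agent.Lib.Helper16.RigCl12
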