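import Mathlib
import Groth.Agent.Lib.Helper16.RigCl10

set_option autoImplicit false
universe u

namespace Groth.Agent.Lib.Helper16.RigCl13

open Groth.Agent.Lib.Helper16.RigCl Groth.Agent.Lib.Helper16.RigCl10 TensorProduct

section ds

variable {T E : Type u} [CommRing T] [CommRing E]

/-- `τ : T → E` is dense and strict for the `K`-adic topologies. -/
def DS (K : Ideal T) (τ : T →+* E) : Prop :=
  (∀ (j : ℕ) (e : E), ∃ t : T, e - τ t ∈ (K.map τ) ^ j) ∧
  (∀ (j : ℕ) (t : T), τ t ∈ (K.map τ) ^ j → t ∈ K ^ j)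

/-- the canonical map to the adic completion is dense and strict -/
lemma ds_completion (K : Ideal T) (hK : K.FG) : DS K (algebraMap T (AdicCompletion K T)) :=
  ⟨fun j e => Groth.Agent.Lib.Helper12.FComplA.exists_sub_algebraMap_mem K hK j e,
   fun j t ht => Groth.Agent.Lib.Helper12.FComplA.mem_pow_of_algebraMap_mem K hK j t ht⟩

lemma DS.comp {F : Type u} [CommRing F] {K : Ideal T} {τ₁ : T →+* E} {τ₂ : E →+* F}
    (h₁ : DS K τ₁) (h₂ : DS (K.map τ₁) τ₂) : DS K (τ₂.comp τ₁) := by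
  have hmap : K.map (τ₂.comp τ₁) = (K.map τ₁).map τ₂ := (Ideal.map_map _ _).symm
  refine ⟨fun j e => ?_, fun j t ht => ?_⟩
  · obtain ⟨e₁, he₁⟩ := h₂.1 j e
    obtain ⟨t, ht⟩ := h₁.1 j e₁
    refine ⟨t, ?_⟩
    rw [hmap]
    have h3 : τ₂ (e₁ - τ₁ t) ∈ ((K.map τ₁).map τ₂) ^ j := by
      rw [← Ideal.map_pow]
      exact Ideal.mem_map_of_mem _ ht
    have e4 : e - (τ₂.comp τ₁) t = (e - τ₂ e₁) + τ₂ (e₁ - τ₁ t) := by
      rw [RingHom.comp_apply, map_sub]; ring
    rw [e4]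
    exact Ideal.add_mem _ he₁ h3
  · rw [hmap] at ht
    exact h₁.2 j t (h₂.2 j (τ₁ t) ht)

lemma lmap_mk' (τ : T →+* E) (s : T) (y : E) (hy : τ s = y) (t : T) (n : ℕ) :
    lmap τ s y hy (IsLocalization.mk' (Localization.Away s) t
      (⟨s ^ n, ⟨n, rfl⟩⟩ : Submonoid.powers s)) =
      IsLocalization.mk' (Localization.Away y) (τ t)
        (⟨y ^ n, ⟨n, rfl⟩⟩ : Submonoid.powers y) := by
  rw [IsLocalization.eq_mk'_iff_mul_eq]
  have h1 : algebraMap E (Localization.Away y) (y ^ n) =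
      lmap τ s y hy (algebraMap T _ (s ^ n)) := by
    rw [lmap_algebraMap, map_pow τ, hy]
  change _ * algebraMap E (Localization.Away y) (y ^ n) = _
  rw [h1, ← map_mul, ← lmap_algebraMap τ s y hy t]
  congr 1
  exact IsLocalization.mk'_spec _ t (⟨s ^ n, ⟨n, rfl⟩⟩ : Submonoid.powers s)

/-- dense-strictness passes to (uncompleted) localisations -/
lemma DS.away {K : Ideal T} {τ : T →+* E} (h : DS K τ) (s : T) (y : E) (hy : τ s = y) :
    DS (K.map (algebraMap T (Localization.Away s))) (lmap τ s y hy) := by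
  have hmap : (K.map (algebraMap T (Localization.Away s))).map (lmap τ s y hy) =
      (K.map τ).map (algebraMap E (Localization.Away y)) := by
    refine (Ideal.map_map _ _).trans ?_
    rw [lmap_comp]
    exact (Ideal.map_map _ _).symm
  refine ⟨fun j e' => ?_, fun j x hx => ?_⟩
  · obtain ⟨e, ⟨_, ⟨n, rfl⟩⟩, rfl⟩ := IsLocalization.exists_mk'_eq (Submonoid.powers y) e'
    obtain ⟨t, ht⟩ := h.1 j e
    refine ⟨IsLocalization.mk' _ t (⟨s ^ n, ⟨n, rfl⟩⟩ : Submonoid.powers s), ?_⟩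
    rw [hmap, ← Ideal.map_pow]
    have hl := lmap_mk' τ s y hy t n
    rw [hl, ← IsLocalization.mk'_sub, IsLocalization.mk'_mem_map_algebraMap_iff]
    exact ⟨1, one_mem _, by rw [one_mul, ← sub_mul]; exact Ideal.mul_mem_right _ _ ht⟩
  · obtain ⟨t, ⟨_, ⟨n, rfl⟩⟩, rfl⟩ := IsLocalization.exists_mk'_eq (Submonoid.powers s) x
    rw [hmap, ← Ideal.map_pow] at hx
    have hl := lmap_mk' τ s y hy t n
    rw [hl, IsLocalization.mk'_mem_map_algebraMap_iff] at hx
    obtain ⟨_, ⟨m, rfl⟩, hm⟩ := hx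
    have h1 : τ (s ^ m * t) ∈ (K.map τ) ^ j := by
      rw [map_mul, map_pow, hy]; exact hm
    have h2 := h.2 j _ h1
    rw [← Ideal.map_pow, IsLocalization.mk'_mem_map_algebraMap_iff]
    exact ⟨s ^ m, ⟨m, rfl⟩, h2⟩

/-- transfer of dense-strictness along a dense map -/
lemma DS.transfer {T' : Type u} [CommRing T'] {K : Ideal T} (σ : T →+* T') (τ' : T' →+* E)
    (h : DS K (τ'.comp σ))
    (hσ : ∀ (j : ℕ) (x : T'), ∃ t : T, x - σ t ∈ (K.map σ) ^ j) :
    DS (K.map σ) τ' := by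
  have hmap : (K.map σ).map τ' = K.map (τ'.comp σ) := Ideal.map_map _ _
  refine ⟨fun j e => ?_, fun j x hx => ?_⟩
  · obtain ⟨t, ht⟩ := h.1 j e
    refine ⟨σ t, ?_⟩
    rw [hmap]
    exact ht
  · obtain ⟨t, ht⟩ := hσ j x
    have h1 : τ' (x - σ t) ∈ ((K.map σ).map τ') ^ j := by
      rw [← Ideal.map_pow]
      exact Ideal.mem_map_of_mem _ ht
    have h2 : (τ'.comp σ) t ∈ (K.map (τ'.comp σ)) ^ j := by
      rw [← hmap]
      have : (τ'.comp σ) t = τ' x - τ' (x - σ t) := by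
        rw [RingHom.comp_apply, map_sub]; ring
      rw [this]
      exact Ideal.sub_mem _ hx h1
    have h3 := h.2 j t h2
    have h4 : σ t ∈ (K.map σ) ^ j := by
      rw [← Ideal.map_pow]
      exact Ideal.mem_map_of_mem _ h3
    have : x = (x - σ t) + σ t := by ring
    rw [this]
    exact Ideal.add_mem _ ht h4

end ds

section quot

variable {T E : Type u} [CommRing T] [CommRing E]

lemma mk_mem_pow_smul_top_iff (K 𝔞 : Ideal T) (n : ℕ) (t : T) :
    Ideal.Quotient.mk 𝔞 t ∈ (K ^ n • ⊤ : Submodule T (T ⧸ 𝔞)) ↔ t ∈ K ^ n ⊔ 𝔞 := by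
  rw [Ideal.smul_top_eq_map, Submodule.restrictScalars_mem, Ideal.Quotient.algebraMap_eq,
    Ideal.mem_quotient_iff_mem_sup]

/-- approximating elements of `𝔞E` by images of elements of `𝔞` -/
lemma DS.exists_sub_mem_of_mem_map {K : Ideal T} {τ : T →+* E} (h : DS K τ) (𝔞 : Ideal T)
    (j : ℕ) (x : E) (hx : x ∈ 𝔞.map τ) : ∃ a ∈ 𝔞, x - τ a ∈ (K.map τ) ^ j := by
  refine Submodule.span_induction (p := fun x _ => ∃ a ∈ 𝔞, x - τ a ∈ (K.map τ) ^ j)
    ?_ ?_ ?_ ?_ hx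
  · rintro _ ⟨a, ha, rfl⟩
    exact ⟨a, ha, by rw [sub_self]; exact zero_mem _⟩
  · exact ⟨0, zero_mem _, by rw [map_zero, sub_zero]; exact zero_mem _⟩
  · rintro x y _ _ ⟨a, ha, hxa⟩ ⟨b, hb, hyb⟩
    refine ⟨a + b, add_mem ha hb, ?_⟩
    have : x + y - τ (a + b) = (x - τ a) + (y - τ b) := by rw [map_add]; ring
    rw [this]
    exact add_mem hxa hyb
  · rintro e x _ ⟨a, ha, hxa⟩
    obtain ⟨t, ht⟩ := h.1 j e
    refine ⟨t * a, 𝔞.mul_mem_left t ha, ?_⟩
    have : e • x - τ (t * a) = e * (x - τ a) + (e - τ t) * τ a := by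
      rw [smul_eq_mul, map_mul]; ring
    rw [this]
    exact add_mem (Ideal.mul_mem_left _ _ hxa) (Ideal.mul_mem_right _ _ ht)

/-- **Lemma Z.** If `T → E` is dense and strict, `E` is Noetherian with `KE` in the Jacobson
radical, and `T/𝔞` is `K`-adically complete and separated, then `T/𝔞 → E/𝔞E` is bijective. -/
theorem DS.quotient_bijective {K : Ideal T} {τ : T →+* E} (h : DS K τ) [IsNoetherianRing E]
    (hjac : K.map τ ≤ Ideal.jacobson ⊥)
    (𝔞 : Ideal T) [hpre : IsPrecomplete K (T ⧸ 𝔞)] [hhaus : IsHausdorff K (T ⧸ 𝔞)] :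
    Function.Bijective (Ideal.quotientMap (𝔞.map τ) τ Ideal.le_comap_map) := by
  -- closedness of `𝔞E`
  have hclosed : ∀ x : E, (∀ j : ℕ, x ∈ 𝔞.map τ ⊔ (K.map τ) ^ j) → x ∈ 𝔞.map τ := by
    intro x hx
    have hbot : (⨅ i : ℕ, (K.map τ) ^ i • ⊤ : Submodule E (E ⧸ 𝔞.map τ)) = ⊥ :=
      Ideal.iInf_pow_smul_eq_bot_of_le_jacobson (K.map τ) hjac
    have hmem : Ideal.Quotient.mk (𝔞.map τ) x ∈
        (⨅ i : ℕ, (K.map τ) ^ i • ⊤ : Submodule E (E ⧸ 𝔞.map τ)) := by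
      rw [Submodule.mem_iInf]
      intro i
      rw [mk_mem_pow_smul_top_iff, sup_comm]
      exact hx i
    rw [hbot, Submodule.mem_bot, Ideal.Quotient.eq_zero_iff_mem] at hmem
    exact hmem
  constructor
  · rw [injective_iff_map_eq_zero]
    intro z hz
    obtain ⟨t, rfl⟩ := Ideal.Quotient.mk_surjective z
    rw [Ideal.quotientMap_mk, Ideal.Quotient.eq_zero_iff_mem] at hz
    apply hhaus.haus'
    intro n
    rw [SModEq.zero, mk_mem_pow_smul_top_iff]
    obtain ⟨a, ha, hta⟩ := h.exists_sub_mem_of_mem_map 𝔞 n (τ t) hz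
    rw [← map_sub] at hta
    have h1 := h.2 n _ hta
    have : t = (t - a) + a := by ring
    rw [this]
    exact Submodule.add_mem_sup h1 ha
  · intro z
    obtain ⟨e, rfl⟩ := Ideal.Quotient.mk_surjective z
    choose t ht using fun j => h.1 j e
    have hcauchy : ∀ {m n : ℕ}, m ≤ n → Ideal.Quotient.mk 𝔞 (t m) ≡ Ideal.Quotient.mk 𝔞 (t n)
        [SMOD (K ^ m • ⊤ : Submodule T (T ⧸ 𝔞))] := by
      intro m n hmn
      rw [SModEq.sub_mem, ← map_sub, mk_mem_pow_smul_top_iff]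
      refine Ideal.mem_sup_left (h.2 m _ ?_)
      have : τ (t m - t n) = (e - τ (t n)) - (e - τ (t m)) := by rw [map_sub]; ring
      rw [this]
      exact Ideal.sub_mem _ (Ideal.pow_le_pow_right hmn (ht n)) (ht m)
    obtain ⟨L, hL⟩ := hpre.prec' _ hcauchy
    obtain ⟨t₀, rfl⟩ := Ideal.Quotient.mk_surjective L
    refine ⟨Ideal.Quotient.mk 𝔞 t₀, ?_⟩
    rw [Ideal.quotientMap_mk, eq_comm, Ideal.Quotient.mk_eq_mk_iff_sub_mem]
    apply hclosed
    intro j
    have hj := hL j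
    rw [SModEq.sub_mem, ← map_sub, mk_mem_pow_smul_top_iff] at hj
    obtain ⟨k, hk, a, ha, hka⟩ := Submodule.mem_sup.mp hj
    have e1 : e - τ t₀ = τ a + ((e - τ (t j)) + τ k) := by
      have : τ (t j - t₀) = τ k + τ a := by rw [← map_add, hka]
      rw [map_sub] at this
      linear_combination this
    rw [e1]
    refine Submodule.add_mem_sup (Ideal.mem_map_of_mem _ ha) ?_
    refine Ideal.add_mem _ (ht j) ?_
    rw [← Ideal.map_pow]
    exact Ideal.mem_map_of_mem _ hk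

end quot

end Groth.Agent.Lib.Helper16.RigCl13
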