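import Mathlib
import Groth.Agent.Lib.Helper16.RigCl13
import Groth.Agent.Lib.Helper2.LocalCrit
import Groth.Agent.S3866

set_option autoImplicit false
universe u

namespace Groth.Agent.Lib.Helper16.RigCl14

open Groth.Agent.Lib.Helper16.RigCl Groth.Agent.Lib.Helper16.RigCl13 TensorProduct

section lc

variable {R S : Type u} [CommRing R] [CommRing S] [Algebra R S]

/-- every `R`-submodule of `R/J` is (the restriction of scalars of) an ideal of `R/J` -/
lemma exists_ideal_restrictScalars (J : Ideal R) (Q' : Submodule R (R ⧸ J)) :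
    ∃ Q'' : Ideal (R ⧸ J), Q' = Q''.restrictScalars R := by
  refine ⟨{ carrier := Q', add_mem' := Q'.add_mem, zero_mem' := Q'.zero_mem,
            smul_mem' := ?_ }, ?_⟩
  · intro c x hx
    obtain ⟨r, rfl⟩ := Ideal.Quotient.mk_surjective c
    have : (Ideal.Quotient.mk J r) • x = r • x := by
      rw [smul_eq_mul, Algebra.smul_def]; rfl
    rw [this]
    exact Q'.smul_mem r hx
  · ext x
    rfl

/-- base change of a flat algebra along a quotient, in quotient form -/
lemma flat_quotient_of_flat [Module.Flat R S] (J : Ideal R) :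
    Module.Flat (R ⧸ J) (S ⧸ J.map (algebraMap R S)) :=
  Module.Flat.of_linearEquiv
    (Algebra.TensorProduct.quotIdealMapEquivQuotTensor S J).toLinearEquiv

/-- ring-level local criterion: flat modulo all powers of `I` implies flat -/
theorem flat_of_forall_flat_quotient_pow [IsNoetherianRing R] [IsNoetherianRing S] (I : Ideal R)
    (hJ : I.map (algebraMap R S) ≤ Ideal.jacobson ⊥)
    (h : ∀ n : ℕ, 0 < n → Module.Flat (R ⧸ I ^ n) (S ⧸ (I ^ n).map (algebraMap R S))) :
    Module.Flat R S := by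
  refine Groth.Agent.Lib.Helper2.LocalCrit.flat_of_forall_quotient_pow (S := S) (M := S) I hJ ?_
  intro n hn Q'
  obtain ⟨Q'', rfl⟩ := exists_ideal_restrictScalars (I ^ n) Q'
  haveI := h n hn
  haveI : Module.Flat (R ⧸ I ^ n) ((R ⧸ I ^ n) ⊗[R] S) :=
    Module.Flat.of_linearEquiv
      (Algebra.TensorProduct.quotIdealMapEquivQuotTensor S (I ^ n)).symm.toLinearEquiv
  exact Groth.Agent.Lib.Helper2.LocalCrit.lTensor_injective_of_flat_baseChange
    (R := R) (A := R ⧸ I ^ n) (M := S) (Submodule.subtype Q'') Subtype.val_injective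

/-- transport of flatness modulo `𝔟` along a ring map that is bijective modulo `𝔟` -/
lemma flat_quotient_of_bijective {N : Type u} [CommRing N] [Algebra R N] [Module.Flat R S]
    (lam : S →+* N) (hlam : ∀ c : R, lam (algebraMap R S c) = algebraMap R N c) (𝔟 : Ideal R)
    (hle : 𝔟.map (algebraMap R S) ≤ (𝔟.map (algebraMap R N)).comap lam)
    (hW : Function.Bijective (Ideal.quotientMap (𝔟.map (algebraMap R N)) lam hle)) :
    Module.Flat (R ⧸ 𝔟) (N ⧸ 𝔟.map (algebraMap R N)) := by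
  have h0 : Module.Flat (R ⧸ 𝔟) (S ⧸ 𝔟.map (algebraMap R S)) := flat_quotient_of_flat 𝔟
  have h1 : (algebraMap (R ⧸ 𝔟) (S ⧸ 𝔟.map (algebraMap R S))).Flat :=
    RingHom.flat_algebraMap_iff.mpr h0
  have h2 := RingHom.Flat.comp h1 (RingHom.Flat.of_bijective hW)
  have h3 : (Ideal.quotientMap (𝔟.map (algebraMap R N)) lam hle).comp
      (algebraMap (R ⧸ 𝔟) (S ⧸ 𝔟.map (algebraMap R S))) =
      algebraMap (R ⧸ 𝔟) (N ⧸ 𝔟.map (algebraMap R N)) := by
    refine Ideal.Quotient.ringHom_ext (RingHom.ext fun c => ?_)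
    change Ideal.Quotient.mk _ (lam (algebraMap R S c)) = Ideal.Quotient.mk _ (algebraMap R N c)
    rw [hlam]
  rw [h3] at h2
  exact RingHom.flat_algebraMap_iff.mp h2

end lc


section W

variable {T E : Type u} [CommRing T] [CommRing E]

/-- **Lemma W.** Bijectivity modulo `𝔞` passes to the localisations at a prime containing `𝔞E`. -/
theorem localRingHom_quotient_bijective (τ : T →+* E) (𝔞 : Ideal T)
    (hbij : Function.Bijective (Ideal.quotientMap (𝔞.map τ) τ Ideal.le_comap_map))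
    (q' : Ideal E) [q'.IsPrime] (h𝔞 : 𝔞.map τ ≤ q')
    (J₁ : Ideal (Localization.AtPrime (q'.comap τ)))
    (hJ₁ : J₁ = 𝔞.map (algebraMap T (Localization.AtPrime (q'.comap τ))))
    (J₂ : Ideal (Localization.AtPrime q'))
    (hJ₂ : J₂ = (𝔞.map τ).map (algebraMap E (Localization.AtPrime q')))
    (hle : J₁ ≤ J₂.comap (Localization.localRingHom (q'.comap τ) q' τ rfl)) :
    Function.Bijective
      (Ideal.quotientMap J₂ (Localization.localRingHom (q'.comap τ) q' τ rfl) hle) := by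
  subst hJ₁ hJ₂
  -- approximation of elements of `E` by elements of `T` modulo `𝔞E`
  have happrox : ∀ e : E, ∃ t : T, e - τ t ∈ 𝔞.map τ := by
    intro e
    obtain ⟨x, hx⟩ := hbij.2 (Ideal.Quotient.mk _ e)
    obtain ⟨t, rfl⟩ := Ideal.Quotient.mk_surjective x
    refine ⟨t, ?_⟩
    rw [Ideal.quotientMap_mk, Ideal.Quotient.mk_eq_mk_iff_sub_mem] at hx
    have : e - τ t = -(τ t - e) := by ring
    rw [this]
    exact neg_mem hx
  have hinj : ∀ t : T, τ t ∈ 𝔞.map τ → t ∈ 𝔞 := by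
    intro t ht
    have h0 : Ideal.quotientMap (𝔞.map τ) τ Ideal.le_comap_map (Ideal.Quotient.mk 𝔞 t) = 0 := by
      rw [Ideal.quotientMap_mk, Ideal.Quotient.eq_zero_iff_mem]
      exact ht
    have := (injective_iff_map_eq_zero _).mp hbij.1 _ h0
    exact Ideal.Quotient.eq_zero_iff_mem.mp this
  have hnot : ∀ (s : E) (v : T), s ∉ q' → s - τ v ∈ 𝔞.map τ → v ∈ (q'.comap τ).primeCompl := by
    intro s v hs hsv hv
    apply hs
    have : s = (s - τ v) + τ v := by ring
    rw [this]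
    exact q'.add_mem (h𝔞 hsv) hv
  constructor
  · rw [injective_iff_map_eq_zero]
    intro z hz
    obtain ⟨x, rfl⟩ := Ideal.Quotient.mk_surjective z
    rw [Ideal.quotientMap_mk, Ideal.Quotient.eq_zero_iff_mem] at hz
    rw [Ideal.Quotient.eq_zero_iff_mem]
    obtain ⟨t, u, rfl⟩ := IsLocalization.exists_mk'_eq (q'.comap τ).primeCompl x
    rw [Localization.localRingHom_mk', IsLocalization.mk'_mem_map_algebraMap_iff] at hz
    obtain ⟨s, hs, hst⟩ := hz
    obtain ⟨v, hv⟩ := happrox s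
    have hvQ := hnot s v hs hv
    rw [IsLocalization.mk'_mem_map_algebraMap_iff]
    refine ⟨v, hvQ, hinj _ ?_⟩
    have : τ (v * t) = s * τ t - (s - τ v) * τ t := by rw [map_mul]; ring
    rw [this]
    exact Ideal.sub_mem _ hst (Ideal.mul_mem_right _ _ hv)
  · intro z
    obtain ⟨y, rfl⟩ := Ideal.Quotient.mk_surjective z
    obtain ⟨e, s, rfl⟩ := IsLocalization.exists_mk'_eq q'.primeCompl y
    obtain ⟨t, ht⟩ := happrox e
    obtain ⟨u, hu⟩ := happrox s
    have huQ := hnot s u s.2 hu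
    refine ⟨Ideal.Quotient.mk _ (IsLocalization.mk' _ t ⟨u, huQ⟩), ?_⟩
    rw [Ideal.quotientMap_mk, Ideal.Quotient.mk_eq_mk_iff_sub_mem, Localization.localRingHom_mk',
      ← IsLocalization.mk'_sub, IsLocalization.mk'_mem_map_algebraMap_iff]
    refine ⟨1, one_mem _, ?_⟩
    rw [one_mul]
    have : τ t * (s : E) - e * τ u = (s - τ u) * τ t - τ u * (e - τ t) := by ring
    change τ t * (s : E) - e * τ u ∈ _
    rw [this]
    exact Ideal.sub_mem _ (Ideal.mul_mem_right _ _ hu) (Ideal.mul_mem_left _ _ ht)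

end W


section Y

variable {A₁ B₁ C' : Type u} [CommRing A₁] [CommRing B₁] [CommRing C'] [Algebra A₁ B₁]
  [Algebra A₁ C']

/-- **Lemma Y'.** The localisation of `C' ⊗ B₁` at a prime `Q` is flat over `C'` as soon as `B₁`
localised at the contraction of `Q` is flat over the base. -/
theorem flat_localization_tensor (Q : Ideal (C' ⊗[A₁] B₁)) [Q.IsPrime]
    (r : Ideal B₁) [r.IsPrime]
    (hr : r = Q.comap (Algebra.TensorProduct.includeRight : B₁ →ₐ[A₁] C' ⊗[A₁] B₁).toRingHom)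
    [Module.Flat A₁ (Localization.AtPrime r)] :
    Module.Flat C' (Localization.AtPrime Q) := by
  let M' : Submonoid (C' ⊗[A₁] B₁) :=
    r.primeCompl.map (Algebra.TensorProduct.includeRight (R := A₁) (A := C'))
  let e := IsLocalization.tensorProductEquivOfMapIncludeRight A₁ C' r.primeCompl
    (Localization.AtPrime r) (Localization M')
  haveI : Module.Flat C' (Localization M') := Module.Flat.of_linearEquiv e.symm.toLinearEquiv
  have hle : M' ≤ Q.primeCompl := by
    rintro _ ⟨b, hb, rfl⟩ hQ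
    apply hb
    rw [hr]
    exact hQ
  letI : Algebra (Localization M') (Localization.AtPrime Q) :=
    IsLocalization.localizationAlgebraOfSubmonoidLe _ _ M' Q.primeCompl hle
  haveI : IsScalarTower (C' ⊗[A₁] B₁) (Localization M') (Localization.AtPrime Q) :=
    IsScalarTower.of_algebraMap_eq' (R := C' ⊗[A₁] B₁) (S := Localization M')
      (A := Localization.AtPrime Q) (IsLocalization.lift_comp _).symm
  haveI : IsLocalization (Q.primeCompl.map (algebraMap (C' ⊗[A₁] B₁) (Localization M')))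
      (Localization.AtPrime Q) :=
    IsLocalization.isLocalization_of_submonoid_le (Localization M') _ M' Q.primeCompl hle
  haveI : Module.Flat (Localization M') (Localization.AtPrime Q) :=
    IsLocalization.flat _ (Q.primeCompl.map (algebraMap (C' ⊗[A₁] B₁) (Localization M')))
  haveI : IsScalarTower C' (Localization M') (Localization.AtPrime Q) :=
    IsScalarTower.of_algebraMap_eq (fun c =>
      (IsScalarTower.algebraMap_apply C' (C' ⊗[A₁] B₁) (Localization.AtPrime Q) c).trans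
        ((IsScalarTower.algebraMap_apply (C' ⊗[A₁] B₁) (Localization M')
          (Localization.AtPrime Q) _).trans
          (congrArg (algebraMap (Localization M') (Localization.AtPrime Q))
            (IsScalarTower.algebraMap_apply C' (C' ⊗[A₁] B₁) (Localization M') c).symm)))
  exact Module.Flat.trans C' (Localization M') (Localization.AtPrime Q)

end Y


section fin

attribute [local instance] Algebra.TensorProduct.rightAlgebra

variable {A₁ B₁ C' : Type u} [CommRing A₁] [CommRing B₁] [CommRing C'] [Algebra A₁ B₁]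
  [Algebra A₁ C']

/-- `(C' ⊗ B₁)/𝔟(C' ⊗ B₁)` is finite over `B₁` when `C'/𝔟` is finite over the base. -/
lemma finite_quotient_tensor (𝔟 : Ideal C') [Module.Finite A₁ (C' ⧸ 𝔟)] :
    Module.Finite B₁ ((C' ⊗[A₁] B₁) ⧸ 𝔟.map (algebraMap C' (C' ⊗[A₁] B₁))) := by
  set 𝔞 : Ideal (C' ⊗[A₁] B₁) := 𝔟.map (algebraMap C' (C' ⊗[A₁] B₁)) with h𝔞
  let f₀ : C' →ₐ[A₁] (C' ⊗[A₁] B₁) ⧸ 𝔞 :=
    (Ideal.Quotient.mkₐ A₁ 𝔞).comp Algebra.TensorProduct.includeLeft
  have hf₀ : ∀ c ∈ 𝔟, f₀ c = 0 := by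
    intro c hc
    change Ideal.Quotient.mk 𝔞 (c ⊗ₜ 1) = 0
    rw [Ideal.Quotient.eq_zero_iff_mem]
    exact Ideal.mem_map_of_mem (algebraMap C' (C' ⊗[A₁] B₁)) hc
  let f : C' ⧸ 𝔟 →ₐ[A₁] (C' ⊗[A₁] B₁) ⧸ 𝔞 := Ideal.Quotient.liftₐ 𝔟 f₀ hf₀
  let Φ : B₁ ⊗[A₁] (C' ⧸ 𝔟) →ₐ[B₁] (C' ⊗[A₁] B₁) ⧸ 𝔞 :=
    Algebra.TensorProduct.productLeftAlgHom (Algebra.ofId B₁ _) f
  have hΦ : Function.Surjective Φ := by
    intro z
    obtain ⟨t, rfl⟩ := Ideal.Quotient.mk_surjective z
    induction t using TensorProduct.induction_on with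
    | zero => exact ⟨0, by rw [map_zero, map_zero]⟩
    | add x y hx hy =>
      obtain ⟨x', hx'⟩ := hx
      obtain ⟨y', hy'⟩ := hy
      exact ⟨x' + y', by rw [map_add, map_add, hx', hy']⟩
    | tmul c b =>
      refine ⟨b ⊗ₜ Ideal.Quotient.mk 𝔟 c, ?_⟩
      change algebraMap B₁ ((C' ⊗[A₁] B₁) ⧸ 𝔞) b * f (Ideal.Quotient.mk 𝔟 c) = _
      change Ideal.Quotient.mk 𝔞 ((1 : C') ⊗ₜ b) * Ideal.Quotient.mk 𝔞 (c ⊗ₜ (1 : B₁)) = _
      rw [← map_mul, Algebra.TensorProduct.tmul_mul_tmul, one_mul, mul_one]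
  exact Module.Finite.of_surjective Φ.toLinearMap hΦ

end fin

section complete

variable {A₁ B₁ C' : Type u} [CommRing A₁] [CommRing B₁] [CommRing C'] [Algebra A₁ B₁]
  [Algebra A₁ C']

/-- `(C' ⊗ B₁)/𝔟(C' ⊗ B₁)` is `I₁`-adically complete when `C'/𝔟` is finite over the base and
`B₁` is Noetherian and complete. -/
lemma isAdicComplete_quotient_tensor [IsNoetherianRing B₁] (I₁ : Ideal A₁)
    [IsAdicComplete (I₁.map (algebraMap A₁ B₁)) B₁] (𝔟 : Ideal C') [Module.Finite A₁ (C' ⧸ 𝔟)] :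
    IsAdicComplete (I₁.map (algebraMap A₁ (C' ⊗[A₁] B₁)))
      ((C' ⊗[A₁] B₁) ⧸ 𝔟.map (algebraMap C' (C' ⊗[A₁] B₁))) := by
  letI := Algebra.TensorProduct.rightAlgebra (R := A₁) (A := C') (B := B₁)
  haveI := finite_quotient_tensor (A₁ := A₁) (B₁ := B₁) 𝔟
  have h1 : IsAdicComplete (I₁.map (algebraMap A₁ B₁))
      ((C' ⊗[A₁] B₁) ⧸ 𝔟.map (algebraMap C' (C' ⊗[A₁] B₁))) :=
    Groth.Agent.S3866.result B₁ (I₁.map (algebraMap A₁ B₁)) _
  have h2 : IsAdicComplete I₁ ((C' ⊗[A₁] B₁) ⧸ 𝔟.map (algebraMap C' (C' ⊗[A₁] B₁))) :=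
    (IsAdicComplete.map_algebraMap_iff _ _).mp h1
  exact (IsAdicComplete.map_algebraMap_iff _ _).mpr h2

end complete


section X

variable {A₁ B₁ C' E' : Type u} [CommRing A₁] [CommRing B₁] [CommRing C'] [CommRing E']
  [Algebra A₁ B₁] [Algebra A₁ C'] [IsNoetherianRing B₁] [IsNoetherianRing C']
  [IsNoetherianRing E']

/-- **Theorem X.** Flatness of the local rings of a "completed tensor product" `E'` of `C'` and
`B₁` over `C'`, from flatness of the local rings of `B₁` over the base. -/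
theorem thmX (I₁ : Ideal A₁) [IsAdicComplete (I₁.map (algebraMap A₁ B₁)) B₁]
    (τ : C' ⊗[A₁] B₁ →+* E')
    (hDS : DS (I₁.map (algebraMap A₁ (C' ⊗[A₁] B₁))) τ)
    (hjac : (I₁.map (algebraMap A₁ (C' ⊗[A₁] B₁))).map τ ≤ Ideal.jacobson ⊥)
    (q' : Ideal E') [q'.IsPrime]
    (hfin : ∀ k : ℕ, Module.Finite A₁
      (C' ⧸ (q'.comap (τ.comp (algebraMap C' (C' ⊗[A₁] B₁)))) ^ k))
    (hflat : Module.Flat A₁ (Localization.AtPrime (q'.comap (τ.comp
      (Algebra.TensorProduct.includeRight : B₁ →ₐ[A₁] C' ⊗[A₁] B₁).toRingHom)))) :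
    ((algebraMap E' (Localization.AtPrime q')).comp
      (τ.comp (algebraMap C' (C' ⊗[A₁] B₁)))).Flat := by
  set γ₀ : C' →+* C' ⊗[A₁] B₁ := algebraMap C' (C' ⊗[A₁] B₁) with hγ₀
  set p' : Ideal C' := q'.comap (τ.comp γ₀) with hp'
  haveI hQp : (q'.comap τ).IsPrime := Ideal.comap_isPrime _ _
  haveI hflatTQ : Module.Flat C' (Localization.AtPrime (q'.comap τ)) :=
    flat_localization_tensor (q'.comap τ) (q'.comap (τ.comp
      (Algebra.TensorProduct.includeRight : B₁ →ₐ[A₁] C' ⊗[A₁] B₁).toRingHom)) rfl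
  set lam : Localization.AtPrime (q'.comap τ) →+* Localization.AtPrime q' :=
    Localization.localRingHom (q'.comap τ) q' τ rfl with hlam
  set φN : C' →+* Localization.AtPrime q' :=
    (algebraMap E' (Localization.AtPrime q')).comp (τ.comp γ₀) with hφN
  have hφ : ∀ c : C', lam (algebraMap C' (Localization.AtPrime (q'.comap τ)) c) = φN c := by
    intro c
    rw [IsScalarTower.algebraMap_apply C' (C' ⊗[A₁] B₁) (Localization.AtPrime (q'.comap τ)),
      hlam, Localization.localRingHom_to_map]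
    rfl
  letI algN : Algebra C' (Localization.AtPrime q') := φN.toAlgebra
  haveI : IsNoetherianRing (Localization.AtPrime q') :=
    IsLocalization.isNoetherianRing q'.primeCompl _ inferInstance
  refine RingHom.flat_algebraMap_iff.mpr ?_
  refine flat_of_forall_flat_quotient_pow (R := C') (S := Localization.AtPrime q') p' ?_ ?_
  · rw [IsLocalRing.jacobson_eq_maximalIdeal ⊥ bot_ne_top, Ideal.map_le_iff_le_comap]
    intro c hc
    change algebraMap E' (Localization.AtPrime q') (τ (γ₀ c)) ∈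
      IsLocalRing.maximalIdeal (Localization.AtPrime q')
    rw [IsLocalization.AtPrime.to_map_mem_maximal_iff (Localization.AtPrime q') q']
    exact hc
  · intro n hn
    obtain ⟨𝔟, h𝔟⟩ : ∃ 𝔟 : Ideal C', 𝔟 = p' ^ n := ⟨_, rfl⟩
    rw [← h𝔟]
    have h𝔟p : 𝔟 ≤ p' := h𝔟 ▸ Ideal.pow_le_self (Nat.pos_iff_ne_zero.mp hn)
    haveI : Module.Finite A₁ (C' ⧸ 𝔟) := h𝔟 ▸ hfin n
    obtain ⟨𝔞, h𝔞def⟩ : ∃ 𝔞 : Ideal (C' ⊗[A₁] B₁), 𝔞 = 𝔟.map γ₀ := ⟨_, rfl⟩
    haveI hcompl : IsAdicComplete (I₁.map (algebraMap A₁ (C' ⊗[A₁] B₁))) ((C' ⊗[A₁] B₁) ⧸ 𝔞) :=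
      h𝔞def ▸ isAdicComplete_quotient_tensor I₁ 𝔟
    have hbij := hDS.quotient_bijective hjac 𝔞
    have h𝔞q : 𝔞.map τ ≤ q' := by
      rw [h𝔞def, Ideal.map_map, Ideal.map_le_iff_le_comap]
      exact h𝔟p
    have hJ₁ : 𝔟.map (algebraMap C' (Localization.AtPrime (q'.comap τ))) =
        𝔞.map (algebraMap (C' ⊗[A₁] B₁) (Localization.AtPrime (q'.comap τ))) := by
      rw [h𝔞def, Ideal.map_map]
      rfl
    have hJ₂ : 𝔟.map (algebraMap C' (Localization.AtPrime q')) =
        (𝔞.map τ).map (algebraMap E' (Localization.AtPrime q')) := by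
      rw [h𝔞def, Ideal.map_map, Ideal.map_map]
      rfl
    have hle : 𝔟.map (algebraMap C' (Localization.AtPrime (q'.comap τ))) ≤
        (𝔟.map (algebraMap C' (Localization.AtPrime q'))).comap lam := by
      rw [Ideal.map_le_iff_le_comap]
      intro c hc
      rw [Ideal.mem_comap, Ideal.mem_comap, hφ]
      exact Ideal.mem_map_of_mem _ hc
    have hW := localRingHom_quotient_bijective τ 𝔞 hbij q' h𝔞q _ hJ₁ _ hJ₂ hle
    exact flat_quotient_of_bijective lam hφ 𝔟 hle hW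

end X

end Groth.Agent.Lib.Helper16.RigCl14
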