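import Mathlib
import Groth.Agent.Lib.Helper16.RigCl14
import Groth.Agent.Lib.Helper12.ComplTensorA

set_option autoImplicit false
universe u

namespace Groth.Agent.Lib.Helper16.RigCl15

open Groth.Agent.Lib.Helper16.RigCl Groth.Agent.Lib.Helper16.RigCl13 TensorProduct

section lift

variable {C T : Type u} [CommRing C] [CommRing T] [Algebra C T]

/-- lifting a finite-type presentation of a quotient -/
lemma exists_mvPolynomial_surjective_quot (K : Ideal T) (h : Algebra.FiniteType C (T ⧸ K)) :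
    ∃ (m : ℕ) (ρ : MvPolynomial (Fin m) C →ₐ[C] T),
      Function.Surjective ((Ideal.Quotient.mkₐ C K).comp ρ) := by
  obtain ⟨m, f, hf⟩ := Algebra.FiniteType.iff_quotient_mvPolynomial''.mp h
  choose g hg using fun i : Fin m => Ideal.Quotient.mk_surjective (f (MvPolynomial.X i))
  refine ⟨m, MvPolynomial.aeval g, ?_⟩
  have : (Ideal.Quotient.mkₐ C K).comp (MvPolynomial.aeval g) = f := by
    refine MvPolynomial.algHom_ext fun i => ?_
    rw [AlgHom.comp_apply, MvPolynomial.aeval_X, Ideal.Quotient.mkₐ_eq_mk, hg]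
  rw [this]
  exact hf

end lift

section D

variable {A : Type u} [CommRing A] (I : Ideal A) {B C : Type u} [CommRing B] [CommRing C]
  [Algebra A B] [Algebra A C]

/-- `(C ⊗ B)/I(C ⊗ B)` is of finite type over `C` when `B/IB` is of finite type over `A` -/
lemma finiteType_tensor_quot (hft : Algebra.FiniteType A (B ⧸ I.map (algebraMap A B))) :
    Algebra.FiniteType C
      ((C ⊗[A] B) ⧸ (I.map (algebraMap A C)).map (algebraMap C (C ⊗[A] B))) := by
  set K : Ideal (C ⊗[A] B) := (I.map (algebraMap A C)).map (algebraMap C (C ⊗[A] B)) with hK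
  let f₀ : B →ₐ[A] (C ⊗[A] B) ⧸ K :=
    (Ideal.Quotient.mkₐ A K).comp Algebra.TensorProduct.includeRight
  have hf₀ : ∀ b ∈ I.map (algebraMap A B), f₀ b = 0 := by
    intro b hb
    have hle : I.map (algebraMap A B) ≤ (RingHom.ker f₀.toRingHom) := by
      rw [Ideal.map_le_iff_le_comap]
      intro a ha
      rw [Ideal.mem_comap, RingHom.mem_ker]
      change Ideal.Quotient.mk K ((1 : C) ⊗ₜ[A] (algebraMap A B a)) = 0
      rw [Ideal.Quotient.eq_zero_iff_mem, ← Algebra.TensorProduct.tmul_one_eq_one_tmul]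
      exact Ideal.mem_map_of_mem (algebraMap C (C ⊗[A] B)) (Ideal.mem_map_of_mem _ ha)
    exact hle hb
  let f : (B ⧸ I.map (algebraMap A B)) →ₐ[A] (C ⊗[A] B) ⧸ K :=
    Ideal.Quotient.liftₐ (I.map (algebraMap A B)) f₀ hf₀
  let Φ : C ⊗[A] (B ⧸ I.map (algebraMap A B)) →ₐ[C] (C ⊗[A] B) ⧸ K :=
    Algebra.TensorProduct.productLeftAlgHom (Algebra.ofId C _) f
  have hΦ : Function.Surjective Φ := by
    intro z
    obtain ⟨t, rfl⟩ := Ideal.Quotient.mk_surjective z
    induction t using TensorProduct.induction_on with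
    | zero => exact ⟨0, by rw [map_zero, map_zero]⟩
    | add x y hx hy =>
      obtain ⟨x', hx'⟩ := hx
      obtain ⟨y', hy'⟩ := hy
      exact ⟨x' + y', by rw [map_add, map_add, hx', hy']⟩
    | tmul c b =>
      refine ⟨c ⊗ₜ Ideal.Quotient.mk _ b, ?_⟩
      change algebraMap C ((C ⊗[A] B) ⧸ K) c * f (Ideal.Quotient.mk _ b) = _
      change Ideal.Quotient.mk K (c ⊗ₜ (1 : B)) * Ideal.Quotient.mk K ((1 : C) ⊗ₜ b) = _
      rw [← map_mul, Algebra.TensorProduct.tmul_mul_tmul, one_mul, mul_one]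
  haveI := hft
  exact Algebra.FiniteType.of_surjective Φ hΦ

variable [IsNoetherianRing C]

lemma fg_K : ((I.map (algebraMap A C)).map (algebraMap C (C ⊗[A] B))).FG :=
  Ideal.FG.map (IsNoetherian.noetherian _) _

/-- the completed tensor product is Noetherian -/
theorem isNoetherianRing_completedTensor
    (hft : Algebra.FiniteType A (B ⧸ I.map (algebraMap A B))) :
    IsNoetherianRing (AdicCompletion
      ((I.map (algebraMap A C)).map (algebraMap C (C ⊗[A] B))) (C ⊗[A] B)) := by
  obtain ⟨m, ρ, hρ⟩ := exists_mvPolynomial_surjective_quot _ (finiteType_tensor_quot I (C := C) hft)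
  letI : Algebra (MvPolynomial (Fin m) C) (C ⊗[A] B) := ρ.toRingHom.toAlgebra
  exact Groth.Agent.Lib.Helper12.ComplTensor.isNoetherianRing_adicCompletion_of_surjective
    ((I.map (algebraMap A C)).map (algebraMap C (C ⊗[A] B))) (fg_K I) hρ

/-- the ideal of definition of the completed tensor product -/
lemma map_D_eq : (I.map (algebraMap A C)).map (algebraMap C (AdicCompletion
      ((I.map (algebraMap A C)).map (algebraMap C (C ⊗[A] B))) (C ⊗[A] B))) =
    ((I.map (algebraMap A C)).map (algebraMap C (C ⊗[A] B))).map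
      (algebraMap (C ⊗[A] B) (AdicCompletion
        ((I.map (algebraMap A C)).map (algebraMap C (C ⊗[A] B))) (C ⊗[A] B))) :=
  ((Ideal.map_map _ _).trans (congrArg (fun φ => Ideal.map φ (I.map (algebraMap A C)))
    (IsScalarTower.algebraMap_eq C (C ⊗[A] B) _).symm)).symm

/-- the completed tensor product is complete -/
theorem isAdicComplete_completedTensor :
    IsAdicComplete ((I.map (algebraMap A C)).map (algebraMap C (AdicCompletion
      ((I.map (algebraMap A C)).map (algebraMap C (C ⊗[A] B))) (C ⊗[A] B))))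
      (AdicCompletion ((I.map (algebraMap A C)).map (algebraMap C (C ⊗[A] B))) (C ⊗[A] B)) :=
  (congrArg (fun K => IsAdicComplete K (AdicCompletion
      ((I.map (algebraMap A C)).map (algebraMap C (C ⊗[A] B))) (C ⊗[A] B))) (map_D_eq I)).mpr
    (AdicCompletion.isAdicComplete_self _ (fg_K I))

/-- the completed tensor product is topologically of finite type over `C` -/
theorem finiteType_completedTensor
    (hft : Algebra.FiniteType A (B ⧸ I.map (algebraMap A B))) :
    Algebra.FiniteType C ((AdicCompletion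
      ((I.map (algebraMap A C)).map (algebraMap C (C ⊗[A] B))) (C ⊗[A] B)) ⧸
      (I.map (algebraMap A C)).map (algebraMap C (AdicCompletion
      ((I.map (algebraMap A C)).map (algebraMap C (C ⊗[A] B))) (C ⊗[A] B)))) := by
  obtain ⟨m, ρ, hρ⟩ := exists_mvPolynomial_surjective_quot _ (finiteType_tensor_quot I (C := C) hft)
  set K : Ideal (C ⊗[A] B) := (I.map (algebraMap A C)).map (algebraMap C (C ⊗[A] B)) with hK
  let g : MvPolynomial (Fin m) C →ₐ[C] (AdicCompletion K (C ⊗[A] B)) ⧸
      (I.map (algebraMap A C)).map (algebraMap C (AdicCompletion K (C ⊗[A] B))) :=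
    (Ideal.Quotient.mkₐ C _).comp ((IsScalarTower.toAlgHom C (C ⊗[A] B) _).comp ρ)
  refine Algebra.FiniteType.of_surjective g ?_
  intro z
  obtain ⟨d, rfl⟩ := Ideal.Quotient.mk_surjective z
  obtain ⟨t, ht⟩ := Groth.Agent.Lib.Helper12.FComplA.exists_sub_algebraMap_mem K (fg_K I) 1 d
  obtain ⟨p, hp⟩ := hρ (Ideal.Quotient.mk K t)
  refine ⟨p, ?_⟩
  change Ideal.Quotient.mk _ (algebraMap (C ⊗[A] B) (AdicCompletion K (C ⊗[A] B)) (ρ p)) = _
  rw [Ideal.Quotient.mk_eq_mk_iff_sub_mem, map_D_eq I]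
  rw [AlgHom.comp_apply, Ideal.Quotient.mkₐ_eq_mk, Ideal.Quotient.mk_eq_mk_iff_sub_mem] at hp
  rw [pow_one] at ht
  have e : algebraMap (C ⊗[A] B) (AdicCompletion K (C ⊗[A] B)) (ρ p) - d =
      algebraMap (C ⊗[A] B) (AdicCompletion K (C ⊗[A] B)) (ρ p - t) -
        (d - algebraMap (C ⊗[A] B) (AdicCompletion K (C ⊗[A] B)) t) := by
    rw [map_sub]; ring
  rw [e]
  exact Ideal.sub_mem _ (Ideal.mem_map_of_mem _ hp) ht

end D

end Groth.Agent.Lib.Helper16.RigCl15
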