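import Mathlib
import Groth.Agent.Lib.Helper16.RigCl15

set_option autoImplicit false
universe u

namespace Groth.Agent.Lib.Helper16.RigCl16

open Groth.Agent.Lib.Helper16.RigCl Groth.Agent.Lib.Helper16.RigCl10
  Groth.Agent.Lib.Helper16.RigCl13 TensorProduct

/-- the completed localisation `R_{x}` with respect to the ideal `K` -/
local notation "CL" K:max x:max => AdicCompletion (Ideal.map (algebraMap _ (Localization.Away x)) K)
  (Localization.Away x)

section cl

variable {T E : Type u} [CommRing T] [CommRing E]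

/-- the map `T[1/s] → E_{y}` to the completed localisation induced by `τ` -/
noncomputable def clmap (τ : T →+* E) (s : T) (y : E) (hy : τ s = y) (KE : Ideal E) :
    Localization.Away s →+* CL KE y :=
  (algebraMap (Localization.Away y) (CL KE y)).comp (lmap τ s y hy)

lemma clmap_algebraMap (τ : T →+* E) (s : T) (y : E) (hy : τ s = y) (KE : Ideal E) (t : T) :
    clmap τ s y hy KE (algebraMap T (Localization.Away s) t) = algebraMap E (CL KE y) (τ t) := by
  change algebraMap (Localization.Away y) (CL KE y)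
    (lmap τ s y hy (algebraMap T (Localization.Away s) t)) = _
  rw [lmap_algebraMap]
  exact (IsScalarTower.algebraMap_apply E (Localization.Away y) (CL KE y) (τ t)).symm

/-- dense-strictness passes to completed localisations -/
lemma DS.cl {K : Ideal T} {τ : T →+* E} (h : DS K τ) (hK : K.FG) (s : T) (y : E) (hy : τ s = y)
    (KE : Ideal E) (hKE : K.map τ = KE) :
    DS (K.map (algebraMap T (Localization.Away s))) (clmap τ s y hy KE) := by
  subst hKE
  have hmap : (K.map (algebraMap T (Localization.Away s))).map (lmap τ s y hy) =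
      (K.map τ).map (algebraMap E (Localization.Away y)) := by
    refine (Ideal.map_map _ _).trans ?_
    rw [lmap_comp]
    exact (Ideal.map_map _ _).symm
  have hfg : ((K.map τ).map (algebraMap E (Localization.Away y))).FG := (hK.map _).map _
  have h2 := ds_completion ((K.map τ).map (algebraMap E (Localization.Away y))) hfg
  exact DS.comp (h.away s y hy) ((congrArg (fun J => DS J (algebraMap (Localization.Away y)
    (AdicCompletion ((K.map τ).map (algebraMap E (Localization.Away y))) (Localization.Away y))))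
    hmap).mpr h2)

end cl

section S

variable {A₁ B₁ C' : Type u} [CommRing A₁] [CommRing B₁] [CommRing C'] [Algebra A₁ B₁]
  [Algebra A₁ C']

/-- **Lemma S.** A map into a tensor product is dense as soon as it factors dense maps into both
factors. -/
lemma dense_tensor {T₂ C₂ B₂ : Type u} [CommRing T₂] [CommRing C₂] [CommRing B₂]
    (σ : T₂ →+* C' ⊗[A₁] B₁) (u : C₂ →+* T₂) (v : B₂ →+* T₂) (α : C₂ →+* C') (β : B₂ →+* B₁)
    (hu : ∀ c, σ (u c) = α c ⊗ₜ 1) (hv : ∀ b, σ (v b) = 1 ⊗ₜ β b)
    (JC : Ideal C') (JB : Ideal B₁) (JT : Ideal (C' ⊗[A₁] B₁))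
    (hJC : JC.map (algebraMap C' (C' ⊗[A₁] B₁)) ≤ JT)
    (hJB : JB.map (Algebra.TensorProduct.includeRight : B₁ →ₐ[A₁] C' ⊗[A₁] B₁).toRingHom ≤ JT)
    (hα : ∀ (j : ℕ) (c' : C'), ∃ c : C₂, c' - α c ∈ JC ^ j)
    (hβ : ∀ (j : ℕ) (b' : B₁), ∃ b : B₂, b' - β b ∈ JB ^ j)
    (j : ℕ) (x : C' ⊗[A₁] B₁) : ∃ t : T₂, x - σ t ∈ JT ^ j := by
  induction x using TensorProduct.induction_on with
  | zero => exact ⟨0, by rw [map_zero, sub_zero]; exact zero_mem _⟩
  | add x y hx hy =>
    obtain ⟨tx, htx⟩ := hx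
    obtain ⟨ty, hty⟩ := hy
    refine ⟨tx + ty, ?_⟩
    have : x + y - σ (tx + ty) = (x - σ tx) + (y - σ ty) := by rw [map_add]; ring
    rw [this]
    exact add_mem htx hty
  | tmul c' b' =>
    obtain ⟨c, hc⟩ := hα j c'
    obtain ⟨b, hb⟩ := hβ j b'
    refine ⟨u c * v b, ?_⟩
    have e : c' ⊗ₜ[A₁] b' - σ (u c * v b) =
        (algebraMap C' (C' ⊗[A₁] B₁) (c' - α c)) * ((1 : C') ⊗ₜ[A₁] b') +
        (α c ⊗ₜ[A₁] (1 : B₁)) *
          ((Algebra.TensorProduct.includeRight : B₁ →ₐ[A₁] C' ⊗[A₁] B₁).toRingHom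
            (b' - β b)) := by
      rw [map_mul, hu, hv, Algebra.TensorProduct.tmul_mul_tmul, one_mul, mul_one]
      change _ = ((c' - α c) ⊗ₜ[A₁] (1 : B₁)) * ((1 : C') ⊗ₜ[A₁] b') +
        (α c ⊗ₜ[A₁] (1 : B₁)) * ((1 : C') ⊗ₜ[A₁] (b' - β b))
      rw [Algebra.TensorProduct.tmul_mul_tmul, Algebra.TensorProduct.tmul_mul_tmul, one_mul,
        mul_one, mul_one, one_mul, TensorProduct.sub_tmul, TensorProduct.tmul_sub]
      ring
    rw [e]
    refine add_mem (Ideal.mul_mem_right _ _ ?_) (Ideal.mul_mem_left _ _ ?_)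
    · refine Ideal.pow_right_mono hJC j ?_
      rw [← Ideal.map_pow]
      exact Ideal.mem_map_of_mem _ hc
    · refine Ideal.pow_right_mono hJB j ?_
      rw [← Ideal.map_pow]
      exact Ideal.mem_map_of_mem _ hb

end S


section lift

variable {A₁ B₁ C' E' : Type u} [CommRing A₁] [CommRing B₁] [CommRing C'] [CommRing E']
  [Algebra A₁ B₁] [Algebra A₁ C']

/-- the ring map out of a tensor product induced by two compatible ring maps -/
noncomputable def tensorLift (γ : C' →+* E') (β : B₁ →+* E')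
    (hcomm : γ.comp (algebraMap A₁ C') = β.comp (algebraMap A₁ B₁)) : C' ⊗[A₁] B₁ →+* E' :=
  letI : Algebra A₁ E' := (γ.comp (algebraMap A₁ C')).toAlgebra
  (Algebra.TensorProduct.productMap
    ({ toRingHom := γ, commutes' := fun _ => rfl } : C' →ₐ[A₁] E')
    ({ toRingHom := β, commutes' := fun r => (RingHom.congr_fun hcomm r).symm } :
      B₁ →ₐ[A₁] E')).toRingHom

lemma tensorLift_tmul (γ : C' →+* E') (β : B₁ →+* E')
    (hcomm : γ.comp (algebraMap A₁ C') = β.comp (algebraMap A₁ B₁)) (c : C') (b : B₁) :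
    tensorLift γ β hcomm (c ⊗ₜ b) = γ c * β b := by
  letI : Algebra A₁ E' := (γ.comp (algebraMap A₁ C')).toAlgebra
  exact Algebra.TensorProduct.productMap_apply_tmul _ _ c b

lemma tensorLift_comp_left (γ : C' →+* E') (β : B₁ →+* E')
    (hcomm : γ.comp (algebraMap A₁ C') = β.comp (algebraMap A₁ B₁)) :
    (tensorLift γ β hcomm).comp (algebraMap C' (C' ⊗[A₁] B₁)) = γ :=
  RingHom.ext fun c => by
    change tensorLift γ β hcomm (c ⊗ₜ 1) = γ c
    rw [tensorLift_tmul, map_one, mul_one]

lemma tensorLift_comp_right (γ : C' →+* E') (β : B₁ →+* E')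
    (hcomm : γ.comp (algebraMap A₁ C') = β.comp (algebraMap A₁ B₁)) :
    (tensorLift γ β hcomm).comp
      (Algebra.TensorProduct.includeRight : B₁ →ₐ[A₁] C' ⊗[A₁] B₁).toRingHom = β :=
  RingHom.ext fun b => by
    change tensorLift γ β hcomm (1 ⊗ₜ b) = β b
    rw [tensorLift_tmul, map_one, one_mul]

/-- ring maps out of a tensor product agreeing on pure tensors are equal -/
lemma tensor_ringHom_ext (φ₁ φ₂ : C' ⊗[A₁] B₁ →+* E')
    (h : ∀ c b, φ₁ (c ⊗ₜ b) = φ₂ (c ⊗ₜ b)) : φ₁ = φ₂ := by
  refine RingHom.ext fun x => ?_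
  induction x using TensorProduct.induction_on with
  | zero => rw [map_zero, map_zero]
  | add x y hx hy => rw [map_add, map_add, hx, hy]
  | tmul c b => exact h c b

end lift

end Groth.Agent.Lib.Helper16.RigCl16
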