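import Mathlib
import Groth.Agent.Lib.Helper16.RigCl16

set_option autoImplicit false
universe u

namespace Groth.Agent.Lib.Helper16.RigCl17

open Groth.Agent.Lib.Helper16.RigCl Groth.Agent.Lib.Helper16.RigCl10
  Groth.Agent.Lib.Helper16.RigCl13 Groth.Agent.Lib.Helper16.RigCl15
  Groth.Agent.Lib.Helper16.RigCl16 TensorProduct

/-- the completed localisation `R_{x}` with respect to the ideal `K` -/
local notation "CL" K:max x:max => AdicCompletion (Ideal.map (algebraMap _ (Localization.Away x)) K)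
  (Localization.Away x)

section part1

variable {A : Type u} [CommRing A] (I : Ideal A) {B C : Type u} [CommRing B] [CommRing C]
  [Algebra A B] [Algebra A C] [IsNoetherianRing C] (h : C) (f : A)
  {D : Type u} [CommRing D] [Algebra C D] [Algebra (C ⊗[A] B) D] [IsScalarTower C (C ⊗[A] B) D]
  [Algebra A D] [IsScalarTower A C D]

local notation "T" => C ⊗[A] B
local notation "IC" => Ideal.map (algebraMap A C) I
local notation "KT" => Ideal.map (algebraMap C (C ⊗[A] B)) (Ideal.map (algebraMap A C) I)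
local notation "KD" => Ideal.map (algebraMap C D) IC
local notation "Dh" => CL KD (algebraMap C D h)
local notation "Ep" => CL (Ideal.map (algebraMap A Dh) I) (algebraMap A Dh f)
local notation "T1" => Localization.Away (algebraMap C (C ⊗[A] B) h)
local notation "T2" => Localization.Away (algebraMap A T1 f)

lemma tower_ATD (a : A) : algebraMap T D (algebraMap A T a) = algebraMap A D a :=
  ((congrArg (algebraMap T D) (IsScalarTower.algebraMap_apply A C T a)).trans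
    ((IsScalarTower.algebraMap_apply C T D _).symm.trans
      (IsScalarTower.algebraMap_apply A C D a).symm))

lemma map_KT : Ideal.map (algebraMap T D) KT = KD :=
  (Ideal.map_map _ _).trans (congrArg (fun φ => Ideal.map φ IC)
    (IsScalarTower.algebraMap_eq C T D).symm)

/-- the map `T[1/h] → D_{h}` -/
noncomputable def tau1 : T1 →+* Dh :=
  clmap (algebraMap T D) (algebraMap C T h) (algebraMap C D h)
    (IsScalarTower.algebraMap_apply C T D h).symm KD

lemma tau1_algebraMap (t : T) :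
    tau1 I (B := B) h (D := D) (algebraMap T T1 t) = algebraMap D Dh (algebraMap T D t) :=
  clmap_algebraMap _ _ _ _ _ t

lemma tau1_algebraMap_A (a : A) :
    tau1 I (B := B) h (D := D) (algebraMap A T1 a) = algebraMap A Dh a :=
  ((congrArg (tau1 I (B := B) h) (IsScalarTower.algebraMap_apply A T T1 a)).trans
    ((tau1_algebraMap I h _).trans
    ((congrArg (algebraMap D Dh) (tower_ATD a)).trans
      (IsScalarTower.algebraMap_apply A D Dh a).symm)))

lemma ds_tau1 (hDS : DS KT (algebraMap T D)) :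
    DS (Ideal.map (algebraMap T T1) KT) (tau1 I (B := B) h (D := D)) :=
  DS.cl hDS (fg_K I) _ _ _ KD (map_KT I)

/-- the map `T[1/h][1/f] → (D_{h})_{f}` -/
noncomputable def tau2 : T2 →+* Ep :=
  clmap (tau1 I (B := B) h (D := D)) (algebraMap A T1 f) (algebraMap A Dh f)
    (tau1_algebraMap_A I h f) (Ideal.map (algebraMap A Dh) I)

lemma tau2_algebraMap (t : T1) :
    tau2 I (B := B) h f (D := D) (algebraMap T1 T2 t) =
      algebraMap Dh Ep (tau1 I (B := B) h (D := D) t) :=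
  clmap_algebraMap _ _ _ _ _ t

lemma map_tau1 : Ideal.map (tau1 I (B := B) h (D := D)) (Ideal.map (algebraMap T T1) KT) =
    Ideal.map (algebraMap A Dh) I := by
  refine (Ideal.map_map _ _).trans ((Ideal.map_map _ _).trans ((Ideal.map_map _ _).trans ?_))
  refine congrArg (fun φ => Ideal.map φ I) (RingHom.ext fun a => ?_)
  exact (congrArg (tau1 I (B := B) h) ((congrArg (algebraMap T T1)
    (IsScalarTower.algebraMap_apply A C T a).symm).trans
      (IsScalarTower.algebraMap_apply A T T1 a).symm)).trans (tau1_algebraMap_A I h a)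

lemma ds_tau2 (hDS : DS KT (algebraMap T D)) :
    DS (Ideal.map (algebraMap T1 T2) (Ideal.map (algebraMap T T1) KT))
      (tau2 I (B := B) h f (D := D)) :=
  DS.cl (ds_tau1 I h hDS) ((fg_K I).map _) _ _ _ _ (map_tau1 I h)

end part1


section part2

variable {A : Type u} [CommRing A] (I : Ideal A) {B C : Type u} [CommRing B] [CommRing C]
  [Algebra A B] [Algebra A C] (h : C) (f : A)
  {A₁ B₁ C' : Type u} [CommRing A₁] [CommRing B₁] [CommRing C'] [Algebra A₁ B₁] [Algebra A₁ C']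
  (a₁ : A →+* A₁) (c₁ : C →+* C') (b₁ : B →+* B₁)
  (hc₁ : (algebraMap A₁ C').comp a₁ = c₁.comp (algebraMap A C))
  (hb₁ : (algebraMap A₁ B₁).comp a₁ = b₁.comp (algebraMap A B))

local notation "T" => C ⊗[A] B
local notation "T1" => Localization.Away (algebraMap C (C ⊗[A] B) h)
local notation "T2" => Localization.Away (algebraMap A T1 f)
local notation "T₁" => C' ⊗[A₁] B₁

include hc₁ hb₁ in
lemma sigma0_comm : ((algebraMap C' T₁).comp c₁).comp (algebraMap A C) =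
    ((Algebra.TensorProduct.includeRight : B₁ →ₐ[A₁] T₁).toRingHom.comp b₁).comp
      (algebraMap A B) := by
  refine RingHom.ext fun a => ?_
  change (c₁ (algebraMap A C a)) ⊗ₜ[A₁] (1 : B₁) = (1 : C') ⊗ₜ[A₁] (b₁ (algebraMap A B a))
  have e1 : c₁ (algebraMap A C a) = algebraMap A₁ C' (a₁ a) := (RingHom.congr_fun hc₁ a).symm
  have e2 : b₁ (algebraMap A B a) = algebraMap A₁ B₁ (a₁ a) := (RingHom.congr_fun hb₁ a).symm
  rw [e1, e2]
  exact Algebra.TensorProduct.tmul_one_eq_one_tmul _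

/-- the map `C ⊗ B → C' ⊗ B₁` -/
noncomputable def sigma0 : T →+* T₁ :=
  tensorLift ((algebraMap C' T₁).comp c₁)
    ((Algebra.TensorProduct.includeRight : B₁ →ₐ[A₁] T₁).toRingHom.comp b₁)
    (sigma0_comm a₁ c₁ b₁ hc₁ hb₁)

lemma sigma0_tmul (c : C) (b : B) :
    sigma0 a₁ c₁ b₁ hc₁ hb₁ (c ⊗ₜ b) = (c₁ c) ⊗ₜ[A₁] (b₁ b) := by
  change tensorLift _ _ _ (c ⊗ₜ b) = _
  rw [tensorLift_tmul]
  change ((c₁ c) ⊗ₜ[A₁] (1 : B₁)) * ((1 : C') ⊗ₜ[A₁] (b₁ b)) = _
  rw [Algebra.TensorProduct.tmul_mul_tmul, one_mul, mul_one]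

lemma sigma0_algebraMap (a : A) :
    sigma0 a₁ c₁ b₁ hc₁ hb₁ (algebraMap A T a) = algebraMap A₁ T₁ (a₁ a) := by
  change sigma0 a₁ c₁ b₁ hc₁ hb₁ ((algebraMap A C a) ⊗ₜ 1) = (algebraMap A₁ C' (a₁ a)) ⊗ₜ 1
  rw [sigma0_tmul, map_one]
  exact congrArg (fun x => x ⊗ₜ[A₁] (1 : B₁)) (RingHom.congr_fun hc₁ a).symm

variable (hh : IsUnit (c₁ h)) (hf : IsUnit (a₁ f))

include hh in
lemma isUnit_sigma0 : IsUnit (sigma0 a₁ c₁ b₁ hc₁ hb₁ (algebraMap C T h)) := by
  change IsUnit (sigma0 a₁ c₁ b₁ hc₁ hb₁ (h ⊗ₜ 1))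
  rw [sigma0_tmul, map_one]
  exact hh.map (algebraMap C' T₁)

/-- the map `(C ⊗ B)[1/h] → C' ⊗ B₁` -/
noncomputable def sigma1 : T1 →+* T₁ :=
  IsLocalization.Away.lift (algebraMap C T h) (g := sigma0 a₁ c₁ b₁ hc₁ hb₁)
    (isUnit_sigma0 h a₁ c₁ b₁ hc₁ hb₁ hh)

lemma sigma1_algebraMap (t : T) :
    sigma1 h a₁ c₁ b₁ hc₁ hb₁ hh (algebraMap T T1 t) = sigma0 a₁ c₁ b₁ hc₁ hb₁ t :=
  IsLocalization.Away.lift_eq _ _ _

include hf in
lemma isUnit_sigma1 : IsUnit (sigma1 h a₁ c₁ b₁ hc₁ hb₁ hh (algebraMap A T1 f)) := by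
  rw [IsScalarTower.algebraMap_apply A T T1, sigma1_algebraMap, sigma0_algebraMap]
  exact hf.map (algebraMap A₁ T₁)

/-- the map `(C ⊗ B)[1/h][1/f] → C' ⊗ B₁` -/
noncomputable def sigma2 : T2 →+* T₁ :=
  IsLocalization.Away.lift (algebraMap A T1 f) (g := sigma1 h a₁ c₁ b₁ hc₁ hb₁ hh)
    (isUnit_sigma1 h f a₁ c₁ b₁ hc₁ hb₁ hh hf)

lemma sigma2_algebraMap (t : T1) :
    sigma2 h f a₁ c₁ b₁ hc₁ hb₁ hh hf (algebraMap T1 T2 t) = sigma1 h a₁ c₁ b₁ hc₁ hb₁ hh t :=
  IsLocalization.Away.lift_eq _ _ _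

lemma sigma2_algebraMap_T (t : T) :
    sigma2 h f a₁ c₁ b₁ hc₁ hb₁ hh hf (algebraMap T T2 t) = sigma0 a₁ c₁ b₁ hc₁ hb₁ t := by
  rw [IsScalarTower.algebraMap_apply T T1 T2, sigma2_algebraMap, sigma1_algebraMap]

end part2


section part3

variable {A : Type u} [CommRing A] (I : Ideal A) {B C : Type u} [CommRing B] [CommRing C]
  [Algebra A B] [Algebra A C] (h : C) (f : A)
  {A₁ B₁ C' E' : Type u} [CommRing A₁] [CommRing B₁] [CommRing C'] [CommRing E']
  [Algebra A₁ B₁] [Algebra A₁ C']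
  (a₁ : A →+* A₁) (c₁ : C →+* C') (b₁ : B →+* B₁)
  (hc₁ : (algebraMap A₁ C').comp a₁ = c₁.comp (algebraMap A C))
  (hb₁ : (algebraMap A₁ B₁).comp a₁ = b₁.comp (algebraMap A B))
  (hh : IsUnit (c₁ h)) (hf : IsUnit (a₁ f))

local notation "T" => C ⊗[A] B
local notation "T1" => Localization.Away (algebraMap C (C ⊗[A] B) h)
local notation "T2" => Localization.Away (algebraMap A T1 f)
local notation "T₁" => C' ⊗[A₁] B₁
local notation "C1" => Localization.Away h
local notation "C2" => Localization.Away (algebraMap A C1 f)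
local notation "B2" => Localization.Away (algebraMap A B f)

lemma tensorLift_comp_sigma2 (τ₂ : T2 →+* E') (γ : C' →+* E') (β : B₁ →+* E')
    (hcomm : γ.comp (algebraMap A₁ C') = β.comp (algebraMap A₁ B₁))
    (hγ : ∀ c, γ (c₁ c) = τ₂ (algebraMap T T2 (c ⊗ₜ 1)))
    (hβ : ∀ b, β (b₁ b) = τ₂ (algebraMap T T2 (1 ⊗ₜ b))) :
    (tensorLift γ β hcomm).comp (sigma2 h f a₁ c₁ b₁ hc₁ hb₁ hh hf) = τ₂ := by
  apply IsLocalization.ringHom_ext (Submonoid.powers (algebraMap A T1 f))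
  apply IsLocalization.ringHom_ext (Submonoid.powers (algebraMap C T h))
  apply tensor_ringHom_ext
  intro c b
  change tensorLift γ β hcomm (sigma2 h f a₁ c₁ b₁ hc₁ hb₁ hh hf
    (algebraMap T1 T2 (algebraMap T T1 (c ⊗ₜ b)))) =
    τ₂ (algebraMap T1 T2 (algebraMap T T1 (c ⊗ₜ b)))
  rw [sigma2_algebraMap, sigma1_algebraMap, sigma0_tmul, tensorLift_tmul, hγ, hβ, ← map_mul,
    ← map_mul, Algebra.TensorProduct.tmul_mul_tmul, one_mul, mul_one,
    IsScalarTower.algebraMap_apply T T1 T2]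

include hc₁ hb₁ hh hf in
/-- **Completed base change.** The tensor product `C' ⊗ B₁` maps densely and strictly to `E'`. -/
theorem ds_tensorLift (τ₂ : T2 →+* E') (hτ₂ : DS (Ideal.map (algebraMap A T2) I) τ₂)
    (γ : C' →+* E') (β : B₁ →+* E')
    (hcomm : γ.comp (algebraMap A₁ C') = β.comp (algebraMap A₁ B₁))
    (hγ : ∀ c, γ (c₁ c) = τ₂ (algebraMap T T2 (c ⊗ₜ 1)))
    (hβ : ∀ b, β (b₁ b) = τ₂ (algebraMap T T2 (1 ⊗ₜ b)))
    (α : C2 →+* C') (hα₁ : ∀ c, α (algebraMap C C2 c) = c₁ c)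
    (hα : ∀ (j : ℕ) (c' : C'), ∃ c₂ : C2,
      c' - α c₂ ∈ (Ideal.map (algebraMap A₁ C') (Ideal.map a₁ I)) ^ j)
    (β' : B2 →+* B₁) (hβ'₁ : ∀ b, β' (algebraMap B B2 b) = b₁ b)
    (hβ' : ∀ (j : ℕ) (b' : B₁), ∃ b₂ : B2,
      b' - β' b₂ ∈ (Ideal.map (algebraMap A₁ B₁) (Ideal.map a₁ I)) ^ j) :
    DS (Ideal.map (algebraMap A₁ T₁) (Ideal.map a₁ I)) (tensorLift γ β hcomm) := by
  -- the ideal
  have hKσ : Ideal.map (sigma2 h f a₁ c₁ b₁ hc₁ hb₁ hh hf) (Ideal.map (algebraMap A T2) I) =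
      Ideal.map (algebraMap A₁ T₁) (Ideal.map a₁ I) := by
    refine (Ideal.map_map _ _).trans ((congrArg (fun φ => Ideal.map φ I) ?_).trans
      (Ideal.map_map _ _).symm)
    refine RingHom.ext fun a => ?_
    change sigma2 h f a₁ c₁ b₁ hc₁ hb₁ hh hf (algebraMap A T2 a) = algebraMap A₁ T₁ (a₁ a)
    rw [IsScalarTower.algebraMap_apply A T T2, sigma2_algebraMap_T, sigma0_algebraMap]
  -- the auxiliary maps
  obtain ⟨u, hu⟩ : ∃ u : C2 →+* T2, ∀ c : C, u (algebraMap C C2 c) =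
      algebraMap T T2 (algebraMap C T c) := by
    have hy : lmap (algebraMap C T) h (algebraMap C T h) rfl (algebraMap A C1 f) =
        algebraMap A T1 f := by
      rw [IsScalarTower.algebraMap_apply A C C1, lmap_algebraMap,
        ← IsScalarTower.algebraMap_apply A C T, ← IsScalarTower.algebraMap_apply A T T1]
    refine ⟨lmap (lmap (algebraMap C T) h (algebraMap C T h) rfl) (algebraMap A C1 f)
      (algebraMap A T1 f) hy, fun c => ?_⟩
    rw [IsScalarTower.algebraMap_apply C C1 C2, lmap_algebraMap, lmap_algebraMap,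
      ← IsScalarTower.algebraMap_apply T T1 T2]
  obtain ⟨v, hv⟩ : ∃ v : B2 →+* T2, ∀ b : B, v (algebraMap B B2 b) =
      algebraMap T T2 ((1 : C) ⊗ₜ[A] b) := by
    have hy : ((algebraMap T T1).comp
        (Algebra.TensorProduct.includeRight : B →ₐ[A] T).toRingHom) (algebraMap A B f) =
        algebraMap A T1 f := by
      change algebraMap T T1 ((Algebra.TensorProduct.includeRight : B →ₐ[A] T)
        (algebraMap A B f)) = _
      rw [AlgHom.commutes, ← IsScalarTower.algebraMap_apply A T T1]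
    refine ⟨lmap ((algebraMap T T1).comp
      (Algebra.TensorProduct.includeRight : B →ₐ[A] T).toRingHom) (algebraMap A B f)
      (algebraMap A T1 f) hy, fun b => ?_⟩
    rw [lmap_algebraMap, IsScalarTower.algebraMap_apply T T1 T2]
    rfl
  have hσu : ∀ c₂ : C2, sigma2 h f a₁ c₁ b₁ hc₁ hb₁ hh hf (u c₂) = α c₂ ⊗ₜ[A₁] (1 : B₁) := by
    have : (sigma2 h f a₁ c₁ b₁ hc₁ hb₁ hh hf).comp u = (algebraMap C' T₁).comp α := by
      apply IsLocalization.ringHom_ext (Submonoid.powers (algebraMap A C1 f))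
      apply IsLocalization.ringHom_ext (Submonoid.powers h)
      refine RingHom.ext fun c => ?_
      change sigma2 h f a₁ c₁ b₁ hc₁ hb₁ hh hf (u (algebraMap C1 C2 (algebraMap C C1 c))) =
        algebraMap C' T₁ (α (algebraMap C1 C2 (algebraMap C C1 c)))
      rw [← IsScalarTower.algebraMap_apply C C1 C2, hu, hα₁, sigma2_algebraMap_T]
      change sigma0 a₁ c₁ b₁ hc₁ hb₁ (c ⊗ₜ 1) = (c₁ c) ⊗ₜ 1
      rw [sigma0_tmul, map_one]
    exact fun c₂ => RingHom.congr_fun this c₂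
  have hσv : ∀ b₂ : B2, sigma2 h f a₁ c₁ b₁ hc₁ hb₁ hh hf (v b₂) = (1 : C') ⊗ₜ[A₁] β' b₂ := by
    have : (sigma2 h f a₁ c₁ b₁ hc₁ hb₁ hh hf).comp v =
        (Algebra.TensorProduct.includeRight : B₁ →ₐ[A₁] T₁).toRingHom.comp β' := by
      apply IsLocalization.ringHom_ext (Submonoid.powers (algebraMap A B f))
      refine RingHom.ext fun b => ?_
      change sigma2 h f a₁ c₁ b₁ hc₁ hb₁ hh hf (v (algebraMap B B2 b)) =
        (1 : C') ⊗ₜ[A₁] (β' (algebraMap B B2 b))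
      rw [hv, hβ'₁, sigma2_algebraMap_T, sigma0_tmul, map_one]
    exact fun b₂ => RingHom.congr_fun this b₂
  -- density of `sigma2`
  have hdense : ∀ (j : ℕ) (x : T₁), ∃ t : T2, x - sigma2 h f a₁ c₁ b₁ hc₁ hb₁ hh hf t ∈
      (Ideal.map (algebraMap A₁ T₁) (Ideal.map a₁ I)) ^ j := by
    refine dense_tensor (sigma2 h f a₁ c₁ b₁ hc₁ hb₁ hh hf) u v α β' hσu hσv
      (Ideal.map (algebraMap A₁ C') (Ideal.map a₁ I))
      (Ideal.map (algebraMap A₁ B₁) (Ideal.map a₁ I))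
      (Ideal.map (algebraMap A₁ T₁) (Ideal.map a₁ I)) ?_ ?_ hα hβ'
    · refine (Ideal.map_map _ _).le.trans ?_
      rw [← IsScalarTower.algebraMap_eq A₁ C' T₁]
    · refine (Ideal.map_map _ _).le.trans ?_
      refine (congrArg (fun φ => Ideal.map φ (Ideal.map a₁ I)) ?_).le
      exact RingHom.ext fun x =>
        (Algebra.TensorProduct.includeRight : B₁ →ₐ[A₁] T₁).commutes x
  have h1 : DS (Ideal.map (algebraMap A T2) I)
      ((tensorLift γ β hcomm).comp (sigma2 h f a₁ c₁ b₁ hc₁ hb₁ hh hf)) := by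
    rw [tensorLift_comp_sigma2 h f a₁ c₁ b₁ hc₁ hb₁ hh hf τ₂ γ β hcomm hγ hβ]
    exact hτ₂
  have h2 := DS.transfer (sigma2 h f a₁ c₁ b₁ hc₁ hb₁ hh hf) (tensorLift γ β hcomm) h1
    (fun j x => by rw [hKσ]; exact hdense j x)
  rw [hKσ] at h2
  exact h2

end part3

end Groth.Agent.Lib.Helper16.RigCl17
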