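import Mathlib
import Groth.Agent.Lib.Helper16.RigCl17
import Groth.Agent.Lib.Helper16.RigCl7

set_option autoImplicit false
universe u

namespace Groth.Agent.Lib.Helper16.RigCl18

open Groth.Agent.Lib.Helper16.RigCl Groth.Agent.Lib.Helper16.RigCl10
  Groth.Agent.Lib.Helper16.RigCl13 Groth.Agent.Lib.Helper16.RigCl14
  Groth.Agent.Lib.Helper16.RigCl16 Groth.Agent.Lib.Helper16.RigCl17 TensorProduct

section XY

variable {A : Type u} [CommRing A] (I : Ideal A) {B C : Type u} [CommRing B] [CommRing C]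
  [Algebra A B] [Algebra A C] (h : C) (f : A)
  {A₁ B₁ C' E' : Type u} [CommRing A₁] [CommRing B₁] [CommRing C'] [CommRing E']
  [Algebra A₁ B₁] [Algebra A₁ C'] [IsNoetherianRing B₁] [IsNoetherianRing C']
  [IsNoetherianRing E']
  (a₁ : A →+* A₁) (c₁ : C →+* C') (b₁ : B →+* B₁)
  (hc₁ : (algebraMap A₁ C').comp a₁ = c₁.comp (algebraMap A C))
  (hb₁ : (algebraMap A₁ B₁).comp a₁ = b₁.comp (algebraMap A B))
  (hh : IsUnit (c₁ h)) (hf : IsUnit (a₁ f))

local notation "T" => C ⊗[A] B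
local notation "T1" => Localization.Away (algebraMap C (C ⊗[A] B) h)
local notation "T2" => Localization.Away (algebraMap A T1 f)
local notation "C1" => Localization.Away h
local notation "C2" => Localization.Away (algebraMap A C1 f)
local notation "B2" => Localization.Away (algebraMap A B f)

include hc₁ hb₁ hh hf in
/-- **Theorem XY.** Theorem X combined with the completed base change. -/
theorem thmXY [IsAdicComplete (Ideal.map (algebraMap A₁ B₁) (Ideal.map a₁ I)) B₁]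
    (τ₂ : T2 →+* E') (hτ₂ : DS (Ideal.map (algebraMap A T2) I) τ₂)
    (γ : C' →+* E') (β : B₁ →+* E')
    (hcomm : γ.comp (algebraMap A₁ C') = β.comp (algebraMap A₁ B₁))
    (hγ : ∀ c, γ (c₁ c) = τ₂ (algebraMap T T2 (c ⊗ₜ 1)))
    (hβ : ∀ b, β (b₁ b) = τ₂ (algebraMap T T2 (1 ⊗ₜ b)))
    (α : C2 →+* C') (hα₁ : ∀ c, α (algebraMap C C2 c) = c₁ c)
    (hα : ∀ (j : ℕ) (c' : C'), ∃ c₂ : C2,
      c' - α c₂ ∈ (Ideal.map (algebraMap A₁ C') (Ideal.map a₁ I)) ^ j)
    (β' : B2 →+* B₁) (hβ'₁ : ∀ b, β' (algebraMap B B2 b) = b₁ b)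
    (hβ' : ∀ (j : ℕ) (b' : B₁), ∃ b₂ : B2,
      b' - β' b₂ ∈ (Ideal.map (algebraMap A₁ B₁) (Ideal.map a₁ I)) ^ j)
    (hjac : Ideal.map (γ.comp (algebraMap A₁ C')) (Ideal.map a₁ I) ≤ Ideal.jacobson ⊥)
    (q' : Ideal E') [q'.IsPrime]
    (hfin : ∀ k : ℕ, Module.Finite A₁ (C' ⧸ (q'.comap γ) ^ k))
    (hflat : Module.Flat A₁ (Localization.AtPrime (q'.comap β))) :
    ((algebraMap E' (Localization.AtPrime q')).comp γ).Flat := by
  have hDS := ds_tensorLift I h f a₁ c₁ b₁ hc₁ hb₁ hh hf τ₂ hτ₂ γ β hcomm hγ hβ α hα₁ hα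
    β' hβ'₁ hβ'
  have hl := tensorLift_comp_left γ β hcomm
  have hr := tensorLift_comp_right γ β hcomm
  have hjac' : Ideal.map (tensorLift γ β hcomm)
      (Ideal.map (algebraMap A₁ (C' ⊗[A₁] B₁)) (Ideal.map a₁ I)) ≤ Ideal.jacobson ⊥ := by
    refine (Ideal.map_map _ _).le.trans ?_
    rw [IsScalarTower.algebraMap_eq A₁ C' (C' ⊗[A₁] B₁), ← RingHom.comp_assoc, hl]
    exact hjac
  have hfin' : ∀ k : ℕ, Module.Finite A₁
      (C' ⧸ (q'.comap ((tensorLift γ β hcomm).comp (algebraMap C' (C' ⊗[A₁] B₁)))) ^ k) := by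
    rw [hl]
    exact hfin
  have hflat' : Module.Flat A₁ (Localization.AtPrime (q'.comap ((tensorLift γ β hcomm).comp
      (Algebra.TensorProduct.includeRight : B₁ →ₐ[A₁] C' ⊗[A₁] B₁).toRingHom))) := by
    haveI : (q'.comap ((tensorLift γ β hcomm).comp
      (Algebra.TensorProduct.includeRight : B₁ →ₐ[A₁] C' ⊗[A₁] B₁).toRingHom)).IsPrime :=
      Ideal.comap_isPrime _ _
    exact (congrArg (fun φ : B₁ →+* E' => ∀ [hp : (q'.comap φ).IsPrime],
      Module.Flat A₁ (Localization.AtPrime (q'.comap φ))) hr).mpr (fun {_} => hflat)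
  have := thmX (Ideal.map a₁ I) (tensorLift γ β hcomm) hDS hjac' q' hfin' hflat'
  rw [hl] at this
  exact this

end XY


section XYZ

/-- `S/p^k` is finite over `R` when `S/p` is (and `S` is Noetherian). -/
lemma finite_quotient_pow {R S : Type*} [CommRing R] [CommRing S] [Algebra R S]
    [IsNoetherianRing S] (p : Ideal S) [Module.Finite R (S ⧸ p)] (k : ℕ) :
    Module.Finite R (S ⧸ p ^ k) := by
  rcases Nat.eq_zero_or_pos k with rfl | hk
  · rw [pow_zero, Ideal.one_eq_top]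
    infer_instance
  · let φ : (S ⧸ p ^ k) →ₐ[R] S ⧸ p := Ideal.Quotient.factorₐ R (Ideal.pow_le_self hk.ne')
    refine Module.finite_of_surjective_of_ker_le_nilradical φ
      (Ideal.Quotient.factor_surjective (Ideal.pow_le_self hk.ne')) ?_
      (IsNoetherian.noetherian _)
    intro x hx
    obtain ⟨s, rfl⟩ := Ideal.Quotient.mk_surjective x
    rw [RingHom.mem_ker] at hx
    have hs : s ∈ p := Ideal.Quotient.eq_zero_iff_mem.mp hx
    rw [mem_nilradical]
    refine ⟨k, ?_⟩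
    rw [← map_pow, Ideal.Quotient.eq_zero_iff_mem]
    exact Ideal.pow_mem_pow hs k

variable {A : Type u} [CommRing A] (I : Ideal A) {B C : Type u} [CommRing B] [CommRing C]
  [Algebra A B] [Algebra A C] (h : C) (f : A)
  {A₁ B₁ C' E' : Type u} [CommRing A₁] [CommRing B₁] [CommRing C'] [CommRing E']
  [Algebra A₁ B₁] [Algebra A₁ C'] [IsNoetherianRing B₁] [IsNoetherianRing C']
  [IsNoetherianRing E']
  (a₁ : A →+* A₁) (c₁ : C →+* C') (b₁ : B →+* B₁)
  (hc₁ : (algebraMap A₁ C').comp a₁ = c₁.comp (algebraMap A C))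
  (hb₁ : (algebraMap A₁ B₁).comp a₁ = b₁.comp (algebraMap A B))
  (hh : IsUnit (c₁ h)) (hf : IsUnit (a₁ f))

local notation "T" => C ⊗[A] B
local notation "T1" => Localization.Away (algebraMap C (C ⊗[A] B) h)
local notation "T2" => Localization.Away (algebraMap A T1 f)
local notation "C1" => Localization.Away h
local notation "C2" => Localization.Away (algebraMap A C1 f)
local notation "B2" => Localization.Away (algebraMap A B f)

include hc₁ hb₁ hh hf in
/-- **Theorem XYZ.** Theorem XY with the finiteness and flatness hypotheses derived from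
rig-closedness. -/
theorem thmXYZ [IsNoetherianRing A₁] [IsAdicComplete (Ideal.map a₁ I) A₁]
    [IsAdicComplete (Ideal.map (algebraMap A₁ B₁) (Ideal.map a₁ I)) B₁]
    [Algebra A₁ E'] [IsAdicComplete (Ideal.map (algebraMap A₁ E') (Ideal.map a₁ I)) E']
    (hftE : Algebra.FiniteType A₁ (E' ⧸ Ideal.map (algebraMap A₁ E') (Ideal.map a₁ I)))
    (τ₂ : T2 →+* E') (hτ₂ : DS (Ideal.map (algebraMap A T2) I) τ₂)
    (γ : C' →+* E') (β : B₁ →+* E')
    (hγalg : γ.comp (algebraMap A₁ C') = algebraMap A₁ E')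
    (hβalg : β.comp (algebraMap A₁ B₁) = algebraMap A₁ E')
    (hγ : ∀ c, γ (c₁ c) = τ₂ (algebraMap T T2 (c ⊗ₜ 1)))
    (hβ : ∀ b, β (b₁ b) = τ₂ (algebraMap T T2 (1 ⊗ₜ b)))
    (α : C2 →+* C') (hα₁ : ∀ c, α (algebraMap C C2 c) = c₁ c)
    (hα : ∀ (j : ℕ) (c' : C'), ∃ c₂ : C2,
      c' - α c₂ ∈ (Ideal.map (algebraMap A₁ C') (Ideal.map a₁ I)) ^ j)
    (β' : B2 →+* B₁) (hβ'₁ : ∀ b, β' (algebraMap B B2 b) = b₁ b)
    (hβ' : ∀ (j : ℕ) (b' : B₁), ∃ b₂ : B2,
      b' - β' b₂ ∈ (Ideal.map (algebraMap A₁ B₁) (Ideal.map a₁ I)) ^ j)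
    (KB : Ideal B₁) (hKB : Ideal.map (algebraMap A₁ E') (Ideal.map a₁ I) ≤ KB.map β)
    (hAB : ∀ r₁ : PrimeSpectrum B₁, RC KB r₁ →
      Module.Flat A₁ (Localization.AtPrime r₁.asIdeal))
    (q' : PrimeSpectrum E') (hq' : RC (Ideal.map (algebraMap A₁ E') (Ideal.map a₁ I)) q')
    (hP : RC (Ideal.map a₁ I) (PrimeSpectrum.comap (algebraMap A₁ E') q')) :
    ((algebraMap E' (Localization.AtPrime q'.asIdeal)).comp γ).Flat := by
  haveI hq'p : q'.asIdeal.IsPrime := q'.isPrime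
  have hcomm : γ.comp (algebraMap A₁ C') = β.comp (algebraMap A₁ B₁) := hγalg.trans hβalg.symm
  have hjac : Ideal.map (γ.comp (algebraMap A₁ C')) (Ideal.map a₁ I) ≤ Ideal.jacobson ⊥ := by
    rw [hγalg]
    exact IsAdicComplete.le_jacobson_bot _
  -- finiteness
  haveI hfinE : Module.Finite A₁ (E' ⧸ q'.asIdeal) :=
    one_imp_three (Ideal.map a₁ I) q' hq'
      (fun m hm hqm => two_imp_one (Ideal.map a₁ I) hftE q' hP m hm hqm)
  let γa : C' →ₐ[A₁] E' := { toRingHom := γ, commutes' := fun r => RingHom.congr_fun hγalg r }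
  haveI : IsNoetherian A₁ (E' ⧸ q'.asIdeal) := isNoetherian_of_isNoetherianRing_of_finite A₁ _
  haveI hfin1 : Module.Finite A₁ (C' ⧸ q'.asIdeal.comap γ) := by
    refine Module.Finite.of_injective
      (Ideal.quotientMapₐ q'.asIdeal γa (le_refl (q'.asIdeal.comap γ))).toLinearMap ?_
    exact Ideal.quotientMap_injective
  have hfin : ∀ k : ℕ, Module.Finite A₁ (C' ⧸ (q'.asIdeal.comap γ) ^ k) :=
    fun k => finite_quotient_pow _ k
  -- flatness
  have hKr : ¬ KB ≤ q'.asIdeal.comap β := by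
    intro hle
    apply hq'.1
    refine hKB.trans ?_
    rw [Ideal.map_le_iff_le_comap]
    exact hle
  have hflat : Module.Flat A₁ (Localization.AtPrime (q'.asIdeal.comap β)) :=
    Groth.Agent.Lib.Helper16.RigCl7.flat_of_forall_rc KB hAB (q'.asIdeal.comap β) hKr
  exact thmXY I h f a₁ c₁ b₁ hc₁ hb₁ hh hf τ₂ hτ₂ γ β hcomm hγ hβ α hα₁ hα β' hβ'₁ hβ' hjac
    q'.asIdeal hfin hflat

end XYZ

end Groth.Agent.Lib.Helper16.RigCl18
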