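import Mathlib
import Groth.Agent.Lib.Helper16.RigCl18
import Groth.Agent.Lib.Helper16.RigCl11

set_option autoImplicit false
universe u

namespace Groth.Agent.Lib.Helper16.RigCl19

open Groth.Agent.Lib.Helper16.RigCl Groth.Agent.Lib.Helper16.RigCl10
  Groth.Agent.Lib.Helper16.RigCl13 Groth.Agent.Lib.Helper16.RigCl14
  Groth.Agent.Lib.Helper16.RigCl16 Groth.Agent.Lib.Helper16.RigCl17
  Groth.Agent.Lib.Helper16.RigCl18 TensorProduct

/-- the completed localisation `R_{x}` with respect to the ideal `K` -/
local notation "CL" K:max x:max => AdicCompletion (Ideal.map (algebraMap _ (Localization.Away x)) K)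
  (Localization.Away x)

section ideal

variable {A : Type u} [CommRing A] (I : Ideal A) {B C : Type u} [CommRing B] [CommRing C]
  [Algebra A B] [Algebra A C] (h : C) (f : A)

local notation "T" => C ⊗[A] B
local notation "KT" => Ideal.map (algebraMap C (C ⊗[A] B)) (Ideal.map (algebraMap A C) I)
local notation "T1" => Localization.Away (algebraMap C (C ⊗[A] B) h)
local notation "T2" => Localization.Away (algebraMap A T1 f)

lemma map_K2 : Ideal.map (algebraMap T1 T2) (Ideal.map (algebraMap T T1) KT) =
    Ideal.map (algebraMap A T2) I := by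
  refine (Ideal.map_map _ _).trans ((Ideal.map_map _ _).trans ((Ideal.map_map _ _).trans ?_))
  refine congrArg (fun φ => Ideal.map φ I) (RingHom.ext fun a => ?_)
  exact ((congrArg (fun t => algebraMap T1 T2 (algebraMap T T1 t))
    (IsScalarTower.algebraMap_apply A C T a).symm).trans
    ((congrArg (algebraMap T1 T2) (IsScalarTower.algebraMap_apply A T T1 a).symm).trans
      (IsScalarTower.algebraMap_apply A T1 T2 a).symm))

end ideal


section aux

variable {A : Type u} [CommRing A] [IsNoetherianRing A] (I : Ideal A) [IsAdicComplete I A]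
  {B : Type u} [CommRing B] [Algebra A B] [IsNoetherianRing B]
  {C : Type u} [CommRing C] [Algebra A C] [IsNoetherianRing C]
  {D : Type u} [CommRing D] [IsNoetherianRing D] [Algebra C D] [Algebra (C ⊗[A] B) D]
  [IsScalarTower C (C ⊗[A] B) D] [Algebra A D] [IsScalarTower A C D]
  (h : C) (f : A)

local notation "T" => C ⊗[A] B
local notation "IC" => Ideal.map (algebraMap A C) I
local notation "IB" => Ideal.map (algebraMap A B) I
local notation "KT" => Ideal.map (algebraMap C (C ⊗[A] B)) (Ideal.map (algebraMap A C) I)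
local notation "KD" => Ideal.map (algebraMap C D) IC
local notation "Ch" => CL IC h
local notation "Dh" => CL KD (algebraMap C D h)
local notation "Af" => CL I f
local notation "Bf" => CL IB (algebraMap A B f)
local notation "Cp" => CL (Ideal.map (algebraMap A Ch) I) (algebraMap A Ch f)
local notation "Ep" => CL (Ideal.map (algebraMap A Dh) I) (algebraMap A Dh f)
local notation "T1" => Localization.Away (algebraMap C (C ⊗[A] B) h)
local notation "T2" => Localization.Away (algebraMap A T1 f)
local notation "C1" => Localization.Away h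
local notation "C2" => Localization.Away (algebraMap A C1 f)
local notation "B2" => Localization.Away (algebraMap A B f)

set_option maxHeartbeats 4000000 in
theorem aux
    (hAB : ∀ f : A, ∀ ψf : (CL I f) →+* (CL (I.map (algebraMap A B)) (algebraMap A B f)),
      ψf.comp (algebraMap (Localization.Away f) (CL I f)) =
        (algebraMap (Localization.Away (algebraMap A B f))
          (CL (I.map (algebraMap A B)) (algebraMap A B f))).comp
          (Localization.awayMap (algebraMap A B) f) →
      ∀ qf : PrimeSpectrum (CL (I.map (algebraMap A B)) (algebraMap A B f)),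
        RC (((I.map (algebraMap A B)).map
          (algebraMap B (Localization.Away (algebraMap A B f)))).map
          (algebraMap (Localization.Away (algebraMap A B f))
            (CL (I.map (algebraMap A B)) (algebraMap A B f)))) qf →
        ((algebraMap (CL (I.map (algebraMap A B)) (algebraMap A B f))
          (Localization.AtPrime qf.asIdeal)).comp ψf).Flat)
    (hDS : DS KT (algebraMap T D))
    (ψh : Ch →+* Dh)
    (hψh : ψh.comp (algebraMap (Localization.Away h) Ch) =
      (algebraMap (Localization.Away (algebraMap C D h)) Dh).comp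
        (Localization.awayMap (algebraMap C D) h))
    (qh : PrimeSpectrum Dh)
    (hqA : RC (I.map (algebraMap A Dh)) qh)
    [hDhc : IsAdicComplete (I.map (algebraMap A Dh)) Dh]
    (hftDh : Algebra.FiniteType A (Dh ⧸ I.map (algebraMap A Dh)))
    (hunit : IsUnit (Ideal.Quotient.mk qh.asIdeal (algebraMap A Dh f)))
    (hS : ∀ ψ : Af →+* Ep, ψ.comp (algebraMap (Localization.Away f) Af) =
        (algebraMap (Localization.Away (algebraMap A Dh f)) Ep).comp
          (Localization.awayMap (algebraMap A Dh) f) →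
      ((qh.asIdeal.map (algebraMap Dh Ep)).comap ψ).IsPrime ∧
      ¬ (I.map (algebraMap A Af)) ≤ (qh.asIdeal.map (algebraMap Dh Ep)).comap ψ ∧
      ∀ y : PrimeSpectrum Af, (qh.asIdeal.map (algebraMap Dh Ep)).comap ψ ≤ y.asIdeal →
        ¬ (I.map (algebraMap A Af)) ≤ y.asIdeal →
        y.asIdeal = (qh.asIdeal.map (algebraMap Dh Ep)).comap ψ) :
    ((algebraMap Dh (Localization.AtPrime qh.asIdeal)).comp ψh).Flat := by
  haveI hAfN : IsNoetherianRing Af := Groth.Agent.Lib.helper19.isNoetherianRing_adicCompletion _ _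
  haveI hBfN : IsNoetherianRing Bf :=
    Groth.Agent.Lib.Helper16.RigCl6.isNoetherianRing' I (algebraMap A B f)
  haveI hChN : IsNoetherianRing Ch := Groth.Agent.Lib.Helper16.RigCl6.isNoetherianRing' I h
  haveI hDhN : IsNoetherianRing Dh :=
    Groth.Agent.Lib.Helper16.RigCl6.isNoetherianRing' IC (algebraMap C D h)
  haveI hCpN : IsNoetherianRing Cp :=
    Groth.Agent.Lib.Helper16.RigCl6.isNoetherianRing' I (algebraMap A Ch f)
  haveI hEpN : IsNoetherianRing Ep :=
    Groth.Agent.Lib.Helper16.RigCl6.isNoetherianRing' I (algebraMap A Dh f)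
  haveI hBfc : IsAdicComplete (I.map (algebraMap A Bf)) Bf :=
    Groth.Agent.Lib.Helper16.RigCl6.isAdicComplete' I (algebraMap A B f)
  haveI hEpc : IsAdicComplete (I.map (algebraMap A Ep)) Ep :=
    Groth.Agent.Lib.Helper16.RigCl6.isAdicComplete' I (algebraMap A Dh f)
  -- `Af` is complete
  have hIAf : I.map (algebraMap A Af) = (I.map (algebraMap A (Localization.Away f))).map
      (algebraMap (Localization.Away f) Af) := by
    refine Eq.trans ?_ (Ideal.map_map _ _).symm
    exact congrArg (fun φ => Ideal.map φ I) (IsScalarTower.algebraMap_eq A (Localization.Away f) Af)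
  haveI hAfc : IsAdicComplete (I.map (algebraMap A Af)) Af := by
    have h0 : IsAdicComplete ((I.map (algebraMap A (Localization.Away f))).map
        (algebraMap (Localization.Away f) Af)) Af :=
      (IsAdicComplete.map_algebraMap_iff _ _).mpr
        (AdicCompletion.isAdicComplete (IsNoetherian.noetherian _))
    exact (congrArg (fun K : Ideal Af => IsAdicComplete K Af) hIAf).mpr h0
  -- compatibility of `ψh`
  have hψhC : ∀ c : C, ψh (algebraMap C Ch c) = algebraMap D Dh (algebraMap C D c) :=
    Groth.Agent.Lib.Helper16.RigCl3.compat IC h ψh hψh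
  have tADDh : ∀ a : A, algebraMap D Dh (algebraMap A D a) = algebraMap A Dh a :=
    fun a => (IsScalarTower.algebraMap_apply A D Dh a).symm
  have hψhA : ∀ a : A, ψh (algebraMap A Ch a) = algebraMap A Dh a := fun a =>
    ((congrArg ψh (IsScalarTower.algebraMap_apply A C Ch a)).trans ((hψhC _).trans
      ((congrArg (algebraMap D Dh) (IsScalarTower.algebraMap_apply A C D a).symm).trans
        (tADDh a))))
  -- tower identities
  have tACCp : ∀ a : A, algebraMap C Cp (algebraMap A C a) = algebraMap A Cp a :=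
    fun a => (IsScalarTower.algebraMap_apply A C Cp a).symm
  have tAChCp : ∀ a : A, algebraMap Ch Cp (algebraMap A Ch a) = algebraMap A Cp a :=
    fun a => (IsScalarTower.algebraMap_apply A Ch Cp a).symm
  have tCChCp : ∀ c : C, algebraMap Ch Cp (algebraMap C Ch c) = algebraMap C Cp c :=
    fun c => (IsScalarTower.algebraMap_apply C Ch Cp c).symm
  have tABBf : ∀ a : A, algebraMap B Bf (algebraMap A B a) = algebraMap A Bf a :=
    fun a => (IsScalarTower.algebraMap_apply A B Bf a).symm
  have tADhEp : ∀ a : A, algebraMap Dh Ep (algebraMap A Dh a) = algebraMap A Ep a :=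
    fun a => (IsScalarTower.algebraMap_apply A Dh Ep a).symm
  -- the maps
  obtain ⟨φAC, eφAC⟩ : ∃ φ : Af →+* Cp,
      ∀ a : A, φ (algebraMap A Af a) = algebraMap Ch Cp (algebraMap A Ch a) :=
    ⟨cmap (algebraMap A Ch) I (I.map (algebraMap A Ch)) le_rfl f (algebraMap A Ch f) rfl,
      fun a => cmap_algebraMap (algebraMap A Ch) I (I.map (algebraMap A Ch)) le_rfl f
        (algebraMap A Ch f) rfl a⟩
  obtain ⟨φAB, eφAB, hcompatAB⟩ : ∃ φ : Af →+* Bf,
      (∀ a : A, φ (algebraMap A Af a) = algebraMap B Bf (algebraMap A B a)) ∧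
      φ.comp (algebraMap (Localization.Away f) Af) =
        (algebraMap (Localization.Away (algebraMap A B f)) Bf).comp
          (Localization.awayMap (algebraMap A B) f) :=
    ⟨cmap (algebraMap A B) I (I.map (algebraMap A B)) le_rfl f (algebraMap A B f) rfl,
      fun a => cmap_algebraMap (algebraMap A B) I (I.map (algebraMap A B)) le_rfl f
        (algebraMap A B f) rfl a,
      cmap_compat (algebraMap A B) I (I.map (algebraMap A B)) le_rfl f⟩
  obtain ⟨φAE, eφAE, hcompatAE⟩ : ∃ φ : Af →+* Ep,
      (∀ a : A, φ (algebraMap A Af a) = algebraMap Dh Ep (algebraMap A Dh a)) ∧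
      φ.comp (algebraMap (Localization.Away f) Af) =
        (algebraMap (Localization.Away (algebraMap A Dh f)) Ep).comp
          (Localization.awayMap (algebraMap A Dh) f) :=
    ⟨cmap (algebraMap A Dh) I (I.map (algebraMap A Dh)) le_rfl f (algebraMap A Dh f) rfl,
      fun a => cmap_algebraMap (algebraMap A Dh) I (I.map (algebraMap A Dh)) le_rfl f
        (algebraMap A Dh f) rfl a,
      cmap_compat (algebraMap A Dh) I (I.map (algebraMap A Dh)) le_rfl f⟩
  have hle2 : (I.map (algebraMap A Ch)).map ψh ≤ I.map (algebraMap A Dh) := by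
    refine (Ideal.map_map _ _).le.trans ?_
    refine (congrArg (fun φ => Ideal.map φ I) ?_).le
    exact RingHom.ext hψhA
  obtain ⟨γ, eγ⟩ : ∃ γ : Cp →+* Ep,
      ∀ x : Ch, γ (algebraMap Ch Cp x) = algebraMap Dh Ep (ψh x) :=
    ⟨cmap ψh (I.map (algebraMap A Ch)) (I.map (algebraMap A Dh)) hle2
        (algebraMap A Ch f) (algebraMap A Dh f) (hψhA f),
      fun x => cmap_algebraMap ψh (I.map (algebraMap A Ch)) (I.map (algebraMap A Dh)) hle2
        (algebraMap A Ch f) (algebraMap A Dh f) (hψhA f) x⟩
  obtain ⟨β₀, eβ₀, hβ₀A⟩ : ∃ β₀ : B →+* Dh,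
      (∀ b : B, β₀ b = algebraMap D Dh (algebraMap T D ((1 : C) ⊗ₜ[A] b))) ∧
      (∀ a : A, β₀ (algebraMap A B a) = algebraMap A Dh a) :=
    ⟨(algebraMap D Dh).comp ((algebraMap T D).comp
        (Algebra.TensorProduct.includeRight : B →ₐ[A] T).toRingHom),
      fun b => rfl,
      fun a => (congrArg (fun t => algebraMap D Dh (algebraMap T D t))
        ((Algebra.TensorProduct.includeRight : B →ₐ[A] T).commutes a)).trans
        ((congrArg (algebraMap D Dh) (tower_ATD a)).trans (tADDh a))⟩
  have hle3 : (I.map (algebraMap A B)).map β₀ ≤ I.map (algebraMap A Dh) := by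
    refine (Ideal.map_map _ _).le.trans ?_
    refine (congrArg (fun φ => Ideal.map φ I) ?_).le
    exact RingHom.ext hβ₀A
  obtain ⟨β, eβ⟩ : ∃ β : Bf →+* Ep,
      ∀ b : B, β (algebraMap B Bf b) = algebraMap Dh Ep (β₀ b) :=
    ⟨cmap β₀ (I.map (algebraMap A B)) (I.map (algebraMap A Dh)) hle3
        (algebraMap A B f) (algebraMap A Dh f) (hβ₀A f),
      fun b => cmap_algebraMap β₀ (I.map (algebraMap A B)) (I.map (algebraMap A Dh)) hle3
        (algebraMap A B f) (algebraMap A Dh f) (hβ₀A f) b⟩
  -- algebra structures over `Af`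
  letI algAfCp : Algebra Af Cp := φAC.toAlgebra
  letI algAfBf : Algebra Af Bf := φAB.toAlgebra
  letI algAfEp : Algebra Af Ep := φAE.toAlgebra
  have hcompC : φAC.comp (algebraMap A Af) = algebraMap A Cp :=
    RingHom.ext fun a => (eφAC a).trans (tAChCp a)
  have hcompB : φAB.comp (algebraMap A Af) = algebraMap A Bf :=
    RingHom.ext fun a => (eφAB a).trans (tABBf a)
  have hcompE : φAE.comp (algebraMap A Af) = algebraMap A Ep :=
    RingHom.ext fun a => (eφAE a).trans (tADhEp a)
  have hc₁ : (algebraMap Af Cp).comp (algebraMap A Af) = (algebraMap C Cp).comp (algebraMap A C) :=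
    RingHom.ext fun a => (eφAC a).trans ((tAChCp a).trans (tACCp a).symm)
  have hb₁ : (algebraMap Af Bf).comp (algebraMap A Af) = (algebraMap B Bf).comp (algebraMap A B) :=
    RingHom.ext fun a => eφAB a
  have hh : IsUnit (algebraMap C Cp h) :=
    (congrArg IsUnit (tCChCp h)).mp
      ((Groth.Agent.Lib.Helper16.RigCl6.isUnit_g I h).map (algebraMap Ch Cp))
  have hf : IsUnit (algebraMap A Af f) :=
    (congrArg IsUnit (IsScalarTower.algebraMap_apply A (Localization.Away f) Af f).symm).mp
      ((IsLocalization.Away.algebraMap_isUnit f).map (algebraMap (Localization.Away f) Af))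
  -- ideals
  have eB : Ideal.map (algebraMap Af Bf) (Ideal.map (algebraMap A Af) I) =
      I.map (algebraMap A Bf) :=
    (Ideal.map_map _ _).trans (congrArg (fun φ => Ideal.map φ I) hcompB)
  have eC : Ideal.map (algebraMap Af Cp) (Ideal.map (algebraMap A Af) I) =
      I.map (algebraMap A Cp) :=
    (Ideal.map_map _ _).trans (congrArg (fun φ => Ideal.map φ I) hcompC)
  have eE : Ideal.map (algebraMap Af Ep) (Ideal.map (algebraMap A Af) I) =
      I.map (algebraMap A Ep) :=
    (Ideal.map_map _ _).trans (congrArg (fun φ => Ideal.map φ I) hcompE)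
  haveI hBfc' : IsAdicComplete (Ideal.map (algebraMap Af Bf) (Ideal.map (algebraMap A Af) I)) Bf :=
    (congrArg (fun K : Ideal Bf => IsAdicComplete K Bf) eB).mpr hBfc
  haveI hEpc' : IsAdicComplete (Ideal.map (algebraMap Af Ep) (Ideal.map (algebraMap A Af) I)) Ep :=
    (congrArg (fun K : Ideal Ep => IsAdicComplete K Ep) eE).mpr hEpc
  -- finite type
  haveI towAAfEp : IsScalarTower A Af Ep :=
    IsScalarTower.of_algebraMap_eq (fun a => ((eφAE a).trans (tADhEp a)).symm)
  have hft0 : Algebra.FiniteType A (Ep ⧸ I.map (algebraMap A Ep)) :=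
    Groth.Agent.Lib.Helper16.RigCl6.finiteType' I (algebraMap A Dh f) hftDh
  have hft1 : Algebra.FiniteType A
      (Ep ⧸ Ideal.map (algebraMap Af Ep) (Ideal.map (algebraMap A Af) I)) :=
    (congrArg (fun K : Ideal Ep => Algebra.FiniteType A (Ep ⧸ K)) eE).mpr hft0
  have hftE : Algebra.FiniteType Af
      (Ep ⧸ Ideal.map (algebraMap Af Ep) (Ideal.map (algebraMap A Af) I)) :=
    Algebra.FiniteType.of_restrictScalars_finiteType A Af _
  -- uniqueness
  have hγalg : γ.comp (algebraMap Af Cp) = algebraMap Af Ep := by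
    refine (cl_ringHom_ext I f (I.map (algebraMap A Ep)) φAE (γ.comp φAC) ?_ ?_).symm
    · rw [hcompE]
    · rw [hcompE]
      refine RingHom.ext fun a => ?_
      exact ((congrArg γ (eφAC a)).trans ((eγ _).trans
        ((congrArg (algebraMap Dh Ep) (hψhA a)).trans (tADhEp a)))).symm
  have hβalg : β.comp (algebraMap Af Bf) = algebraMap Af Ep := by
    refine (cl_ringHom_ext I f (I.map (algebraMap A Ep)) φAE (β.comp φAB) ?_ ?_).symm
    · rw [hcompE]
    · rw [hcompE]
      refine RingHom.ext fun a => ?_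
      exact ((congrArg β (eφAB a)).trans ((eβ _).trans
        ((congrArg (algebraMap Dh Ep) (hβ₀A a)).trans (tADhEp a)))).symm
  -- the dense strict map from the localised tensor product
  obtain ⟨τ₂, hτ₂, hτ₂T⟩ : ∃ τ₂ : T2 →+* Ep, DS (Ideal.map (algebraMap A T2) I) τ₂ ∧
      ∀ t : T, τ₂ (algebraMap T T2 t) = algebraMap Dh Ep (algebraMap D Dh (algebraMap T D t)) :=
    ⟨tau2 I (B := B) h f (D := D),
      (congrArg (fun K => DS K (tau2 I (B := B) h f (D := D))) (map_K2 I h f)).mp
        (ds_tau2 I h f hDS),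
      fun t => (congrArg (tau2 I (B := B) h f (D := D))
        (IsScalarTower.algebraMap_apply T T1 T2 t)).trans
        ((tau2_algebraMap I h f _).trans
          (congrArg (algebraMap Dh Ep) (tau1_algebraMap I h t)))⟩
  have hγ : ∀ c : C, γ (algebraMap C Cp c) = τ₂ (algebraMap T T2 (c ⊗ₜ[A] (1 : B))) := fun c =>
    ((congrArg γ (tCChCp c).symm).trans ((eγ _).trans
      ((congrArg (algebraMap Dh Ep) (hψhC c)).trans
        ((congrArg (fun d => algebraMap Dh Ep (algebraMap D Dh d))
          (IsScalarTower.algebraMap_apply C T D c)).trans (hτ₂T _).symm))))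
  have hβ : ∀ b : B, β (algebraMap B Bf b) = τ₂ (algebraMap T T2 ((1 : C) ⊗ₜ[A] b)) := fun b =>
    (eβ b).trans ((congrArg (algebraMap Dh Ep) (eβ₀ b)).trans (hτ₂T _).symm)
  -- dense maps from the localisations of `C` and `B`
  have hyα : algebraMap C1 Ch (algebraMap A C1 f) = algebraMap A Ch f :=
    (IsScalarTower.algebraMap_apply A C1 Ch f).symm
  have fgC1 : (Ideal.map (algebraMap C C1) IC).FG :=
    Ideal.FG.map (IsNoetherian.noetherian (Ideal.map (algebraMap A C) I)) _
  have hDSα := DS.cl (ds_completion (Ideal.map (algebraMap C C1) IC) fgC1) fgC1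
    (algebraMap A C1 f) (algebraMap A Ch f) hyα (I.map (algebraMap A Ch))
    (Groth.Agent.Lib.Helper16.RigCl6.map_eq' I h).symm
  obtain ⟨α, hα₁, hαDS⟩ : ∃ α : C2 →+* Cp,
      (∀ c : C, α (algebraMap C C2 c) = algebraMap C Cp c) ∧
      DS (Ideal.map (algebraMap C1 C2) (Ideal.map (algebraMap C C1) IC)) α :=
    ⟨clmap (algebraMap C1 Ch) (algebraMap A C1 f) (algebraMap A Ch f) hyα
        (I.map (algebraMap A Ch)),
      fun c => (congrArg (clmap (algebraMap C1 Ch) (algebraMap A C1 f) (algebraMap A Ch f) hyα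
          (I.map (algebraMap A Ch))) (IsScalarTower.algebraMap_apply C C1 C2 c)).trans
        ((clmap_algebraMap _ _ _ _ _ _).trans
          ((congrArg (algebraMap Ch Cp) (IsScalarTower.algebraMap_apply C C1 Ch c).symm).trans
            (tCChCp c))),
      hDSα⟩
  have hleα : Ideal.map α (Ideal.map (algebraMap C1 C2) (Ideal.map (algebraMap C C1) IC)) ≤
      Ideal.map (algebraMap Af Cp) (Ideal.map (algebraMap A Af) I) := by
    refine le_of_eq (Eq.trans ?_ eC.symm)
    refine (Ideal.map_map _ _).trans ((Ideal.map_map _ _).trans ((Ideal.map_map _ _).trans ?_))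
    refine congrArg (fun φ => Ideal.map φ I) (RingHom.ext fun a => ?_)
    exact (congrArg α (IsScalarTower.algebraMap_apply C C1 C2 (algebraMap A C a)).symm).trans
      ((hα₁ _).trans (tACCp a))
  have hα : ∀ (j : ℕ) (c' : Cp), ∃ c₂ : C2,
      c' - α c₂ ∈ (Ideal.map (algebraMap Af Cp) (Ideal.map (algebraMap A Af) I)) ^ j :=
    fun j c' => (hαDS.1 j c').imp fun c₂ hc₂ => Ideal.pow_right_mono hleα j hc₂
  have fgB2 : (Ideal.map (algebraMap B B2) IB).FG :=
    Ideal.FG.map (IsNoetherian.noetherian (Ideal.map (algebraMap A B) I)) _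
  have hβ'₁ : ∀ b : B, algebraMap B2 Bf (algebraMap B B2 b) = algebraMap B Bf b :=
    fun b => (IsScalarTower.algebraMap_apply B B2 Bf b).symm
  have hleβ : Ideal.map (algebraMap B2 Bf) (Ideal.map (algebraMap B B2) IB) ≤
      Ideal.map (algebraMap Af Bf) (Ideal.map (algebraMap A Af) I) :=
    le_of_eq ((Groth.Agent.Lib.Helper16.RigCl6.map_eq' I (algebraMap A B f)).symm.trans eB.symm)
  have hβ' : ∀ (j : ℕ) (b' : Bf), ∃ b₂ : B2,
      b' - algebraMap B2 Bf b₂ ∈
        (Ideal.map (algebraMap Af Bf) (Ideal.map (algebraMap A Af) I)) ^ j :=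
    fun j b' => ((ds_completion (Ideal.map (algebraMap B B2) IB) fgB2).1 j b').imp
      fun b₂ hb₂ => Ideal.pow_right_mono hleβ j hb₂
  -- rig-flatness of `A → B` at `f`
  have eKB : ((I.map (algebraMap A B)).map (algebraMap B B2)).map (algebraMap B2 Bf) =
      I.map (algebraMap A Bf) :=
    (Groth.Agent.Lib.Helper16.RigCl6.map_eq' I (algebraMap A B f)).symm
  have hβA : ∀ a : A, β (algebraMap A Bf a) = algebraMap A Ep a := fun a =>
    ((congrArg β (tABBf a).symm).trans ((eβ _).trans
      ((congrArg (algebraMap Dh Ep) (hβ₀A a)).trans (tADhEp a))))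
  have hKB : Ideal.map (algebraMap Af Ep) (Ideal.map (algebraMap A Af) I) ≤
      Ideal.map β (((I.map (algebraMap A B)).map (algebraMap B B2)).map (algebraMap B2 Bf)) := by
    refine le_of_eq (eE.trans (Eq.symm ?_))
    refine (congrArg (Ideal.map β) eKB).trans ((Ideal.map_map _ _).trans ?_)
    exact congrArg (fun φ => Ideal.map φ I) (RingHom.ext hβA)
  have hABf : ∀ r₁ : PrimeSpectrum Bf,
      RC (((I.map (algebraMap A B)).map (algebraMap B B2)).map (algebraMap B2 Bf)) r₁ →
      Module.Flat Af (Localization.AtPrime r₁.asIdeal) := by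
    intro r₁ hr₁
    have h0 := hAB f φAB hcompatAB r₁ hr₁
    have e : (algebraMap Bf (Localization.AtPrime r₁.asIdeal)).comp φAB =
        algebraMap Af (Localization.AtPrime r₁.asIdeal) :=
      (IsScalarTower.algebraMap_eq Af Bf (Localization.AtPrime r₁.asIdeal)).symm
    exact RingHom.flat_algebraMap_iff.mp ((congrArg RingHom.Flat e).mp h0)
  -- the prime upstairs
  let q' : PrimeSpectrum Ep := ⟨qh.asIdeal.map (algebraMap Dh Ep),
    Groth.Agent.Lib.Helper16.RigCl3.isPrime_map (I.map (algebraMap A Dh)) qh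
      (algebraMap A Dh f) hunit⟩
  have hcontr : q'.asIdeal.comap (algebraMap Dh Ep) = qh.asIdeal :=
    le_antisymm (fun b hb => Groth.Agent.Lib.Helper16.RigCl3.mem_of_algebraMap_mem
      (I.map (algebraMap A Dh)) qh (algebraMap A Dh f) hunit b hb) Ideal.le_comap_map
  have e12 : (I.map (algebraMap A Dh)).map (algebraMap Dh Ep) = I.map (algebraMap A Ep) :=
    (Ideal.map_map _ _).trans
      (congrArg (fun φ => Ideal.map φ I) (IsScalarTower.algebraMap_eq A Dh Ep).symm)
  have hq'0 : RC ((I.map (algebraMap A Dh)).map (algebraMap Dh Ep)) q' :=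
    Groth.Agent.Lib.Helper16.RigCl3.rc_map (I.map (algebraMap A Dh)) qh
      (algebraMap A Dh f) hunit hqA
  have hq' : RC (Ideal.map (algebraMap Af Ep) (Ideal.map (algebraMap A Af) I)) q' :=
    (congrArg (fun K : Ideal Ep => RC K q') (e12.trans eE.symm)).mp hq'0
  obtain ⟨hprime, hnot, hmax⟩ := hS φAE hcompatAE
  have hP : RC (Ideal.map (algebraMap A Af) I) (PrimeSpectrum.comap (algebraMap Af Ep) q') :=
    ⟨hnot, fun y hy hIy => PrimeSpectrum.ext (hmax y hy hIy)⟩
  have h' := thmXYZ I h f (algebraMap A Af) (algebraMap C Cp) (algebraMap B Bf) hc₁ hb₁ hh hf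
    hftE τ₂ hτ₂ γ β hγalg hβalg hγ hβ α hα₁ hα (algebraMap B2 Bf) hβ'₁ hβ'
    (((I.map (algebraMap A B)).map (algebraMap B B2)).map (algebraMap B2 Bf)) hKB hABf q' hq' hP
  have hsq : (algebraMap Dh Ep).comp ψh = γ.comp (algebraMap Ch Cp) :=
    RingHom.ext fun x => (eγ x).symm
  have hα' : (algebraMap Ch Cp).Flat :=
    RingHom.flat_algebraMap_iff.mpr (Groth.Agent.Lib.Helper16.RigCl6.flat' I (algebraMap A Ch f))
  have hβ'' : (algebraMap Dh Ep).Flat :=
    RingHom.flat_algebraMap_iff.mpr (Groth.Agent.Lib.Helper16.RigCl6.flat' I (algebraMap A Dh f))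
  exact Groth.Agent.Lib.Helper16.RigCl9.flat_descent_one ψh (algebraMap Ch Cp) (algebraMap Dh Ep) γ
    hsq hα' hβ'' qh q' hcontr h'

end aux

end Groth.Agent.Lib.Helper16.RigCl19
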