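import Mathlib
import Groth.Agent.Lib.Helper16.RigCl19
import Groth.Agent.S8840

set_option autoImplicit false
universe u

namespace Groth.Agent.Lib.Helper16.RigCl20

open Groth.Agent.Lib.Helper16.RigCl Groth.Agent.Lib.Helper16.RigCl10
  Groth.Agent.Lib.Helper16.RigCl13 Groth.Agent.Lib.Helper16.RigCl15 TensorProduct

/-- the completed localisation `R_{x}` with respect to the ideal `K` -/
local notation "CL" K:max x:max => AdicCompletion (Ideal.map (algebraMap _ (Localization.Away x)) K)
  (Localization.Away x)

section core

variable (A : Type u) [CommRing A] [IsNoetherianRing A] (I : Ideal A) [IsAdicComplete I A]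
  (B : Type u) [CommRing B] [Algebra A B] [IsNoetherianRing B]
  (C : Type u) [CommRing C] [Algebra A C] [IsNoetherianRing C]
  (hftC : Algebra.FiniteType A (C ⧸ (I.map (algebraMap A C))))
  (D : Type u) [CommRing D] [IsNoetherianRing D] [Algebra C D] [Algebra (C ⊗[A] B) D]
  [IsScalarTower C (C ⊗[A] B) D] [Algebra A D] [IsScalarTower A C D]
  (h : C)

local notation "T" => C ⊗[A] B
local notation "IC" => Ideal.map (algebraMap A C) I
local notation "KT" => Ideal.map (algebraMap C (C ⊗[A] B)) (Ideal.map (algebraMap A C) I)
local notation "KD" => Ideal.map (algebraMap C D) IC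
local notation "Ch" => CL IC h
local notation "Dh" => CL KD (algebraMap C D h)

include hftC in
set_option maxHeartbeats 4000000 in
theorem core
    (hDS : DS KT (algebraMap T D)) (hftD : Algebra.FiniteType C (D ⧸ KD))
    (hAB : ∀ f : A, ∀ ψf : (CL I f) →+* (CL (I.map (algebraMap A B)) (algebraMap A B f)),
      ψf.comp (algebraMap (Localization.Away f) (CL I f)) =
        (algebraMap (Localization.Away (algebraMap A B f))
          (CL (I.map (algebraMap A B)) (algebraMap A B f))).comp
          (Localization.awayMap (algebraMap A B) f) →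
      ∀ qf : PrimeSpectrum (CL (I.map (algebraMap A B)) (algebraMap A B f)),
        RC (((I.map (algebraMap A B)).map
          (algebraMap B (Localization.Away (algebraMap A B f)))).map
          (algebraMap (Localization.Away (algebraMap A B f))
            (CL (I.map (algebraMap A B)) (algebraMap A B f)))) qf →
        ((algebraMap (CL (I.map (algebraMap A B)) (algebraMap A B f))
          (Localization.AtPrime qf.asIdeal)).comp ψf).Flat)
    (ψh : Ch →+* Dh)
    (hψh : ψh.comp (algebraMap (Localization.Away h) Ch) =
      (algebraMap (Localization.Away (algebraMap C D h)) Dh).comp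
        (Localization.awayMap (algebraMap C D) h))
    (qh : PrimeSpectrum Dh)
    (hq : RC ((Ideal.map (algebraMap D (Localization.Away (algebraMap C D h))) KD).map
      (algebraMap (Localization.Away (algebraMap C D h)) Dh)) qh) :
    ((algebraMap Dh (Localization.AtPrime qh.asIdeal)).comp ψh).Flat := by
  haveI hDhN : IsNoetherianRing Dh :=
    Groth.Agent.Lib.Helper16.RigCl6.isNoetherianRing' IC (algebraMap C D h)
  have hIDh : I.map (algebraMap A Dh) = Ideal.map (algebraMap C Dh) IC :=
    ((Ideal.map_map _ _).trans
      (congrArg (fun φ => Ideal.map φ I) (IsScalarTower.algebraMap_eq A C Dh).symm)).symm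
  haveI hDhc : IsAdicComplete (I.map (algebraMap A Dh)) Dh :=
    (congrArg (fun K : Ideal Dh => IsAdicComplete K Dh) hIDh).mpr
      (Groth.Agent.Lib.Helper16.RigCl6.isAdicComplete' IC (algebraMap C D h))
  have hft2 : Algebra.FiniteType C (Dh ⧸ Ideal.map (algebraMap C Dh) IC) :=
    Groth.Agent.Lib.Helper16.RigCl6.finiteType' IC (algebraMap C D h) hftD
  have hft3 : Algebra.FiniteType C (Dh ⧸ I.map (algebraMap A Dh)) :=
    (congrArg (fun K : Ideal Dh => Algebra.FiniteType C (Dh ⧸ K)) hIDh).mpr hft2
  have hftDh : Algebra.FiniteType A (Dh ⧸ I.map (algebraMap A Dh)) :=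
    finiteType_trans_quot I hftC hft3
  have hideal : (Ideal.map (algebraMap D (Localization.Away (algebraMap C D h))) KD).map
      (algebraMap (Localization.Away (algebraMap C D h)) Dh) = I.map (algebraMap A Dh) :=
    (Groth.Agent.Lib.Helper16.RigCl6.map_eq' IC (algebraMap C D h)).symm.trans hIDh.symm
  have hqA : RC (I.map (algebraMap A Dh)) qh :=
    (congrArg (fun K : Ideal Dh => RC K qh) hideal).mp hq
  obtain ⟨f, hunit, hS⟩ := Groth.Agent.S8840.result A I Dh hftDh qh hqA
  exact Groth.Agent.Lib.Helper16.RigCl19.aux I h f hAB hDS ψh hψh qh hqA hftDh hunit hS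

end core

end Groth.Agent.Lib.Helper16.RigCl20
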