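import Mathlib
import Groth.Prelude.Def_DerSch2
import Groth.Prelude.Def_KSix
import Groth.Agent.Lib.Helper16.SmTor3
import Groth.Agent.Lib.Helper16.CI27

/-!
# Helper16 — SmTor4: relative perfection along a closed immersion into a smooth scheme.
-/

set_option autoImplicit false
set_option linter.style.haveILetI false
universe u
open CategoryTheory CategoryTheory.Limits AlgebraicGeometry CategoryTheory.Pretriangulated
  TopologicalSpace Opposite

attribute [local instance] HasDerivedCategory.standard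

namespace Groth.Agent.Lib.Helper16.SmTor

open Groth.Agent.Lib.Helper16.RS DerivedCategory Groth.Agent.Lib.Helper1.LocPC
  Groth.Agent.Lib.Helper16.PC Groth.Agent.Lib.Helper16.CIPC Groth.Agent.Lib.Helper16.AffRed
  Groth.Agent.Lib.Helper16.RelPC Groth.Agent.Lib.Helper16.CI Scheme.Modules

variable {X X' Y : Scheme.{u}} (i : X ⟶ X') [IsClosedImmersion i] (f' : X' ⟶ Y)

/-- locally finite tor amplitude relative to `i ≫ f'` from locally finite tor dimension of the
direct image, `f'` flat. -/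
theorem locFiniteTorAmplitude_of_locHasFiniteTorDim_pushforward [Flat f']
    (F : CochainComplex X.Modules ℤ)
    (h : DCoh.LocHasFiniteTorDim (DCoh.toD X'
      (((Scheme.Modules.pushforward i).mapHomologicalComplex (ComplexShape.up ℤ)).obj F))) :
    DerSch.LocFiniteTorAmplitude (i ≫ f') F := by
  intro x
  obtain ⟨V, a, b, hxV, hV⟩ := h (i.base x)
  refine ⟨i ⁻¹ᵁ V, a, b, hxV, fun x₁ hx₁ => ?_⟩
  obtain ⟨E, hE, hfl, ⟨e⟩⟩ := hV _ ⟨Iso.refl _⟩
  have hflat : DCoh.HasFlatAmplitudeIn a b (DCoh.toD (V : Scheme.{u})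
      (((Scheme.Modules.pushforward (i ∣_ V)).mapHomologicalComplex (ComplexShape.up ℤ)).obj
        ((RCx (i ⁻¹ᵁ V).ι).obj F))) :=
    ⟨E, hE, hfl, ⟨e ≪≫ Q.mapIso ((bcCx i V).app F)⟩⟩
  haveI : Flat (V.ι ≫ f') := inferInstance
  have h1 := Groth.Agent.Lib.Helper15.RelPC27.hasTorAmplitude_of_hasFlatAmplitudeIn_pushforward
    (i ∣_ V) (V.ι ≫ f') (i ∣_ V).isClosedEmbedding.isInducing _ a b hflat ⟨x₁, hx₁⟩
  have hm : (i ∣_ V) ≫ V.ι ≫ f' = (i ⁻¹ᵁ V).ι ≫ (i ≫ f') := by
    rw [← Category.assoc, morphismRestrict_ι, Category.assoc]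
  have h2 := hasTorAmplitudeAt_congr hm a b _ _ h1
  exact (Groth.Agent.Lib.Helper16.RelAmp.hasTorAmplitudeAt_RCx_iff (i ≫ f') (i ⁻¹ᵁ V).ι F
    ⟨x₁, hx₁⟩ a b).1 h2

/-- pseudo-coherence of the direct image from relative pseudo-coherence. -/
theorem isPseudoCoherentD_pushforward_iff [Smooth f'] (F : CochainComplex X.Modules ℤ) (m : ℤ) :
    DerSch.IsPseudoCoherentRel (i ≫ f') m (DCoh.toD X F) ↔
      DCoh.IsPseudoCoherentD m (DCoh.toD X'
        (((Scheme.Modules.pushforward i).mapHomologicalComplex (ComplexShape.up ℤ)).obj F)) := by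
  haveI : Flat f' := inferInstance
  haveI : LocallyOfFinitePresentation f' := inferInstance
  have hg : ∀ n : ℤ, DerSch.IsNPseudoCoherent f' n := fun n => isNPseudoCoherent_of_flat_lfp f' n
  rw [isPseudoCoherentRel_comp_closedImmersion_iff i f' m,
    ← isPseudoCoherentD_iff_isPseudoCoherentRel f' hg m]
  exact ⟨fun h => isPseudoCoherentD_of_iso (PDQIso i F) h,
    fun h => isPseudoCoherentD_of_iso (PDQIso i F).symm h⟩

end Groth.Agent.Lib.Helper16.SmTor
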