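import Mathlib
import Groth.Prelude.Def_DRing4
import Groth.Agent.Lib.Helper16.TermInd
import Groth.Agent.Lib.Helper16.KF9
import Groth.Agent.Lib.Helper16.DRE2

/-!
# Helper16 — TensInd: dévissage of `F ⊗ E` over the terms of a bounded complex `E` of finite
projective modules
-/

set_option autoImplicit false
universe u
open CategoryTheory CategoryTheory.Limits CategoryTheory.Pretriangulated MonoidalCategory
  DerivedCategory

attribute [local instance] HasDerivedCategory.standard

namespace Groth.Agent.Lib.Helper16.TensInd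

open Groth.Agent.Lib.Helper16.KF Groth.Agent.Lib.Helper16.TermInd

variable {A : Type u} [CommRing A]

/-- a "thick" property of objects of `D(A)`. -/
structure Thick (S : Dual.D A → Prop) : Prop where
  iso : ∀ {X Y : Dual.D A}, (X ≅ Y) → S X → S Y
  zero : ∀ X : Dual.D A, IsZero X → S X
  ext : ∀ T ∈ distTriang (Dual.D A), S T.obj₁ → S T.obj₃ → S T.obj₂
  shift : ∀ (X : Dual.D A) (n : ℤ), S X → S (X⟦n⟧)
  summand : ∀ X Y : Dual.D A, S (X ⊞ Y) → S X ∧ S Y

variable {S : Dual.D A → Prop}

lemma Thick.biprod (hS : Thick S) (X Y : Dual.D A) (hX : S X) (hY : S Y) : S (X ⊞ Y) :=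
  hS.ext _ (binaryBiproductTriangle_distinguished X Y) hX hY

lemma Thick.retract (hS : Thick S) {L X : Dual.D A} (r : L ⟶ X) (s : X ⟶ L)
    (hrs : r ≫ s = 𝟙 L) (hX : S X) : S L := by
  obtain ⟨K', g, w, hT⟩ := distinguished_cocone_triangle r
  have hw : w = 0 := by
    have h1 : w ≫ r⟦(1 : ℤ)⟧' = 0 := comp_distTriang_mor_zero₃₁ _ hT
    have h2 : r⟦(1 : ℤ)⟧' ≫ s⟦(1 : ℤ)⟧' = 𝟙 _ := by
      rw [← Functor.map_comp, hrs, CategoryTheory.Functor.map_id]
    calc w = w ≫ r⟦(1 : ℤ)⟧' ≫ s⟦(1 : ℤ)⟧' := by rw [h2, Category.comp_id]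
      _ = 0 := by rw [reassoc_of% h1, zero_comp]
  obtain ⟨e, -⟩ := exists_iso_binaryBiproduct_of_distTriang _ hT hw
  exact (hS.summand L K' (hS.iso e hX)).1

/-- the functor `P ↦ Q (F ⊗ P[0])`. -/
noncomputable abbrev G (F : Cx A) : ModuleCat.{u} A ⥤ Dual.D A :=
  HomologicalComplex.single (ModuleCat.{u} A) (ComplexShape.up ℤ) 0 ⋙ tensorLeft F ⋙
    DerivedCategory.Q

instance (F : Cx A) : (G F).Additive := by
  dsimp only [G]
  infer_instance

/-- `G F A ≅ Q F`. -/
noncomputable def GUnitIso (F : Cx A) : (G F).obj (ModuleCat.of A A) ≅ Q.obj F :=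
  Q.mapIso (ρ_ F)

lemma S_G_pi (hS : Thick S) (F : Cx A) (hF : S (Q.obj F)) (k : ℕ) :
    S ((G F).obj (ModuleCat.of A (Fin k → A))) := by
  induction k with
  | zero =>
    refine hS.zero _ ((G F).map_isZero ?_)
    exact ModuleCat.isZero_of_subsingleton _
  | succ k ih =>
    have e1 : ModuleCat.of A (Fin (k + 1) → A) ≅
        ModuleCat.of A A ⊞ ModuleCat.of A (Fin k → A) :=
      (LinearEquiv.toModuleIso (Fin.consLinearEquiv A (fun _ : Fin (k + 1) => A)).symm) ≪≫
        (ModuleCat.biprodIsoProd (ModuleCat.of A A) (ModuleCat.of A (Fin k → A))).symm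
    haveI : PreservesBinaryBiproducts (G F) :=
      preservesBinaryBiproducts_of_preservesBiproducts _
    refine hS.iso ((G F).mapIso e1 ≪≫ (G F).mapBiprod _ _).symm ?_
    exact hS.biprod _ _ (hS.iso (GUnitIso F).symm hF) ih

lemma S_G_finProj (hS : Thick S) (F : Cx A) (hF : S (Q.obj F)) (P : ModuleCat.{u} A)
    [Module.Finite A P] [Module.Projective A P] : S ((G F).obj P) := by
  obtain ⟨k, f, hf⟩ := Module.Finite.exists_fin' A P
  obtain ⟨s, hs⟩ := Module.projective_lifting_property f LinearMap.id hf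
  refine hS.retract ((G F).map (ModuleCat.ofHom s)) ((G F).map (ModuleCat.ofHom f)) ?_
    (S_G_pi hS F hF k)
  rw [← Functor.map_comp, ← ModuleCat.ofHom_comp, hs]
  exact (G F).map_id _

/-- `Q (F ⊗ P[-j]) ≅ (G F P)⟦-j⟧`. -/
noncomputable def singleIso (F : Cx A) (P : ModuleCat.{u} A) (j : ℤ) :
    Q.obj (F ⊗ (HomologicalComplex.single (ModuleCat.{u} A) (ComplexShape.up ℤ) j).obj P) ≅
      ((G F).obj P)⟦-j⟧ :=
  Q.mapIso (whiskerLeftIso F
    (((CochainComplex.singleFunctors (ModuleCat.{u} A)).shiftIso (-j) j 0 (by omega)).app P).symm ≪≫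
      tensorShiftRightIso F _ (-j)) ≪≫ (Q.commShiftIso (-j)).app _

lemma S_single (hS : Thick S) (F : Cx A) (hF : S (Q.obj F)) (P : ModuleCat.{u} A)
    [Module.Finite A P] [Module.Projective A P] (j : ℤ) :
    S (Q.obj (F ⊗ (HomologicalComplex.single (ModuleCat.{u} A) (ComplexShape.up ℤ) j).obj P)) :=
  hS.iso (singleIso F P j).symm (hS.shift _ _ (S_G_finProj hS F hF P))

lemma termwiseFlat_single (M : ModuleCat.{u} A) [Module.Flat A M] (c : ℤ) :
    DRing.TermwiseFlat ((HomologicalComplex.single (ModuleCat.{u} A) (ComplexShape.up ℤ) c).obj M) := by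
  intro i
  by_cases h : i = c
  · subst h
    exact Module.Flat.of_linearEquiv
      (HomologicalComplex.singleObjXSelf (ComplexShape.up ℤ) i M).toLinearEquiv
  · haveI : Subsingleton (((HomologicalComplex.single (ModuleCat.{u} A)
        (ComplexShape.up ℤ) c).obj M).X i) :=
      ModuleCat.subsingleton_of_isZero (HomologicalComplex.isZero_single_obj_X _ _ _ _ h)
    infer_instance

/-- **Dévissage of `F ⊗ E` over the terms of `E`.** -/
theorem tensor_termwise_induction (hS : Thick S) (F : Cx A) (n : ℕ) :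
    ∀ (c d : ℤ) (_ : d + 1 = c + n) (E : Cx A)
      (_ : ∀ i : ℤ, i < c ∨ d < i → IsZero (E.X i)) (_ : DRing.TermwiseFlat E),
      (∀ j, c ≤ j → j ≤ d →
        S (Q.obj (F ⊗ (HomologicalComplex.single (ModuleCat.{u} A) (ComplexShape.up ℤ) j).obj (E.X j)))) →
      S (Q.obj (F ⊗ E)) := by
  induction n with
  | zero =>
    intro c d hcd E hE _ _
    apply hS.zero
    have hz : IsZero E := by
      rw [IsZero.iff_id_eq_zero]
      apply HomologicalComplex.hom_ext
      intro i
      exact (hE i (by omega)).eq_of_src _ _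
    exact Functor.map_isZero Q ((tensorLeft F).map_isZero hz)
  | succ n ih =>
    intro c d hcd E hE hfl hSj
    have hEc : ∀ i : ℤ, i < c → IsZero (E.X i) := fun i hi => hE i (Or.inl hi)
    haveI := hfl c
    have hse := shortExact_whiskerLeft_of_flat₃ F (aboveSC_shortExact E c hEc)
      (termwiseFlat_single (E.X c) c)
    have hT := triangleOfSES_distinguished hse
    refine hS.ext _ hT ?_ ?_
    · show S (Q.obj (F ⊗ above E c hEc))
      refine ih (c + 1) d (by push_cast at hcd; omega) (above E c hEc) (fun i hi => ?_)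
        (fun i => ?_) (fun j hj1 hj2 => ?_)
      · rcases hi with hi | hi
        · exact isZero_above_X E c hEc i (by omega)
        · by_cases hic : i = c
          · exact isZero_above_X E c hEc i (by omega)
          · exact (hE i (Or.inr hi)).of_iso (aboveXIso E c hEc i hic)
      · by_cases hic : i = c
        · haveI : Subsingleton ((above E c hEc).X i) :=
            ModuleCat.subsingleton_of_isZero (isZero_above_X E c hEc i (by omega))
          infer_instance
        · haveI := hfl i
          exact Module.Flat.of_linearEquiv (aboveXIso E c hEc i hic).toLinearEquiv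
      · have e := aboveXIso E c hEc j (by omega)
        exact hS.iso (Q.mapIso (whiskerLeftIso F
          ((HomologicalComplex.single (ModuleCat.{u} A) (ComplexShape.up ℤ) j).mapIso e.symm)))
          (hSj j (by omega) hj2)
    · show S (Q.obj (F ⊗ (HomologicalComplex.single (ModuleCat.{u} A) (ComplexShape.up ℤ) c).obj (E.X c)))
      exact hSj c le_rfl (by push_cast at hcd; omega)

/-- **`F ⊗ E` lies in any thick subcategory containing `F`, for `E` a bounded complex of finite
projective modules.** -/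
theorem S_tensor (hS : Thick S) (F : Cx A) (hF : S (Q.obj F)) (E : Cx A) (a b : ℤ)
    (hEb : DRing.VanishesOutside E a b) (hEp : DRing.TermwiseFiniteProjective E) :
    S (Q.obj (F ⊗ E)) := by
  have hfl : DRing.TermwiseFlat E := fun i => by
    haveI := (hEp i).2
    exact Module.Flat.of_projective
  by_cases hab : a ≤ b
  · obtain ⟨n, hn⟩ : ∃ n : ℕ, b + 1 = a + n := ⟨(b + 1 - a).toNat, by omega⟩
    refine tensor_termwise_induction hS F n a b hn E hEb hfl (fun j _ _ => ?_)
    haveI := (hEp j).1
    haveI := (hEp j).2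
    exact S_single hS F hF (E.X j) j
  · refine tensor_termwise_induction hS F 0 a (a - 1) (by omega) E (fun i hi => hEb i ?_) hfl
      (fun j h1 h2 => by omega)
    omega

end Groth.Agent.Lib.Helper16.TensInd
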