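import Mathlib
import Groth.Agent.Lib.Helper16.TensInd
import Groth.Agent.Lib.Helper16.RelPerf1
import Groth.Agent.Lib.Helper16.PerfSummand
import Groth.Agent.Lib.Helper16.PC11
import Groth.Agent.Lib.Helper16.KF12
import Groth.Agent.Lib.Helper16.KPR1
import Groth.Agent.Lib.Helper8.PAmp2
import Groth.Agent.S7028

/-!
# Helper16 — TensInd2: perfect objects form a thick subcategory; `K ⊗^L L` for perfect `K`, `L`
-/

set_option autoImplicit false
universe u
open CategoryTheory CategoryTheory.Limits CategoryTheory.Pretriangulated MonoidalCategory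
  DerivedCategory

attribute [local instance] HasDerivedCategory.standard

namespace Groth.Agent.Lib.Helper16.TensInd

open Groth.Agent.Lib.Helper16.KF Groth.Agent.Lib.Helper16.PC Groth.Agent.Lib.Helper16.RelPerf

variable {R : Type u} [CommRing R]

lemma isPerfect_of_iso {K L : Dual.D R} (e : K ≅ L) (h : DRing.IsPerfect R K) :
    DRing.IsPerfect R L := by
  obtain ⟨E, a, b, h1, h2, ⟨e'⟩⟩ := h
  exact ⟨E, a, b, h1, h2, ⟨e' ≪≫ e⟩⟩

variable (R) in
theorem thick_isPerfect : Thick (A := R) (fun K => DRing.IsPerfect R K) where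
  iso e h := isPerfect_of_iso e h
  zero X hX := (isPerfect_iff_pc'_and_finiteTorDim X).2
    ⟨pc'_of_isZero X hX, finTorDim_of_isZero X hX⟩
  ext T hT h1 h3 := by
    haveI : ∀ M : ModuleCat.{u} R, DRing.HasLTensor R M := fun M => DRE.hasLTensor M
    exact (Groth.Agent.S7028.result R T hT).2.1 h1 h3
  shift X n h := by
    obtain ⟨h1, h2⟩ := (isPerfect_iff_pc'_and_finiteTorDim X).1 h
    exact (isPerfect_iff_pc'_and_finiteTorDim _).2 ⟨pc'_shift X n h1, finTorDim_shift X n h2⟩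
  summand X Y h := PerfSummand.isPerfect_of_biprod X Y h

/-- if `E` is a bounded above complex of projectives and `Q E ≅ Q L`, then `F ⊗ E` and `F ⊗ L`
are isomorphic in `D(R)` for `F` K-flat. -/
lemma nonempty_iso_tensor (F : Cx R) (hF : DRing.IsKFlat R F) (E L : Cx R) (b : ℤ)
    (hEb : ∀ i : ℤ, b < i → IsZero (E.X i)) (hEp : ∀ i : ℤ, Projective (E.X i))
    (e : Q.obj E ≅ Q.obj L) : Nonempty (Q.obj (F ⊗ E) ≅ Q.obj (F ⊗ L)) := by
  haveI : E.IsKProjective :=
    Groth.Agent.Lib.Helper8.PAmp.isKProjective_of_hasProjAmp_data E b hEb hEp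
  obtain ⟨g, hg⟩ := KPR.exists_map_of_isKProjective E L e.hom
  haveI : IsIso (Q.map g) := by rw [hg]; infer_instance
  haveI : QuasiIso g := (isIso_Q_map_iff_quasiIso _ g).1 inferInstance
  haveI := quasiIso_whiskerLeft_of_isKFlat hF g
  haveI : IsIso (Q.map (F ◁ g)) := (isIso_Q_map_iff_quasiIso _ _).2 inferInstance
  exact ⟨asIso (Q.map (F ◁ g))⟩

/-- `(- ⊗^L L)(Q F) ≅ Q (F ⊗ L)` for `F` K-flat. -/
noncomputable def lTensorCxIsoOfKFlat (L : Cx R) [DRing.HasLTensorCx R L] (F : Cx R)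
    (hF : DRing.IsKFlat R F) : (DRing.LTensorCx R L).obj (Q.obj F) ≅ Q.obj (F ⊗ L) :=
  haveI := DRE.isIso_app_of_isKFlat (DRE.invertsKFlat_tensorCxQ L)
    ((DRing.tensorCxQ R L).totalLeftDerivedCounit DerivedCategory.Q (DRE.qis R)) F hF
  asIso (((DRing.tensorCxQ R L).totalLeftDerivedCounit DerivedCategory.Q (DRE.qis R)).app F)

/-- **S6959**: the derived tensor product of perfect objects is perfect. -/
theorem isPerfect_LTensorCx (K : Dual.D R) (hK : DRing.IsPerfect R K)
    (L : Cx R) (hL : DRing.IsPerfect R (Q.obj L)) [DRing.HasLTensorCx R L] :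
    DRing.IsPerfect R ((DRing.LTensorCx R L).obj K) := by
  obtain ⟨F, a, b, hFb, hFp, ⟨eF⟩⟩ := hK
  obtain ⟨E, c, d, hEb, hEp, ⟨eE⟩⟩ := hL
  have hFfl : DRing.TermwiseFlat F := fun i => by
    haveI := (hFp i).2
    exact Module.Flat.of_projective
  have hFK : DRing.IsKFlat R F :=
    isKFlat_of_boundedAbove F b (fun i hi => hFb i (Or.inr hi)) hFfl
  obtain ⟨e3⟩ := nonempty_iso_tensor F hFK E L d (fun i hi => hEb i (Or.inr hi))
    (fun i => by
      haveI := (hEp i).2
      exact (IsProjective.iff_projective (R := R) (E.X i)).1 inferInstance) eE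
  refine isPerfect_of_iso (e3 ≪≫ (lTensorCxIsoOfKFlat L F hFK).symm ≪≫
    (DRing.LTensorCx R L).mapIso eF) ?_
  exact S_tensor (thick_isPerfect R) F ⟨F, a, b, hFb, hFp, ⟨Iso.refl _⟩⟩ E c d hEb hEp

end Groth.Agent.Lib.Helper16.TensInd
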