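import Mathlib
import Groth.Prelude
import Groth.Agent.Lib.Helper8.EFB7
import Groth.Agent.Lib.Helper8.Stupid1
import Groth.Agent.Lib.Helper16.TensInd2
import Groth.Agent.Lib.Helper16.PC11
import Groth.Agent.Lib.Helper8.KPerf3

/-!
# Helper16 — SpreadPerf1: perfect complexes over a local localization `S⁻¹A` are base changes of
perfect complexes over `A`
-/

set_option autoImplicit false
set_option linter.style.haveILetI false
universe u
open CategoryTheory CategoryTheory.Limits DerivedCategory TensorProduct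
  CategoryTheory.Pretriangulated ZeroObject

attribute [local instance] HasDerivedCategory.standard

namespace Groth.Agent.Lib.Helper16.SpreadPerf

open Groth.Agent.Lib.Helper16.FlatBC Groth.Agent.Lib.Helper8 Groth.Agent.Lib.Helper16.PC
  Groth.Agent.Lib.Helper16.TensInd

variable {A B : Type u} [CommRing A] [CommRing B] [Algebra A B] (M : Submonoid A)
  [IsLocalization M B]

/-- elements of `B ⊗ N` for a localization `B` of `A`. -/
lemma exists_tmul_eq (N : Type*) [AddCommGroup N] [Module A N] (z : B ⊗[A] N) :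
    ∃ (s : M) (n : N), z = (IsLocalization.mk' B (1 : A) s) ⊗ₜ[A] n := by
  haveI : IsLocalizedModule M (TensorProduct.mk A B N 1) :=
    (isLocalizedModule_iff_isBaseChange M B _).2 (TensorProduct.isBaseChange A N B)
  obtain ⟨⟨n, s⟩, h⟩ := IsLocalizedModule.surj M (TensorProduct.mk A B N 1) z
  refine ⟨s, n, ?_⟩
  have h' : (s : A) • z = (1 : B) ⊗ₜ[A] n := h
  have h2 : z = (IsLocalization.mk' B (1 : A) s) • ((s : A) • z) := by
    rw [← algebraMap_smul B (s : A) z, smul_smul, IsLocalization.mk'_spec, map_one, one_smul]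
  rw [h2, h', TensorProduct.smul_tmul', smul_eq_mul, mul_one]

include M in
/-- `B` is flat over `A`. -/
lemma flat_of_isLocalization : Module.Flat A B := IsLocalization.flat B M

section Hom

variable [Module.Flat A B]

/-- perfect objects are bounded below. -/
lemma exists_isGE_of_isPerfect (L : Dual.D A) (hL : DRing.IsPerfect A L) : ∃ c : ℤ, L.IsGE c := by
  obtain ⟨E, a, b, hE, -, ⟨e⟩⟩ := hL
  refine ⟨a, ?_⟩
  haveI : E.IsStrictlyGE a := by
    rw [CochainComplex.isStrictlyGE_iff]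
    exact fun i hi => hE i (Or.inl hi)
  have h2 : (Q.obj E).IsGE a := by
    rw [isGE_Q_obj_iff]
    infer_instance
  exact (TStructure.t).isGE_of_iso e a

/-- perfect objects are pseudo-coherent. -/
lemma pc_of_isPerfect (K : Dual.D A) (hK : DRing.IsPerfect A K) (m : ℤ) :
    DRing.IsPseudoCoherent A m K := by
  obtain ⟨E, a, b, hE, hfp, ⟨e⟩⟩ := hK
  exact pc_of_iso (pc_of_boundedAbove_finProj E b (fun i hi => hE i (Or.inr hi)) hfp m) e

include M in
/-- morphisms between base changes of perfect complexes along a localization are, up to a unit,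
base changes of morphisms. -/
lemma exists_unit_smul_eq (K L : Dual.D A) (hK : DRing.IsPerfect A K) (hL : DRing.IsPerfect A L)
    (g : (ε (algebraMap A B)).obj K ⟶ (ε (algebraMap A B)).obj L) :
    ∃ (u : B) (_ : IsUnit u) (f : K ⟶ L), g = u • (ε (algebraMap A B)).map f := by
  obtain ⟨c, hc⟩ := exists_isGE_of_isPerfect L hL
  obtain ⟨Θ, hΘ⟩ := EFB.exists_bcEquiv (B := B) K L c hc (pc_of_isPerfect K hK (c - 1))
  obtain ⟨z, rfl⟩ := Θ.surjective g
  obtain ⟨s, f, rfl⟩ := exists_tmul_eq (B := B) M (K ⟶ L) z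
  refine ⟨IsLocalization.mk' B (1 : A) s, ?_, f, hΘ _ _⟩
  refine isUnit_iff_exists_inv.2 ⟨algebraMap A B s, ?_⟩
  rw [IsLocalization.mk'_spec, map_one]

end Hom

section Ext

/-- `K ∈ D(B)` is the base change of a perfect complex over `A`. -/
def IsExt [Module.Flat A B] (K : Dual.D B) : Prop :=
  ∃ L : Dual.D A, DRing.IsPerfect A L ∧ Nonempty ((ε (algebraMap A B)).obj L ≅ K)

variable [Module.Flat A B]

include M in
/-- extensions of base changes of perfect complexes are base changes of perfect complexes. -/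
lemma isExt_ext (T : Triangle (Dual.D B)) (hT : T ∈ distTriang (Dual.D B))
    (h1 : IsExt (A := A) T.obj₁) (h3 : IsExt (A := A) T.obj₃) : IsExt (A := A) T.obj₂ := by
  obtain ⟨L₁, hL₁, ⟨e₁⟩⟩ := h1
  obtain ⟨L₃, hL₃, ⟨e₃⟩⟩ := h3
  let F := ε (algebraMap A B)
  let δ' : F.obj L₃ ⟶ F.obj (L₁⟦(1 : ℤ)⟧) :=
    e₃.hom ≫ T.mor₃ ≫ e₁.inv⟦(1 : ℤ)⟧' ≫ (F.commShiftIso (1 : ℤ)).inv.app L₁
  obtain ⟨u, hu, f, hf⟩ := exists_unit_smul_eq (B := B) M L₃ (L₁⟦(1 : ℤ)⟧) hL₃
    ((thick_isPerfect A).shift L₁ 1 hL₁) δ'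
  obtain ⟨M', a, b, hT'⟩ := distinguished_cocone_triangle₂ f
  have hM' : DRing.IsPerfect A M' := (thick_isPerfect A).ext _ hT' hL₁ hL₃
  have hFT : F.mapTriangle.obj (Triangle.mk a b f) ∈ distTriang (Dual.D B) :=
    F.map_distinguished _ hT'
  obtain ⟨v, hv⟩ := isUnit_iff_exists_inv.1 hu
  have hv' : v * u = 1 := by rw [mul_comm]; exact hv
  have comm : T.mor₃ ≫ e₁.inv⟦(1 : ℤ)⟧' =
      (u • e₃.inv) ≫ (F.mapTriangle.obj (Triangle.mk a b f)).mor₃ := by
    have h4 : e₃.inv ≫ δ' ≫ (F.commShiftIso (1 : ℤ)).hom.app L₁ = T.mor₃ ≫ e₁.inv⟦(1 : ℤ)⟧' := by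
      dsimp only [δ']
      simp only [Category.assoc, Iso.inv_hom_id_app, Iso.inv_hom_id_assoc]
      erw [Category.comp_id]
    rw [← h4, hf]
    change _ = (u • e₃.inv) ≫ (F.map f ≫ (F.commShiftIso (1 : ℤ)).hom.app L₁)
    simp only [Linear.smul_comp, Linear.comp_smul]
    rfl
  obtain ⟨β, hβ₁, hβ₂⟩ := complete_distinguished_triangle_morphism₂ T
    (F.mapTriangle.obj (Triangle.mk a b f)) hT hFT e₁.inv (u • e₃.inv) comm
  let φ : T ⟶ F.mapTriangle.obj (Triangle.mk a b f) :=
    { hom₁ := e₁.inv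
      hom₂ := β
      hom₃ := u • e₃.inv
      comm₁ := hβ₁
      comm₂ := hβ₂
      comm₃ := comm }
  have i1 : IsIso φ.hom₁ := inferInstanceAs (IsIso e₁.inv)
  have i3 : IsIso φ.hom₃ := by
    refine ⟨v • e₃.hom, ?_, ?_⟩
    · change (u • e₃.inv) ≫ (v • e₃.hom) = 𝟙 _
      rw [Linear.smul_comp, Linear.comp_smul, smul_smul, hv, Iso.inv_hom_id, one_smul]
    · change (v • e₃.hom) ≫ (u • e₃.inv) = 𝟙 _
      rw [Linear.smul_comp, Linear.comp_smul, smul_smul, hv', Iso.hom_inv_id, one_smul]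
  have i2 : IsIso φ.hom₂ := isIso₂_of_isIso₁₃ φ hT hFT i1 i3
  exact ⟨M', hM', ⟨(asIso φ.hom₂).symm⟩⟩

end Ext

section Main

variable [Module.Flat A B]

/-- `IsExt` as an object property. -/
def extProp : ObjectProperty (Dual.D B) := fun K => IsExt (A := A) K

instance : (extProp (A := A) (B := B)).IsClosedUnderIsomorphisms where
  of_iso := by
    rintro X Y e ⟨L, hL, ⟨e'⟩⟩
    exact ⟨L, hL, ⟨e' ≪≫ e⟩⟩

lemma isExt_of_isZero (Z : Dual.D B) (hZ : IsZero Z) : IsExt (A := A) Z := by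
  refine ⟨0, (thick_isPerfect A).zero _ (isZero_zero _), ⟨?_⟩⟩
  exact (Functor.map_isZero (ε (algebraMap A B)) (isZero_zero _)).iso hZ

/-- finite free modules placed in one degree are base changes. -/
lemma isExt_single_of_free (N : ModuleCat.{u} B) (n : ℕ) (e : N ≃ₗ[B] (Fin n → B)) (i : ℤ) :
    IsExt (A := A) ((DerivedCategory.singleFunctor (ModuleCat.{u} B) i).obj N) := by
  refine ⟨(DerivedCategory.singleFunctor (ModuleCat.{u} A) i).obj (ModuleCat.of A (Fin n → A)),
    Groth.Agent.Lib.Helper8.KPerf.Pf_single _ ⟨inferInstance, inferInstance⟩ i, ⟨?_⟩⟩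
  refine ((ModuleCat.extendScalars.{u, u, u} (algebraMap A B)).mapDerivedCategorySingleFunctor i).app
    (ModuleCat.of A (Fin n → A)) ≪≫
    (DerivedCategory.singleFunctor (ModuleCat.{u} B) i).mapIso ?_
  have e1 : B ⊗[A] (Fin n → A) ≃ₗ[B] (Fin n → B) := TensorProduct.piScalarRight A B B (Fin n)
  exact (extIso (A := A) (B := B) (Fin n → A)).symm ≪≫ (e1.trans e.symm).toModuleIso

include M in
/-- **every perfect complex over a local localization `B` of `A` is the base change of a perfect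
complex over `A`.** -/
theorem exists_perfect_of_isLocalRing [IsLocalRing B] (P : Dual.D B)
    (hP : DRing.IsPerfect B P) :
    ∃ L : Dual.D A, DRing.IsPerfect A L ∧ Nonempty ((ε (algebraMap A B)).obj L ≅ P) := by
  obtain ⟨E, a, b, hE, hfp, ⟨e⟩⟩ := hP
  have key : extProp (A := A) (B := B) (Q.obj E) := by
    refine Groth.Agent.Lib.Helper8.Stupid.induction_bounded (extProp (A := A) (B := B))
      (fun T hT h1 h3 => isExt_ext M T hT h1 h3) (fun Z hZ => isExt_of_isZero Z hZ)
      (b - a + 1).toNat E a ?_ ?_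
    · rintro i (hi | hi)
      · exact hE i (Or.inl hi)
      · refine hE i (Or.inr ?_)
        have := Int.self_le_toNat (b - a + 1)
        omega
    · intro i
      haveI : Module.Finite B (E.X i) := (hfp i).1
      haveI : Module.Projective B (E.X i) := (hfp i).2
      haveI : Module.Free B (E.X i) := Module.free_of_flat_of_isLocalRing
      exact isExt_single_of_free (E.X i) _ (Module.finBasis B (E.X i)).equivFun i
  obtain ⟨L, hL, ⟨e'⟩⟩ := key
  exact ⟨L, hL, ⟨e' ≪≫ e⟩⟩

end Main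

end Groth.Agent.Lib.Helper16.SpreadPerf
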