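import Mathlib
import Groth.Prelude
import Groth.Agent.Lib.Helper16.SpreadPerf1
import Groth.Agent.Lib.Helper16.PtDualB1
import Groth.Agent.Lib.Helper16.DualSchCM
import Groth.Agent.Lib.Helper16.AffRed1
import Groth.Agent.S1105
import Groth.Agent.S12451

/-!
# Helper16 — SpreadPerf2: a perfect complex over a local ring `O_{X,x}` is the complex of stalks of
a complex of `O_X`-modules which is perfect near `x` (S6196)
-/

set_option autoImplicit false
set_option linter.style.haveILetI false
universe u
open CategoryTheory CategoryTheory.Limits AlgebraicGeometry DerivedCategory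

attribute [local instance] HasDerivedCategory.standard

namespace Groth.Agent.Lib.Helper16.SpreadPerf

open Groth.Agent.Lib.Helper16.FlatBC Groth.Agent.Lib.Helper16.LDer Groth.Agent.Lib.Helper8
  Groth.Agent.Lib.Helper16 Groth.Agent.Lib.Helper16.Stk Groth.Agent.Lib.Helper16.RS
  Groth.Agent.Lib.Helper16.TildeTor Groth.Agent.Lib.Helper16.DualSchCM
  Groth.Agent.Lib.Helper16.PtDualB Groth.Agent.Lib.Helper16.AffRed Scheme.Modules

section Cancel

variable {A A' : Type u} [CommRing A] [CommRing A']

/-- restriction of scalars along a bijective ring map is an equivalence. -/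
lemma isEquivalence_restrictScalars (σ : A →+* A') (hσ : Function.Bijective σ) :
    (ModuleCat.restrictScalars.{u} σ).IsEquivalence := by
  have h : (RingEquiv.ofBijective σ hσ).toRingHom = σ := RingHom.ext fun _ => rfl
  rw [← h]
  infer_instance

/-- `K ≅ res (A' ⊗_A K)` on complexes, for a bijective ring map. -/
noncomputable def resExtCxIso (σ : A →+* A') (hσ : Function.Bijective σ) (K : DRing.Cx A) :
    K ≅ ((ModuleCat.restrictScalars.{u} σ).mapHomologicalComplex (ComplexShape.up ℤ)).obj
      ((extCx σ).obj K) :=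
  haveI := isEquivalence_restrictScalars σ hσ
  haveI : IsIso (ModuleCat.extendRestrictScalarsAdj.{u, u, u} σ).unit := inferInstance
  (NatIso.mapHomologicalComplex
    (asIso (ModuleCat.extendRestrictScalarsAdj.{u, u, u} σ).unit) (ComplexShape.up ℤ)).app K

/-- `res (ε K) ≅ K` in the derived category, for a bijective ring map. -/
noncomputable def restrictDεIso (σ : A →+* A') (hσ : Function.Bijective σ) [FlatHom σ]
    (K : Dual.D A) : (DRing.restrictD σ).obj ((ε σ).obj K) ≅ K :=
  (DRing.restrictD σ).mapIso ((ε σ).mapIso (Q.objObjPreimageIso K).symm ≪≫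
      εQIso σ (Q.objPreimage K)) ≪≫
    (ModuleCat.restrictScalars.{u} σ).mapDerivedCategoryFactors.app
      ((extCx σ).obj (Q.objPreimage K)) ≪≫
    Q.mapIso (resExtCxIso σ hσ (Q.objPreimage K)).symm ≪≫ Q.objObjPreimageIso K

/-- base change along a bijective ring map reflects isomorphy of objects. -/
lemma nonempty_iso_of_ε_iso (σ : A →+* A') (hσ : Function.Bijective σ) [FlatHom σ]
    (K₁ K₂ : Dual.D A) (e : (ε σ).obj K₁ ≅ (ε σ).obj K₂) : Nonempty (K₁ ≅ K₂) :=
  ⟨(restrictDεIso σ hσ K₁).symm ≪≫ (DRing.restrictD σ).mapIso e ≪≫ restrictDεIso σ hσ K₂⟩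

end Cancel

section Push

variable {X U : Scheme.{u}} (j : U ⟶ X) [IsOpenImmersion j]

/-- termwise direct image of complexes. -/
noncomputable abbrev pushCx : CochainComplex U.Modules ℤ ⥤ CochainComplex X.Modules ℤ :=
  (Scheme.Modules.pushforward j).mapHomologicalComplex (ComplexShape.up ℤ)

/-- `(j_* G)|_U ≅ G` on complexes. -/
noncomputable def counitCxIso (G : CochainComplex U.Modules ℤ) :
    (RCx j).obj ((pushCx j).obj G) ≅ G :=
  HomologicalComplex.Hom.isoOfComponents
    (fun i => (Scheme.Modules.restrictFunctorAdjCounitIso j).app (G.X i))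
    (fun i k _ => ((Scheme.Modules.restrictFunctorAdjCounitIso j).hom.naturality (G.d i k)).symm)

end Push

section Affine

variable {X : Scheme.{u}} {U : X.Opens} (hU : IsAffineOpen U)

/-- the terms of `(fromSpec_* N)|_U`. -/
noncomputable def termIso (N : (Spec Γ(X, U)).Modules) :
    (Scheme.Modules.restrictFunctor U.ι).obj ((Scheme.Modules.pushforward hU.fromSpec).obj N) ≅
      (Scheme.Modules.restrictFunctor hU.isoSpec.hom).obj N :=
  (Scheme.Modules.restrictFunctor U.ι).mapIso
      ((Scheme.Modules.pushforwardComp hU.isoSpec.inv U.ι).symm.app N) ≪≫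
    (Scheme.Modules.restrictFunctorAdjCounitIso U.ι).app
      ((Scheme.Modules.pushforward hU.isoSpec.inv).obj N) ≪≫
    (pushInvIsoRestrict hU.isoSpec).app N

/-- the direct image of `E~`, restricted to `U`, is strictly perfect. -/
theorem isStrictlyPerfect_restrict_push (E : DRing.Cx Γ(X, U)) (a b : ℤ)
    (hE : DRing.VanishesOutside E a b) (hfp : DRing.TermwiseFiniteProjective E) :
    DCoh.IsStrictlyPerfect ((DCoh.restrictCx U).obj
      ((pushCx hU.fromSpec).obj ((tildeCx Γ(X, U)).obj E))) := by
  refine ⟨⟨a, b, fun i hi => ?_⟩, fun i => ?_⟩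
  · exact Functor.map_isZero (Scheme.Modules.restrictFunctor U.ι)
      (Functor.map_isZero (Scheme.Modules.pushforward hU.fromSpec)
        (Functor.map_isZero (tilde.functor Γ(X, U)) (hE i hi)))
  · refine isFinLocFree_of_iso (termIso hU ((tilde.functor Γ(X, U)).obj (E.X i))).symm ?_
    exact isFinLocFree_restrict hU.isoSpec.hom _ ((Groth.Agent.S12451.result (E.X i)).2 (hfp i))

end Affine

section Main

variable {X : Scheme.{u}}

/-- the stalk computation: the complex of stalks of `j_* (E~)` at `j z`, after the bijective base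
change to `O_{Spec R, z}`, is `E ⊗_R O_{Spec R, z}`. -/
noncomputable def stalkPushTildeIso (R : CommRingCat.{u}) (j : Spec R ⟶ X) [IsOpenImmersion j]
    (z : Spec R) (E : DRing.Cx R) :
    (extCx (φs j z)).obj (stkCx (j z) ((pushCx j).obj ((tildeCx R).obj E))) ≅
      (extCx (ψ R z)).obj E :=
  (PerfFib.stkCxRCxIso j ((pushCx j).obj ((tildeCx R).obj E)) z).symm ≪≫
    ((stk z).mapHomologicalComplex (ComplexShape.up ℤ)).mapIso
      (counitCxIso j ((tildeCx R).obj E)) ≪≫
    tildeStkCxIso R z E

/-- **S6196.** -/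
theorem main (x : X) (P : Dual.D ((X.presheaf.stalk x) : Type u))
    (hP : DRing.IsPerfect ((X.presheaf.stalk x) : Type u) P) :
    ∃ (U : X.Opens) (F' : CochainComplex X.Modules ℤ), x ∈ U ∧
      DCoh.IsPerfect (DerivedCategory.Q.obj ((DCoh.restrictCx U).obj F')) ∧
      Nonempty (DRing.toD (((DerSch.stalkFunctor X x).mapHomologicalComplex
        (ComplexShape.up ℤ)).obj F') ≅ P) := by
  obtain ⟨U, hU, hxU, -⟩ := (TopologicalSpace.Opens.isBasis_iff_nbhd.1 X.isBasis_affineOpens)
    (show x ∈ (⊤ : X.Opens) from trivial)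
  have hU' : IsAffineOpen U := hU
  obtain ⟨z, rfl⟩ : ∃ z, hU'.fromSpec z = x := by
    have : x ∈ Set.range hU'.fromSpec := by rw [hU'.range_fromSpec]; exact hxU
    exact this
  let R : CommRingCat.{u} := Γ(X, U)
  let j : Spec R ⟶ X := hU'.fromSpec
  have hb := PerfFib.bijective_φs j z
  haveI := flatHom_of_bijective (φs j z) hb
  -- the local ring of `Spec R` at `z`
  let p : PrimeSpectrum R := z
  letI k : Algebra R ((Spec R).presheaf.stalk z) := StructureSheaf.stalkAlgebra R p
  haveI : IsLocalization.AtPrime ((Spec R).presheaf.stalk z) p.asIdeal :=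
    StructureSheaf.IsLocalization.to_stalk R p
  haveI : Module.Flat R ((Spec R).presheaf.stalk z) :=
    IsLocalization.flat _ p.asIdeal.primeCompl
  have hP' : DRing.IsPerfect ((Spec R).presheaf.stalk z) ((ε (φs j z)).obj P) :=
    perfect_ε (φs j z) P hP
  obtain ⟨L, hL, ⟨eL⟩⟩ := exists_perfect_of_isLocalRing (A := R)
    (B := (Spec R).presheaf.stalk z) p.asIdeal.primeCompl _ hP'
  obtain ⟨E, a, b, hE, hfp, ⟨e⟩⟩ := hL
  refine ⟨U, (pushCx j).obj ((tildeCx R).obj E), hxU, ?_, ?_⟩
  · exact Groth.Agent.S1105.isPerfect_of_isStrictlyPerfect _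
      (isStrictlyPerfect_restrict_push hU' E a b hE hfp) _ (Iso.refl _)
  · have c : (ε (φs j z)).obj (Q.obj (stkCx (j z) ((pushCx j).obj ((tildeCx R).obj E)))) ≅
        (ε (φs j z)).obj P :=
      εQIso (φs j z) _ ≪≫ Q.mapIso (stalkPushTildeIso R j z E) ≪≫
        (εQIso (algebraMap R ((Spec R).presheaf.stalk z)) E).symm ≪≫
        (ε (algebraMap R ((Spec R).presheaf.stalk z))).mapIso e ≪≫ eL
    exact nonempty_iso_of_ε_iso (φs j z) hb _ _ c

end Main

end Groth.Agent.Lib.Helper16.SpreadPerf
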