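import Mathlib
import Groth.Prelude
import Groth.Agent.Lib.Helper16.SpreadPerf1

/-!
# Helper16 — StalkIso1: an isomorphism `M_p ≅ N_p` in `D(A_p)` between pseudo-coherent bounded
below objects spreads out to `D(A_h)` for some `h ∉ p`
-/

set_option autoImplicit false
set_option linter.style.haveILetI false
universe u
open CategoryTheory CategoryTheory.Limits DerivedCategory TensorProduct
  CategoryTheory.Pretriangulated

attribute [local instance] HasDerivedCategory.standard

namespace Groth.Agent.Lib.Helper16.StalkIso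

open Groth.Agent.Lib.Helper16.FlatBC Groth.Agent.Lib.Helper8 Groth.Agent.Lib.Helper16.PC
  Groth.Agent.Lib.Helper16.SpreadPerf

section Semilinear

variable {A B : Type u} [CommRing A] [CommRing B] [Algebra A B] [Module.Flat A B]

/-- `ε` is semilinear on morphisms (for pseudo-coherent source and bounded below target). -/
lemma ε_map_smul (K L : Dual.D A) (c : ℤ) (hL : L.IsGE c)
    (hK : DRing.IsPseudoCoherent A (c - 1) K) (a : A) (w : K ⟶ L) :
    (ε (algebraMap A B)).map (a • w) = algebraMap A B a • (ε (algebraMap A B)).map w := by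
  obtain ⟨Θ, hΘ⟩ := EFB.exists_bcEquiv (B := B) K L c hL hK
  have h1 : (1 : B) ⊗ₜ[A] (a • w) = (algebraMap A B a) ⊗ₜ[A] w := by
    rw [← TensorProduct.smul_tmul, Algebra.smul_def, mul_one]
  have h2 := hΘ 1 (a • w)
  rw [h1, hΘ, one_smul] at h2
  exact h2.symm

end Semilinear

section Loc

variable {A B : Type u} [CommRing A] [CommRing B] [Algebra A B] (S : Submonoid A)
  [IsLocalization S B] [Module.Flat A B]

include S in
/-- a morphism killed by localization is killed by an element of `S`. -/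
lemma exists_smul_eq_zero (K L : Dual.D A) (c : ℤ) (hL : L.IsGE c)
    (hK : DRing.IsPseudoCoherent A (c - 1) K) (w : K ⟶ L)
    (hw : (ε (algebraMap A B)).map w = 0) : ∃ u : S, (u : A) • w = 0 := by
  obtain ⟨Θ, hΘ⟩ := EFB.exists_bcEquiv (B := B) K L c hL hK
  have h1 : Θ ((1 : B) ⊗ₜ[A] w) = 0 := by rw [hΘ, one_smul, hw]
  have h2 : (1 : B) ⊗ₜ[A] w = 0 := by
    apply Θ.injective
    rw [h1, map_zero]
  haveI : IsLocalizedModule S (TensorProduct.mk A B (K ⟶ L) 1) :=
    (isLocalizedModule_iff_isBaseChange S B _).2 (TensorProduct.isBaseChange A (K ⟶ L) B)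
  exact (IsLocalizedModule.eq_zero_iff S (TensorProduct.mk A B (K ⟶ L) 1)).1 h2

end Loc

section Main

variable {A B : Type u} [CommRing A] [CommRing B] [Algebra A B] (S : Submonoid A)
  [IsLocalization S B] [Module.Flat A B]

include S in
/-- morphisms between base changes along a localization, for a pseudo-coherent source and a
bounded below target. -/
lemma exists_mk'_smul_eq (K L : Dual.D A) (c : ℤ) (hL : L.IsGE c)
    (hK : DRing.IsPseudoCoherent A (c - 1) K)
    (g : (ε (algebraMap A B)).obj K ⟶ (ε (algebraMap A B)).obj L) :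
    ∃ (s : S) (f : K ⟶ L), g = IsLocalization.mk' B (1 : A) s • (ε (algebraMap A B)).map f := by
  obtain ⟨Θ, hΘ⟩ := EFB.exists_bcEquiv (B := B) K L c hL hK
  obtain ⟨z, rfl⟩ := Θ.surjective g
  obtain ⟨s, f, rfl⟩ := exists_tmul_eq (B := B) S (K ⟶ L) z
  exact ⟨s, f, hΘ _ _⟩

include S in
/-- if `ε f ≫ ε g` is a unit multiple of the identity after localization, the same holds up to
an element of `S`. -/
lemma exists_smul_comp_eq (M N : Dual.D A) (c : ℤ) (hMc : M.IsGE c)
    (hM : DRing.IsPseudoCoherent A (c - 1) M) (s t : S) (f : M ⟶ N) (g : N ⟶ M)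
    (h : (IsLocalization.mk' B (1 : A) s • (ε (algebraMap A B)).map f) ≫
      (IsLocalization.mk' B (1 : A) t • (ε (algebraMap A B)).map g) = 𝟙 _) :
    ∃ u : S, (u : A) • (f ≫ g - ((s : A) * (t : A)) • 𝟙 M) = 0 := by
  apply exists_smul_eq_zero (B := B) S M M c hMc hM
  have h1 : (ε (algebraMap A B)).map (f ≫ g) =
      algebraMap A B ((s : A) * (t : A)) • 𝟙 ((ε (algebraMap A B)).obj M) := by
    rw [Linear.smul_comp, Linear.comp_smul, smul_smul, ← Functor.map_comp] at h
    rw [← h, smul_smul, map_mul]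
    have h3 : algebraMap A B s * algebraMap A B t *
        (IsLocalization.mk' B (1 : A) s * IsLocalization.mk' B (1 : A) t) = 1 := by
      have hs : IsLocalization.mk' B (1 : A) s * algebraMap A B s = 1 := by
        rw [IsLocalization.mk'_spec, map_one]
      have ht : IsLocalization.mk' B (1 : A) t * algebraMap A B t = 1 := by
        rw [IsLocalization.mk'_spec, map_one]
      calc algebraMap A B s * algebraMap A B t *
            (IsLocalization.mk' B (1 : A) s * IsLocalization.mk' B (1 : A) t)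
          = (IsLocalization.mk' B (1 : A) s * algebraMap A B s) *
            (IsLocalization.mk' B (1 : A) t * algebraMap A B t) := by ring
        _ = 1 := by rw [hs, ht, one_mul]
    rw [h3, one_smul]
  rw [Functor.map_sub, h1, ε_map_smul (B := B) M M c hMc hM, CategoryTheory.Functor.map_id,
    sub_self]

/-- **spreading out an isomorphism from `D(A_p)` to `D(A_h)`.** -/
theorem exists_away_iso (M N : Dual.D A) (c : ℤ) (hMc : M.IsGE c) (hNc : N.IsGE c)
    (hM : ∀ m : ℤ, DRing.IsPseudoCoherent A m M) (hN : ∀ m : ℤ, DRing.IsPseudoCoherent A m N)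
    (e : (ε (algebraMap A B)).obj M ≅ (ε (algebraMap A B)).obj N) :
    ∃ h : A, h ∈ S ∧ Nonempty ((ε (algebraMap A (Localization.Away h))).obj M ≅
      (ε (algebraMap A (Localization.Away h))).obj N) := by
  obtain ⟨s, f, hf⟩ := exists_mk'_smul_eq (B := B) S M N c hNc (hM _) e.hom
  obtain ⟨t, g, hg⟩ := exists_mk'_smul_eq (B := B) S N M c hMc (hN _) e.inv
  obtain ⟨u, hu⟩ := exists_smul_comp_eq (B := B) S M N c hMc (hM _) s t f g
    (by rw [← hf, ← hg, Iso.hom_inv_id])
  obtain ⟨u', hu'⟩ := exists_smul_comp_eq (B := B) S N M c hNc (hN _) t s g f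
    (by rw [← hf, ← hg, Iso.inv_hom_id])
  obtain ⟨h, hh⟩ : ∃ h : A, h = (s : A) * (t : A) * (u : A) * (u' : A) := ⟨_, rfl⟩
  refine ⟨h, by rw [hh]; exact S.mul_mem (S.mul_mem (S.mul_mem s.2 t.2) u.2) u'.2, ?_⟩
  let C := Localization.Away h
  let G := ε (algebraMap A C)
  have hunit : IsUnit (algebraMap A C h) :=
    IsLocalization.map_units C (⟨h, Submonoid.mem_powers h⟩ : Submonoid.powers h)
  have hprod : algebraMap A C h = algebraMap A C s * algebraMap A C t * algebraMap A C u *
      algebraMap A C u' :=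
    (congrArg (algebraMap A C) hh).trans (by simp only [map_mul])
  rw [hprod, IsUnit.mul_iff, IsUnit.mul_iff, IsUnit.mul_iff] at hunit
  obtain ⟨⟨⟨hs, ht⟩, hu1⟩, hu2⟩ := hunit
  have hα : IsUnit (algebraMap A C ((s : A) * (t : A))) := by
    rw [map_mul]; exact hs.mul ht
  have hα' : IsUnit (algebraMap A C ((t : A) * (s : A))) := by
    rw [map_mul]; exact ht.mul hs
  have k1 : G.map f ≫ G.map g = algebraMap A C ((s : A) * (t : A)) • 𝟙 (G.obj M) := by
    have h1 : G.map ((u : A) • (f ≫ g - ((s : A) * (t : A)) • 𝟙 M)) = G.map 0 := by rw [hu]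
    rw [ε_map_smul (B := C) M M c hMc (hM _), Functor.map_zero, Functor.map_sub,
      ε_map_smul (B := C) M M c hMc (hM _), CategoryTheory.Functor.map_id, Functor.map_comp] at h1
    exact sub_eq_zero.1 ((IsUnit.smul_eq_zero hu1).1 h1)
  have k2 : G.map g ≫ G.map f = algebraMap A C ((t : A) * (s : A)) • 𝟙 (G.obj N) := by
    have h1 : G.map ((u' : A) • (g ≫ f - ((t : A) * (s : A)) • 𝟙 N)) = G.map 0 := by rw [hu']
    rw [ε_map_smul (B := C) N N c hNc (hN _), Functor.map_zero, Functor.map_sub,
      ε_map_smul (B := C) N N c hNc (hN _), CategoryTheory.Functor.map_id, Functor.map_comp] at h1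
    exact sub_eq_zero.1 ((IsUnit.smul_eq_zero hu2).1 h1)
  obtain ⟨v, hv⟩ := isUnit_iff_exists_inv.1 hα
  have hv' : algebraMap A C ((t : A) * (s : A)) * v = 1 := by rw [mul_comm (t : A)]; exact hv
  refine ⟨⟨G.map f, v • G.map g, ?_, ?_⟩⟩
  · rw [Linear.comp_smul, k1, smul_smul, mul_comm, hv, one_smul]
  · rw [Linear.smul_comp, k2, smul_smul, mul_comm, hv', one_smul]

end Main

end Groth.Agent.Lib.Helper16.StalkIso
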