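import Mathlib
import Groth.Prelude
import Groth.Agent.Lib.Helper16.StalkIso1
import Groth.Agent.Lib.Helper16.SpreadPerf2
import Groth.Agent.Lib.Helper16.DualSch3
import Groth.Agent.Lib.Helper16.AffRed3
import Groth.Agent.Lib.Helper16.AffRed5
import Groth.Agent.Lib.Helper16.K0Spec
import Groth.Agent.Lib.Helper16.PerfPt
import Groth.Agent.Lib.Helper2.RpushQC4
import Groth.Agent.S1004
import Groth.Agent.S0997

/-!
# Helper16 — StalkIso2: bounded pseudo-coherent complexes with isomorphic stalks at `x` are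
isomorphic near `x` (S6195)
-/

set_option autoImplicit false
set_option linter.style.haveILetI false
universe u
open CategoryTheory CategoryTheory.Limits AlgebraicGeometry DerivedCategory

attribute [local instance] HasDerivedCategory.standard

namespace Groth.Agent.Lib.Helper16.StalkIso

open Groth.Agent.Lib.Helper16.FlatBC Groth.Agent.Lib.Helper16.LDer Groth.Agent.Lib.Helper8
  Groth.Agent.Lib.Helper16 Groth.Agent.Lib.Helper16.Stk Groth.Agent.Lib.Helper16.RS
  Groth.Agent.Lib.Helper16.TildeTor Groth.Agent.Lib.Helper16.DualSchCM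
  Groth.Agent.Lib.Helper16.PtDualB Groth.Agent.Lib.Helper16.AffRed Scheme.Modules
  Groth.Agent.Lib.Helper16.DualSch Groth.Agent.Lib.Helper1.LocPC Groth.Agent.Lib.Helper16.PC
  Groth.Agent.Lib.Helper16.SpreadPerf

section QCoh

variable {X : Scheme.{u}}

/-- a bounded below pseudo-coherent object has quasi-coherent cohomology sheaves. -/
theorem isQCohD_of_pc_of_isGE (K : DCoh.D X) (c : ℤ) (hc : K.IsGE c)
    (hK : DCoh.IsPseudoCoherentD (c - 1) K) : DCoh.IsQCohD K := by
  apply isQCohD_of_cover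
  intro x
  obtain ⟨V, hx, E, α, hE, hα⟩ := (isPseudoCoherentD_iff (c - 1) K).1 hK x
  refine ⟨V, V.ι, inferInstance, by rw [Scheme.Opens.range_ι]; exact hx, ?_⟩
  intro i
  by_cases hi : c ≤ i
  · haveI : IsIso ((homologyFunctor _ i).map α) := hα.1 i (by omega)
    have h1 : (E.homology i).IsQuasicoherent :=
      Groth.Agent.Lib.Helper1.LocFree.isQuasicoherent_homology_of_isStrictlyPerfect E hE i
    have e2 : DCoh.HD ((RD V.ι).obj K) i ≅ E.homology i :=
      (asIso ((homologyFunctor _ i).map α)).symm ≪≫ (homologyFunctorFactors _ i).app E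
    exact (SheafOfModules.isQuasicoherent (V : Scheme.{u}).ringCatSheaf).prop_of_iso e2.symm h1
  · haveI : ((RD V.ι).obj K).IsGE c :=
      PerfPt.map_isGE (Scheme.Modules.restrictFunctor V.ι) K c hc
    exact Groth.Agent.Lib.Helper2.RpushQC4.isQuasicoherent_of_isZero _
      (DerivedCategory.isZero_of_isGE _ c i (by omega))

end QCoh

section Chart

variable {X : Scheme.{u}} (A : Type u) [CommRing A] (j : Spec (CommRingCat.of A) ⟶ X)
  [IsOpenImmersion j]

/-- on an affine chart, a bounded below pseudo-coherent object is the tilde of a bounded below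
pseudo-coherent object. -/
theorem exists_tildeD_iso_of_pc (K : DCoh.D X) (c : ℤ) (hc : K.IsGE c)
    (hK : ∀ m : ℤ, DCoh.IsPseudoCoherentD m K) :
    ∃ M : Dual.D A, M.IsGE c ∧ (∀ m : ℤ, DRing.IsPseudoCoherent A m M) ∧
      Nonempty ((RD j).obj K ≅ (DCoh.tildeD (CommRingCat.of A)).obj M) := by
  have hq : DCoh.IsQCohD ((RD j).obj K) :=
    isQCohD_RD j K (isQCohD_of_pc_of_isGE K c hc (hK _))
  obtain ⟨M, ⟨e⟩⟩ := ((Groth.Agent.S0997.result (CommRingCat.of A)).2.2 _).1 hq
  refine ⟨M, ?_, ?_, ⟨e.symm⟩⟩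
  · apply EFB.isGE_of_subsingleton
    intro i hi
    obtain ⟨e1⟩ := nonempty_HD_tildeD_iso (CommRingCat.of A) M i
    haveI : ((RD j).obj K).IsGE c :=
      PerfPt.map_isGE (Scheme.Modules.restrictFunctor j) K c hc
    haveI : ((DCoh.tildeD (CommRingCat.of A)).obj M).IsGE c :=
      (TStructure.t).isGE_of_iso e.symm c
    have hz : IsZero (DCoh.HD ((DCoh.tildeD (CommRingCat.of A)).obj M) i) :=
      DerivedCategory.isZero_of_isGE _ c i hi
    exact ModuleCat.subsingleton_of_isZero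
      (isZero_of_isZero_tilde (CommRingCat.of A) _ (hz.of_iso e1.symm))
  · intro m
    exact (Groth.Agent.S1004.result A M m).1
      (isPseudoCoherentD_of_iso e.symm (isPseudoCoherentD_RD j m K (hK m)))

/-- the stalk of `E` at `j z` in terms of `M` when `E|_{Spec A} ≅ M~`. -/
theorem nonempty_ε_iso_stalk (E : CochainComplex X.Modules ℤ) (M : Dual.D A)
    (e : (RD j).obj (Q.obj E) ≅ (DCoh.tildeD (CommRingCat.of A)).obj M)
    (z : Spec (CommRingCat.of A)) [FlatHom (ψ (CommRingCat.of A) z)] [FlatHom (φs j z)] :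
    Nonempty ((ε (ψ (CommRingCat.of A) z)).obj M ≅
      (ε (φs j z)).obj (Q.obj (stkCx (j z) E))) := by
  let P := Q.objPreimage M
  let eP : Q.obj P ≅ M := Q.objObjPreimageIso M
  have e' : Q.obj ((RCx j).obj E) ≅ (DCoh.tildeD (CommRingCat.of A)).obj (Q.obj P) :=
    (RDQIso j E).symm ≪≫ e ≪≫ (DCoh.tildeD (CommRingCat.of A)).mapIso eP.symm
  exact ⟨(ε (ψ (CommRingCat.of A) z)).mapIso eP.symm ≪≫ εQIso (ψ (CommRingCat.of A) z) P ≪≫
    stalkIso (CommRingCat.of A) z P ((RCx j).obj E) e' ≪≫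
    Q.mapIso (PerfFib.stkCxRCxIso j E z) ≪≫ (εQIso (φs j z) _).symm⟩

end Chart

section Transfer

variable {X W : Scheme.{u}} (k : W ⟶ X) [IsOpenImmersion k]

/-- from an isomorphism after restriction along an open immersion to one over its range. -/
theorem nonempty_iso_opensRange (E F : CochainComplex X.Modules ℤ)
    (r : (RD k).obj (Q.obj E) ≅ (RD k).obj (Q.obj F)) :
    Nonempty (Q.obj ((DCoh.restrictCx k.opensRange).obj E) ≅
      Q.obj ((DCoh.restrictCx k.opensRange).obj F)) := by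
  have h : k.isoOpensRange.inv ≫ k = k.opensRange.ι := by
    rw [Iso.inv_comp_eq, Scheme.Hom.isoOpensRange_hom_ι]
  obtain ⟨e1⟩ := nonempty_RD_fac_iso k k.isoOpensRange.inv k.opensRange.ι h (Q.obj E)
  obtain ⟨e2⟩ := nonempty_RD_fac_iso k k.isoOpensRange.inv k.opensRange.ι h (Q.obj F)
  exact ⟨(RDQIso k.opensRange.ι E).symm ≪≫ e1.symm ≪≫ (RD k.isoOpensRange.inv).mapIso r ≪≫ e2 ≪≫
    RDQIso k.opensRange.ι F⟩

end Transfer

section Main

variable {X : Scheme.{u}}

/-- **S6195.** -/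
theorem main (x : X) (E F : CochainComplex X.Modules ℤ) (c : ℤ)
    (hEc : (DCoh.toD X E).IsGE c) (hFc : (DCoh.toD X F).IsGE c)
    (hE : ∀ m : ℤ, DCoh.IsPseudoCoherentD m (DCoh.toD X E))
    (hF : ∀ m : ℤ, DCoh.IsPseudoCoherentD m (DCoh.toD X F))
    (hx : Nonempty (DRing.toD (((DerSch.stalkFunctor X x).mapHomologicalComplex
        (ComplexShape.up ℤ)).obj E) ≅
      DRing.toD (((DerSch.stalkFunctor X x).mapHomologicalComplex (ComplexShape.up ℤ)).obj F))) :
    ∃ U : X.Opens, x ∈ U ∧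
      Nonempty (DerivedCategory.Q.obj ((DCoh.restrictCx U).obj E) ≅
        DerivedCategory.Q.obj ((DCoh.restrictCx U).obj F)) := by
  obtain ⟨U, hU, hxU, -⟩ := (TopologicalSpace.Opens.isBasis_iff_nbhd.1 X.isBasis_affineOpens)
    (show x ∈ (⊤ : X.Opens) from trivial)
  have hU' : IsAffineOpen U := hU
  obtain ⟨z, rfl⟩ : ∃ z, hU'.fromSpec z = x := by
    have : x ∈ Set.range hU'.fromSpec := by rw [hU'.range_fromSpec]; exact hxU
    exact this
  let R : CommRingCat.{u} := Γ(X, U)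
  let j : Spec (CommRingCat.of R) ⟶ X := hU'.fromSpec
  have hb := PerfFib.bijective_φs j z
  haveI := flatHom_of_bijective (φs j z) hb
  let p : PrimeSpectrum R := z
  letI k : Algebra R ((Spec (CommRingCat.of R)).presheaf.stalk z) :=
    StructureSheaf.stalkAlgebra R p
  haveI : IsLocalization.AtPrime ((Spec (CommRingCat.of R)).presheaf.stalk z) p.asIdeal :=
    StructureSheaf.IsLocalization.to_stalk R p
  haveI : Module.Flat R ((Spec (CommRingCat.of R)).presheaf.stalk z) :=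
    IsLocalization.flat _ p.asIdeal.primeCompl
  obtain ⟨M, hMc, hM, ⟨eM⟩⟩ := exists_tildeD_iso_of_pc R j (Q.obj E) c hEc hE
  obtain ⟨N, hNc, hN, ⟨eN⟩⟩ := exists_tildeD_iso_of_pc R j (Q.obj F) c hFc hF
  haveI : FlatHom (ψ (CommRingCat.of R) z) :=
    ⟨Groth.Agent.Lib.Helper16.TildeLoc.flat_ψ (CommRingCat.of R) z⟩
  obtain ⟨a1⟩ := nonempty_ε_iso_stalk R j E M eM z
  obtain ⟨a2⟩ := nonempty_ε_iso_stalk R j F N eN z
  obtain ⟨ex⟩ := hx
  have eB : (ε (algebraMap R ((Spec (CommRingCat.of R)).presheaf.stalk z))).obj M ≅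
      (ε (algebraMap R ((Spec (CommRingCat.of R)).presheaf.stalk z))).obj N :=
    a1 ≪≫ (ε (φs j z)).mapIso ex ≪≫ a2.symm
  obtain ⟨h, hh, ⟨eh⟩⟩ := exists_away_iso (B := (Spec (CommRingCat.of R)).presheaf.stalk z)
    p.asIdeal.primeCompl M N c hMc hNc hM hN eB
  obtain ⟨r1⟩ := nonempty_RD_chart_iso (B := Localization.Away h) (Q.obj E) j M eM
  obtain ⟨r2⟩ := nonempty_RD_chart_iso (B := Localization.Away h) (Q.obj F) j N eN
  let l := Spec.map (CommRingCat.ofHom (algebraMap R (Localization.Away h)))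
  have r : (RD (l ≫ j)).obj (Q.obj E) ≅ (RD (l ≫ j)).obj (Q.obj F) :=
    r1 ≪≫ (DCoh.tildeD (CommRingCat.of (Localization.Away h))).mapIso eh ≪≫ r2.symm
  refine ⟨(l ≫ j).opensRange, ?_, nonempty_iso_opensRange (l ≫ j) E F r⟩
  have hz : (z : PrimeSpectrum R) ∈ Set.range l := by
    have h1 := PrimeSpectrum.localization_away_comap_range (Localization.Away h) h
    have h2 : (z : PrimeSpectrum R) ∈ (PrimeSpectrum.basicOpen h : Set (PrimeSpectrum R)) := hh
    rw [← h1] at h2
    exact h2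
  obtain ⟨y, hy⟩ := hz
  exact ⟨y, by rw [Scheme.Hom.comp_apply, hy]⟩

end Main

end Groth.Agent.Lib.Helper16.StalkIso
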