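import Mathlib

/-!
# `Tor_p(-, N)` in the first variable: exactness in the middle and bilinearity
-/

open CategoryTheory CategoryTheory.Limits MonoidalCategory

namespace Groth.Agent.Lib.Helper16.TorLES

universe u

variable {A : Type u} [CommRing A]

/-- `X ⊗ -`. -/
noncomputable abbrev F (X : ModuleCat.{u} A) : ModuleCat.{u} A ⥤ ModuleCat.{u} A :=
  (tensoringLeft (ModuleCat.{u} A)).obj X

/-- `Tor_p(f, N)`. -/
noncomputable abbrev torMap {X Y : ModuleCat.{u} A} (f : X ⟶ Y) (p : ℕ) (N : ModuleCat.{u} A) :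
    ((F X).leftDerived p).obj N ⟶ ((F Y).leftDerived p).obj N :=
  (NatTrans.leftDerived ((tensoringLeft (ModuleCat.{u} A)).map f) p).app N

lemma tor_map_app (X Y : ModuleCat.{u} A) (f : X ⟶ Y) (p : ℕ) (N : ModuleCat.{u} A) :
    ((Tor (ModuleCat.{u} A) p).map f).app N = torMap f p N := rfl

lemma torMap_comp {X Y Z : ModuleCat.{u} A} (f : X ⟶ Y) (g : Y ⟶ Z) (p : ℕ) (N : ModuleCat.{u} A) :
    torMap (f ≫ g) p N = torMap f p N ≫ torMap g p N := by
  dsimp only [torMap]
  rw [Functor.map_comp, NatTrans.leftDerived_comp, NatTrans.comp_app]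

/-- the complex `X ⊗ P_•`. -/
noncomputable abbrev tp (X : ModuleCat.{u} A) {N : ModuleCat.{u} A} (P : ProjectiveResolution N) :
    ChainComplex (ModuleCat.{u} A) ℕ :=
  ((F X).mapHomologicalComplex _).obj P.complex

/-- the map `X ⊗ P_• ⟶ Y ⊗ P_•`. -/
noncomputable abbrev tpMap {X Y : ModuleCat.{u} A} (f : X ⟶ Y) {N : ModuleCat.{u} A}
    (P : ProjectiveResolution N) : tp X P ⟶ tp Y P :=
  (NatTrans.mapHomologicalComplex ((tensoringLeft (ModuleCat.{u} A)).map f) _).app P.complex

lemma torMap_eq {X Y : ModuleCat.{u} A} (f : X ⟶ Y) {N : ModuleCat.{u} A}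
    (P : ProjectiveResolution N) (p : ℕ) :
    torMap f p N =
      (P.isoLeftDerivedObj (F X) p).hom ≫
        HomologicalComplex.homologyMap (tpMap f P) p ≫
        (P.isoLeftDerivedObj (F Y) p).inv :=
  P.leftDerived_app_eq _ p

/-- the short complex of complexes attached to a short complex of modules. -/
noncomputable def tpSC (S : ShortComplex (ModuleCat.{u} A)) {N : ModuleCat.{u} A}
    (P : ProjectiveResolution N) : ShortComplex (ChainComplex (ModuleCat.{u} A) ℕ) :=
  ShortComplex.mk (tpMap S.f P) (tpMap S.g P) (by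
    apply HomologicalComplex.hom_ext
    intro k
    change S.f ▷ _ ≫ S.g ▷ _ = 0
    rw [← MonoidalCategory.comp_whiskerRight, S.zero, MonoidalPreadditive.zero_whiskerRight])

lemma tpSC_shortExact (S : ShortComplex (ModuleCat.{u} A)) (hS : S.ShortExact)
    {N : ModuleCat.{u} A} (P : ProjectiveResolution N) : (tpSC S P).ShortExact := by
  apply HomologicalComplex.shortExact_of_degreewise_shortExact
  intro k
  haveI : Projective (P.complex.X k) := P.projective k
  haveI : Module.Projective A (P.complex.X k) := ModuleCat.projective_of_module_projective _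
  haveI : Module.Flat A (P.complex.X k) := inferInstance
  exact hS.map_of_exact (tensorRight (P.complex.X k))

section aux

variable {C : Type*} [Category C] [HasZeroMorphisms C]

lemma eq_zero_of_conj {X X' Y Y' : C} (e : X ≅ X') (e' : Y ≅ Y') (f : X' ⟶ Y')
    (h : e.hom ≫ f ≫ e'.inv = 0) : f = 0 := by
  have := congrArg (fun z => e.inv ≫ z ≫ e'.hom) h
  simpa using this

lemma conj_eq_zero {X X' Y Y' : C} (e : X ≅ X') (e' : Y ≅ Y') (f : X' ⟶ Y')
    (h : f = 0) : e.hom ≫ f ≫ e'.inv = 0 := by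
  rw [h, zero_comp, comp_zero]

lemma eq_zero_of_comp_conj {T X X' Y Y' : C} (e : X ≅ X') (e' : Y ≅ Y') (f : X' ⟶ Y') [Mono f]
    (k : T ⟶ X) (h : k ≫ e.hom ≫ f ≫ e'.inv = 0) : k = 0 := by
  have h1 : (k ≫ e.hom) ≫ f = 0 := by
    have := congrArg (fun z => z ≫ e'.hom) h
    simpa using this
  have h2 : k ≫ e.hom = 0 := by
    rw [← cancel_mono f, h1, zero_comp]
  have := congrArg (fun z => z ≫ e.inv) h2
  simpa using this

end aux

/-- middle exactness of `Tor_p(-, N)`, in the form used below. -/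
lemma eq_zero_of_comp_torMap_g (S : ShortComplex (ModuleCat.{u} A)) (hS : S.ShortExact)
    (N : ModuleCat.{u} A) (p : ℕ) {T : ModuleCat.{u} A}
    (k : T ⟶ ((F S.X₂).leftDerived p).obj N)
    (hk : k ≫ torMap S.g p N = 0) (hf : torMap S.f p N = 0) : k = 0 := by
  let P := ProjectiveResolution.of N
  have E := (tpSC_shortExact S hS P).homology_exact₂ p
  rw [torMap_eq _ P] at hk hf
  have hf' : HomologicalComplex.homologyMap (tpMap S.f P) p = 0 := eq_zero_of_conj _ _ _ hf
  have hm : Mono (HomologicalComplex.homologyMap (tpMap S.g P) p) := E.mono_g hf'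
  exact @eq_zero_of_comp_conj _ _ _ _ _ _ _ _ _ _ _ hm k hk

/-- `Tor_p(a • 𝟙, N) = 0` when `a` kills `N`. -/
lemma torMap_smul_id_eq_zero (Y N : ModuleCat.{u} A) (a : A) (ha : a • 𝟙 N = 0) (p : ℕ) :
    torMap (a • 𝟙 Y) p N = 0 := by
  let P := ProjectiveResolution.of N
  have h1 := Functor.leftDerived_map_eq (F Y) p (a • 𝟙 N)
    (P := P) (Q := P) (a • 𝟙 P.complex) (by
      apply HomologicalComplex.to_single_hom_ext
      simp only [HomologicalComplex.comp_f, ChainComplex.single₀_map_f_zero,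
        HomologicalComplex.smul_f_apply, Linear.smul_comp,
        Category.id_comp]
      have h0 : a • P.π.f 0 = P.π.f 0 ≫ (a • 𝟙 _) := by
        rw [Linear.comp_smul, Category.comp_id]
      rw [h0]
      rfl)
  have h2 := Functor.leftDerived_map_eq (F Y) p (a • 𝟙 N)
    (P := P) (Q := P) 0 (by
      rw [ha, Functor.map_zero, zero_comp, comp_zero])
  rw [h1] at h2
  rw [torMap_eq _ P]
  have h3 : tpMap (a • 𝟙 Y) P = ((F Y).mapHomologicalComplex _).map (a • 𝟙 P.complex) := by
    apply HomologicalComplex.hom_ext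
    intro k
    change (a • 𝟙 Y) ▷ _ = Y ◁ (a • 𝟙 _)
    rw [MonoidalLinear.smul_whiskerRight, MonoidalLinear.whiskerLeft_smul,
      MonoidalCategory.id_whiskerRight, MonoidalCategory.whiskerLeft_id]
  rw [h3]
  refine h2.trans ?_
  simp only [Functor.map_zero, zero_comp, comp_zero]

end Groth.Agent.Lib.Helper16.TorLES
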