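import Mathlib
import Groth.Agent.Lib.Helper16.TorLES
import Groth.Agent.Lib.Helper16.ExtAR2

/-!
# `Tor_p(IⁿM, N) → Tor_p(M, N)` is zero for `n ≫ 0` uniformly in `p` when `I N = 0` (S7161)
-/

open CategoryTheory CategoryTheory.Limits MonoidalCategory

namespace Groth.Agent.Lib.Helper16.TorAR

open Groth.Agent.Lib.Helper16.TorLES Groth.Agent.Lib.Helper16.ExtAR2 Groth.Agent.Lib.Helper16.ExtAR

universe u

variable {A : Type u} [CommRing A]

/-- the property to be proved, for an ideal `I`. -/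
def Good (I : Ideal A) (N : ModuleCat.{u} A) : Prop :=
  ∀ (M : Type u) [AddCommGroup M] [Module A M] [Module.Finite A M],
    ∃ n : ℕ, 0 < n ∧ ∀ p : ℕ, torMap (inc I n M) p N = 0

lemma torMap_eq_zero_of_iso_comp {X X' Y : ModuleCat.{u} A} (e : X ≅ X') (f : X' ⟶ Y) (p : ℕ)
    (N : ModuleCat.{u} A) (h : torMap (e.hom ≫ f) p N = 0) : torMap f p N = 0 := by
  have h1 : f = e.inv ≫ (e.hom ≫ f) := by rw [Iso.inv_hom_id_assoc]
  rw [h1, torMap_comp, h, comp_zero]

section Principal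

variable [IsNoetherianRing A] (a : A) (M : Type u) [AddCommGroup M] [Module A M] [Module.Finite A M]

lemma mem_pw_span_singleton (k : ℕ) (x : M) :
    x ∈ pw (Ideal.span {a}) k M ↔ ∃ m : M, x = a ^ k • m := by
  rw [pw, Ideal.span_singleton_pow, Submodule.ideal_span_singleton_smul,
    Submodule.mem_smul_pointwise_iff_exists]
  constructor
  · rintro ⟨m, -, rfl⟩
    exact ⟨m, rfl⟩
  · rintro ⟨m, rfl⟩
    exact ⟨m, trivial, rfl⟩

/-- multiplication by `a` from `aᵏM` to `aᵏ⁺¹M`. -/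
def mulA (k : ℕ) : ↥(pw (Ideal.span {a}) k M) →ₗ[A] ↥(pw (Ideal.span {a}) (k + 1) M) :=
  LinearMap.codRestrict _ ((a • LinearMap.id : M →ₗ[A] M) ∘ₗ (pw (Ideal.span {a}) k M).subtype)
    (fun x => by
      obtain ⟨m, hm⟩ := (mem_pw_span_singleton a M k x.1).1 x.2
      rw [mem_pw_span_singleton]
      refine ⟨m, ?_⟩
      simp only [LinearMap.coe_comp, Function.comp_apply, Submodule.subtype_apply,
        LinearMap.smul_apply, LinearMap.id_apply]
      rw [hm, pow_succ, mul_smul, smul_comm])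

lemma mulA_surjective (k : ℕ) : Function.Surjective (mulA a M k) := by
  rintro ⟨y, hy⟩
  obtain ⟨m, rfl⟩ := (mem_pw_span_singleton a M (k + 1) y).1 hy
  refine ⟨⟨a ^ k • m, (mem_pw_span_singleton a M k _).2 ⟨m, rfl⟩⟩, ?_⟩
  apply Subtype.ext
  simp only [mulA, LinearMap.codRestrict_apply, LinearMap.coe_comp, Function.comp_apply,
    Submodule.subtype_apply, LinearMap.smul_apply, LinearMap.id_apply]
  rw [pow_succ, mul_smul, smul_comm]

theorem good_principal (N : ModuleCat.{u} A) (ha : a • 𝟙 N = 0) :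
    ∃ n : ℕ, 0 < n ∧ ∀ p : ℕ, torMap (inc (Ideal.span {a}) n M) p N = 0 := by
  -- stabilization of the kernels of `a ^ k`
  let f : ℕ →o Submodule A M :=
    ⟨fun k => LinearMap.ker ((a ^ k) • LinearMap.id : M →ₗ[A] M), fun k l hkl x hx => by
      simp only [LinearMap.mem_ker, LinearMap.smul_apply, LinearMap.id_apply] at hx ⊢
      obtain ⟨d, rfl⟩ := Nat.exists_eq_add_of_le hkl
      rw [pow_add, mul_comm, mul_smul, hx, smul_zero]⟩
  haveI : IsNoetherian A M := isNoetherian_of_isNoetherianRing_of_finite A M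
  obtain ⟨n₀, hn₀⟩ := monotone_stabilizes_iff_noetherian.2 (inferInstance : IsNoetherian A M) f
  refine ⟨n₀ + 1, Nat.succ_pos _, fun p => ?_⟩
  have hinj : Function.Injective (mulA a M n₀) := by
    rw [← LinearMap.ker_eq_bot, LinearMap.ker_eq_bot']
    rintro ⟨x, hx⟩ h0
    obtain ⟨m, rfl⟩ := (mem_pw_span_singleton a M n₀ x).1 hx
    have h1 : a • (a ^ n₀ • m) = 0 := congrArg Subtype.val h0
    have h2 : m ∈ f (n₀ + 1) := by
      change (a ^ (n₀ + 1) • LinearMap.id : M →ₗ[A] M) m = 0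
      simp only [LinearMap.smul_apply, LinearMap.id_apply]
      rw [pow_succ, mul_comm, mul_smul]
      exact h1
    rw [← hn₀ (n₀ + 1) (Nat.le_succ _)] at h2
    apply Subtype.ext
    have h3 : (a ^ n₀ • LinearMap.id : M →ₗ[A] M) m = 0 := h2
    simpa using h3
  let e : ModuleCat.of A ↥(pw (Ideal.span {a}) n₀ M) ≅
      ModuleCat.of A ↥(pw (Ideal.span {a}) (n₀ + 1) M) :=
    (LinearEquiv.ofBijective (mulA a M n₀) ⟨hinj, mulA_surjective a M n₀⟩).toModuleIso
  apply torMap_eq_zero_of_iso_comp e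
  have hcomm : e.hom ≫ inc (Ideal.span {a}) (n₀ + 1) M =
      inc (Ideal.span {a}) n₀ M ≫ (a • 𝟙 (ModuleCat.of A M)) := by
    ext x
    rfl
  rw [hcomm, torMap_comp, torMap_smul_id_eq_zero _ _ a ha, comp_zero]

end Principal


section Sup

variable [IsNoetherianRing A] (I₁ I₂ : Ideal A) (N : ModuleCat.{u} A)

theorem good_sup (h1 : Good I₁ N) (h2 : Good I₂ N) : Good (I₁ ⊔ I₂) N := by
  intro M _ _ _
  obtain ⟨n₁, hn₁, H1⟩ := h1 M
  obtain ⟨n₂, hn₂, H2⟩ := h2 (M ⧸ pw I₁ n₁ M)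
  refine ⟨n₁ + n₂, by omega, fun p => ?_⟩
  let X : Submodule A M := pw I₁ n₁ M ⊔ pw I₂ n₂ M
  have hle : pw (I₁ ⊔ I₂) (n₁ + n₂) M ≤ X := by
    refine le_trans (Submodule.smul_mono_left Ideal.sup_pow_add_le_pow_sup_pow) ?_
    rw [Submodule.sup_smul]
  have hfac : inc (I₁ ⊔ I₂) (n₁ + n₂) M =
      ModuleCat.ofHom (Submodule.inclusion hle) ≫ ModuleCat.ofHom X.subtype := by
    ext x
    rfl
  rw [hfac, torMap_comp]
  suffices hX : torMap (ModuleCat.ofHom X.subtype) p N = 0 by rw [hX, comp_zero]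
  let S : ShortComplex (ModuleCat.{u} A) :=
    ShortComplex.mk (inc I₁ n₁ M) (ModuleCat.ofHom (pw I₁ n₁ M).mkQ) (by
      ext x
      exact (Submodule.Quotient.mk_eq_zero _).2 x.2)
  have hS : S.ShortExact := by
    have h1 : Mono S.f := (ModuleCat.mono_iff_injective _).2 (Submodule.injective_subtype _)
    have h2 : Epi S.g := (ModuleCat.epi_iff_surjective _).2 (Submodule.mkQ_surjective _)
    refine ShortComplex.ShortExact.mk' ?_ h1 h2
    rw [ShortComplex.moduleCat_exact_iff_range_eq_ker]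
    change LinearMap.range (pw I₁ n₁ M).subtype = LinearMap.ker (pw I₁ n₁ M).mkQ
    rw [Submodule.range_subtype, Submodule.ker_mkQ]
  refine eq_zero_of_comp_torMap_g S hS N p _ ?_ (H1 p)
  -- `X → M → M'` factors through `I₂^n₂ M'`
  have hmem : ∀ x : X, (pw I₁ n₁ M).mkQ x.1 ∈ pw I₂ n₂ (M ⧸ pw I₁ n₁ M) := by
    rintro ⟨x, hx⟩
    obtain ⟨y, hy, z, hz, rfl⟩ := Submodule.mem_sup.1 hx
    have hy0 : (pw I₁ n₁ M).mkQ y = 0 := (Submodule.Quotient.mk_eq_zero _).2 hy
    rw [map_add, hy0, zero_add]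
    exact map_mem_smul_top _ _ hz
  let r : ↥X →ₗ[A] ↥(pw I₂ n₂ (M ⧸ pw I₁ n₁ M)) :=
    LinearMap.codRestrict _ ((pw I₁ n₁ M).mkQ ∘ₗ X.subtype) hmem
  have hr : ModuleCat.ofHom X.subtype ≫ S.g =
      ModuleCat.ofHom r ≫ inc I₂ n₂ (M ⧸ pw I₁ n₁ M) := by
    ext x
    rfl
  rw [← torMap_comp, hr, torMap_comp, H2 p, comp_zero]

end Sup

section Main

variable [IsNoetherianRing A]

theorem good_of_annihilates (I : Ideal A) (N : ModuleCat.{u} A) (hN : ∀ a ∈ I, a • 𝟙 N = 0) :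
    Good I N := by
  have hfg : I.FG := IsNoetherian.noetherian I
  revert hN
  refine Submodule.fg_induction (R := A) (M := A)
    (motive := fun I _ => (∀ a ∈ I, a • 𝟙 N = 0) → Good I N) ?_ ?_ I hfg
  · intro a ha M _ _ _
    exact good_principal a M N (ha a (Ideal.mem_span_singleton_self a))
  · intro I₁ I₂ _ _ h1 h2 h
    exact good_sup I₁ I₂ N (h1 fun a ha => h a (Submodule.mem_sup_left ha))
      (h2 fun a ha => h a (Submodule.mem_sup_right ha))

end Main

end Groth.Agent.Lib.Helper16.TorAR
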