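import Mathlib
import Groth.Agent.Lib.Helper16.TorLoc7

/-!
# Helper16 — TorLoc10: amplitude of `X ⊗ F` for `X` of tor amplitude `[a, b]` and `F` K-flat with
cohomology in `[c, d]`; the same for `(P ⊗_B C) ⊗_C W`
-/

set_option autoImplicit false

open CategoryTheory CategoryTheory.Limits MonoidalCategory

namespace Groth.Agent.Lib.Helper16.TorLoc

universe u

open DerivedCategory Groth.Agent.Lib.Helper16.KF Groth.Agent.Lib.Helper16.BiCx
  Groth.Agent.Lib.Helper16.BC Groth.Agent.Lib.Helper16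

attribute [local instance] HasDerivedCategory.standard

variable {A B C : Type u} [CommRing A] [CommRing B] [CommRing C]

/-- **amplitude of `X ⊗ F`**: `X` of tor amplitude `[a, b]`, `F` K-flat and exact outside `[c, d]`;
then `X ⊗ F` is exact outside `[a + c, b + d]`. -/
theorem exactAt_tensor_of_torAmp_of_bounded (X : DRing.Cx A) (a b : ℤ)
    (h : DRing.HasTorAmplitudeIn A a b (DRing.toD X)) (F : DRing.Cx A)
    (hF : DRing.IsKFlat A F) (c d : ℤ) (hFc : ∀ i : ℤ, i < c ∨ d < i → F.ExactAt i) (i : ℤ)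
    (hi : i < a + c ∨ b + d < i) : (X ⊗ F).ExactAt i := by
  have hXb : ∀ j : ℤ, b < j → X.ExactAt j := fun j hj =>
    TorAmp.exactAt_of_torAmp _ a b h j (Or.inr hj)
  obtain ⟨E, hE, hEfl, ⟨eE⟩⟩ := h
  obtain ⟨E', f', hE'b, hE'proj, hf'⟩ := exists_bddAbove_projective_resolution _ b hXb
  haveI := hf'
  haveI : E'.IsKProjective := LDer.isKProjective_of_bddAbove_projective E' b hE'b hE'proj
  haveI : IsIso (Q.map f') := by rw [isIso_Q_map_iff_quasiIso]; infer_instance
  obtain ⟨u, hu⟩ := KPR.exists_map_of_isKProjective E' E ((asIso (Q.map f')).hom ≫ eE.inv)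
  haveI : QuasiIso u := by
    rw [← isIso_Q_map_iff_quasiIso, hu]
    infer_instance
  haveI := quasiIso_whiskerRight_of_isKFlat hF f'
  haveI := quasiIso_whiskerRight_of_isKFlat hF u
  rw [← _root_.exactAt_iff_of_quasiIsoAt (f' ▷ F) i, _root_.exactAt_iff_of_quasiIsoAt (u ▷ F) i]
  exact exactAt_tensor_of_bounded_flat E F a b c d hE hEfl hFc i hi

variable (χ : B →+* C)

/-- exactness of `(P ⊗_B C) ⊗_C W` outside `[m + c, n + d]` when `W|_B` has tor amplitude `[m, n]`
and `P` is K-flat and exact outside `[c, d]`. -/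
theorem exactAt_ext_tensor_of_bounded (W : DRing.Cx C) (m n : ℤ)
    (hW : DRing.HasTorAmplitudeIn B m n (DRing.toD ((resCx χ).obj W)))
    (P : DRing.Cx B) (hP : DRing.IsKFlat B P) (c d : ℤ)
    (hPc : ∀ i : ℤ, i < c ∨ d < i → P.ExactAt i) (i : ℤ)
    (hi : i < m + c ∨ n + d < i) : ((extCx χ).obj P ⊗ W).ExactAt i := by
  rw [exactAt_iff_of_iso (DTen.braidCx ((extCx χ).obj P) W) i, ← exactAt_resCx_iff χ,
    exactAt_iff_of_iso (projIso χ W P) i]
  exact exactAt_tensor_of_torAmp_of_bounded _ m n hW P hP c d hPc i hi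

end Groth.Agent.Lib.Helper16.TorLoc
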