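import Mathlib.CategoryTheory.EffectiveEpi.Comp
import Mathlib.CategoryTheory.MorphismProperty.Limits
import Mathlib.CategoryTheory.Limits.Shapes.Pullback.HasPullback

set_option autoImplicit false
open CategoryTheory CategoryTheory.Limits

namespace Groth.Agent.Lib.Helper16

universe v₁ u₁
variable {C : Type u₁} [Category.{v₁} C]

/-- Universal effective epimorphisms. -/
abbrev UEE : MorphismProperty C :=
  MorphismProperty.universally (fun (A B : C) (p : A ⟶ B) => EffectiveEpi p)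

lemma UEE.effectiveEpi {X Y : C} {f : X ⟶ Y} (hf : UEE f) : EffectiveEpi f :=
  MorphismProperty.universally_le _ _ hf

lemma UEE.epi {X Y : C} {f : X ⟶ Y} (hf : UEE f) : Epi f :=
  have := hf.effectiveEpi
  inferInstance

lemma UEE.of_isPullback {X Y X' Y' : C} {f : X ⟶ Y} {f' : X' ⟶ Y'} {i₁ : X' ⟶ X} {i₂ : Y' ⟶ Y}
    (sq : IsPullback f' i₁ i₂ f) (hf : UEE f) : UEE f' :=
  MorphismProperty.IsStableUnderBaseChange.of_isPullback sq.flip hf

lemma UEE.fst [HasPullbacks C] {X Y Z : C} (f : X ⟶ Z) (g : Y ⟶ Z) (hg : UEE g) :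
    UEE (pullback.fst f g) :=
  UEE.of_isPullback (IsPullback.of_hasPullback f g) hg

lemma UEE.snd [HasPullbacks C] {X Y Z : C} (f : X ⟶ Z) (g : Y ⟶ Z) (hf : UEE f) :
    UEE (pullback.snd f g) :=
  UEE.of_isPullback (IsPullback.of_hasPullback f g).flip hf

/-- Given two maps to `T` and a universal effective epi `v : U ⟶ T`, there is a common epi cover
on which both lift to `U`. -/
lemma exists_epi_lifts [HasPullbacks C] {U T Z : C} (v : U ⟶ T) (hv : UEE v) (h₁ h₂ : Z ⟶ T) :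
    ∃ (Z' : C) (π : Z' ⟶ Z) (k₁ k₂ : Z' ⟶ U), Epi π ∧ k₁ ≫ v = π ≫ h₁ ∧ k₂ ≫ v = π ≫ h₂ := by
  have e1 : UEE (pullback.fst h₁ v) := UEE.fst h₁ v hv
  have e2 : UEE (pullback.fst h₂ v) := UEE.fst h₂ v hv
  have e3 : UEE (pullback.fst (pullback.fst h₁ v) (pullback.fst h₂ v)) := UEE.fst _ _ e2
  have := e1.epi
  have := e3.epi
  refine ⟨pullback (pullback.fst h₁ v) (pullback.fst h₂ v),
    pullback.fst _ _ ≫ pullback.fst h₁ v,
    pullback.fst _ _ ≫ pullback.snd h₁ v,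
    pullback.snd _ _ ≫ pullback.snd h₂ v, epi_comp _ _, ?_, ?_⟩
  · rw [Category.assoc, Category.assoc, pullback.condition]
  · rw [Category.assoc, Category.assoc, ← pullback.condition (f := h₂), pullback.condition_assoc]

lemma comp_desc_aux [HasPullbacks C] {U T S W : C} (v : U ⟶ T) (u : T ⟶ S) (hv : UEE v)
    (e : U ⟶ W)
    (h : ∀ {Z : C} (g₁ g₂ : Z ⟶ U), g₁ ≫ v ≫ u = g₂ ≫ v ≫ u → g₁ ≫ e = g₂ ≫ e)
    (e' : T ⟶ W) (he' : v ≫ e' = e) {Z : C} (h₁ h₂ : Z ⟶ T) (hh : h₁ ≫ u = h₂ ≫ u) :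
    h₁ ≫ e' = h₂ ≫ e' := by
  obtain ⟨Z', π, k₁, k₂, hπ, hk₁, hk₂⟩ := exists_epi_lifts v hv h₁ h₂
  have := h k₁ k₂ (by rw [reassoc_of% hk₁, reassoc_of% hk₂, hh])
  rw [← he', reassoc_of% hk₁, reassoc_of% hk₂] at this
  exact (cancel_epi π).1 this

/-- Composition: `v` universal effective epi, `u` effective epi. -/
noncomputable def effectiveEpiStructComp [HasPullbacks C] {U T S : C} (v : U ⟶ T) (u : T ⟶ S)
    (hv : UEE v) [EffectiveEpi u] : EffectiveEpiStruct (v ≫ u) :=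
  haveI := hv.effectiveEpi
  { desc := fun {W} e h =>
      EffectiveEpi.desc u
        (EffectiveEpi.desc v e (fun g₁ g₂ hg => h g₁ g₂ (by rw [reassoc_of% hg])))
        (fun {Z} h₁ h₂ hh => comp_desc_aux v u hv e
          (fun g₁ g₂ hg => h g₁ g₂ (by simpa using hg)) _ (EffectiveEpi.fac v e _) h₁ h₂ hh)
    fac := fun {W} e h => by
      rw [Category.assoc, EffectiveEpi.fac, EffectiveEpi.fac]
    uniq := fun {W} e h m hm => by
      apply EffectiveEpi.uniq u
      apply EffectiveEpi.uniq v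
      rw [← hm, Category.assoc] }

lemma effectiveEpi_comp_of_UEE [HasPullbacks C] {U T S : C} (v : U ⟶ T) (u : T ⟶ S)
    (hv : UEE v) [EffectiveEpi u] : EffectiveEpi (v ≫ u) :=
  ⟨⟨effectiveEpiStructComp v u hv⟩⟩

/-- Universal effective epis are stable under composition. -/
theorem UEE.comp [HasPullbacks C] {U T S : C} {v : U ⟶ T} {u : T ⟶ S} (hv : UEE v) (hu : UEE u) :
    UEE (v ≫ u) := by
  intro X' Y' i₁ i₂ f' H
  have hcomm : f' ≫ i₂ = (i₁ ≫ v) ≫ u := H.w.trans (Category.assoc _ _ _).symm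
  let l : X' ⟶ pullback i₂ u := pullback.lift f' (i₁ ≫ v) hcomm
  have hl1 : l ≫ pullback.fst i₂ u = f' := pullback.lift_fst _ _ _
  have hl2 : l ≫ pullback.snd i₂ u = i₁ ≫ v := pullback.lift_snd _ _ _
  have H' : IsPullback (l ≫ pullback.fst i₂ u) i₁ i₂ (v ≫ u) := by rw [hl1]; exact H
  have hu' : UEE (pullback.fst i₂ u) := UEE.fst i₂ u hu
  have hv' : UEE l := UEE.of_isPullback (H'.of_right hl2 (IsPullback.of_hasPullback i₂ u)) hv
  have := hu'.effectiveEpi
  rw [← hl1]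
  exact effectiveEpi_comp_of_UEE _ _ hv'

/-- Cancellation. -/
noncomputable def effectiveEpiStructOfComp [HasPullbacks C] {U T S : C} (v : U ⟶ T) (u : T ⟶ S)
    (h : UEE (v ≫ u)) : EffectiveEpiStruct u :=
  haveI := h.effectiveEpi
  { desc := fun {W} e he =>
      EffectiveEpi.desc (v ≫ u) (v ≫ e) (fun g₁ g₂ hg => by
        simpa using he (g₁ ≫ v) (g₂ ≫ v) (by simpa using hg))
    fac := fun {W} e he => by
      have hp : UEE (pullback.fst u (v ≫ u)) := UEE.fst _ _ h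
      have := hp.epi
      rw [← cancel_epi (pullback.fst u (v ≫ u))]
      have h1 := he (pullback.fst u (v ≫ u)) (pullback.snd u (v ≫ u) ≫ v)
        (by rw [pullback.condition, Category.assoc])
      rw [h1, pullback.condition_assoc, EffectiveEpi.fac, Category.assoc]
    uniq := fun {W} e he m hm => by
      apply EffectiveEpi.uniq (v ≫ u)
      rw [Category.assoc, hm] }

lemma effectiveEpi_of_comp_UEE [HasPullbacks C] {U T S : C} (v : U ⟶ T) (u : T ⟶ S)
    (h : UEE (v ≫ u)) : EffectiveEpi u :=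
  ⟨⟨effectiveEpiStructOfComp v u h⟩⟩

theorem UEE.of_comp [HasPullbacks C] {U T S : C} (v : U ⟶ T) (u : T ⟶ S) (h : UEE (v ≫ u)) :
    UEE u := by
  intro X' Y' i₁ i₂ f' H
  -- base change of `v` along `i₁`
  have H2 := IsPullback.of_hasPullback i₁ v
  have H3 : IsPullback (pullback.fst i₁ v ≫ f') (pullback.snd i₁ v) i₂ (v ≫ u) :=
    H2.paste_horiz H
  exact effectiveEpi_of_comp_UEE _ _ (UEE.of_isPullback H3 h)

end Groth.Agent.Lib.Helper16
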