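import Groth.Agent.Lib.Helper16.UnivEffEpi
import Mathlib.CategoryTheory.Comma.Over.Pullback

set_option autoImplicit false
open CategoryTheory CategoryTheory.Limits

namespace Groth.Agent.Lib.Helper16

universe v₁ u₁
variable {C : Type u₁} [Category.{v₁} C]

/-- Monos descend along universal effective epis. -/
theorem mono_of_isPullback_of_UEE [HasPullbacks C] {X' Y' X Y : C} {g' : X' ⟶ Y'} {pX : X' ⟶ X}
    {pY : Y' ⟶ Y} {g : X ⟶ Y} (H : IsPullback g' pX pY g) (hp : UEE pY) [Mono g'] : Mono g := by
  constructor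
  intro Z a b hab
  have hπ : UEE (pullback.fst (a ≫ g) pY) := UEE.fst _ _ hp
  have := hπ.epi
  have ha : pullback.snd (a ≫ g) pY ≫ pY = (pullback.fst (a ≫ g) pY ≫ a) ≫ g := by
    rw [Category.assoc, pullback.condition]
  have hb : pullback.snd (a ≫ g) pY ≫ pY = (pullback.fst (a ≫ g) pY ≫ b) ≫ g := by
    rw [Category.assoc, ← hab, pullback.condition]
  have h1 : H.lift _ _ ha = H.lift _ _ hb := by
    rw [← cancel_mono g', H.lift_fst, H.lift_fst]
  have h2 := congrArg (· ≫ pX) h1
  simp only [H.lift_snd] at h2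
  exact (cancel_epi _).1 h2

/-- Isos descend along universal effective epis. -/
theorem isIso_of_isPullback_of_UEE [HasPullbacks C] {X' Y' X Y : C} {g' : X' ⟶ Y'} {pX : X' ⟶ X}
    {pY : Y' ⟶ Y} {g : X ⟶ Y} (H : IsPullback g' pX pY g) (hp : UEE pY) [IsIso g'] : IsIso g := by
  have hmono : Mono g := mono_of_isPullback_of_UEE H hp
  have := hp.effectiveEpi
  have := hp.epi
  have hw : inv g' ≫ pX ≫ g = pY := by
    rw [← H.w, IsIso.inv_hom_id_assoc]
  let d : Y ⟶ X := EffectiveEpi.desc pY (inv g' ≫ pX) (fun h₁ h₂ hh => by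
    rw [← cancel_mono g]
    simp only [Category.assoc, hw, hh])
  have hd : pY ≫ d = inv g' ≫ pX := EffectiveEpi.fac _ _ _
  have hdg : d ≫ g = 𝟙 Y := by
    rw [← cancel_epi pY, reassoc_of% hd, hw, Category.comp_id]
  have hgd : g ≫ d = 𝟙 X := by
    rw [← cancel_mono g, Category.assoc, hdg, Category.comp_id, Category.id_comp]
  exact ⟨d, hgd, hdg⟩

/-- The pullback square attached to `Over.pullback f`. -/
theorem isPullback_overPullback_map [HasPullbacks C] {S' S : C} (f : S' ⟶ S) {X Y : Over S}
    (g : X ⟶ Y) :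
    IsPullback ((Over.pullback f).map g).left (pullback.fst X.hom f) (pullback.fst Y.hom f)
      g.left := by
  have s : IsPullback (pullback.fst X.hom f)
      (((Over.pullback f).map g).left ≫ pullback.snd Y.hom f) (g.left ≫ Y.hom) f := by
    have h1 : ((Over.pullback f).map g).left ≫ pullback.snd Y.hom f = pullback.snd X.hom f := by
      simp only [Over.pullback_map_left]
      exact pullback.lift_snd _ _ _
    rw [h1, Over.w g]
    exact IsPullback.of_hasPullback X.hom f
  have p : pullback.fst X.hom f ≫ g.left =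
      ((Over.pullback f).map g).left ≫ pullback.fst Y.hom f := by
    simp only [Over.pullback_map_left]
    exact (pullback.lift_fst _ _ _).symm
  exact (s.of_bot p (IsPullback.of_hasPullback Y.hom f)).flip

end Groth.Agent.Lib.Helper16
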