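import Mathlib
import Groth.Agent.Lib.Helper16.TorLoc8
import Groth.Agent.Lib.Helper16.RelPC1

/-!
# Helper16 — WEtTor: tor amplitude along weakly étale ring maps

For `R → B` flat, tor amplitude `[a, b]` over `B` implies tor amplitude `[a, b]` of the restriction
over `R`; for `R → B` weakly étale (flat with flat codiagonal `B ⊗_R B → B`) the converse holds.
-/

set_option autoImplicit false

open CategoryTheory CategoryTheory.Limits MonoidalCategory TensorProduct

namespace Groth.Agent.Lib.Helper16.WEtTor

universe u

open DerivedCategory Groth.Agent.Lib.Helper16.TorLoc Groth.Agent.Lib.Helper16.KF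
  Groth.Agent.Lib.Helper16.PO Groth.Agent.Lib.Helper16

attribute [local instance] HasDerivedCategory.standard

variable {R B : Type u} [CommRing R] [CommRing B] [Algebra R B]

/-- **descent along a flat map**: tor amplitude over `B` gives tor amplitude of the restriction. -/
theorem torAmp_resCx_of_flat (hφ : (algebraMap R B).Flat) (X : DRing.Cx B) (a b : ℤ)
    (hX : DRing.HasTorAmplitudeIn B a b (DRing.toD X)) :
    DRing.HasTorAmplitudeIn R a b (DRing.toD ((resCx (algebraMap R B)).obj X)) := by
  refine torAmp_of_exactAt_Fext (algebraMap R B) X a b (fun N => ?_)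
  obtain ⟨F, f, hf, hF, -, -⟩ := exists_resolution_sgl N
  haveI := hf
  obtain ⟨f', hf', hF'⟩ := exists_ext_resolution (algebraMap R B) hφ N F f hF
  haveI := hf'
  refine ⟨F, f, hf, hF, fun i hi => ?_⟩
  have h1 := exactAt_tensor_of_torAmp X a b hX _ _ f' hF' i hi
  exact (exactAt_iff_of_iso (fextIso (algebraMap R B) X F) i).1 h1

/-- `res_id (ext_id X) ≅ X`. -/
noncomputable def resExtIdIso (X : DRing.Cx B) :
    (resCx (RingHom.id B)).obj ((extCx (RingHom.id B)).obj X) ≅ X :=
  (NatIso.mapHomologicalComplex (ModuleCat.restrictScalarsId B) (ComplexShape.up ℤ)).app _ ≪≫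
    (Functor.mapHomologicalComplexIdIso _ _).app _ ≪≫
    (NatIso.mapHomologicalComplex (ModuleCat.extendScalarsId B) (ComplexShape.up ℤ)).app X ≪≫
    (Functor.mapHomologicalComplexIdIso _ _).app X

/-- **ascent along a weakly étale map**. -/
theorem torAmp_of_resCx_of_weaklyEtale [Algebra.WeaklyEtale R B] (X : DRing.Cx B) (a b : ℤ)
    (hX : DRing.HasTorAmplitudeIn R a b (DRing.toD ((resCx (algebraMap R B)).obj X))) :
    DRing.HasTorAmplitudeIn B a b (DRing.toD X) := by
  have hγ : ((Algebra.TensorProduct.lmul' R (S := B)).toRingHom).Flat :=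
    Algebra.WeaklyEtale.flat_lmul' R B
  have hα : (algebraMap R B).Flat := (RingHom.flat_algebraMap_iff).2 inferInstance
  have h1 := torAmp_flat_baseChange (A := R) (B := B) (A' := B) (B' := B) (RingHom.id B)
    (RingHom.id B) (Algebra.TensorProduct.lmul' R (S := B)).toRingHom hγ
    (by ext x; simp) (by ext x; simp) hα X a b hX
  exact TorAmp.hasTorAmplitudeIn_of_iso (Q.mapIso (resExtIdIso X)) a b h1

/-- **the derived category form**: along a weakly étale map, tor amplitude can be tested after
restriction of scalars. -/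
theorem torAmp_restrictD_iff_of_weaklyEtale [Algebra.WeaklyEtale R B] (K : Dual.D B) (a b : ℤ) :
    DRing.HasTorAmplitudeIn R a b ((DRing.restrictD (algebraMap R B)).obj K) ↔
      DRing.HasTorAmplitudeIn B a b K := by
  let X := Q.objPreimage K
  let e : Q.obj X ≅ K := Q.objObjPreimageIso K
  have e1 : (DRing.restrictD (algebraMap R B)).obj K ≅
      DRing.toD ((resCx (algebraMap R B)).obj X) :=
    (DRing.restrictD (algebraMap R B)).mapIso e.symm ≪≫ RestrictD.restrictQIso (algebraMap R B) X
  have hα : (algebraMap R B).Flat := (RingHom.flat_algebraMap_iff).2 inferInstance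
  constructor
  · intro h
    have h1 := TorAmp.hasTorAmplitudeIn_of_iso e1 a b h
    exact TorAmp.hasTorAmplitudeIn_of_iso e a b (torAmp_of_resCx_of_weaklyEtale X a b h1)
  · intro h
    have h1 := TorAmp.hasTorAmplitudeIn_of_iso e.symm a b h
    exact TorAmp.hasTorAmplitudeIn_of_iso e1.symm a b (torAmp_resCx_of_flat hα X a b h1)

end Groth.Agent.Lib.Helper16.WEtTor
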